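import Mathlib.AlgebraicGeometry.Geometrically.Reduced
import Mathlib.AlgebraicGeometry.Geometrically.Irreducible
import Mathlib.AlgebraicGeometry.Geometrically.Connected
import Mathlib.AlgebraicGeometry.Morphisms.Flat

/-! Descent of `geometrically P` along field extensions. -/

universe u

open AlgebraicGeometry CategoryTheory Limits

namespace Groth.Agent.FlatMor12

/-- `geometrically P` descends along field extensions of the base when `P` descends along
surjective flat quasi-compact morphisms. -/
theorem geometrically_descent {P : ObjectProperty Scheme.{u}}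
    (hP : ∀ ⦃A B : Scheme.{u}⦄ (h : A ⟶ B), Surjective h → Flat h → QuasiCompact h → P A → P B)
    {k k' : Type u} [Field k] [Field k'] {Z Z' : Scheme.{u}} {π : Z ⟶ Spec (.of k)}
    {π' : Z' ⟶ Spec (.of k')} {q : Z' ⟶ Z} {s : Spec (.of k') ⟶ Spec (.of k)}
    (hsq : IsPullback q π' π s) (h : geometrically P π') : geometrically P π := by
  intro K _ y ZK fst snd hK
  obtain ⟨t, -, -⟩ := Scheme.Pullback.exists_preimage_pullback (f := y) (g := s)
    (IsLocalRing.closedPoint K) (IsLocalRing.closedPoint k')
    (Subsingleton.elim (α := PrimeSpectrum k) _ _)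
  let L := (pullback y s).residueField t
  let a : Spec L ⟶ Spec (.of K) := (pullback y s).fromSpecResidueField t ≫ pullback.fst y s
  let b : Spec L ⟶ Spec (.of k') := (pullback y s).fromSpecResidueField t ≫ pullback.snd y s
  have hab : a ≫ y = b ≫ s := by simp [a, b, pullback.condition]
  -- base change of `ZK` to `L`
  have hL := (IsPullback.of_hasPullback snd a).flip.flip
  have hbig : IsPullback (pullback.fst snd a ≫ fst) (pullback.snd snd a) π (b ≫ s) :=
    hab ▸ hL.paste_horiz hK
  let m : pullback snd a ⟶ Z' :=
    hsq.lift (pullback.fst snd a ≫ fst) (pullback.snd snd a ≫ b) (by simp [hbig.w])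
  have hm : IsPullback m (pullback.snd snd a) π' b :=
    IsPullback.of_right (by simpa [m] using hbig) (by simp [m]) hsq
  have hPL : P (pullback snd a) := h (K := L) b m (pullback.snd snd a) hm
  have : Surjective a := ⟨fun x ↦ ⟨IsLocalRing.closedPoint L, Subsingleton.elim (α := PrimeSpectrum K) _ _⟩⟩
  have : Flat a := inferInstance
  have : IsAffineHom a := inferInstance
  exact hP (pullback.fst snd a) inferInstance inferInstance inferInstance hPL

theorem geometrically_iff_of_isPullback {P : ObjectProperty Scheme.{u}}
    (hP : ∀ ⦃A B : Scheme.{u}⦄ (h : A ⟶ B), Surjective h → Flat h → QuasiCompact h → P A → P B)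
    {k k' : Type u} [Field k] [Field k'] {Z Z' : Scheme.{u}} {π : Z ⟶ Spec (.of k)}
    {π' : Z' ⟶ Spec (.of k')} {q : Z' ⟶ Z} {s : Spec (.of k') ⟶ Spec (.of k)}
    (hsq : IsPullback q π' π s) : geometrically P π' ↔ geometrically P π :=
  ⟨geometrically_descent hP hsq, MorphismProperty.of_isPullback hsq⟩

theorem isReduced_of_flat_surjective {A B : Scheme.{u}} (h : A ⟶ B) [Flat h] [Surjective h]
    [IsReduced A] : IsReduced B := by
  have (b : B) : _root_.IsReduced (B.presheaf.stalk b) := by
    obtain ⟨a, rfl⟩ := h.surjective b
    algebraize [(h.stalkMap a).hom]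
    have : IsLocalHom (algebraMap (B.presheaf.stalk (h a)) (A.presheaf.stalk a)) :=
      inferInstanceAs (IsLocalHom (h.stalkMap a).hom)
    have : Module.Flat (B.presheaf.stalk (h a)) (A.presheaf.stalk a) := Flat.stalkMap h a
    have := Module.FaithfullyFlat.of_flat_of_isLocalHom (A := B.presheaf.stalk (h a)) (B := A.presheaf.stalk a)
    exact isReduced_of_injective (algebraMap (B.presheaf.stalk (h a)) (A.presheaf.stalk a))
      (FaithfulSMul.algebraMap_injective _ _)
  exact isReduced_of_isReduced_stalk B

theorem irreducibleSpace_of_surjective {A B : Scheme.{u}} (h : A ⟶ B) [Surjective h]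
    [IrreducibleSpace A] : IrreducibleSpace B := by
  rw [irreducibleSpace_def, Set.top_eq_univ, ← h.surjective.range_eq, ← Set.image_univ]
  exact (IrreducibleSpace.isIrreducible_univ _).image _ h.continuous.continuousOn

theorem connectedSpace_of_surjective {A B : Scheme.{u}} (h : A ⟶ B) [Surjective h]
    [ConnectedSpace A] : ConnectedSpace B :=
  h.surjective.connectedSpace h.continuous

variable {X Y X' Y' : Scheme.{u}} {f : X ⟶ Y} {g : Y' ⟶ Y} {f' : X' ⟶ Y'} {g' : X' ⟶ X}

theorem fibre_reduced_iff (hc : IsPullback g' f' f g) (y' : Y') :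
    GeometricallyReduced (f'.fiberToSpecResidueField y') ↔
      GeometricallyReduced (f.fiberToSpecResidueField (g y')) := by
  simp only [geometricallyReduced_iff]
  refine geometrically_iff_of_isPullback (P := IsReduced) ?_
    (isPullback_fiberToSpecResidueField_of_isPullback hc y')
  intro A B h _ _ _ (_ : IsReduced A)
  exact isReduced_of_flat_surjective h

theorem fibre_irreducible_iff (hc : IsPullback g' f' f g) (y' : Y') :
    GeometricallyIrreducible (f'.fiberToSpecResidueField y') ↔
      GeometricallyIrreducible (f.fiberToSpecResidueField (g y')) := by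
  simp only [geometricallyIrreducible_iff]
  refine geometrically_iff_of_isPullback ?_
    (isPullback_fiberToSpecResidueField_of_isPullback hc y')
  intro A B h _ _ _ (_ : IrreducibleSpace A)
  exact irreducibleSpace_of_surjective h

theorem fibre_connected_iff (hc : IsPullback g' f' f g) (y' : Y') :
    GeometricallyConnected (f'.fiberToSpecResidueField y') ↔
      GeometricallyConnected (f.fiberToSpecResidueField (g y')) := by
  simp only [geometricallyConnected_iff]
  refine geometrically_iff_of_isPullback ?_
    (isPullback_fiberToSpecResidueField_of_isPullback hc y')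
  intro A B h _ _ _ (_ : ConnectedSpace A)
  exact connectedSpace_of_surjective h

end Groth.Agent.FlatMor12
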