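import Groth.Agent.FlatMor12.RedSmooth
import Groth.Agent.Misc15.QSGeneric

/-! A dense open whose reduction becomes smooth after a finite purely inseparable extension. -/

set_option autoImplicit false
set_option backward.isDefEq.respectTransparency false

universe u

namespace Groth.Agent.FlatMor12.RedSmooth

open AlgebraicGeometry CategoryTheory Limits TensorProduct TopologicalSpace

theorem surjective_comap_red (R : Type u) [CommRing R] :
    Function.Surjective (PrimeSpectrum.comap (Ideal.Quotient.mk (nilradical R))) := fun p => by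
  rw [← Set.mem_range, range_comap_of_surjective _ _ Ideal.Quotient.mk_surjective, Ideal.mk_ker,
    PrimeSpectrum.mem_zeroLocus]
  exact nilradical_le_prime p.asIdeal

theorem exists_dense_open_smooth_red (k : Type u) [Field k] {X : Scheme.{u}}
    (f : X ⟶ Spec (CommRingCat.of k)) [LocallyOfFiniteType f] [QuasiCompact f] :
    ∃ (U : X.Opens) (_ : Dense (U : Set X)) (k' : Type u) (_ : Field k') (_ : Algebra k k') (_ : Module.Finite k k')
      (_ : IsPurelyInseparable k k') (Z : Scheme.{u}) (_ : IsReduced Z)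
      (i : Z ⟶ pullback (U.ι ≫ f) (Spec.map (CommRingCat.ofHom (algebraMap k k')))),
      IsClosedImmersion i ∧ Function.Surjective i.base ∧
      Smooth (i ≫ pullback.snd (U.ι ≫ f) (Spec.map (CommRingCat.ofHom (algebraMap k k')))) := by
  classical
  have : CompactSpace X := QuasiCompact.compactSpace_of_compactSpace f
  have : IsNoetherian X := { __ := LocallyOfFiniteType.isLocallyNoetherian f }
  have : Finite (irreducibleComponents X) :=
    TopologicalSpace.NoetherianSpace.finite_irreducibleComponents.to_subtype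
  let η : irreducibleComponents X → X := fun Z => Z.2.1.genericPoint
  have hηcl : ∀ Z, closure ({η Z} : Set X) = Z.1 := fun Z =>
    (Z.2.1.isGenericPoint_genericPoint (isClosed_of_mem_irreducibleComponents _ Z.2))
  have hη : ∀ Z, closure ({η Z} : Set X) ∈ irreducibleComponents (X : Type u) := fun Z => by
    rw [hηcl]; exact Z.2
  have hinj : Function.Injective η := fun Z Z' h => Subtype.ext (by rw [← hηcl Z, h, hηcl Z'])
  obtain ⟨W, hW, hd⟩ := Misc15.exists_disjoint_affine_nhds η hη hinj ⊤ (fun _ => trivial)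
  let U₀ : X.Opens := ⨆ Z, W Z
  have hU₀ : IsAffineOpen U₀ := IsAffineOpen.iSup_of_disjoint (fun Z => (hW Z).1) hd
  have hηU₀ : ∀ Z, η Z ∈ U₀ := fun Z => Opens.mem_iSup.2 ⟨Z, (hW Z).2.1⟩
  let A := Γ(X, U₀)
  obtain ⟨φ, hφ⟩ := Spec.map_surjective (hU₀.fromSpec ≫ f)
  let : Algebra k A := φ.hom.toAlgebra
  have : Algebra.FiniteType k A := ((HasRingHomProperty.Spec_iff (P := @LocallyOfFiniteType)
    (φ := φ)).mp (hφ ▸ (inferInstance : LocallyOfFiniteType (hU₀.fromSpec ≫ f))) : φ.hom.FiniteType)
  obtain ⟨a, ha, k', _, _, hfin, hpi, hsm⟩ := exists_smooth_red k A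
  let U : X.Opens := X.basicOpen (U := U₀) a
  have hdense : Dense (U : Set X) := by
    rw [dense_iff_closure_eq, Set.eq_univ_iff_forall]
    intro x
    let Z : irreducibleComponents X :=
      ⟨irreducibleComponent x, irreducibleComponent_mem_irreducibleComponents x⟩
    have hηU : η Z ∈ U := by
      have hmin : (hU₀.primeIdealOf ⟨η Z, hηU₀ Z⟩).asIdeal ∈ minimalPrimes A := by
        refine ⟨⟨(hU₀.primeIdealOf ⟨η Z, hηU₀ Z⟩).2, bot_le⟩, fun q hq hle => ?_⟩
        have hq' := hq.1
        have hspec : hU₀.fromSpec (⟨q, hq'⟩ : PrimeSpectrum A) ⤳ η Z := by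
          exact (((PrimeSpectrum.le_iff_specializes ⟨q, hq'⟩ _).1 hle).map hU₀.fromSpec.continuous).trans
            (specializes_of_eq (hU₀.fromSpec_primeIdealOf ⟨η Z, hηU₀ Z⟩))
        have hsub : closure ({η Z} : Set X) ⊆ closure {hU₀.fromSpec (⟨q, hq'⟩ : PrimeSpectrum A)} :=
          closure_minimal (Set.singleton_subset_iff.2 hspec.mem_closure) isClosed_closure
        have heq := (hη Z).2 isIrreducible_singleton.closure hsub
        have hpt : hU₀.fromSpec (⟨q, hq'⟩ : PrimeSpectrum A) = η Z :=
          (hspec.antisymm ((specializes_iff_closure_subset).2 heq)).eq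
        have hqq : (⟨q, hq'⟩ : PrimeSpectrum A) = hU₀.primeIdealOf ⟨η Z, hηU₀ Z⟩ :=
          hU₀.fromSpec.isOpenEmbedding.injective (hpt.trans (hU₀.fromSpec_primeIdealOf ⟨η Z, hηU₀ Z⟩).symm)
        exact (congrArg PrimeSpectrum.asIdeal hqq).ge
      have h1 : hU₀.primeIdealOf ⟨η Z, hηU₀ Z⟩ ∈ hU₀.fromSpec ⁻¹ᵁ X.basicOpen a := by
        rw [hU₀.fromSpec_preimage_basicOpen]
        exact ha _ hmin
      have h2 := hU₀.fromSpec_primeIdealOf ⟨η Z, hηU₀ Z⟩
      exact (congrArg (· ∈ U) h2).mp h1
    have hx : x ∈ closure ({η Z} : Set X) := by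
      rw [hηcl]; exact mem_irreducibleComponent
    exact closure_mono (Set.singleton_subset_iff.2 hηU) hx
  let A' := Localization.Away a
  let j : Spec (CommRingCat.of A') ⟶ X :=
    Spec.map (CommRingCat.ofHom (algebraMap A A')) ≫ hU₀.fromSpec
  have : IsOpenImmersion (Spec.map (CommRingCat.ofHom (algebraMap A A'))) :=
    IsOpenImmersion.of_isLocalization a
  have hj : Set.range j = Set.range U.ι := by
    rw [Scheme.Opens.range_ι]
    show _ = (X.basicOpen a : Set X)
    rw [← hU₀.fromSpec_image_basicOpen]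
    show Set.range (hU₀.fromSpec ∘ PrimeSpectrum.comap (algebraMap A A')) = hU₀.fromSpec '' _
    rw [Set.range_comp, PrimeSpectrum.localization_away_comap_range A' a]
  let e := IsOpenImmersion.isoOfRangeEq j U.ι hj
  have he : e.hom ≫ U.ι ≫ f = Spec.map (CommRingCat.ofHom (algebraMap k A')) := by
    rw [← Category.assoc, IsOpenImmersion.isoOfRangeEq_hom_fac]
    dsimp only [j]
    rw [Category.assoc, ← hφ, ← Spec.map_comp]
    congr 1
  let B := Red (k' ⊗[k] A')
  let ψ : Spec (CommRingCat.of (k' ⊗[k] A')) ⟶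
      pullback (U.ι ≫ f) (Spec.map (CommRingCat.ofHom (algebraMap k k'))) :=
    (pullbackSpecIso k k' A').inv ≫ (pullbackSymmetry _ _).hom ≫
      pullback.map _ _ _ _ e.hom (𝟙 _) (𝟙 _) (by rw [Category.comp_id, he]) (by simp)
  have hψ : IsIso ψ := inferInstance
  let q : Spec (CommRingCat.of B) ⟶ Spec (CommRingCat.of (k' ⊗[k] A')) :=
    Spec.map (CommRingCat.ofHom (Ideal.Quotient.mk (nilradical (k' ⊗[k] A'))))
  have : IsClosedImmersion q := IsClosedImmersion.spec_of_surjective _ Ideal.Quotient.mk_surjective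
  have hB : _root_.IsReduced B := (Ideal.isRadical_iff_quotient_reduced _).1 (by
    intro x hx; obtain ⟨n, hn⟩ := hx; exact mem_nilradical.2 (by
      obtain ⟨m, hm⟩ := mem_nilradical.1 hn; exact ⟨n * m, by rw [pow_mul]; exact hm⟩))
  have : _root_.IsReduced (CommRingCat.of B) := hB
  refine ⟨U, hdense, k', inferInstance, inferInstance, hfin, hpi, Spec (CommRingCat.of B),
    inferInstance, q ≫ ψ, inferInstance, ?_, ?_⟩
  · have hq : Function.Surjective q := fun p => surjective_comap_red _ p
    exact (ψ.homeomorph.surjective).comp hq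
  · have : (q ≫ ψ) ≫ pullback.snd _ _ = Spec.map (CommRingCat.ofHom (algebraMap k' B)) := by
      simp only [ψ, Category.assoc, pullback.lift_snd, Category.comp_id, pullbackSymmetry_hom_comp_snd,
        pullbackSpecIso_inv_fst]
      rw [← Spec.map_comp]
      congr 1
    rw [this]
    exact (HasRingHomProperty.Spec_iff (P := @Smooth)).2 (RingHom.smooth_algebraMap.2 hsm)

end Groth.Agent.FlatMor12.RedSmooth
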