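import Groth.Prelude.Def_FGA
import Mathlib.AlgebraicGeometry.IdealSheaf.Functorial
import Mathlib.AlgebraicGeometry.Morphisms.FiniteType

/-!
# Hilbert functor: pullback as comap, base change
-/

set_option autoImplicit false
set_option backward.isDefEq.respectTransparency false

universe u

open CategoryTheory CategoryTheory.Limits AlgebraicGeometry

namespace Groth.Agent.FlatMor12.HilbBC

variable {X S : Scheme.{u}} (f : X ⟶ S)

theorem hilbPull_eq_comap {T T' : Over S} (g : T' ⟶ T) (I : (PicF.XT f T).IdealSheafData) :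
    FGA.hilbPull f g I = I.comap (PicF.XTmap f g) := by
  rw [FGA.hilbPull, Scheme.IdealSheafData.comap,
    ← Scheme.Hom.ker_comp_of_isIso (pullbackSymmetry (PicF.XTmap f g) I.subschemeι).hom,
    pullbackSymmetry_hom_comp_snd]

/-- A property of the structure map of a closed subscheme is invariant under pullback along an
isomorphism over the base. -/
theorem prop_comap_iso (P : MorphismProperty Scheme.{u}) [P.RespectsIso] {A B T : Scheme.{u}}
    (e : A ⟶ B) [IsIso e] (I : B.IdealSheafData) (q : B ⟶ T) (h : P (I.subschemeι ≫ q)) :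
    P ((I.comap e).subschemeι ≫ e ≫ q) := by
  rw [← Scheme.IdealSheafData.comapIso_hom_fst, Category.assoc, ← Category.assoc (pullback.fst _ _),
    pullback.condition, Category.assoc, ← Category.assoc]
  exact (MorphismProperty.cancel_left_of_respectsIso P _ _).2 h

variable {S' : Scheme.{u}} (h : S' ⟶ S) (H : Over S)

/-- The base change of the Hilbert functor is represented by the base change. -/
theorem hilbRepresentedBy_baseChange [IsLocallyNoetherian S'] (Z : FGA.HilbSet f H)
    (hH : FGA.HilbRepresentedBy f H Z) [LocallyOfFiniteType H.hom]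
    (Z' : FGA.HilbSet (pullback.snd f h) (Over.mk (pullback.snd H.hom h)))
    (hZ' : Z'.1 = Z.1.comap (pullback.map (pullback.snd f h) (pullback.snd H.hom h) f H.hom
      (pullback.fst f h) (pullback.fst H.hom h) h pullback.condition.symm pullback.condition.symm)) :
    FGA.HilbRepresentedBy (pullback.snd f h) (Over.mk (pullback.snd H.hom h)) Z' := by
  refine ⟨LocallyOfFiniteType.isLocallyNoetherian (pullback.snd H.hom h), fun T _ Y => ?_⟩
  let TS : Over S := Over.mk (T.hom ≫ h)
  have : IsLocallyNoetherian TS.left := ‹IsLocallyNoetherian T.left›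
  let e : PicF.XT (pullback.snd f h) T ≅ PicF.XT f TS := pullbackLeftPullbackSndIso f h T.hom
  have he : e.hom ≫ PicF.XTproj f TS = PicF.XTproj (pullback.snd f h) T :=
    pullbackLeftPullbackSndIso_hom_snd f h T.hom
  have hinv : e.inv ≫ PicF.XTproj (pullback.snd f h) T = PicF.XTproj f TS := by
    rw [← he, Iso.inv_hom_id_assoc]
  let Y₀ : FGA.HilbSet f TS := ⟨Y.1.comap e.inv,
    by rw [← hinv]; exact prop_comap_iso @IsProper e.inv Y.1 _ Y.2.1,
    by rw [← hinv]; exact prop_comap_iso @Flat e.inv Y.1 _ Y.2.2⟩
  obtain ⟨g, hg, huniq⟩ := hH.2 TS Y₀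
  have key : ∀ g' : T ⟶ Over.mk (pullback.snd H.hom h),
      FGA.hilbPull (pullback.snd f h) g' Z'.1 = Y.1 ↔
        FGA.hilbPull f (Over.homMk (g'.left ≫ pullback.fst H.hom h) (by
          show (g'.left ≫ pullback.fst H.hom h) ≫ H.hom = T.hom ≫ h
          rw [Category.assoc, pullback.condition, ← Category.assoc]
          exact congrArg (· ≫ h) (Over.w g')) : TS ⟶ H) Z.1 = Y₀.1 := fun g' => by
    generalize hgS : (Over.homMk (g'.left ≫ pullback.fst H.hom h) _ : TS ⟶ H) = gS
    have hl : gS.left = g'.left ≫ pullback.fst H.hom h := by rw [← hgS]; rfl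
    have hm : PicF.XTmap (pullback.snd f h) g' ≫ pullback.map (pullback.snd f h) (pullback.snd H.hom h) f H.hom
      (pullback.fst f h) (pullback.fst H.hom h) h pullback.condition.symm pullback.condition.symm =
        e.hom ≫ PicF.XTmap f gS := by
      refine pullback.hom_ext ?_ ?_
      · simp [PicF.XTmap, e, TS]
      · simp [PicF.XTmap, e, TS, hl]
    rw [hilbPull_eq_comap, hilbPull_eq_comap, hZ', ← Scheme.IdealSheafData.comap_comp]
    erw [hm]
    rw [Scheme.IdealSheafData.comap_comp]
    constructor
    · intro hh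
      show _ = Y.1.comap e.inv
      rw [← hh, ← Scheme.IdealSheafData.comap_comp, e.inv_hom_id, Scheme.IdealSheafData.comap_id]
    · intro hh
      rw [hh]
      show (Y.1.comap e.inv).comap e.hom = _
      rw [← Scheme.IdealSheafData.comap_comp, e.hom_inv_id, Scheme.IdealSheafData.comap_id]
  refine ⟨Over.homMk (pullback.lift g.left T.hom (Over.w g)) (pullback.lift_snd _ _ _), ?_, fun g' hg' => ?_⟩
  · refine (key _).2 ?_
    convert hg
    exact Over.OverMorphism.ext (pullback.lift_fst _ _ _)
  · have hu := congrArg (fun k : TS ⟶ H => k.left) (huniq _ ((key g').1 hg'))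
    exact Over.OverMorphism.ext (pullback.hom_ext (hu.trans (pullback.lift_fst g.left T.hom (Over.w g)).symm)
      ((Over.w g').trans (pullback.lift_snd g.left T.hom (Over.w g)).symm))

end Groth.Agent.FlatMor12.HilbBC
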