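import Groth.Agent.Coherent.CohBC.TwistStrata
import Mathlib.AlgebraicGeometry.Limits

/-!
# The flattening stratification

The strata are cut out by the Fitting ideals of the direct images of the high twists.
-/

set_option autoImplicit false
set_option backward.isDefEq.respectTransparency false
set_option linter.style.haveILetI false

universe u

open CategoryTheory CategoryTheory.Limits AlgebraicGeometry Opposite TopologicalSpace Function
open Groth.Agent.Coherent Groth.Agent.Coherent.CohBC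

namespace Groth.Agent.FlatMor12.FlatteningStrata

variable {T : Scheme.{u}} (M : T.Modules) [Coh.IsQCoh M] (hM : CohB1.IsFT M)
include hM

/-- The Fitting supports where the module is free. -/
theorem mem_support_of_iso_free {U : T.Opens} {n : ℕ} (e : M.restrict U.ι ≅ FlatMod.freeMod U.toScheme n)
    {t : T} (ht : t ∈ U) (k : ℕ) : t ∈ (Fitt.sheafIdeal M k).support ↔ k < n := by
  obtain ⟨W, hW, htW, hWU⟩ := Opens.isBasis_iff_nbhd.mp T.isBasis_affineOpens ht
  obtain ⟨b⟩ := Props12.exists_basis_sections e hWU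
  rw [Scheme.IdealSheafData.mem_support_iff_of_mem (U := ⟨W, hW⟩) htW, Scheme.mem_zeroLocus_iff,
    FittSheaf.ideal_eq M hM]
  constructor
  · intro h
    by_contra hk
    rw [FittLib.ideal_eq_top_of_span b b.span_eq (not_lt.1 hk)] at h
    exact h 1 trivial (by rwa [T.basicOpen_of_isUnit isUnit_one])
  · intro hk a ha
    rw [FittLib.ideal_eq_bot_of_basis b hk] at ha
    obtain rfl : a = 0 := ha
    simp

/-- Constant rank read off the Fitting supports. -/
theorem isFinLocFreeOfRank_of_support (h : FlatMod.IsFinLocFree M) (m : ℕ)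
    (hs : ∀ (t : T) (k : ℕ), t ∈ (Fitt.sheafIdeal M k).support ↔ k < m) :
    FlatMod.IsFinLocFreeOfRank m M := by
  intro t
  obtain ⟨U, n, ht, ⟨e⟩⟩ := h t
  have key : ∀ k, k < n ↔ k < m := fun k => (mem_support_of_iso_free M hM e ht k).symm.trans (hs t k)
  obtain rfl : n = m := le_antisymm (not_lt.1 fun hlt => (lt_irrefl m) ((key m).1 hlt))
    (not_lt.1 fun hlt => (lt_irrefl n) ((key n).2 hlt))
  exact ⟨U, ht, ⟨e⟩⟩

end Groth.Agent.FlatMor12.FlatteningStrata

namespace Groth.Agent.FlatMor12.FlatteningStrata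

variable {X S : Scheme.{u}} (f : X ⟶ S) [IsProper f] [IsNoetherian S] {L : X.Modules}
  (hLi : PicF.IsInvertible L)
  (hamp : ∀ V : S.Opens, IsAffineOpen V → CohB1.IsAmple ((Scheme.Modules.pullback (f ⁻¹ᵁ V).ι).obj L))
  {F : X.Modules} (hF : Coh.IsCoh F)

local notation "Gtw" r => CohB1.tensorMod F (CohB1.tensorPow L r)

include hLi hamp hF in
/-- The strata: a locally closed subscheme for each class of points, universal for flatness. -/
theorem exists_flatteningStrata (N : ℕ)
    (hsupp : ∀ r : ℕ, N ≤ r → ∀ (s : S) (k : ℕ),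
      s ∈ (Fitt.sheafIdeal ((Coh.push f).obj (Gtw r)) k).support ↔ k < CohIII.fiberRank f (Gtw r) 0 s)
    (hfree : ∀ r : ℕ, N ≤ r → ∀ (T XT : Scheme.{u}) [IsLocallyNoetherian T] (φ : T ⟶ S) (πT : XT ⟶ T)
      (g : XT ⟶ X), IsPullback g πT f φ → FlatMod.IsFlatOver πT ((Scheme.Modules.pullback g).obj F) →
        FlatMod.IsFinLocFree ((Scheme.Modules.pullback φ).obj ((Coh.push f).obj (Gtw r))))
    {ι : Type} [Finite ι] (c : S → ι) (hc : Surjective c)
    (hcls : ∀ s s' : S, c s = c s' ↔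
      ∀ r : ℕ, N ≤ r → CohIII.fiberRank f (Gtw r) 0 s = CohIII.fiberRank f (Gtw r) 0 s') :
    ∃ (St : ι → Scheme.{u}) (e : ∀ i, St i ⟶ S), (∀ i, IsImmersion (e i)) ∧
      (∀ i s, s ∈ Set.range (e i) ↔ c s = i) ∧
      (∀ (T XT : Scheme.{u}) [IsLocallyNoetherian T] (φ : T ⟶ S) (πT : XT ⟶ T) (g : XT ⟶ X),
        IsPullback g πT f φ → (FlatMod.IsFlatOver πT ((Scheme.Modules.pullback g).obj F) ↔
          ∃ h : T ⟶ ∐ St, h ≫ Limits.Sigma.desc e = φ)) ∧
      ∀ i s, s ∈ closure (Set.range (e i)) → ∀ s₀, c s₀ = i →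
        ∀ r : ℕ, N ≤ r → CohIII.fiberRank f (Gtw r) 0 s₀ ≤ CohIII.fiberRank f (Gtw r) 0 s := by
  classical
  haveI : IsLocallyNoetherian X := LocallyOfFiniteType.isLocallyNoetherian f
  let E : ℕ → S.Modules := fun r => (Coh.push f).obj (Gtw r)
  have hE : ∀ r, Coh.IsCoh (E r) := fun r => Existence.isCoh_push_of_isProper f
    (EulerLib.isCoh_twist (AmpleLib.isInvertible_tensorPow hLi r) hF)
  let d : ℕ → S → ℕ := fun r s => CohIII.fiberRank f (Gtw r) 0 s
  choose rep hrep using hc
  let v : ι → ℕ → ℕ := fun i r => d r (rep i)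
  have hcv : ∀ s r, N ≤ r → d r s = v (c s) r := fun s r hr =>
    ((hcls (rep (c s)) s).1 (hrep (c s)) r hr).symm
  -- a finite window separating the classes
  have hex : ∀ p : ι × ι, ∃ r, N ≤ r ∧ (p.1 ≠ p.2 → v p.1 r ≠ v p.2 r) := by
    rintro ⟨i, j⟩
    by_cases hij : i = j
    · exact ⟨N, le_rfl, fun h => absurd hij h⟩
    by_contra hcon
    push Not at hcon
    refine hij ?_
    rw [← hrep i, ← hrep j]
    exact (hcls _ _).2 fun r hr => (hcon r hr).2
  choose w hw hw' using hex
  have := Fintype.ofFinite ι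
  let Wn : Finset ℕ := Finset.univ.image w
  have hWn : ∀ r ∈ Wn, N ≤ r := fun r hr => by
    obtain ⟨p, -, rfl⟩ := Finset.mem_image.1 hr
    exact hw p
  have hclass : ∀ (s : S) (i : ι), (∀ r ∈ Wn, d r s = v i r) → c s = i := fun s i h => by
    by_contra hne
    exact hw' (c s, i) hne ((hcv s _ (hw _)).symm.trans
      (h _ (Finset.mem_image.2 ⟨_, Finset.mem_univ _, rfl⟩)))
  -- the ideals and the opens
  let J : ι → ℕ → S.IdealSheafData := fun i r => if v i r = 0 then ⊥ else Fitt.sheafIdeal (E r) (v i r - 1)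
  have hJ : ∀ i r, N ≤ r → ∀ s, s ∈ (J i r).support ↔ v i r ≤ d r s := fun i r hr s => by
    show s ∈ (ite _ _ _ : S.IdealSheafData).support ↔ _
    split_ifs with h0
    · rw [Scheme.IdealSheafData.support_bot]
      exact iff_of_true trivial (by omega)
    · rw [hsupp r hr s]
      show _ < d r s ↔ _
      omega
  let Z : ι → Set S := fun i => ⋃ r ∈ Wn, ((Fitt.sheafIdeal (E r) (v i r)).support : Set S)
  have hZ : ∀ i, IsClosed (Z i) := fun i =>
    isClosed_biUnion_finset fun r _ => ((Fitt.sheafIdeal (E r) (v i r)).support).2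
  let U : ι → S.Opens := fun i => ⟨(Z i)ᶜ, (hZ i).isOpen_compl⟩
  have hU : ∀ i s, s ∈ U i ↔ ∀ r ∈ Wn, d r s ≤ v i r := fun i s => by
    show s ∈ (Z i)ᶜ ↔ _
    simp only [Z, Set.mem_compl_iff, Set.mem_iUnion, not_exists]
    refine forall₂_congr fun r hr => ?_
    rw [SetLike.mem_coe, hsupp r (hWn r hr) s, not_lt]
  let I : ι → S.IdealSheafData := fun i => ⨆ r : {r : ℕ // N ≤ r}, J i r.1
  let St : ι → Scheme.{u} := fun i => ((I i).comap (U i).ι).subscheme
  let e : ∀ i, St i ⟶ S := fun i => ((I i).comap (U i).ι).subschemeι ≫ (U i).ι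
  have hrange : ∀ i s, s ∈ Set.range (e i) ↔ c s = i := by
    intro i s
    have hI : s ∈ (I i).support ↔ ∀ r, N ≤ r → v i r ≤ d r s := by
      rw [Scheme.IdealSheafData.support_iSup, ← SetLike.mem_coe, Closeds.coe_iInf, Set.mem_iInter]
      exact ⟨fun h r hr => (hJ i r hr s).1 (h ⟨r, hr⟩), fun h r => (hJ i r.1 r.2 s).2 (h r.1 r.2)⟩
    constructor
    · rintro ⟨z, rfl⟩
      let y := ((I i).comap (U i).ι).subschemeι z
      have hyI : y ∈ ((I i).comap (U i).ι).support := by
        rw [← SetLike.mem_coe, ← Scheme.IdealSheafData.range_subschemeι]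
        exact ⟨z, rfl⟩
      rw [Scheme.IdealSheafData.support_comap] at hyI
      exact hclass _ i fun r hr => le_antisymm ((hU i _).1 y.2 r hr) (hI.1 hyI r (hWn r hr))
    · rintro rfl
      have hsU : s ∈ U (c s) := (hU _ s).2 fun r hr => (hcv s r (hWn r hr)).le
      have : (⟨s, hsU⟩ : (U (c s)).toScheme) ∈ Set.range ((I (c s)).comap (U (c s)).ι).subschemeι := by
        rw [Scheme.IdealSheafData.range_subschemeι, Scheme.IdealSheafData.support_comap]
        exact hI.2 fun r hr => (hcv s r hr).ge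
      obtain ⟨z, hz⟩ := this
      exact ⟨z, congrArg (U (c s)).ι hz⟩
  -- the pullbacks to a scheme through a stratum
  have hcrit : ∀ (i : ι) {T : Scheme.{u}} (φ : T ⟶ S) (r : ℕ), N ≤ r → (∀ t, c (φ t) = i) →
      (FlatMod.IsFinLocFreeOfRank (v i r) ((Scheme.Modules.pullback φ).obj (E r)) ↔ (J i r).comap φ = ⊥) := by
    intro i T φ r hr hφ
    haveI := (hE r).1
    haveI := EGA43.InjFibre.isQCoh_pullback φ (E r)
    have hT := isFT_pullback_qcoh φ (F := E r) inferInstance (hE r).2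
    have htop : (Fitt.sheafIdeal (E r) (v i r)).comap φ = ⊤ := by
      rw [← Scheme.IdealSheafData.support_eq_bot_iff, Scheme.IdealSheafData.support_comap]
      refine le_bot_iff.1 fun t ht => ?_
      have h1 : v i r < d r (φ t) := (hsupp r hr (φ t) _).1 ht
      rw [hcv (φ t) r hr, hφ t] at h1
      exact absurd h1 (lt_irrefl _)
    rw [FittSheaf.isFinLocFreeOfRank_iff _ hT]
    simp only [← FittSheaf.comap_eq (E r) φ (hE r).2]
    constructor
    · rintro ⟨h0, -⟩
      show (ite _ _ _ : S.IdealSheafData).comap φ = ⊥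
      split_ifs with h
      · exact Scheme.IdealSheafData.comap_bot φ
      · exact h0 _ (by omega)
    · intro h0
      refine ⟨fun k hk => le_bot_iff.1 ?_, fun k hk => top_le_iff.1 ?_⟩
      · rw [← h0, show J i r = Fitt.sheafIdeal (E r) (v i r - 1) from if_neg (by omega)]
        exact Scheme.IdealSheafData.comap_mono φ (FittSheaf.sheafIdeal_mono _ (hE r).2 (by omega))
      · rw [← htop]
        exact Scheme.IdealSheafData.comap_mono φ (FittSheaf.sheafIdeal_mono _ (hE r).2 hk)
  refine ⟨St, e, fun i => inferInstance, hrange, fun T XT _ φ πT g hsq => ⟨fun hfl => ?_, ?_⟩, ?_⟩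
  · let O : ι → Set T := fun i => {t | c (φ t) = i}
    have hO : ∀ i, IsOpen (O i) := by
      intro i
      rw [isOpen_iff_forall_mem_open]
      intro t ht
      have hnb : ∀ r, ∃ Ur : T.Opens, t ∈ Ur ∧ (r ∈ Wn → ∀ t' ∈ Ur, d r (φ t') = d r (φ t)) := by
        intro r
        by_cases hr : r ∈ Wn
        · haveI := (hE r).1
          haveI := EGA43.InjFibre.isQCoh_pullback φ (E r)
          have hT := isFT_pullback_qcoh φ (F := E r) inferInstance (hE r).2
          obtain ⟨Ur, n, htU, ⟨eU⟩⟩ := hfree r (hWn r hr) T XT φ πT g hsq hfl t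
          have key : ∀ t' ∈ Ur, d r (φ t') = n := by
            intro t' ht'
            have hk : ∀ k, k < n ↔ k < d r (φ t') := fun k => by
              rw [← mem_support_of_iso_free _ hT eU ht' k, ← FittSheaf.comap_eq (E r) φ (hE r).2,
                Scheme.IdealSheafData.support_comap, ← hsupp r (hWn r hr)]
              rfl
            refine le_antisymm (not_lt.1 fun hlt => lt_irrefl n ((hk n).2 hlt))
              (not_lt.1 fun hlt => lt_irrefl _ ((hk _).1 hlt))
          exact ⟨Ur, htU, fun _ t' ht' => (key t' ht').trans (key t htU).symm⟩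
        · exact ⟨⊤, trivial, fun h => absurd h hr⟩
      choose Ur htUr hUr using hnb
      refine ⟨⋂ r ∈ Wn, (Ur r : Set T), fun t' ht' => ?_, isOpen_biInter_finset fun r _ => (Ur r).2,
        Set.mem_iInter₂.2 fun r _ => htUr r⟩
      refine hclass _ i fun r hr => ?_
      rw [hUr r hr t' (Set.mem_iInter₂.1 ht' r hr), hcv _ r (hWn r hr), show c (φ t) = i from ht]
    let P : ι → T.Opens := fun i => ⟨O i, hO i⟩
    have hlift : ∀ i, ∃ l : (P i).toScheme ⟶ St i, l ≫ e i = (P i).ι ≫ φ := by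
      intro i
      let ψ := (P i).ι ≫ φ
      have hψ : ∀ t, c (ψ t) = i := fun t => t.2
      have hsqP : IsPullback ((πT ⁻¹ᵁ P i).ι ≫ g) (πT ∣_ P i) f ψ :=
        (isPullback_morphismRestrict πT (P i)).flip.paste_horiz hsq
      have hflP : FlatMod.IsFlatOver (πT ∣_ P i) ((Scheme.Modules.pullback ((πT ⁻¹ᵁ P i).ι ≫ g)).obj F) :=
        fun x => EGA43.DvrCrit.isFlatOverAt_of_iso _ ((Scheme.Modules.pullbackComp _ _).app F) x
          ((isFlatOverAt_restrict_iff (morphismRestrict_ι πT (P i)).symm _ x).2 (hfl _))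
      haveI : IsLocallyNoetherian (P i).toScheme := isLocallyNoetherian_of_isOpenImmersion (P i).ι
      have hbot : ∀ r, N ≤ r → (J i r).comap ψ = ⊥ := fun r hr => by
        haveI := (hE r).1
        haveI := EGA43.InjFibre.isQCoh_pullback ψ (E r)
        have hT := isFT_pullback_qcoh ψ (F := E r) inferInstance (hE r).2
        refine (hcrit i ψ r hr hψ).1 (isFinLocFreeOfRank_of_support _ hT
          (hfree r hr _ _ ψ _ _ hsqP hflP) _ fun t k => ?_)
        rw [← FittSheaf.comap_eq (E r) ψ (hE r).2, Scheme.IdealSheafData.support_comap]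
        show ψ t ∈ (Fitt.sheafIdeal (E r) k).support ↔ _
        rw [hsupp r hr (ψ t)]
        show k < d r (ψ t) ↔ _
        rw [hcv (ψ t) r hr, hψ t]
      have hIbot : (I i).comap ψ = ⊥ := by
        rw [show (I i).comap ψ = ⨆ r : {r : ℕ // N ≤ r}, (J i r.1).comap ψ from
          (Scheme.IdealSheafData.map_gc ψ).l_iSup]
        exact iSup_eq_bot.2 fun r => hbot r.1 r.2
      have hr : Set.range ψ ⊆ Set.range (U i).ι := by
        rw [Scheme.Opens.range_ι]
        rintro _ ⟨t, rfl⟩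
        exact (hU i _).2 fun r hr => by rw [hcv (ψ t) r (hWn r hr), hψ t]
      let ψ₀ := IsOpenImmersion.lift (U i).ι ψ hr
      have hψ₀ : ψ₀ ≫ (U i).ι = ψ := IsOpenImmersion.lift_fac _ _ _
      have hle : ((I i).comap (U i).ι).subschemeι.ker ≤ ψ₀.ker := by
        rw [Scheme.IdealSheafData.ker_subschemeι, ← Scheme.IdealSheafData.map_bot,
          Scheme.IdealSheafData.le_map_iff_comap_le, ← Scheme.IdealSheafData.comap_comp, hψ₀, hIbot]
      exact ⟨IsClosedImmersion.lift _ ψ₀ hle, by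
        simp only [e]
        rw [← Category.assoc, IsClosedImmersion.lift_fac, hψ₀]⟩
    choose l hl using hlift
    obtain ⟨hcolim⟩ := nonempty_isColimit_cofanMk_of (fun i => (P i).ι)
      (eq_top_iff.2 fun t _ => Opens.mem_iSup.2 ⟨c (φ t), by rw [Scheme.Opens.opensRange_ι]; exact rfl⟩)
      (fun i j hij => by
        rw [Function.onFun, Scheme.Opens.opensRange_ι, Scheme.Opens.opensRange_ι, disjoint_iff]
        exact Opens.ext (Set.eq_empty_iff_forall_notMem.2 fun t ht => hij (ht.1.symm.trans ht.2)))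
    refine ⟨Cofan.IsColimit.desc hcolim fun i => l i ≫ Sigma.ι St i, Cofan.IsColimit.hom_ext hcolim _ _ fun i => ?_⟩
    show (P i).ι ≫ _ ≫ _ = (P i).ι ≫ φ
    rw [← hl i, ← Category.assoc]
    refine Eq.trans (congrArg (· ≫ Limits.Sigma.desc e) (hcolim.fac _ ⟨i⟩)) ?_
    exact (Category.assoc _ _ _).trans (congrArg (l i ≫ ·) (Sigma.ι_desc _ _))
  · rintro ⟨h, hh⟩ x
    obtain ⟨i, z, hz⟩ : ∃ i z, Sigma.ι St i z = h (πT x) := (sigmaOpenCover St).exists_eq _
    let V := h ⁻¹ᵁ (Sigma.ι St i).opensRange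
    have hxV : πT x ∈ V := ⟨z, hz⟩
    have hrV : Set.range (V.ι ≫ h) ⊆ Set.range (Sigma.ι St i) := by
      rintro _ ⟨t, rfl⟩
      exact t.2
    let l := IsOpenImmersion.lift (Sigma.ι St i) (V.ι ≫ h) hrV
    have hl : l ≫ e i = V.ι ≫ φ := by
      rw [← hh, ← reassoc_of% (IsOpenImmersion.lift_fac (Sigma.ι St i) (V.ι ≫ h) hrV)]
      congr 1
      exact (Sigma.ι_desc _ _).symm
    let ψ := V.ι ≫ φ
    have hψ : ∀ t, c (ψ t) = i := fun t => (hrange i _).1 ⟨l t, by
      rw [← Scheme.Hom.comp_apply, hl]⟩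
    have hlf : ∀ r, N ≤ r → FlatMod.IsFinLocFree ((Scheme.Modules.pullback ψ).obj (E r)) := fun r hr => by
      have hIbot : (I i).comap ψ = ⊥ := by
        rw [show ψ = l ≫ ((I i).comap (U i).ι).subschemeι ≫ (U i).ι from hl.symm,
          Scheme.IdealSheafData.comap_comp, Scheme.IdealSheafData.comap_comp]
        have : ((I i).comap (U i).ι).comap ((I i).comap (U i).ι).subschemeι = ⊥ := by
          refine le_bot_iff.1 (Scheme.IdealSheafData.le_map_iff_comap_le.1 ?_)
          rw [Scheme.IdealSheafData.map_bot, Scheme.IdealSheafData.ker_subschemeι]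
        rw [this, Scheme.IdealSheafData.comap_bot]
      have h0 : (J i r).comap ψ = ⊥ := le_bot_iff.1 (hIbot ▸
        Scheme.IdealSheafData.comap_mono ψ (le_iSup (fun r : {r : ℕ // N ≤ r} => J i r.1) ⟨r, hr⟩))
      intro t
      obtain ⟨O, ht, hO⟩ := (hcrit i ψ r hr hψ).2 h0 t
      exact ⟨O, _, ht, hO⟩
    have hsqV : IsPullback ((πT ⁻¹ᵁ V).ι ≫ g) (πT ∣_ V) f ψ :=
      (isPullback_morphismRestrict πT V).flip.paste_horiz hsq
    have key := isFlatOver_pullback_of_isFinLocFree f hLi hamp hF ψ _ _ hsqV N hlf ⟨x, hxV⟩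
    exact (isFlatOverAt_restrict_iff (morphismRestrict_ι πT V).symm _ (⟨x, hxV⟩ : (πT ⁻¹ᵁ V).toScheme)).1
      (EGA43.DvrCrit.isFlatOverAt_of_iso _ ((Scheme.Modules.pullbackComp _ _).app F).symm _ key)
  · intro i s hs s₀ hs₀ r hr
    have hsub : Set.range (e i) ⊆ ((J i r).support : Set S) := fun s' hs' =>
      (hJ i r hr s').2 (by rw [hcv s' r hr, (hrange i s').1 hs'])
    have h1 : v i r ≤ d r s := (hJ i r hr s).1 (closure_minimal hsub ((J i r).support).2 hs)
    rwa [← hs₀, ← hcv s₀ r hr] at h1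

end Groth.Agent.FlatMor12.FlatteningStrata
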