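import Groth.Agent.CAlgH.FlatModel
import Groth.Agent.Flatn12.PullbackSections
import Groth.Agent.Props12.TildeFin
import Groth.Agent.Props12.FlatOver
import Groth.Agent.Coherent.FinitePres
import Mathlib.AlgebraicGeometry.Morphisms.FinitePresentation
import Mathlib.AlgebraicGeometry.Pullbacks

/-!
# Noetherian approximation of modules on affine morphisms of finite presentation
-/

set_option autoImplicit false
set_option backward.isDefEq.respectTransparency false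

universe u

open CategoryTheory CategoryTheory.Limits AlgebraicGeometry Opposite TensorProduct Function
open Groth.Agent.CAlgH

namespace Groth.Agent.FlatMor12.ApproxModule

attribute [local instance] Algebra.TensorProduct.rightAlgebra

/-- A finitely presented module over a finitely presented algebra comes from a finite module over a
finite type algebra over a finite type `ℤ`-algebra. -/
theorem exists_model (R : Type u) [CommRing R] (S : Type u) [CommRing S] [Algebra R S]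
    [Algebra.FinitePresentation R S] (M : Type u) [AddCommGroup M] [Module S M]
    [Module.FinitePresentation S M] :
    ∃ (R₀ : Type u) (_ : CommRing R₀) (_ : Algebra R₀ R) (S₀ : Type u) (_ : CommRing S₀)
      (_ : Algebra R₀ S₀) (_ : Algebra S₀ S) (_ : Algebra R₀ S) (_ : IsScalarTower R₀ R S)
      (_ : IsScalarTower R₀ S₀ S) (M₀ : Type u) (_ : AddCommGroup M₀) (_ : Module S₀ M₀)
      (_ : Module S₀ M) (_ : IsScalarTower S₀ S M) (f : M₀ →ₗ[S₀] M),
      Algebra.FiniteType ℤ R₀ ∧ Algebra.FiniteType R₀ S₀ ∧ Module.Finite S₀ M₀ ∧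
        Algebra.IsPushout R₀ R S₀ S ∧ IsBaseChange S f := by
  classical
  obtain ⟨k, K, eM, hK⟩ := Module.FinitePresentation.exists_fin S M
  obtain ⟨l, w, hw⟩ := Submodule.fg_iff_exists_fin_generating_family.1 hK
  let Pr := Algebra.Presentation.ofFinitePresentation R S
  let W : Fin l → Fin k → MvPolynomial (Fin (Algebra.Presentation.ofFinitePresentationVars R S)) R :=
    fun i j => Pr.σ (w i j)
  let cs : Set R := Pr.coeffs ∪ ⋃ i, ⋃ j, ((W i j).coeffs : Set R)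
  have hcs : cs.Finite := Pr.finite_coeffs.union
    (Set.finite_iUnion fun i => Set.finite_iUnion fun j => Finset.finite_toSet _)
  have hR₁ : Algebra.FiniteType ℤ (Algebra.adjoin ℤ cs) :=
    (Algebra.adjoin ℤ cs).fg_iff_finiteType.1 (Subalgebra.fg_def.2 ⟨cs, hcs, rfl⟩)
  have hrange : ∀ c ∈ cs, c ∈ Set.range (algebraMap (Algebra.adjoin ℤ cs) R) := fun c hc =>
    ⟨⟨c, Algebra.subset_adjoin hc⟩, rfl⟩
  have : Pr.HasCoeffs (Algebra.adjoin ℤ cs) := ⟨fun c hc => hrange c (Or.inl hc)⟩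
  let ι := Pr.tensorModelOfHasCoeffsEquiv (Algebra.adjoin ℤ cs)
  let h : Pr.ModelOfHasCoeffs (Algebra.adjoin ℤ cs) →ₐ[Algebra.adjoin ℤ cs] S :=
    (ι.toAlgHom.restrictScalars _).comp Algebra.TensorProduct.includeRight
  let _ : Algebra (Pr.ModelOfHasCoeffs (Algebra.adjoin ℤ cs)) S := h.toRingHom.toAlgebra
  have : IsScalarTower (Algebra.adjoin ℤ cs) (Pr.ModelOfHasCoeffs (Algebra.adjoin ℤ cs)) S :=
    .of_algebraMap_eq fun a => (h.commutes a).symm
  have : Algebra.IsPushout (Algebra.adjoin ℤ cs) R (Pr.ModelOfHasCoeffs (Algebra.adjoin ℤ cs)) S :=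
    FlatModel.isPushout_of_equiv ι fun p => rfl
  have hW : ∀ i j, ∃ p : MvPolynomial _ (Algebra.adjoin ℤ cs),
      MvPolynomial.map (algebraMap (Algebra.adjoin ℤ cs) R) p = W i j := fun i j => by
    rw [← RingHom.mem_range, ← SetLike.mem_coe, RingHom.coe_range,
      MvPolynomial.mem_range_map_iff_coeffs_subset]
    exact fun c hc => hrange c (Or.inr (Set.mem_iUnion.2 ⟨i, Set.mem_iUnion.2 ⟨j, hc⟩⟩))
  choose W₀ hW₀ using hW
  let w₀ : Fin l → Fin k → Pr.ModelOfHasCoeffs (Algebra.adjoin ℤ cs) :=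
    fun i j => Ideal.Quotient.mk _ (W₀ i j)
  have hw₀ : (fun i => algebraMap (Pr.ModelOfHasCoeffs (Algebra.adjoin ℤ cs)) S ∘ w₀ i) = w :=
    funext fun i => funext fun j => by
      show ι (1 ⊗ₜ Ideal.Quotient.mk _ (W₀ i j)) = w i j
      rw [Algebra.Presentation.tensorModelOfHasCoeffsEquiv_tmul, map_one, one_mul,
        ← MvPolynomial.aeval_map_algebraMap R, hW₀]
      exact Pr.aeval_val_σ _
  obtain ⟨g, hg⟩ := FlatModel.exists_isBaseChange_coker w₀ K (by rw [hw₀, hw])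
  let _ : Module (Pr.ModelOfHasCoeffs (Algebra.adjoin ℤ cs)) M := Module.compHom M
    (algebraMap (Pr.ModelOfHasCoeffs (Algebra.adjoin ℤ cs)) S)
  have : IsScalarTower (Pr.ModelOfHasCoeffs (Algebra.adjoin ℤ cs)) S M :=
    .of_algebraMap_smul fun _ _ => rfl
  refine ⟨Algebra.adjoin ℤ cs, inferInstance, inferInstance, Pr.ModelOfHasCoeffs (Algebra.adjoin ℤ cs),
    inferInstance, inferInstance, inferInstance, inferInstance, inferInstance, inferInstance,
    (Fin k → Pr.ModelOfHasCoeffs (Algebra.adjoin ℤ cs)) ⧸ Submodule.span _ (Set.range w₀),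
    inferInstance, inferInstance, inferInstance, inferInstance,
    (eM.symm.toLinearMap.restrictScalars _) ∘ₗ g, hR₁, inferInstance, inferInstance, inferInstance, ?_⟩
  exact IsBaseChange.of_equiv (hg.equiv ≪≫ₗ eM.symm) fun x => by simp [IsBaseChange.equiv_tmul]

/-- Extension of scalars as a tensor product, for any algebra structure. -/
noncomputable def extendEquiv {R : Type u} [CommRing R] (A : Type u) [CommRing A] [Algebra R A]
    (M : Type u) [AddCommGroup M] [Module R M] :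
    (ModuleCat.extendScalars (algebraMap R A)).obj (ModuleCat.of R M) ≃ₗ[A] A ⊗[R] M :=
  let eA : ↑((ModuleCat.restrictScalars (algebraMap R A)).obj (ModuleCat.of A A)) ≃ₗ[R] A :=
    { AddEquiv.refl A with map_smul' := fun r a => (Algebra.smul_def r (show A from a)).symm }
  AddEquiv.toLinearEquiv (TensorProduct.congr eA (LinearEquiv.refl R M)).toAddEquiv fun a x => by
    induction x using TensorProduct.induction_on with
    | zero => rw [smul_zero, map_zero, smul_zero]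
    | add u v hu hv => rw [smul_add, map_add, hu, hv, map_add, smul_add]
    | tmul b m => rfl

/-- Flatness of the sheaf associated to a flat module. -/
theorem isFlatOver_tilde {A B : CommRingCat.{u}} (φ : A ⟶ B) (N : ModuleCat.{u} B)
    (h : @Module.Flat A N _ _ (Module.compHom N φ.hom)) :
    FlatMod.IsFlatOver (Spec.map φ) (tilde N) := by
  let _ : Module A N := Module.compHom N φ.hom
  have : Module.Flat A N := h
  have hfl := (Props12.flat_sections_iff (Spec.map φ) (tilde N) (isAffineOpen_top _)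
    (isAffineOpen_top _) (le_top : (⊤ : (Spec B).Opens) ≤ Spec.map φ ⁻¹ᵁ ⊤)).1
  refine fun x => hfl ?_ x trivial
  let _ := EGA43.QcohFlat.overModule (Spec.map φ) (tilde N) ⊤ ⊤
    (le_top : (⊤ : (Spec B).Opens) ≤ Spec.map φ ⁻¹ᵁ ⊤)
  let _ : Algebra A Γ(Spec A, ⊤) := (Scheme.ΓSpecIso A).inv.hom.toAlgebra
  let _ : Module A Γ(tilde N, ⊤) := Module.compHom _ (algebraMap A Γ(Spec A, ⊤))
  have : IsScalarTower A Γ(Spec A, ⊤) Γ(tilde N, ⊤) :=
    IsScalarTower.of_algebraMap_smul fun _ _ => rfl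
  have hcomm : ∀ r : A, ((Spec.map φ).appLE ⊤ ⊤ le_top).hom ((Scheme.ΓSpecIso A).inv.hom r) =
      (Scheme.ΓSpecIso B).inv.hom (φ.hom r) := fun r => by
    rw [Scheme.Hom.appLE]
    simp
    exact (ConcreteCategory.congr_hom (Scheme.ΓSpecIso_inv_naturality φ) r).symm
  let e : N ≃ₗ[A] Γ(tilde N, ⊤) :=
    { (Props12.topEquiv N).toAddEquiv with
      map_smul' := fun r m => by
        show Props12.topEquiv N (φ.hom r • m) =
          ((Spec.map φ).appLE ⊤ ⊤ le_top).hom ((Scheme.ΓSpecIso A).inv.hom r) • Props12.topEquiv N m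
        rw [hcomm, map_smul]
        exact (IsScalarTower.algebraMap_smul Γ(Spec B, ⊤) _ _).symm }
  have := Module.Flat.of_linearEquiv e.symm
  exact Props12.flat_of_bijective (A := A) (B := Γ(Spec A, ⊤))
    (ConcreteCategory.bijective_of_isIso (Scheme.ΓSpecIso A).inv)

variable {X S : Scheme.{u}}

/-- Translation of an algebraic model. -/
theorem exists_scheme_model (f : X ⟶ S) [IsAffine X] [IsAffine S] (F : X.Modules) [Coh.IsQCoh F]
    (R₀ S₀ : Type u) [CommRing R₀] [CommRing S₀] [Algebra R₀ S₀] [Algebra R₀ Γ(S, ⊤)]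
    [Algebra S₀ Γ(X, ⊤)]
    (hpo : IsPullback (X.isoSpec.hom ≫ Spec.map (CommRingCat.ofHom (algebraMap S₀ Γ(X, ⊤)))) f
      (Spec.map (CommRingCat.ofHom (algebraMap R₀ S₀)))
      (S.isoSpec.hom ≫ Spec.map (CommRingCat.ofHom (algebraMap R₀ Γ(S, ⊤)))))
    (hR : Algebra.FiniteType ℤ R₀) (hS : Algebra.FiniteType R₀ S₀)
    (M₀ : Type u) [AddCommGroup M₀] [Module S₀ M₀] [Module.Finite S₀ M₀]
    [Module S₀ Γ(F, ⊤)] [IsScalarTower S₀ Γ(X, ⊤) Γ(F, ⊤)] (g : M₀ →ₗ[S₀] Γ(F, ⊤))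
    (hg : IsBaseChange Γ(X, ⊤) g) :
    ∃ (X₀ S' : Scheme.{u}) (f₀ : X₀ ⟶ S') (b : S ⟶ S') (g' : X ⟶ X₀), IsAffine X₀ ∧ IsAffine S' ∧
      IsPullback g' f f₀ b ∧ Algebra.FiniteType ℤ Γ(S', ⊤) ∧ LocallyOfFiniteType f₀ ∧
      ∃ F₀ : X₀.Modules, Coh.IsCoh F₀ ∧
        ((∀ [Module R₀ M₀] [IsScalarTower R₀ S₀ M₀], Module.Flat R₀ M₀) → FlatMod.IsFlatOver f₀ F₀) ∧
        Nonempty ((Scheme.Modules.pullback g').obj F₀ ≅ F) := by
  let φ := CommRingCat.ofHom (algebraMap R₀ S₀)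
  let ψ := CommRingCat.ofHom (algebraMap S₀ Γ(X, ⊤))
  have : IsNoetherianRing R₀ := Algebra.FiniteType.isNoetherianRing ℤ R₀
  have : IsNoetherianRing S₀ := Algebra.FiniteType.isNoetherianRing R₀ S₀
  let N := ModuleCat.of.{u} (CommRingCat.of S₀) M₀
  have hFP : Module.FinitePresentation (CommRingCat.of S₀) N :=
    Module.finitePresentation_of_finite S₀ M₀
  refine ⟨Spec (CommRingCat.of S₀), Spec (CommRingCat.of R₀), Spec.map φ, _, _, inferInstance,
    inferInstance, hpo, ?_, ?_, tilde N, ?_, ?_, ?_⟩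
  · exact Algebra.FiniteType.equiv hR
      (AlgEquiv.ofRingEquiv (f := (Scheme.ΓSpecIso (CommRingCat.of R₀)).symm.commRingCatIsoToRingEquiv)
        fun z => RingHom.congr_fun (RingHom.ext_int ((Scheme.ΓSpecIso (CommRingCat.of R₀)).symm.commRingCatIsoToRingEquiv.toRingHom.comp (algebraMap ℤ R₀)) (algebraMap ℤ Γ(Spec (CommRingCat.of R₀), ⊤))) z)
  · exact (HasRingHomProperty.Spec_iff (P := @LocallyOfFiniteType)).2 (RingHom.finiteType_algebraMap.2 hS)
  · exact (Coherent.isCoh_iff_isFP _).2 ((Props12.isFP_tilde_iff N).2 hFP)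
  · intro hflat
    let _ : Module R₀ M₀ := Module.compHom M₀ (algebraMap R₀ S₀)
    have : IsScalarTower R₀ S₀ M₀ := IsScalarTower.of_algebraMap_smul fun _ _ => rfl
    exact isFlatOver_tilde φ N hflat
  · have hr := Flatn12.isQCoh_restrict_fromSpec' F (isAffineOpen_top X)
    let Rr := F.restrict (isAffineOpen_top X).fromSpec
    let N' := moduleSpecΓFunctor.obj Rr
    let eN : (ModuleCat.extendScalars ψ.hom).obj N ≅ N' := LinearEquiv.toModuleIso
      ((extendEquiv Γ(X, ⊤) M₀).trans (hg.equiv.trans (Flatn12.secEquiv (isAffineOpen_top X) F).symm))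
    let e1 : (Scheme.Modules.pullback (Spec.map ψ)).obj (tilde N) ≅ Rr :=
      (Flatn12.tildePullbackIso ψ).app N ≪≫ (tilde.functor _).mapIso eN ≪≫ asIso Rr.fromTildeΓ
    have hfs : (isAffineOpen_top X).fromSpec = X.isoSpec.inv := IsAffineOpen.fromSpec_top
    refine ⟨((Scheme.Modules.pullbackComp X.isoSpec.hom (Spec.map ψ)).app (tilde N)).symm ≪≫
      (Scheme.Modules.pullback X.isoSpec.hom).mapIso e1 ≪≫
      (Scheme.Modules.pullback X.isoSpec.hom).mapIso
        ((Scheme.Modules.restrictFunctorIsoPullback _).app F) ≪≫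
      (Scheme.Modules.pullbackComp X.isoSpec.hom (isAffineOpen_top X).fromSpec).app F ≪≫
      (Scheme.Modules.pullbackCongr (by rw [hfs, Iso.hom_inv_id])).app F ≪≫
      (Scheme.Modules.pullbackId X).app F⟩

theorem isPullback_of_isPushout (f : X ⟶ S) [IsAffine X] [IsAffine S] (R₀ S₀ : Type u) [CommRing R₀]
    [CommRing S₀] [Algebra R₀ S₀] [Algebra R₀ Γ(S, ⊤)] [Algebra S₀ Γ(X, ⊤)] [Algebra R₀ Γ(X, ⊤)]
    [Algebra Γ(S, ⊤) Γ(X, ⊤)] [IsScalarTower R₀ Γ(S, ⊤) Γ(X, ⊤)] [IsScalarTower R₀ S₀ Γ(X, ⊤)]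
    (halg : algebraMap Γ(S, ⊤) Γ(X, ⊤) = f.appTop.hom)
    (h : Algebra.IsPushout R₀ Γ(S, ⊤) S₀ Γ(X, ⊤)) :
    IsPullback (X.isoSpec.hom ≫ Spec.map (CommRingCat.ofHom (algebraMap S₀ Γ(X, ⊤)))) f
      (Spec.map (CommRingCat.ofHom (algebraMap R₀ S₀)))
      (S.isoSpec.hom ≫ Spec.map (CommRingCat.ofHom (algebraMap R₀ Γ(S, ⊤)))) := by
  have sq := (isPullback_SpecMap_of_isPushout _ _ _ _
    (CommRingCat.isPushout_of_isPushout R₀ Γ(S, ⊤) S₀ Γ(X, ⊤))).flip
  refine sq.of_iso X.isoSpec.symm (Iso.refl _) S.isoSpec.symm (Iso.refl _) ?_ ?_ ?_ ?_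
  · simp
  · simp only [Iso.symm_hom]
    rw [← Scheme.isoSpec_inv_naturality f, halg]
    rfl
  · simp
  · simp

end Groth.Agent.FlatMor12.ApproxModule

namespace Groth.Agent.FlatMor12.ApproxModule

variable {X S : Scheme.{u}}

theorem approximation_module (f : X ⟶ S) [IsAffine X] [IsAffine S] [LocallyOfFinitePresentation f]
    (F : X.Modules) [Coh.IsQCoh F] (hF : CohB1.IsFP F) :
    ∃ (X₀ S₀ : Scheme.{u}) (f₀ : X₀ ⟶ S₀) (g : S ⟶ S₀) (g' : X ⟶ X₀), IsAffine X₀ ∧ IsAffine S₀ ∧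
      IsPullback g' f f₀ g ∧ Algebra.FiniteType ℤ Γ(S₀, ⊤) ∧ LocallyOfFiniteType f₀ ∧
      ∃ F₀ : X₀.Modules, Coh.IsCoh F₀ ∧ Nonempty ((Scheme.Modules.pullback g').obj F₀ ≅ F) := by
  let _ : Algebra Γ(S, ⊤) Γ(X, ⊤) := f.appTop.hom.toAlgebra
  have : Algebra.FinitePresentation Γ(S, ⊤) Γ(X, ⊤) :=
    (HasRingHomProperty.iff_of_isAffine (P := @LocallyOfFinitePresentation)).1 ‹_›
  have := EGA43.QcohFP.finitePresentation_sections F hF (isAffineOpen_top X)
  obtain ⟨R₀, _, _, S₀, _, _, _, _, _, _, M₀, _, _, _, _, g, hR, hS, _, hpo, hg⟩ :=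
    exists_model Γ(S, ⊤) Γ(X, ⊤) Γ(F, ⊤)
  obtain ⟨X₀, S', f₀, b, g', h1, h2, h3, h4, h5, F₀, h6, -, h7⟩ := exists_scheme_model f F R₀ S₀
    (isPullback_of_isPushout f R₀ S₀ rfl hpo) hR hS M₀ g hg
  exact ⟨X₀, S', f₀, b, g', h1, h2, h3, h4, h5, F₀, h6, h7⟩

theorem approximation_flat_module (f : X ⟶ S) [IsAffine X] [IsAffine S] [LocallyOfFinitePresentation f]
    (F : X.Modules) [Coh.IsQCoh F] (hF : CohB1.IsFP F) (hfl : FlatMod.IsFlatOver f F) :
    ∃ (X₀ S₀ : Scheme.{u}) (f₀ : X₀ ⟶ S₀) (g : S ⟶ S₀) (g' : X ⟶ X₀), IsAffine X₀ ∧ IsAffine S₀ ∧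
      IsPullback g' f f₀ g ∧ Algebra.FiniteType ℤ Γ(S₀, ⊤) ∧ LocallyOfFiniteType f₀ ∧
      ∃ F₀ : X₀.Modules, Coh.IsCoh F₀ ∧ FlatMod.IsFlatOver f₀ F₀ ∧
        Nonempty ((Scheme.Modules.pullback g').obj F₀ ≅ F) := by
  have happ : f.appLE ⊤ ⊤ le_top = f.appTop := by simp [Scheme.Hom.appLE]
  let _ : Algebra Γ(S, ⊤) Γ(X, ⊤) := f.appTop.hom.toAlgebra
  have : Algebra.FinitePresentation Γ(S, ⊤) Γ(X, ⊤) :=
    (HasRingHomProperty.iff_of_isAffine (P := @LocallyOfFinitePresentation)).1 ‹_›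
  have := EGA43.QcohFP.finitePresentation_sections F hF (isAffineOpen_top X)
  let _ : Module Γ(S, ⊤) Γ(F, ⊤) := Module.compHom _ (algebraMap Γ(S, ⊤) Γ(X, ⊤))
  have : IsScalarTower Γ(S, ⊤) Γ(X, ⊤) Γ(F, ⊤) := IsScalarTower.of_algebraMap_smul fun _ _ => rfl
  have hM : Module.Flat Γ(S, ⊤) Γ(F, ⊤) := by
    have h := (Props12.flat_sections_iff f F (isAffineOpen_top S) (isAffineOpen_top X) le_top).2
      fun x _ => hfl x
    convert h using 1
    refine Module.ext' _ _ fun r m => ?_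
    show f.appTop.hom r • m = (f.appLE ⊤ ⊤ le_top).hom r • m
    rw [happ]
  obtain ⟨R₀, _, _, S₀, _, _, _, _, _, _, M₀, _, _, _, _, _, _, g, hR, hS, _, hfl₀, hpo, hg⟩ :=
    FlatModel.exists_flat_model Γ(S, ⊤) Γ(X, ⊤) Γ(F, ⊤)
  obtain ⟨X₀, S', f₀, b, g', h1, h2, h3, h4, h5, F₀, h6, h6', h7⟩ := exists_scheme_model f F R₀ S₀
    (isPullback_of_isPushout f R₀ S₀ rfl hpo) hR hS M₀ g hg
  refine ⟨X₀, S', f₀, b, g', h1, h2, h3, h4, h5, F₀, h6, h6' ?_, h7⟩
  have key : ∀ (r : R₀) (m : M₀), algebraMap R₀ S₀ r • m = r • m :=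
    fun r m => IsScalarTower.algebraMap_smul S₀ r m
  intro inst1 inst2
  convert hfl₀ using 1
  exact Module.ext' _ _ fun r m =>
    (IsScalarTower.algebraMap_smul S₀ r m).symm.trans (key r m)

end Groth.Agent.FlatMor12.ApproxModule
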