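import Groth.Prelude.Def_Fitting
import Groth.Prelude.Def_FlatMod2
import Groth.Agent.FittLib.Local
import Groth.Agent.EGA43.QcohFP
import Groth.Agent.EGA43.InjFibre.PullSections
import Groth.Agent.Coherent.QcohLocal
import Groth.Agent.Coherent.SupportPullback
import Groth.Agent.Props12.FinLocFree
import Groth.Agent.ProjLib.IdealComap

/-!
# Fitting ideal sheaves of quasi-coherent modules of finite type
-/

set_option autoImplicit false
set_option linter.unusedSectionVars false

universe u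

open CategoryTheory CategoryTheory.Limits AlgebraicGeometry Opposite TopologicalSpace
open Groth.Agent.Coherent

namespace Groth.Agent.FlatMor12.FittSheaf

variable {X : Scheme.{u}} (F : X.Modules) [Coh.IsQCoh F]

theorem finite_affine (hF : CohB1.IsFT F) (U : X.affineOpens) :
    Module.Finite Γ(X, U.1) Γ(F, U.1) :=
  finite_sections F (locallyFinGen_of_isFT F hF) U.2

theorem map_ideal_basicOpen (hF : CohB1.IsFT F) (r : ℕ) (U : X.affineOpens) (f : Γ(X, U.1)) :
    (Fitt.ideal Γ(X, U.1) Γ(F, U.1) r).map (X.presheaf.map (homOfLE <| X.basicOpen_le f).op).hom =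
      Fitt.ideal Γ(X, X.basicOpen f) Γ(F, X.basicOpen f) r := by
  have := finite_affine F hF U
  let _ := (X.presheaf.map (homOfLE (X.basicOpen_le f)).op).hom.toAlgebra
  let _ := Module.compHom Γ(F, X.basicOpen f) (X.presheaf.map (homOfLE (X.basicOpen_le f)).op).hom
  have : IsScalarTower Γ(X, U.1) Γ(X, X.basicOpen f) Γ(F, X.basicOpen f) :=
    IsScalarTower.of_algebraMap_smul fun _ _ => rfl
  let φ : Γ(F, U.1) →ₗ[Γ(X, U.1)] Γ(F, X.basicOpen f) :=
    { toFun := fun m => resM F (X.basicOpen_le f) m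
      map_add' := fun a b => map_add _ a b
      map_smul' := fun a m => resM_smul F _ a m }
  have := EGA43.QcohFP.isLocalizedModule_res F U.2 f φ (fun _ => rfl)
  have := U.2.isLocalization_basicOpen f
  exact (FittLib.ideal_isBaseChange
    (IsLocalizedModule.isBaseChange (Submonoid.powers f) Γ(X, X.basicOpen f) φ) r).symm

/-- The affine values of the Fitting ideal sheaf are the Fitting ideals. -/
theorem ideal_eq (hF : CohB1.IsFT F) (r : ℕ) (U : X.affineOpens) :
    (Fitt.sheafIdeal F r).ideal U = Fitt.ideal Γ(X, U.1) Γ(F, U.1) r := by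
  let I : X.IdealSheafData :=
    { ideal := fun U => Fitt.ideal Γ(X, U.1) Γ(F, U.1) r
      map_ideal_basicOpen := fun U f => map_ideal_basicOpen F hF r U f }
  have h : Fitt.sheafIdeal F r = I := Scheme.IdealSheafData.ofIdeals_ideal I
  rw [h]

theorem isFiniteTypeIdeal (hF : CohB1.IsFP F) (r : ℕ) (U : X.affineOpens) :
    ((Fitt.sheafIdeal F r).ideal U).FG := by
  have hT : CohB1.IsFT F := by
    haveI : SheafOfModules.IsFinitePresentation (R := X.ringCatSheaf) F := hF
    exact inferInstanceAs (SheafOfModules.IsFiniteType (R := X.ringCatSheaf) F)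
  have := EGA43.QcohFP.finitePresentation_sections F hF U.2
  rw [ideal_eq F hT r U]
  exact FittLib.ideal_fg r

theorem sheafIdeal_mono (hF : CohB1.IsFT F) {k k' : ℕ} (h : k ≤ k') :
    Fitt.sheafIdeal F k ≤ Fitt.sheafIdeal F k' := by
  intro U
  have := finite_affine F hF U
  rw [ideal_eq F hF, ideal_eq F hF]
  exact FittLib.ideal_mono h

/-- Fitting ideal sheaves commute with inverse image. -/
theorem comap_eq {T : Scheme.{u}} (f : T ⟶ X) (hF : CohB1.IsFT F) (r : ℕ) :
    (Fitt.sheafIdeal F r).comap f = Fitt.sheafIdeal ((Scheme.Modules.pullback f).obj F) r := by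
  have := EGA43.InjFibre.isQCoh_pullback f F
  have hT := isFT_pullback_qcoh f (F := F) inferInstance hF
  refine Scheme.IdealSheafData.ext_of_iSup_eq_top
    (fun p : {p : T.affineOpens × X.affineOpens // (p.1 : T.Opens) ≤ f ⁻¹ᵁ (p.2 : X.Opens)} => p.1.1)
    ?_ ?_
  · refine eq_top_iff.2 fun x _ => ?_
    obtain ⟨V, hV, hfx, -⟩ := Opens.isBasis_iff_nbhd.mp X.isBasis_affineOpens (Opens.mem_top (f x))
    obtain ⟨U, hU, hxU, e⟩ := Opens.isBasis_iff_nbhd.mp T.isBasis_affineOpens
      (show x ∈ f ⁻¹ᵁ V from hfx)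
    exact Opens.mem_iSup.2 ⟨⟨(⟨U, hU⟩, ⟨V, hV⟩), e⟩, hxU⟩
  · rintro ⟨⟨U', U⟩, e⟩
    have := finite_affine F hF U
    rw [ProjLib.comap_ideal_eq _ f U U' e, ideal_eq F hF, ideal_eq _ hT]
    let _ := (f.appLE U.1 U'.1 e).hom.toAlgebra
    let _ := Module.compHom Γ((Scheme.Modules.pullback f).obj F, U'.1) (f.appLE U.1 U'.1 e).hom
    have : IsScalarTower Γ(X, U.1) Γ(T, U'.1) Γ((Scheme.Modules.pullback f).obj F, U'.1) :=
      IsScalarTower.of_algebraMap_smul fun _ _ => rfl
    obtain ⟨μ, hμ, -⟩ := EGA43.InjFibre.pullMap_isBaseChange f U.2 U'.2 e F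
    exact (FittLib.ideal_isBaseChange hμ r).symm

theorem eq_bot_of_cover (I : X.IdealSheafData)
    (h : ∀ x : X, ∃ U : X.affineOpens, x ∈ U.1 ∧ I.ideal U = ⊥) : I = ⊥ := by
  choose U hx hU using h
  refine Scheme.IdealSheafData.ext_of_iSup_eq_top U
    (eq_top_iff.2 fun x _ => Opens.mem_iSup.2 ⟨x, hx x⟩) fun x => ?_
  rw [hU]; simp

theorem eq_top_of_cover (I : X.IdealSheafData)
    (h : ∀ x : X, ∃ U : X.affineOpens, x ∈ U.1 ∧ I.ideal U = ⊤) : I = ⊤ := by
  choose U hx hU using h
  refine Scheme.IdealSheafData.ext_of_iSup_eq_top U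
    (eq_top_iff.2 fun x _ => Opens.mem_iSup.2 ⟨x, hx x⟩) fun x => ?_
  rw [hU]; simp

/-- Where the `r`-th Fitting ideal is the unit ideal, `r` sections generate. -/
theorem exists_span_nhd (hF : CohB1.IsFT F) {r : ℕ} {x : X}
    (hx : x ∉ (Fitt.sheafIdeal F r).support) :
    ∃ V : X.affineOpens, x ∈ V.1 ∧
      ∃ g : Fin r → Γ(F, V.1), Submodule.span Γ(X, V.1) (Set.range g) = ⊤ := by
  obtain ⟨U, hU, hxU, -⟩ := Opens.isBasis_iff_nbhd.mp X.isBasis_affineOpens (Opens.mem_top x)
  have := finite_affine F hF ⟨U, hU⟩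
  rw [Scheme.IdealSheafData.mem_support_iff_of_mem (U := ⟨U, hU⟩) hxU,
    Scheme.mem_zeroLocus_iff, ideal_eq F hF] at hx
  push Not at hx
  obtain ⟨d, hd, hxd⟩ := hx
  obtain ⟨D, g, hD, hg⟩ := FittLib.exists_not_mem_smul_mem_span
    (p := (hU.primeIdealOf ⟨x, hxU⟩).asIdeal) (R := Γ(X, U)) (M := Γ(F, U)) (k := r)
    fun hle => (EGA43.InjFibre.mem_basicOpen_iff_notMem hU hxU d).1 hxd (hle hd)
  refine ⟨⟨X.basicOpen D, hU.basicOpen D⟩, (EGA43.InjFibre.mem_basicOpen_iff_notMem hU hxU D).2 hD,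
    fun i => resM F (X.basicOpen_le D) (g i), eq_top_iff.2 fun y _ => ?_⟩
  obtain ⟨n, t, ht⟩ := qcoh_exists_pow_smul hU F D y
  obtain ⟨c, hc⟩ := (Submodule.mem_span_range_iff_exists_fun Γ(X, U)).1 (hg t)
  have hmem : resM F (X.basicOpen_le D) (D • t) ∈
      Submodule.span Γ(X, X.basicOpen D) (Set.range fun i => resM F (X.basicOpen_le D) (g i)) := by
    rw [← hc, map_sum]
    refine Submodule.sum_mem _ fun i _ => ?_
    rw [resM_smul]
    exact Submodule.smul_mem _ _ (Submodule.subset_span ⟨i, rfl⟩)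
  rw [resM_smul, ht, smul_smul, ← map_mul, ← pow_succ'] at hmem
  exact (Submodule.smul_mem_iff_of_isUnit _
    (isUnit_res_pow D (X.basicOpen_le D) le_rfl (n + 1))).1 hmem

/-- Surjectivity on affine sections of an epimorphism of quasi-coherent modules. -/
theorem surjective_app_of_epi' {M N : X.Modules} [Coh.IsQCoh M] [Coh.IsQCoh N] (φ : M ⟶ N) [Epi φ]
    {U : X.Opens} (hU : IsAffineOpen U) : Function.Surjective (φ.app U) := by
  let S : ShortComplex X.Modules := ShortComplex.mk (kernel.ι φ) φ (kernel.condition φ)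
  have : Epi S.g := ‹Epi φ›
  have : Mono S.f := inferInstanceAs (Mono (kernel.ι φ))
  have hS : S.ShortExact :=
    { exact := S.exact_of_f_is_kernel (kernelIsKernel φ) }
  have : Coh.IsQCoh S.X₂ := ‹Coh.IsQCoh M›
  have : Coh.IsQCoh S.X₃ := ‹Coh.IsQCoh N›
  have : Coh.IsQCoh S.X₁ := isQCoh_X₁ hS
  exact sections_surjective hS hU

/-- Generation by `r` sections near `x` is detected by the `r`-th Fitting ideal. -/
theorem generated_iff (hF : CohB1.IsFT F) (s : X) (r : ℕ) :
    (∃ U : X.Opens, s ∈ U ∧ ∃ π : FlatMod.freeMod U.toScheme r ⟶ F.restrict U.ι, Epi π) ↔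
      s ∉ (Fitt.sheafIdeal F r).support := by
  classical
  constructor
  · rintro ⟨U, hsU, π, hπ⟩
    obtain ⟨V, hV, hsV, -⟩ := Opens.isBasis_iff_nbhd.mp U.toScheme.isBasis_affineOpens
      (Opens.mem_top (⟨s, hsU⟩ : U.toScheme))
    have hFU : Coh.IsQCoh (F.restrict U.ι) := inferInstance
    have := isQCoh_freeMod (X := U.toScheme) (I := ULift.{u} (Fin r))
    let ρ : Coherent.freeMod U.toScheme (ULift.{u} (Fin r)) ⟶ F.restrict U.ι :=
      (Props12.freeModIso U.toScheme r).hom ≫ π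
    have : Epi ρ := epi_comp _ _
    have hsurj := surjective_app_of_epi' ρ hV
    let W : X.affineOpens := ⟨U.ι ''ᵁ V, hV.image_of_isOpenImmersion _⟩
    have hsW : s ∈ W.1 := ⟨⟨s, hsU⟩, hsV, rfl⟩
    let e : ULift.{u} (Fin r) → Γ(Coherent.freeMod U.toScheme (ULift.{u} (Fin r)), V) :=
      fun i => (freeSectionsEquiv V).symm (Pi.single i 1)
    let x : Fin r → Γ(F, U.ι ''ᵁ V) := fun i =>
      (F.restrictAppIso U.ι V).hom (ρ.app V (e ⟨i⟩))
    have hx : Submodule.span Γ(X, U.ι ''ᵁ V) (Set.range x) = ⊤ := by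
      refine eq_top_iff.2 fun y _ => ?_
      obtain ⟨w, hw⟩ := hsurj ((F.restrictAppIso U.ι V).inv y)
      have hy : y = (F.restrictAppIso U.ι V).hom (ρ.app V w) := by
        rw [hw, ← ConcreteCategory.comp_apply, Iso.inv_hom_id]; rfl
      have hw' : w = ∑ i, freeSectionsEquiv V w i • e i := by
        apply (freeSectionsEquiv V).injective
        simp [e, map_sum, map_smul, Finset.univ_sum_single, ← Pi.single_smul]
      rw [hy, hw', map_sum, map_sum]
      refine Submodule.sum_mem _ fun i _ => ?_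
      rw [Scheme.Modules.Hom.app_smul, Scheme.Modules.smul_restrictAppIso_hom_apply]
      exact Submodule.smul_mem _ _ (Submodule.subset_span ⟨i.down, rfl⟩)
    rw [Scheme.IdealSheafData.mem_support_iff_of_mem (U := W) hsW, Scheme.mem_zeroLocus_iff,
      ideal_eq F hF, FittLib.ideal_eq_top_of_span x hx le_rfl]
    intro h
    exact h 1 trivial (by rwa [X.basicOpen_of_isUnit isUnit_one])
  · intro hs
    obtain ⟨V, hsV, g, hg⟩ := exists_span_nhd F hF hs
    have hgen : GenOn F V.1 (fun i : ULift.{u} (Fin r) => g i.down) := by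
      refine genOn_of_span_top F V.2 _ ?_
      rwa [show Set.range (fun i : ULift.{u} (Fin r) => g i.down) = Set.range g from
        Equiv.ulift.surjective.range_comp g]
    let t : ULift.{u} (Fin r) → Γ(F.restrict V.1.ι, ⊤) := fun i =>
      (F.restrictAppIso V.1.ι ⊤).inv (resM F (Scheme.Opens.ι_image_top V.1).le (g i.down))
    have he : Epi (freeDesc fun i => unitDesc (F.restrict V.1.ι) (t i)) := epi_of_genOn_top
      (genOn_restrict_of_genOn V.1.ι F (U := ⊤) (hgen.res (Scheme.Opens.ι_image_top V.1).le))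
    exact ⟨V.1, hsV, (Props12.freeModIso V.1.toScheme r).inv ≫
      freeDesc (fun i => unitDesc (F.restrict V.1.ι) (t i)), epi_comp _ _⟩

/-- Finite locally free of rank `r` in terms of Fitting ideals. -/
theorem isFinLocFreeOfRank_iff (hF : CohB1.IsFT F) (r : ℕ) :
    FlatMod.IsFinLocFreeOfRank r F ↔
      (∀ k : ℕ, k < r → Fitt.sheafIdeal F k = ⊥) ∧ (∀ k : ℕ, r ≤ k → Fitt.sheafIdeal F k = ⊤) := by
  constructor
  · intro h
    have hb : ∀ x : X, ∃ W : X.affineOpens, x ∈ W.1 ∧
        Nonempty (Module.Basis (Fin r) Γ(X, W.1) Γ(F, W.1)) := fun x => by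
      obtain ⟨U, hxU, ⟨e⟩⟩ := h x
      obtain ⟨W, hW, hxW, hWU⟩ := Opens.isBasis_iff_nbhd.mp X.isBasis_affineOpens hxU
      exact ⟨⟨W, hW⟩, hxW, Props12.exists_basis_sections e hWU⟩
    refine ⟨fun k hk => eq_bot_of_cover _ fun x => ?_, fun k hk => eq_top_of_cover _ fun x => ?_⟩
    · obtain ⟨W, hxW, ⟨b⟩⟩ := hb x
      exact ⟨W, hxW, (ideal_eq F hF k W).trans (FittLib.ideal_eq_bot_of_basis b hk)⟩
    · obtain ⟨W, hxW, ⟨b⟩⟩ := hb x
      exact ⟨W, hxW, (ideal_eq F hF k W).trans (FittLib.ideal_eq_top_of_span b b.span_eq hk)⟩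
  · rintro ⟨h0, h1⟩ x
    obtain ⟨V, hxV, g, hg⟩ := exists_span_nhd F hF (r := r) (x := x) (by
      rw [h1 r le_rfl, Scheme.IdealSheafData.support_top]; exact fun h => h)
    have hli : LinearIndependent Γ(X, V.1) g := by
      refine FittLib.linearIndependent_of_ideal_eq_bot g hg ?_
      rcases Nat.eq_zero_or_pos r with hr | hr
      · exact Or.inl hr
      · refine Or.inr ?_
        rw [← ideal_eq F hF, h0 (r - 1) (by omega)]
        rfl
    obtain ⟨b⟩ := Props12.exists_basis_restrict_top F V.1 (Module.Basis.mk hli hg.ge)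
    have : IsAffine V.1.toScheme := V.2
    exact ⟨V.1, hxV, Props12.exists_iso_freeMod_of_basis (F.restrict V.1.ι) b⟩

/-- The locus where the pullback is finite locally free of rank `r` is represented by a subscheme. -/
theorem exists_immersion (hF : CohB1.IsFT F) (r : ℕ) :
    ∃ (Z : Scheme.{u}) (i : Z ⟶ X), IsImmersion i ∧ ∀ (T : Scheme.{u}) (f : T ⟶ X),
      (∃ g : T ⟶ Z, g ≫ i = f) ↔
        FlatMod.IsFinLocFreeOfRank r ((Scheme.Modules.pullback f).obj F) := by
  let I : X.IdealSheafData := if r = 0 then ⊥ else Fitt.sheafIdeal F (r - 1)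
  let U : X.Opens := (Fitt.sheafIdeal F r).support.compl
  refine ⟨(I.comap U.ι).subscheme, (I.comap U.ι).subschemeι ≫ U.ι, inferInstance, fun T f => ?_⟩
  have hq := EGA43.InjFibre.isQCoh_pullback f F
  have hT := isFT_pullback_qcoh f (F := F) inferInstance hF
  have key : FlatMod.IsFinLocFreeOfRank r ((Scheme.Modules.pullback f).obj F) ↔
      (I.comap f = ⊥ ∧ (Fitt.sheafIdeal F r).comap f = ⊤) := by
    rw [isFinLocFreeOfRank_iff _ hT]
    simp only [← comap_eq F f hF]
    constructor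
    · rintro ⟨h0, h1⟩
      refine ⟨?_, h1 r le_rfl⟩
      show (ite _ _ _ : X.IdealSheafData).comap f = ⊥
      split_ifs with hr
      · exact Scheme.IdealSheafData.comap_bot f
      · exact h0 (r - 1) (by omega)
    · rintro ⟨h0, h1⟩
      refine ⟨fun k hk => le_bot_iff.1 ?_, fun k hk => top_le_iff.1 ?_⟩
      · have e : I = Fitt.sheafIdeal F (r - 1) := if_neg (by omega)
        rw [← h0, e]
        exact Scheme.IdealSheafData.comap_mono f (sheafIdeal_mono F hF (by omega))
      · rw [← h1]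
        exact Scheme.IdealSheafData.comap_mono f (sheafIdeal_mono F hF hk)
  rw [key]
  constructor
  · rintro ⟨g, rfl⟩
    constructor
    · rw [Scheme.IdealSheafData.comap_comp, Scheme.IdealSheafData.comap_comp]
      have : (I.comap U.ι).comap (I.comap U.ι).subschemeι = ⊥ := by
        refine le_bot_iff.1 (Scheme.IdealSheafData.le_map_iff_comap_le.1 ?_)
        rw [Scheme.IdealSheafData.map_bot, Scheme.IdealSheafData.ker_subschemeι]
      rw [this, Scheme.IdealSheafData.comap_bot]
    · rw [Scheme.IdealSheafData.comap_comp, Scheme.IdealSheafData.comap_comp]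
      have : (Fitt.sheafIdeal F r).comap U.ι = ⊤ := by
        rw [← Scheme.IdealSheafData.support_eq_bot_iff, Scheme.IdealSheafData.support_comap]
        exact le_bot_iff.1 fun y hy => (y.2 hy)
      rw [this, Scheme.IdealSheafData.comap_top, Scheme.IdealSheafData.comap_top]
  · rintro ⟨h0, h1⟩
    have hr : Set.range f ⊆ U.ι.opensRange := by
      rw [Scheme.Opens.opensRange_ι]
      rintro _ ⟨t, rfl⟩ ht
      have : t ∈ ((Fitt.sheafIdeal F r).comap f).support := by
        rw [Scheme.IdealSheafData.support_comap]; exact ht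
      rw [h1, Scheme.IdealSheafData.support_top] at this
      exact this
    let g₀ := IsOpenImmersion.lift U.ι f hr
    have hg₀ : g₀ ≫ U.ι = f := IsOpenImmersion.lift_fac _ _ _
    have hle : (I.comap U.ι).subschemeι.ker ≤ g₀.ker := by
      rw [Scheme.IdealSheafData.ker_subschemeι, ← Scheme.IdealSheafData.map_bot,
        Scheme.IdealSheafData.le_map_iff_comap_le, ← Scheme.IdealSheafData.comap_comp, hg₀, h0]
    exact ⟨IsClosedImmersion.lift _ g₀ hle, by
      rw [← Category.assoc, IsClosedImmersion.lift_fac, hg₀]⟩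

end Groth.Agent.FlatMor12.FittSheaf
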