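import Groth.Agent.FlatMor12.MorSFree
import Groth.Agent.Misc15.OverGlue
import Groth.Prelude.Def_Mor2
import Mathlib.AlgebraicGeometry.Morphisms.Finite
import Mathlib.AlgebraicGeometry.Morphisms.Flat
import Mathlib.AlgebraicGeometry.Morphisms.FinitePresentation
import Mathlib.RingTheory.Finiteness.ModuleFinitePresentation
import Mathlib.RingTheory.Flat.EquationalCriterion
import Mathlib.CategoryTheory.Sites.SubcanonicalOver

/-!
# Relative morphisms out of a finite locally free scheme into a relatively affine scheme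
-/

set_option autoImplicit false
set_option backward.isDefEq.respectTransparency false
set_option linter.style.haveILetI false

universe u

open CategoryTheory CategoryTheory.Limits AlgebraicGeometry Opposite

namespace Groth.Agent.FlatMor12.MorSLocal

variable {Z X S : Scheme.{u}} (g : Z ⟶ S) (f : X ⟶ S)

theorem isSheaf_morS : Presheaf.IsSheaf (Scheme.zariskiTopology.over S) (Flatn.morS g f) := by
  have h : Presheaf.IsSheaf (Scheme.zariskiTopology.over S) (yoneda.obj (Over.mk f)) :=
    (isSheaf_iff_isSheaf_of_type _ _).2 (GrothendieckTopology.Subcanonical.isSheaf_of_isRepresentable _)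
  have := Functor.isContinuous_comp (Over.pullback g) (Over.map g) (Scheme.zariskiTopology.over S)
    (Scheme.zariskiTopology.over Z) (Scheme.zariskiTopology.over S)
  exact (Over.pullback g ⋙ Over.map g).op_comp_isSheaf (Scheme.zariskiTopology.over S)
    (Scheme.zariskiTopology.over S) ⟨_, h⟩

/-- A finite locally free morphism to an affine scheme has projective sections. -/
theorem finite_projective [IsAffine S] [IsAffine Z] (hg : Mor2.IsFinLocFree g) :
    letI := g.appTop.hom.toAlgebra
    Module.Finite Γ(S, ⊤) Γ(Z, ⊤) ∧ Module.Projective Γ(S, ⊤) Γ(Z, ⊤) := by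
  obtain ⟨h1, h2, h3⟩ := hg
  let _ := g.appTop.hom.toAlgebra
  have hf1 : Module.Finite Γ(S, ⊤) Γ(Z, ⊤) := g.finite_appTop
  have hf2 : Module.Flat Γ(S, ⊤) Γ(Z, ⊤) := (HasRingHomProperty.iff_of_isAffine (P := @Flat)).1 h2
  have hf3 : Algebra.FinitePresentation Γ(S, ⊤) Γ(Z, ⊤) :=
    (HasRingHomProperty.iff_of_isAffine (P := @LocallyOfFinitePresentation)).1 h3
  have := Module.FinitePresentation.of_finite_of_finitePresentation Γ(S, ⊤) Γ(Z, ⊤)
  exact ⟨hf1, Module.Flat.projective_of_finitePresentation⟩

/-- Representability over affine bases. -/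
theorem exists_representableBy_affine [IsAffine S] [IsAffine Z] [IsAffine X] (hg : Mor2.IsFinLocFree g) :
    ∃ W : Over S, IsAffine W.left ∧ Nonempty ((Flatn.morS g f).RepresentableBy W) := by
  let _ := g.appTop.hom.toAlgebra
  let _ := f.appTop.hom.toAlgebra
  obtain ⟨hfin, hproj⟩ := finite_projective g hg
  obtain ⟨n, p, hp⟩ := Module.Finite.exists_fin' Γ(S, ⊤) Γ(Z, ⊤)
  obtain ⟨s, hs⟩ := Module.projective_lifting_property p LinearMap.id hp
  let ι : Type u := ULift.{u} (Fin n)
  let b : ι → Γ(Z, ⊤) := fun j => p (Pi.single j.down 1)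
  let φ : ι → Γ(Z, ⊤) →ₗ[Γ(S, ⊤)] Γ(S, ⊤) := fun j => (LinearMap.proj j.down).comp s
  have hbφ : ∀ x, ∑ j, φ j x • b j = x := fun x => by
    conv_rhs => rw [← show p (s x) = x from LinearMap.congr_fun hs x, pi_eq_sum_univ' (s x), map_sum]
    refine Fintype.sum_equiv Equiv.ulift _ _ fun j => ?_
    simp [b, φ]
  exact ⟨MorSFree.W (X := X) b φ, MorSFree.isAffine_W _ _, ⟨MorSFree.representableBy g f rfl rfl b φ hbφ⟩⟩

section Open

variable {S' : Scheme.{u}} (h : S' ⟶ S)

/-- Products over a base change. -/
theorem isPullback_paste (T : Over S') :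
    IsPullback (pullback.fst T.hom (pullback.snd g h))
      (pullback.snd T.hom (pullback.snd g h) ≫ pullback.fst g h) (T.hom ≫ h) g :=
  (IsPullback.of_hasPullback T.hom (pullback.snd g h)).paste_vert (IsPullback.of_hasPullback g h).flip

/-- Base change of the product. -/
noncomputable def mapIso (T : Over S') :
    (Over.map h).obj ((Over.map (pullback.snd g h)).obj ((Over.pullback (pullback.snd g h)).obj T)) ≅
      (Over.map g).obj ((Over.pullback g).obj ((Over.map h).obj T)) :=
  Over.isoMk (isPullback_paste g h T).isoPullback (by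
    show (isPullback_paste g h T).isoPullback.hom ≫ pullback.snd (T.hom ≫ h) g ≫ g =
      (pullback.snd T.hom (pullback.snd g h) ≫ (pullback.snd g h)) ≫ h
    rw [IsPullback.isoPullback_hom_snd_assoc, Category.assoc, Category.assoc, pullback.condition])

theorem mapIso_hom_naturality {T T' : Over S'} (t : T ⟶ T') :
    (Over.map h).map ((Over.map (pullback.snd g h)).map ((Over.pullback (pullback.snd g h)).map t)) ≫ (mapIso g h T').hom =
      (mapIso g h T).hom ≫ (Over.map g).map ((Over.pullback g).map ((Over.map h).map t)) := by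
  ext
  apply pullback.hom_ext
  · simp [mapIso]
  · simp [mapIso]

/-- The functor of the base change is the restriction. -/
noncomputable def restrictEquiv (T : Over S') :
    (Flatn.morS (pullback.snd g h) (pullback.snd f h)).obj (op T) ≃ (Flatn.morS g f).obj (op ((Over.map h).obj T)) :=
  ((Over.mapPullbackAdj h).homEquiv _ (Over.mk f)).symm.trans ((mapIso g h T).homFromEquiv)

theorem restrictEquiv_map {T T' : Over S'} (t : T ⟶ T')
    (x : (Flatn.morS (pullback.snd g h) (pullback.snd f h)).obj (op T')) :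
    restrictEquiv g f h T ((Flatn.morS (pullback.snd g h) (pullback.snd f h)).map t.op x) =
      (Flatn.morS g f).map ((Over.map h).map t).op (restrictEquiv g f h T' x) := by
  show (mapIso g h T).inv ≫ ((Over.mapPullbackAdj h).homEquiv _ (Over.mk f)).symm (_ ≫ x) =
    (Over.map g).map ((Over.pullback g).map ((Over.map h).map t)) ≫
      (mapIso g h T').inv ≫ ((Over.mapPullbackAdj h).homEquiv _ (Over.mk f)).symm x
  rw [Adjunction.homEquiv_naturality_left_symm, Iso.inv_comp_eq, ← reassoc_of% mapIso_hom_naturality g h t,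
    Iso.hom_inv_id_assoc]
  rfl

/-- The piece over an open. -/
theorem exists_piece (hm : Mono h) {W : Over S'}
    (e : (Flatn.morS (pullback.snd g h) (pullback.snd f h)).RepresentableBy W) :
    ∃ j : yoneda.obj ((Over.map h).obj W) ⟶ Flatn.morS g f,
      (∀ (T : Over S) (z z' : T ⟶ (Over.map h).obj W), j.app (op T) z = j.app (op T) z' → z = z') ∧
      ∀ (T : Over S) (t : T.left ⟶ S') (_ : t ≫ h = T.hom) (x : (Flatn.morS g f).obj (op T)),
        ∃ z : T ⟶ (Over.map h).obj W, j.app (op T) z = x := by
  let el := restrictEquiv g f h W (e.homEquiv (𝟙 W))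
  let j : yoneda.obj ((Over.map h).obj W) ⟶ Flatn.morS g f := yonedaEquiv.symm el
  have hj : ∀ (T : Over S) (z : T ⟶ (Over.map h).obj W), j.app (op T) z = (Flatn.morS g f).map z.op el :=
    fun T z => rfl
  have hje : ∀ (T' : Over S') (z' : T' ⟶ W),
      (Flatn.morS g f).map ((Over.map h).map z').op el = restrictEquiv g f h T' (e.homEquiv z') := fun T' z' => by
    rw [show e.homEquiv z' = _ from (congrArg e.homEquiv (Category.comp_id z').symm).trans (e.homEquiv_comp z' (𝟙 W)),
      restrictEquiv_map]
  refine ⟨j, fun T z z' hzz => ?_, fun T t ht x => ?_⟩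
  · have hz : z.left ≫ W.hom = z'.left ≫ W.hom := by
      rw [← cancel_mono h, Category.assoc, Category.assoc]
      exact (Over.w z).trans (Over.w z').symm
    let T' : Over S' := Over.mk (z.left ≫ W.hom)
    let c : (Over.map h).obj T' ⟶ T := Over.homMk (𝟙 T.left)
      ((Category.id_comp _).trans ((Over.w z).symm.trans (Category.assoc _ _ _).symm))
    let a : T' ⟶ W := Over.homMk z.left rfl
    let a' : T' ⟶ W := Over.homMk z'.left hz.symm
    have ha : c ≫ z = (Over.map h).map a := Over.OverMorphism.ext (Category.id_comp _)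
    have ha' : c ≫ z' = (Over.map h).map a' := Over.OverMorphism.ext (Category.id_comp _)
    rw [hj, hj] at hzz
    have h2 := congrArg ((Flatn.morS g f).map c.op) hzz
    rw [← Functor.map_comp_apply, ← Functor.map_comp_apply, ← op_comp, ← op_comp, ha, ha', hje, hje] at h2
    have h3 : a = a' := e.homEquiv.injective ((restrictEquiv g f h T').injective h2)
    have h4 : z.left = z'.left := (congrArg (fun m : T' ⟶ W => m.left) h3 :)
    exact Over.OverMorphism.ext h4
  · let T' : Over S' := Over.mk t
    let c : (Over.map h).obj T' ⟶ T := Over.homMk (𝟙 T.left) ((Category.id_comp _).trans ht.symm)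
    let c' : T ⟶ (Over.map h).obj T' := Over.homMk (𝟙 T.left) ((Category.id_comp _).trans ht)
    let a : T' ⟶ W := e.homEquiv.symm ((restrictEquiv g f h T').symm ((Flatn.morS g f).map c.op x))
    refine ⟨c' ≫ (Over.map h).map a, ?_⟩
    rw [hj, op_comp, Functor.map_comp_apply, hje, Equiv.apply_symm_apply, Equiv.apply_symm_apply,
      ← Functor.map_comp_apply, ← op_comp, show c' ≫ c = 𝟙 T from Over.OverMorphism.ext (Category.id_comp _),
      op_id, Functor.map_id_apply]

end Open

/-- Representability by a scheme affine over the base. -/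
theorem exists_representableBy (hg : Mor2.IsFinLocFree g) [IsAffineHom f] :
    ∃ W : Over S, IsAffineHom W.hom ∧ Nonempty ((Flatn.morS g f).RepresentableBy W) := by
  obtain ⟨hg1, hg2, hg3⟩ := hg
  let U : S.affineOpens → S.Opens := fun i => i.1
  have : ∀ i : S.affineOpens, ∃ Wi : Over (i.1 : Scheme.{u}), IsAffine Wi.left ∧
      Nonempty ((Flatn.morS (pullback.snd g i.1.ι) (pullback.snd f i.1.ι)).RepresentableBy Wi) := fun i => by
    have : IsAffine (i.1 : Scheme.{u}) := i.2
    have : IsAffine (pullback g i.1.ι) := isAffine_of_isAffineHom (pullback.snd g i.1.ι)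
    have : IsAffine (pullback f i.1.ι) := isAffine_of_isAffineHom (pullback.snd f i.1.ι)
    exact exists_representableBy_affine _ _ ⟨inferInstance, inferInstance, inferInstance⟩
  choose Wi hWi e using this
  choose j hinj hsurj using fun i : S.affineOpens => exists_piece g f i.1.ι inferInstance (e i).some
  let Zi := fun i : S.affineOpens => (Over.map i.1.ι).obj (Wi i)
  let p : Flatn.morS g f ⟶ yoneda.obj (Over.mk (𝟙 S)) :=
    { app := fun T => TypeCat.ofHom fun _ => Over.homMk (unop T).hom (Category.comp_id _)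
      naturality := fun T T' t => by
        ext
        exact Over.OverMorphism.ext (Over.w t.unop).symm }
  have hlift : ∀ (i : S.affineOpens) (T : Over S), Set.range T.hom ⊆ (i.1 : Set S) →
      ∃ t : T.left ⟶ i.1, t ≫ i.1.ι = T.hom := fun i T hT => by
    have hr : Set.range T.hom ⊆ Set.range i.1.ι := by rwa [Scheme.Opens.range_ι]
    exact ⟨IsOpenImmersion.lift i.1.ι T.hom hr, IsOpenImmersion.lift_fac _ _ _⟩
  obtain ⟨W, ⟨eW⟩⟩ := Misc15.OverGlue.exists_representableBy (Flatn.morS g f) p U (fun T φ => by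
      rw [eq_top_iff]
      intro x _
      obtain ⟨V, hV, hx, -⟩ := exists_isAffineOpen_mem_and_subset (x := T.hom x) (U := ⊤) trivial
      exact TopologicalSpace.Opens.mem_iSup.2 ⟨⟨V, hV⟩, hx⟩)
    Zi j hinj (fun i T z => by
      show Set.range T.hom ⊆ _
      rw [← Over.w z]
      rintro _ ⟨x, rfl⟩
      exact ((Wi i).hom (z.left x)).2)
    (fun i T φ hT => by
      obtain ⟨t, ht⟩ := hlift i T hT
      exact hsurj i T t ht φ) (isSheaf_morS g f)
  refine ⟨W, (HasAffineProperty.eq_targetAffineLocally @IsAffineHom) ▸ ?_, ⟨eW⟩⟩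
  intro i
  -- the preimage of `i` is the piece over `i`
  let P : Over S := Over.mk ((W.hom ⁻¹ᵁ i.1).ι ≫ W.hom)
  let incl : P ⟶ W := Over.homMk (W.hom ⁻¹ᵁ i.1).ι rfl
  let a : Zi i ⟶ W := eW.homEquiv.symm ((j i).app (op (Zi i)) (𝟙 _))
  have hja : ∀ (T : Over S) (z : T ⟶ Zi i), eW.homEquiv (z ≫ a) = (j i).app (op T) z := fun T z => by
    rw [eW.homEquiv_comp, Equiv.apply_symm_apply]
    have h := NatTrans.naturality_apply (j i) z.op (𝟙 (Zi i))
    refine h.symm.trans (congrArg ((j i).app (op T)) ?_)
    exact Category.comp_id z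
  have hP : Set.range P.hom ⊆ (i.1 : Set S) := by
    rintro _ ⟨x, rfl⟩
    exact x.2
  obtain ⟨t, ht⟩ := hlift i P hP
  obtain ⟨b, hb⟩ := hsurj i P t ht (eW.homEquiv incl)
  have hab : b ≫ a = incl := eW.homEquiv.injective ((hja P b).trans hb)
  have har : Set.range a.left ⊆ Set.range (W.hom ⁻¹ᵁ i.1).ι := by
    rw [Scheme.Opens.range_ι]
    rintro _ ⟨x, rfl⟩
    show W.hom (a.left x) ∈ i.1
    rw [← Scheme.Hom.comp_apply, Over.w a]
    exact ((Wi i).hom x).2
  let a' : Zi i ⟶ P := Over.homMk (IsOpenImmersion.lift _ a.left har) (by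
    show _ ≫ _ ≫ W.hom = _
    rw [IsOpenImmersion.lift_fac_assoc, Over.w a])
  have ha' : a' ≫ incl = a := Over.OverMorphism.ext (IsOpenImmersion.lift_fac _ _ _)
  have h1 : a' ≫ b = 𝟙 _ := hinj i _ _ _ (by
    rw [← hja, ← hja, Category.id_comp, Category.assoc, hab, ha'])
  have h2 : b ≫ a' = 𝟙 _ := by
    have : Mono incl := Over.mono_of_mono_left incl
    rw [← cancel_mono incl, Category.assoc, ha', hab, Category.id_comp]
  have : IsAffine (Zi i).left := hWi i
  have : IsIso b.left := ⟨a'.left, congrArg Over.Hom.left h2, congrArg Over.Hom.left h1⟩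
  exact IsAffine.of_isIso b.left

end Groth.Agent.FlatMor12.MorSLocal
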