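import Groth.Agent.Misc15.OverGlue
import Mathlib.CategoryTheory.Limits.Types.Pullbacks
import Mathlib.CategoryTheory.Limits.FunctorCategory.Shapes.Pullbacks
import Mathlib.CategoryTheory.Sites.Over

/-! A Zariski sheaf on schemes over `S` covered by representable open subfunctors (variant of `OverGlue`). -/

set_option autoImplicit false
universe u

open CategoryTheory AlgebraicGeometry Opposite

noncomputable section

namespace Groth.Agent.FlatMor12.OverGlue2

open Groth.Agent.Misc15.OverGlue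

variable {S : Scheme.{u}} (F : (Over S)ᵒᵖ ⥤ Type u)

/-- gluing open subfunctors represented by schemes -/
theorem exists_representableBy_of_openPieces {ι : Type u}
    (Z : ι → Over S) (j : ∀ i, (yoneda.obj (Z i) : (Over S)ᵒᵖ ⥤ Type u) ⟶ F)
    (hinj : ∀ i (T : Over S) (z z' : T ⟶ Z i), (j i).app (op T) z = (j i).app (op T) z' → z = z')
    (V : ι → ∀ T : Over S, F.obj (op T) → T.left.Opens)
    (hcov : ∀ (T : Over S) (φ : F.obj (op T)), ⨆ i, V i T φ = ⊤)
    (hV : ∀ i {T T' : Over S} (t : T' ⟶ T) (φ : F.obj (op T)),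
      (∃ z : T' ⟶ Z i, (j i).app (op T') z = F.map t.op φ) ↔
        Set.range t.left ⊆ (V i T φ : Set T.left))
    (hF : Presheaf.IsSheaf (Scheme.zariskiTopology.over S) F) :
    ∃ W : Over S, Nonempty (F.RepresentableBy W) := by
  classical
  have jnat : ∀ i {T T' : Over S} (t : T' ⟶ T) (z : T ⟶ Z i),
      (j i).app (op T') (t ≫ z) = F.map t.op ((j i).app (op T) z) :=
    fun i T T' t z => ConcreteCategory.congr_hom ((j i).naturality t.op) z
  have jmap : ∀ i {A B : Over S} (t : A ⟶ B) (z : B ⟶ Z i) (z' : A ⟶ Z i), t.left ≫ z.left = z'.left →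
      F.map t.op ((j i).app (op B) z) = (j i).app (op A) z' := fun i A B t z z' h =>
    (jnat i t z).symm.trans (congrArg ((j i).app (op A)) (Over.OverMorphism.ext h))
  let G : Sheaf Scheme.zariskiTopology.{u} (Type u) := ⟨total F, isSheaf_total F hF⟩
  let f : ∀ i, yoneda.obj (Z i).left ⟶ G.1 := fun i =>
    { app := fun T => TypeCat.ofHom fun z =>
        ⟨z ≫ (Z i).hom, (j i).app (op (Over.mk (z ≫ (Z i).hom))) (Over.homMk z rfl)⟩
      naturality := fun T T' t => ConcreteCategory.hom_ext _ _ fun z => sigma_ext F _ _ (Category.assoc _ _ _) (by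
        show (j i).app _ _ = F.map _ (F.map _ ((j i).app _ _))
        let z' : unop T ⟶ (Z i).left := z
        refine Eq.trans ?_ (congrArg _ (jmap i _ _ (Over.homMk (t.unop ≫ z') (Category.assoc _ _ _)) rfl)).symm
        exact (jmap i _ _ _ (Category.id_comp _)).symm) }
  have hf : ∀ i, IsOpenImmersion.presheaf (f i) := by
    intro i
    refine MorphismProperty.relative.of_exists fun T g => ?_
    let e := (g.app (op T)) (𝟙 T)
    let s : T ⟶ S := base F e
    let V' : T.Opens := V i (Over.mk s) e.2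
    have hg : ∀ (W : Scheme.{u}) (a : W ⟶ T), (g.app (op W)) a = (total F).map a.op e := by
      intro W a
      have h1 : g.app (op W) ((yoneda.obj T).map a.op (𝟙 T)) = (total F).map a.op (g.app (op T) (𝟙 T)) :=
        ConcreteCategory.congr_hom (g.naturality a.op) (𝟙 T)
      have h2 : (yoneda.obj T).map a.op (𝟙 T) = a := Category.comp_id a
      rwa [h2] at h1
    let r : Over.mk (V'.ι ≫ s) ⟶ Over.mk s := Over.homMk V'.ι rfl
    obtain ⟨z₀, hz₀⟩ := (hV i r e.2).2 (by
      rintro _ ⟨v, rfl⟩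
      exact v.2)
    refine ⟨V', yoneda.map z₀.left, V'.ι, ?_, inferInstance⟩
    refine IsPullback.of_forall_isPullback_app fun W => ?_
    rw [Limits.Types.isPullback_iff]
    refine ⟨?_, fun a b h => (cancel_mono V'.ι).1 h.2, fun z a h => ?_⟩
    · refine ConcreteCategory.hom_ext _ _ fun a => ?_
      let a' : unop W ⟶ (V' : Scheme.{u}) := a
      refine Eq.trans ?_ (hg _ (a' ≫ V'.ι)).symm
      refine sigma_ext F _ _ (by
        show (a' ≫ z₀.left) ≫ (Z i).hom = (a' ≫ V'.ι) ≫ s
        rw [Category.assoc, Over.w z₀, Category.assoc]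
        rfl) ?_
      let t : Over.mk ((a' ≫ z₀.left) ≫ (Z i).hom) ⟶ Over.mk (V'.ι ≫ s) := Over.homMk a' (by
        show a' ≫ V'.ι ≫ s = (a' ≫ z₀.left) ≫ (Z i).hom
        rw [Category.assoc, Over.w z₀]
        rfl)
      let z' : Over.mk ((a' ≫ z₀.left) ≫ (Z i).hom) ⟶ Z i := Over.homMk (a' ≫ z₀.left) rfl
      show (j i).app (op (Over.mk ((a' ≫ z₀.left) ≫ (Z i).hom))) z' = F.map _ (F.map _ e.2)
      refine ((jmap i t z₀ _ rfl).symm.trans (congrArg (F.map t.op) hz₀)).trans ?_
      refine (map_map F t r (Over.homMk (a' ≫ V'.ι) (by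
        show (a' ≫ V'.ι) ≫ s = (a' ≫ z₀.left) ≫ (Z i).hom
        rw [Category.assoc, Category.assoc, Over.w z₀]
        rfl)) rfl e.2).trans ?_
      exact (map_map F _ _ _ (Category.id_comp _) e.2).symm
    · let z' : unop W ⟶ (Z i).left := z
      let a' : unop W ⟶ T := a
      have hh : (⟨z' ≫ (Z i).hom, (j i).app (op (Over.mk (z' ≫ (Z i).hom))) (Over.homMk z' rfl)⟩ :
          (total F).obj (op (unop W))) = (total F).map a'.op e := h.trans (hg _ a')
      have hbase : z' ≫ (Z i).hom = a' ≫ s := congrArg Sigma.fst hh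
      let ta : Over.mk (z' ≫ (Z i).hom) ⟶ Over.mk s := Over.homMk a' hbase.symm
      let zz : Over.mk (z' ≫ (Z i).hom) ⟶ Z i := Over.homMk z' rfl
      have hkey : (j i).app (op (Over.mk (z' ≫ (Z i).hom))) zz = F.map ta.op e.2 := by
        have e1 := elt_congr F hh (W := Over.mk (z' ≫ (Z i).hom)) (𝟙 _)
          (Over.homMk (𝟙 _) ((Category.id_comp _).trans hbase.symm)) rfl
        change F.map _ _ = F.map _ (F.map _ e.2) at e1
        exact ((map_self F (𝟙 _) rfl _).symm.trans e1).trans (map_map F _ _ ta (Category.id_comp _) e.2)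
      have hr : Set.range a' ⊆ Set.range V'.ι := by
        rw [Scheme.Opens.range_ι]
        rintro _ ⟨w, rfl⟩
        exact (hV i ta e.2).1 ⟨zz, hkey⟩ ⟨w, rfl⟩
      let a'' := IsOpenImmersion.lift V'.ι a' hr
      refine ⟨a'', ?_, IsOpenImmersion.lift_fac _ _ _⟩
      show a'' ≫ z₀.left = z'
      let t : Over.mk (z' ≫ (Z i).hom) ⟶ Over.mk (V'.ι ≫ s) := Over.homMk a'' (by
        show a'' ≫ V'.ι ≫ s = z' ≫ (Z i).hom
        rw [IsOpenImmersion.lift_fac_assoc, hbase])
      refine congrArg Over.Hom.left (hinj i _ (t ≫ z₀) zz ?_)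
      rw [jnat, hz₀, hkey]
      exact map_map F t r ta (IsOpenImmersion.lift_fac _ _ _) e.2
  have : Presheaf.IsLocallySurjective Scheme.zariskiTopology (Limits.Sigma.desc f) := by
    refine ⟨fun {T} e => ?_⟩
    let e' : (total F).obj (op T) := e
    let s : T ⟶ S := base F e'
    let V' : ι → T.Opens := fun i => V i (Over.mk s) e'.2
    refine GrothendieckTopology.superset_covering _ ?_
      (T.openCoverOfIsOpenCover V' (.mk (hcov _ _))).mem_grothendieckTopology
    rintro W b ⟨_, c, _, ⟨i⟩, rfl⟩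
    let c' : W ⟶ (V' i : Scheme.{u}) := c
    let r : Over.mk ((c' ≫ (V' i).ι) ≫ s) ⟶ Over.mk s := Over.homMk (c' ≫ (V' i).ι) rfl
    obtain ⟨z, hz⟩ := (hV i r e'.2).2 (by
      rintro _ ⟨v, rfl⟩
      exact (c' v).2)
    refine ⟨(Limits.Sigma.ι (fun i => yoneda.obj (Z i).left) i).app (op W) z.left, ?_⟩
    refine Eq.trans (ConcreteCategory.congr_hom (congr_app (Limits.Sigma.ι_desc f i) (op W)) z.left) ?_
    refine sigma_ext F _ _ (Over.w z) ?_
    let t : Over.mk (z.left ≫ (Z i).hom) ⟶ Over.mk ((c' ≫ (V' i).ι) ≫ s) :=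
      Over.homMk (𝟙 W) ((Category.id_comp _).trans (Over.w z).symm)
    show (j i).app (op (Over.mk (z.left ≫ (Z i).hom))) (Over.homMk z.left rfl) = F.map t.op (F.map r.op e'.2)
    exact (jmap i t z _ (Category.id_comp _)).symm.trans (congrArg (F.map t.op) hz)
  let rep := Scheme.LocalRepresentability.representableBy (F := G) (f := f) hf
  let Wu := (Scheme.LocalRepresentability.glueData (F := G) (f := f) hf).glued
  let univ : (total F).obj (op Wu) := rep.homEquiv (𝟙 Wu)
  have hrep : ∀ {T : Scheme.{u}} (a : T ⟶ Wu), rep.homEquiv a = (total F).map a.op univ := fun {T} a => by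
    rw [show univ = rep.homEquiv (𝟙 Wu) from rfl]
    exact (congrArg rep.homEquiv (Category.comp_id a).symm).trans (rep.homEquiv_comp a (𝟙 Wu))
  let W : Over S := Over.mk (base F univ)
  let toF : ∀ {T : Over S}, (T ⟶ W) → F.obj (op T) := fun {T} a => F.map a.op univ.2
  refine ⟨W, ⟨{ homEquiv := fun {T : Over S} => Equiv.ofBijective toF ⟨fun a b h => ?_, fun φ => ?_⟩
                homEquiv_comp := fun {T T'} t a => ?_ }⟩⟩
  · apply Over.OverMorphism.ext
    refine rep.homEquiv.injective ?_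
    rw [hrep, hrep]
    refine sigma_ext F _ _ ((Over.w a).trans (Over.w b).symm) ?_
    show F.map _ univ.2 = F.map _ (F.map _ univ.2)
    let ta : Over.mk (a.left ≫ base F univ) ⟶ T := Over.homMk (𝟙 T.left) ((Category.id_comp _).trans (Over.w a).symm)
    have h' := congrArg (F.map ta.op) h
    let tb : Over.mk (a.left ≫ base F univ) ⟶ Over.mk (base F univ) :=
      Over.homMk b.left ((Over.w b).trans (Over.w a).symm)
    refine (((map_map F ta a _ (Category.id_comp _) univ.2).symm.trans h').trans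
      (map_map F ta b tb (Category.id_comp _) univ.2)).trans (map_map F _ _ tb (Category.id_comp _) univ.2).symm
  · obtain ⟨a, ha⟩ := rep.homEquiv.surjective (⟨T.hom, φ⟩ : (total F).obj (op T.left))
    rw [hrep] at ha
    have hw : a ≫ base F univ = T.hom := congrArg Sigma.fst ha
    refine ⟨Over.homMk a hw, ?_⟩
    have e1 := elt_congr F ha (W := T) (Over.homMk (𝟙 _) ((Category.id_comp _).trans hw)) (𝟙 T) rfl
    change F.map _ (F.map _ univ.2) = F.map _ φ at e1
    exact ((map_map F _ _ _ (Category.id_comp _) univ.2).symm.trans e1).trans (map_self F (𝟙 T) rfl φ)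
  · show F.map (t ≫ a).op univ.2 = F.map t.op (F.map a.op univ.2)
    rw [op_comp, Functor.map_comp_apply]

end Groth.Agent.FlatMor12.OverGlue2
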