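import Groth.Agent.FlatMor12.FibreFlatAffine
import Groth.Agent.EGA43.FlatDescent.SchemeOpen
import Groth.Agent.FlatLocal.FibreCrit
import Groth.Agent.FEtLib.EqLocus
import Groth.Agent.H8Lim.FinitePresentation
import Mathlib.AlgebraicGeometry.Morphisms.SmoothFiber
import Mathlib.AlgebraicGeometry.Fiber
import Mathlib.Algebra.Category.Ring.Constructions

/-! The fibre criterion of flatness for schemes (EGA IV 11.3.10) and its corollaries. -/

universe u

set_option autoImplicit false
set_option backward.isDefEq.respectTransparency false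

open CategoryTheory Limits AlgebraicGeometry TensorProduct IsLocalRing

namespace Groth.Agent.FlatMor12

/-- The fibre map over `Spec (K ⊗ B)` is flat if the fibre map over `s` is. -/
theorem flat_tensor_of_fibre {X Y S : Scheme.{u}} (f : X ⟶ Y) (g : Y ⟶ S)
    {A B C : Type u} [CommRing A] [CommRing B] [CommRing C] [Algebra A B] [Algebra A C]
    [Algebra B C] [IsScalarTower A B C] (iA : Spec (.of A) ⟶ S) (iB : Spec (.of B) ⟶ Y)
    (iC : Spec (.of C) ⟶ X) [Mono iB] [IsOpenImmersion iC]
    (hg : Spec.map (CommRingCat.ofHom (algebraMap A B)) ≫ iA = iB ≫ g)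
    (hf : Spec.map (CommRingCat.ofHom (algebraMap B C)) ≫ iB = iC ≫ f)
    (p : PrimeSpectrum A) (hfib : Flat (pullback.snd f (g.fiberι (iA p)))) :
    (Algebra.TensorProduct.map (AlgHom.id A p.asIdeal.ResidueField)
      (IsScalarTower.toAlgHom A B C)).Flat := by
  let K := p.asIdeal.ResidueField
  let φ := Algebra.TensorProduct.map (AlgHom.id A K) (IsScalarTower.toAlgHom A B C)
  let π : Spec (.of (K ⊗[A] B)) ⟶ Spec (.of K) :=
    Spec.map (CommRingCat.ofHom Algebra.TensorProduct.includeLeftRingHom)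
  let ιB : Spec (.of (K ⊗[A] B)) ⟶ Spec (.of B) :=
    Spec.map (CommRingCat.ofHom Algebra.TensorProduct.includeRight.toRingHom)
  let b := ιB ≫ iB
  let y : Spec (.of K) ⟶ S := Spec.map (CommRingCat.ofHom (algebraMap A K)) ≫ iA
  have hy : y (closedPoint K) = iA p := by
    show iA _ = iA p
    congr 1
    exact PrimeSpectrum.ext (by
      show (maximalIdeal K).comap (algebraMap A K) = p.asIdeal
      rw [maximalIdeal_eq_bot, ← RingHom.ker_eq_comap_bot, Ideal.ker_algebraMap_residueField])
  obtain ⟨⟨s, ψ⟩, hψ⟩ := (Scheme.SpecToEquivOfField K S).symm.surjective y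
  have hψ' : Spec.map ψ ≫ S.fromSpecResidueField s = y := hψ
  have hs : iA p = s := by rw [← hy, ← hψ']; simp
  rw [hs] at hfib
  let m : Spec (.of (K ⊗[A] B)) ⟶ g.fiber s := pullback.lift b (π ≫ Spec.map ψ) (by
    refine Eq.trans ?_ (Category.assoc π (Spec.map ψ) _).symm
    rw [hψ']
    simp only [b, y, π, ιB, Category.assoc, ← hg]
    rw [← Spec.map_comp_assoc, ← Spec.map_comp_assoc]
    congr 2
    exact (CommRingCat.isPushout_tensorProduct A K B).w.symm)
  have hm : m ≫ g.fiberι s = b := pullback.lift_fst _ _ _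
  have h1 : Flat (pullback.snd f b) := by
    have hp := (IsPullback.of_hasPullback (pullback.snd f (g.fiberι s)) m).paste_horiz
      (IsPullback.of_hasPullback f (g.fiberι s))
    rw [← hm]
    have := MorphismProperty.pullback_snd (P := @Flat) (pullback.snd f (g.fiberι s)) m hfib
    rw [← pullbackLeftPullbackSndIso_inv_snd_snd f (g.fiberι s) m]
    infer_instance
  have h2 : Flat (pullback.snd (iC ≫ f) b) := by
    rw [← pullbackRightPullbackFstIso_inv_snd_snd]
    infer_instance
  -- the square of spectra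
  have hpo : IsPushout (CommRingCat.ofHom (algebraMap B C))
      (CommRingCat.ofHom (S := K ⊗[A] B) Algebra.TensorProduct.includeRight.toRingHom)
      (CommRingCat.ofHom (S := K ⊗[A] C) Algebra.TensorProduct.includeRight.toRingHom)
      (CommRingCat.ofHom φ.toRingHom) := by
    refine IsPushout.of_left ?_ ?_ (CommRingCat.isPushout_tensorProduct A K B).flip
    · convert! (CommRingCat.isPushout_tensorProduct A K C).flip using 1
      · ext a
        exact (IsScalarTower.algebraMap_apply A B C a).symm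
      · ext k
        simp [φ]
    · ext x
      simp [φ]
  have sq := isPullback_SpecMap_of_isPushout _ _ _ _ hpo
  have hmono : IsPullback ιB (𝟙 _) iB b := IsPullback.of_vert_isIso_mono ⟨by simp [b]⟩
  have sq' := sq.paste_vert hmono
  rw [Category.comp_id, hf] at sq'
  have h3 : Flat (Spec.map (CommRingCat.ofHom φ.toRingHom)) := by
    rw [← sq'.isoPullback_hom_snd]
    infer_instance
  exact Flat.SpecMap_iff.1 h3

/-- EGA IV 11.3.10. -/
theorem flat_stalkMap_of_fibre {X Y S : Scheme.{u}} (f : X ⟶ Y) (g : Y ⟶ S)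
    [LocallyOfFinitePresentation f] [LocallyOfFinitePresentation g] (x : X)
    (hflat : ((f ≫ g).stalkMap x).hom.Flat)
    (hfib : Flat (pullback.snd f (g.fiberι (g (f x))))) :
    (f.stalkMap x).hom.Flat ∧ (g.stalkMap (f x)).hom.Flat := by
  obtain ⟨W, hW, hsW, -⟩ := TopologicalSpace.Opens.isBasis_iff_nbhd.mp S.isBasis_affineOpens
    (TopologicalSpace.Opens.mem_top (g (f x)))
  obtain ⟨V, hV, hyV, eV⟩ := TopologicalSpace.Opens.isBasis_iff_nbhd.mp Y.isBasis_affineOpens
    (show f x ∈ g ⁻¹ᵁ W from hsW)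
  obtain ⟨U, hU, hxU, eU⟩ := TopologicalSpace.Opens.isBasis_iff_nbhd.mp X.isBasis_affineOpens
    (show x ∈ f ⁻¹ᵁ V from hyV)
  let φAB := (g.appLE W V eV).hom
  let φBC := (f.appLE V U eU).hom
  let _ := φAB.toAlgebra
  let _ := φBC.toAlgebra
  let _ := (φBC.comp φAB).toAlgebra
  have : IsScalarTower Γ(S, W) Γ(Y, V) Γ(X, U) := .of_algebraMap_eq fun _ => rfl
  have eWU : U ≤ (f ≫ g) ⁻¹ᵁ W := eU.trans (fun z hz => eV hz)
  have hcomp : ((f ≫ g).appLE W U eWU).hom = φBC.comp φAB := by
    show _ = (g.appLE W V eV ≫ f.appLE V U eU).hom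
    rw [Scheme.Hom.appLE_comp_appLE]
  have : Algebra.FinitePresentation Γ(S, W) Γ(Y, V) :=
    HasRingHomProperty.appLE @LocallyOfFinitePresentation g inferInstance ⟨W, hW⟩ ⟨V, hV⟩ eV
  have : Algebra.FinitePresentation Γ(Y, V) Γ(X, U) :=
    HasRingHomProperty.appLE @LocallyOfFinitePresentation f inferInstance ⟨V, hV⟩ ⟨U, hU⟩ eU
  let q := (hU.primeIdealOf ⟨x, hxU⟩).asIdeal
  have hqp : q.comap (algebraMap Γ(S, W) Γ(X, U)) = (hW.primeIdealOf ⟨g (f x), hsW⟩).asIdeal := by
    have := congr($(IsAffineOpen.comap_primeIdealOf_appLE W hW U hU eWU (f := f ≫ g) hxU).1)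
    rw [hcomp] at this
    exact this
  have hA : Module.Flat Γ(S, W) (Localization.AtPrime q) := by
    rw [RingHom.Flat.respectsIso.arrow_mk_iso_iff
      (IsAffineOpen.arrowStalkMapIso (f ≫ g) W hW U hU eWU hxU)] at hflat
    simp only [hcomp] at hflat
    exact (EGA43.FlatDescent.flat_localRingHom_iff (R := Γ(S, W)) (S := Γ(X, U)) _ q hqp.symm).1 hflat
  have hfib' : (Algebra.TensorProduct.map
      (AlgHom.id Γ(S, W) (q.comap (algebraMap Γ(S, W) Γ(X, U))).ResidueField)
      (IsScalarTower.toAlgHom Γ(S, W) Γ(Y, V) Γ(X, U))).Flat := by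
    refine flat_tensor_of_fibre f g hW.fromSpec hV.fromSpec hU.fromSpec ?_ ?_
      ⟨q.comap (algebraMap Γ(S, W) Γ(X, U)), inferInstance⟩ ?_
    · exact hW.SpecMap_appLE_fromSpec g hV eV
    · exact hV.SpecMap_appLE_fromSpec f hU eU
    · rw [show (⟨q.comap (algebraMap Γ(S, W) Γ(X, U)), inferInstance⟩ : PrimeSpectrum Γ(S, W)) =
        hW.primeIdealOf ⟨g (f x), hsW⟩ from PrimeSpectrum.ext hqp]
      rw [show hW.fromSpec (hW.primeIdealOf ⟨g (f x), hsW⟩) = g (f x) from hW.fromSpec_primeIdealOf _]
      exact hfib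
  have key := flat_of_fibre_affine (A := Γ(S, W)) (B := Γ(Y, V)) q hA hfib'
  have hB : Module.Flat Γ(Y, V) (Localization.AtPrime q) := by
    rw [← RingHom.flat_algebraMap_iff, IsScalarTower.algebraMap_eq Γ(Y, V) Γ(X, U)]
    exact key
  have h1 : (f.stalkMap x).hom.Flat := by
    rw [RingHom.Flat.respectsIso.arrow_mk_iso_iff
      (IsAffineOpen.arrowStalkMapIso f V hV U hU eU hxU)]
    exact (EGA43.FlatDescent.flat_localRingHom_iff (R := Γ(Y, V)) (S := Γ(X, U)) _ q
      congr($(IsAffineOpen.comap_primeIdealOf_appLE V hV U hU eU (f := f) hxU).1).symm).2 hB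
  refine ⟨h1, ?_⟩
  rw [Scheme.Hom.stalkMap_comp] at hflat
  have hloc : IsLocalHom (f.stalkMap x).hom := f.toLRSHom.prop x
  let _ := (g.stalkMap (f x)).hom.toAlgebra
  let _ := (f.stalkMap x).hom.toAlgebra
  let _ := (g.stalkMap (f x) ≫ f.stalkMap x).hom.toAlgebra
  have : IsScalarTower (S.presheaf.stalk (g (f x))) (Y.presheaf.stalk (f x)) (X.presheaf.stalk x) :=
    .of_algebraMap_eq fun _ => rfl
  have : Module.Flat (Y.presheaf.stalk (f x)) (X.presheaf.stalk x) := h1
  have : Module.Flat (S.presheaf.stalk (g (f x))) (X.presheaf.stalk x) := hflat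
  have : IsLocalHom (algebraMap (Y.presheaf.stalk (f x)) (X.presheaf.stalk x)) := hloc
  have := Module.FaithfullyFlat.of_flat_of_isLocalHom
    (A := Y.presheaf.stalk (f x)) (B := X.presheaf.stalk x)
  exact FlatCrit.flat_of_flat_of_faithfullyFlat (R := S.presheaf.stalk (g (f x)))
    (S := Y.presheaf.stalk (f x)) (M := X.presheaf.stalk x)

/-- A fibre of `f` is a base change of a fibre map. -/
theorem fiberToSpecResidueField_of_fibres {P : MorphismProperty Scheme.{u}}
    [P.IsStableUnderBaseChange] {X Y S : Scheme.{u}} (f : X ⟶ Y) (g : Y ⟶ S)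
    (h : ∀ s, P (pullback.snd f (g.fiberι s))) (y : Y) : P (f.fiberToSpecResidueField y) := by
  let j : Spec (Y.residueField y) ⟶ g.fiber (g y) :=
    pullback.lift (Y.fromSpecResidueField y) (Spec.map (g.residueFieldMap y)) (by simp)
  have hj : j ≫ g.fiberι (g y) = Y.fromSpecResidueField y := pullback.lift_fst _ _ _
  have h1 : P (pullback.snd f (j ≫ g.fiberι (g y))) := by
    rw [← pullbackLeftPullbackSndIso_inv_snd_snd f (g.fiberι (g y)) j]
    exact MorphismProperty.RespectsIso.precomp P _ _ (MorphismProperty.pullback_snd _ _ (h (g y)))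
  rw [hj] at h1
  exact h1

theorem formallyUnramified_of_fibres {X Y : Scheme.{u}} (f : X ⟶ Y) [LocallyOfFiniteType f]
    (h : ∀ y, FormallyUnramified (f.fiberToSpecResidueField y)) : FormallyUnramified f := by
  rw [FlatLocal.formallyUnramified_iff_stalkMap]
  intro x
  have : LocallyOfFiniteType (f.fiberToSpecResidueField (f x)) :=
    MorphismProperty.pullback_snd _ _ inferInstance
  obtain ⟨x', hx'⟩ : ∃ x', f.fiberι (f x) x' = x := ⟨f.asFiber x, f.fiberι_asFiber x⟩
  obtain ⟨hi, hker⟩ := Props12.stalkMap_fiberι f (f x) x'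
  have := (FlatLocal.formallyUnramified_stalkMap_iff_of_square f (f.fiberToSpecResidueField (f x))
    (f.fiberι (f x)) (Y.fromSpecResidueField (f x)) (f.fiber_fac (f x)) x' hi
    (Scheme.Hom.stalkMap_surjective _ _) hker.le).2
    (have := h (f x); FormallyUnramified.stalkMap _ x')
  rwa [hx'] at this

theorem lfp_of_comp {X Y S : Scheme.{u}} (f : X ⟶ Y) (g : Y ⟶ S)
    [LocallyOfFinitePresentation (f ≫ g)] [LocallyOfFiniteType g] : LocallyOfFinitePresentation f :=
  H8Lim.lfp_cancel_right f g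

theorem flat_of_fibres {X Y S : Scheme.{u}} (f : X ⟶ Y) (g : Y ⟶ S)
    [LocallyOfFinitePresentation g] [LocallyOfFinitePresentation (f ≫ g)] [Flat (f ≫ g)]
    (h : ∀ s, Flat (pullback.snd f (g.fiberι s))) : Flat f :=
  have := lfp_of_comp f g
  (Flat.iff_flat_stalkMap f).2 fun x =>
    (flat_stalkMap_of_fibre f g x (Flat.stalkMap (f ≫ g) x) (h _)).1

theorem flat_stalkMap_right_of_fibres {X Y S : Scheme.{u}} (f : X ⟶ Y) (g : Y ⟶ S)
    [LocallyOfFinitePresentation g] [LocallyOfFinitePresentation (f ≫ g)] [Flat (f ≫ g)]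
    (h : ∀ s, Flat (pullback.snd f (g.fiberι s))) (x : X) : (g.stalkMap (f x)).hom.Flat :=
  have := lfp_of_comp f g
  (flat_stalkMap_of_fibre f g x (Flat.stalkMap (f ≫ g) x) (h _)).2

theorem smooth_iff_fibres {X Y S : Scheme.{u}} (f : X ⟶ Y) (g : Y ⟶ S)
    [LocallyOfFinitePresentation g] [LocallyOfFinitePresentation (f ≫ g)] [Flat (f ≫ g)] :
    Smooth f ↔ ∀ s, Smooth (pullback.snd f (g.fiberι s)) := by
  refine ⟨fun _ s => inferInstance, fun h => ?_⟩
  have := lfp_of_comp f g
  have := flat_of_fibres f g fun s => have := h s; inferInstance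
  exact Smooth.of_smooth_fiberToSpecResidueField f (fiberToSpecResidueField_of_fibres f g h)

theorem etale_iff_fibres {X Y S : Scheme.{u}} (f : X ⟶ Y) (g : Y ⟶ S)
    [LocallyOfFinitePresentation g] [LocallyOfFinitePresentation (f ≫ g)] [Flat (f ≫ g)] :
    Etale f ↔ ∀ s, Etale (pullback.snd f (g.fiberι s)) := by
  refine ⟨fun _ s => inferInstance, fun h => ?_⟩
  have := lfp_of_comp f g
  have := flat_of_fibres f g fun s => have := h s; inferInstance
  have := formallyUnramified_of_fibres f (fiberToSpecResidueField_of_fibres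
    (P := @FormallyUnramified) f g fun s => have := h s; inferInstance)
  exact Etale.of_formallyUnramified_of_flat f

theorem isOpenImmersion_iff_fibres {X Y S : Scheme.{u}} (f : X ⟶ Y) (g : Y ⟶ S)
    [LocallyOfFinitePresentation g] [LocallyOfFinitePresentation (f ≫ g)] [Flat (f ≫ g)] :
    IsOpenImmersion f ↔ ∀ s, IsOpenImmersion (pullback.snd f (g.fiberι s)) := by
  refine ⟨fun _ s => inferInstance, fun h => ?_⟩
  have := (etale_iff_fibres f g).2 fun s => have := h s; inferInstance
  have : UniversallyInjective f := by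
    rw [UniversallyInjective.iff_diagonal]
    refine ⟨fun z => ?_⟩
    let j := (pullback f f).fromSpecResidueField z
    let k := pullback.fst f f ≫ f ≫ g
    let w : Spec ((pullback f f).residueField z) ⟶ g.fiber (k z) :=
      pullback.lift (j ≫ pullback.fst f f ≫ f) (Spec.map (k.residueFieldMap z)) (by
        rw [Scheme.Hom.SpecMap_residueFieldMap_fromSpecResidueField]
        simp [j, k])
    let u' : _ ⟶ pullback f (g.fiberι (k z)) :=
      pullback.lift (j ≫ pullback.fst f f) w (by
        rw [show w ≫ g.fiberι (k z) = _ from pullback.lift_fst _ _ _, Category.assoc])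
    let v' : _ ⟶ pullback f (g.fiberι (k z)) :=
      pullback.lift (j ≫ pullback.snd f f) w (by
        rw [show w ≫ g.fiberι (k z) = _ from pullback.lift_fst _ _ _, Category.assoc, pullback.condition])
    have := h (k z)
    have huv : u' = v' := (cancel_mono (pullback.snd f (g.fiberι (k z)))).1 (by simp [u', v'])
    have he : j ≫ pullback.fst f f = j ≫ pullback.snd f f := by
      have := congr($huv ≫ pullback.fst f (g.fiberι (k z)))
      simpa [u', v'] using this
    have hj : j = (j ≫ pullback.fst f f) ≫ pullback.diagonal f := by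
      apply pullback.hom_ext <;> simp [he]
    refine ⟨(j ≫ pullback.fst f f) (closedPoint _), ?_⟩
    rw [← Scheme.Hom.comp_apply, ← hj]
    exact Scheme.fromSpecResidueField_apply _ _
  exact FEtLib.isOpenImmersion_of_etale_universallyInjective f

theorem isIso_iff_fibres {X Y S : Scheme.{u}} (f : X ⟶ Y) (g : Y ⟶ S)
    [LocallyOfFinitePresentation g] [LocallyOfFinitePresentation (f ≫ g)] [Flat (f ≫ g)] :
    IsIso f ↔ ∀ s, IsIso (pullback.snd f (g.fiberι s)) := by
  refine ⟨fun _ s => inferInstance, fun h => ?_⟩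
  have := (isOpenImmersion_iff_fibres f g).2 fun s => have := h s; inferInstance
  have : Surjective f := ⟨fun y => by
    obtain ⟨y', hy'⟩ : ∃ y', g.fiberι (g y) y' = y := ⟨g.asFiber y, g.fiberι_asFiber y⟩
    have := h (g y)
    obtain ⟨t, ht⟩ := (pullback.snd f (g.fiberι (g y))).surjective y'
    refine ⟨pullback.fst f (g.fiberι (g y)) t, ?_⟩
    rw [← Scheme.Hom.comp_apply, pullback.condition, Scheme.Hom.comp_apply, ht, hy']⟩
  exact (isIso_iff_isOpenImmersion_and_surjective f).2 ⟨inferInstance, inferInstance⟩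

end Groth.Agent.FlatMor12
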