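import Groth.Agent.CAlgH3.MiracleFlat
import Groth.Agent.DimLib.Maximal
import Groth.Agent.Props12.Stalks
import Mathlib.AlgebraicGeometry.Properties
import Mathlib.AlgebraicGeometry.Morphisms.Flat

/-! Miracle flatness for schemes of finite type over a field. -/

universe u

set_option autoImplicit false
set_option backward.isDefEq.respectTransparency false

open CategoryTheory Limits AlgebraicGeometry

namespace Groth.Agent.FlatMor12

open Groth.Agent DimLib

variable {k : Type u} [Field k] {X : Scheme.{u}}

theorem coheight_add_ptDim (p : X ⟶ Spec (.of k)) [LocallyOfFiniteType p] (e : ℕ)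
    (h : ∀ η : X, (∀ z, z ⤳ η → η = z) → ptDim p η = e) (x : X) :
    ptDim p x ≤ e ∧ Order.coheight x = ((e - ptDim p x : ℕ) : ℕ∞) := by
  have hle : ∀ y : X, ptDim p y ≤ e := fun y => by
    obtain ⟨η, hη, hmax⟩ := exists_maximal_specializes y
    exact (ptDim_le_of_specializes p hη).trans_eq (h η hmax)
  refine ⟨hle x, le_antisymm ?_ ?_⟩
  · refine Order.coheight_le fun l hl => ?_
    have hi : ∀ i : Fin (l.length + 1), ptDim p x + i.val ≤ ptDim p (l i) := by
      intro i
      induction i using Fin.induction with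
      | zero => rw [Fin.val_zero, add_zero, ← hl]; rfl
      | succ i ih =>
        have hs := l.step i
        have := ptDim_lt_of_specializes p (Scheme.le_iff_specializes.1 hs.le) hs.ne'
        simp only [Fin.val_succ, Fin.val_castSucc] at ih ⊢
        omega
    have h1 := hi (Fin.last _)
    have h2 := hle (l (Fin.last _))
    simp only [Fin.val_last] at h1
    exact_mod_cast (by omega : l.length ≤ e - ptDim p x)
  · suffices ∀ n y, e - ptDim p y = n → (n : ℕ∞) ≤ Order.coheight y from this _ x rfl
    intro n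
    induction n with
    | zero => intro y _; simp
    | succ n ih =>
      intro y hy
      obtain ⟨η, hη, hmax⟩ := exists_maximal_specializes y
      have hne : η ≠ y := fun e' => by rw [← e', h η hmax] at hy; omega
      obtain ⟨y', -, hy', hp⟩ := exists_specializes_ptDim_succ p hη hne
      have h1 := ih y' (by omega)
      have hlt : y < y' := by
        refine lt_of_le_not_ge (Scheme.le_iff_specializes.2 hy') fun hge => ?_
        have := ptDim_le_of_specializes p (Scheme.le_iff_specializes.1 hge)
        omega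
      calc ((n + 1 : ℕ) : ℕ∞) = (n : ℕ∞) + 1 := Nat.cast_succ n
        _ ≤ Order.coheight y' + 1 := add_le_add h1 le_rfl
        _ ≤ Order.coheight y := Order.coheight_add_one_le hlt

theorem flat_of_cm_of_regular {Y : Scheme.{u}} (q : Y ⟶ Spec (.of k)) [LocallyOfFiniteType q]
    (f : X ⟶ Y) [LocallyOfFiniteType (f ≫ q)]
    (hY : ∀ y : Y, IsRegularLocalRing (Y.presheaf.stalk y))
    (hX : ∀ x : X, LocCoh.IsCohenMacaulayLocalRing (X.presheaf.stalk x))
    (e d : ℕ) (hde : d ≤ e)
    (hXe : ∀ Z ∈ irreducibleComponents (X : Type u), topologicalKrullDim Z = e)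
    (hYd : ∀ Z ∈ irreducibleComponents (Y : Type u), topologicalKrullDim Z = d)
    (hfib : ∀ y : Y, ∀ Z ∈ irreducibleComponents (f.base ⁻¹' {y}), topologicalKrullDim Z = (e - d : ℕ)) :
    Flat f := by
  have : LocallyOfFiniteType f := locallyOfFiniteType_of_comp f q
  have hXe' : ∀ η : X, (∀ z, z ⤳ η → η = z) → ptDim (f ≫ q) η = e := fun η hη => by
    exact_mod_cast (forall_components_iff (f ≫ q) (fun t => t = (e : WithBot ℕ∞))).1 hXe η hη
  have hYd' : ∀ η : Y, (∀ z, z ⤳ η → η = z) → ptDim q η = d := fun η hη => by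
    exact_mod_cast (forall_components_iff q (fun t => t = (d : WithBot ℕ∞))).1 hYd η hη
  suffices key : ∀ (y : Y) (z : f.fiber y), (f.stalkMap (f.fiberι y z)).hom.Flat from
    (Flat.iff_flat_stalkMap f).2 fun x => f.fiberι_asFiber x ▸ key (f x) (f.asFiber x)
  intro y z
  let π := f.fiberToSpecResidueField y
  have : LocallyOfFiniteType π :=
    inferInstanceAs (LocallyOfFiniteType (pullback.snd f (Y.fromSpecResidueField y)))
  have hF : ∀ η : f.fiber y, (∀ z, z ⤳ η → η = z) → ptDim (k := Y.residueField y) π η = e - d := by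
    intro η hη
    let φ := f.fiberHomeo y
    have hcomp : φ '' closure {η} ∈ irreducibleComponents (f.base ⁻¹' {y}) := by
      rw [φ.image_closure, Set.image_singleton]
      have : QuasiSober ↥(f.base ⁻¹' {y}) := φ.symm.isClosedEmbedding.quasiSober
      refine (mem_components_iff (φ η)).2 fun w hw => ?_
      obtain ⟨a, rfl⟩ := φ.surjective w
      rw [hη a (φ.isInducing.specializes_iff.1 hw)]
    have := hfib y _ hcomp
    rw [← IsHomeomorph.topologicalKrullDim_eq _
      (φ.isEmbedding.homeomorphImage (closure {η})).isHomeomorph,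
      topologicalKrullDim_eq_ptDim_of_isGenericPoint (k := Y.residueField y) π isGenericPoint_closure] at this
    exact_mod_cast this
  let x := f.fiberι y z
  have hfx : f x = y := (f.range_fiberι y).le ⟨z, rfl⟩
  obtain ⟨hxe, hcx⟩ := coheight_add_ptDim (f ≫ q) e hXe' x
  obtain ⟨hyd, hcy⟩ := coheight_add_ptDim q d hYd' (f x)
  obtain ⟨hze, hcz⟩ := coheight_add_ptDim (k := Y.residueField y) π (e - d) hF z
  have hsum : ptDim (f ≫ q) x = ptDim q y + ptDim (k := Y.residueField y) π z := ptDim_fiberι q f y z
  have hq : ptDim q (f x) = ptDim q y := by rw [hfx]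
  obtain ⟨hsurj, hker⟩ := Props12.stalkMap_fiberι f y z
  let _ := (f.stalkMap x).hom.toAlgebra
  have : IsLocalHom (algebraMap (Y.presheaf.stalk (f x)) (X.presheaf.stalk x)) :=
    inferInstanceAs (IsLocalHom (f.stalkMap x).hom)
  have := hY (f x)
  have := hX x
  refine RingHom.flat_algebraMap_iff.2 (CAlgH3.flat_of_dim_eq _ (Y.presheaf.stalk (f x)) rfl
    (X.presheaf.stalk x) ?_)
  have e3 : ringKrullDim (X.presheaf.stalk x ⧸ (IsLocalRing.maximalIdeal (Y.presheaf.stalk (f x))).map
      (algebraMap (Y.presheaf.stalk (f x)) (X.presheaf.stalk x))) = ringKrullDim ((f.fiber y).presheaf.stalk z) :=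
    ringKrullDim_eq_of_ringEquiv ((Ideal.quotEquivOfEq hker.symm).trans
      (RingHom.quotientKerEquivOfSurjective hsurj))
  rw [e3, ringKrullDim_stalk_eq_coheight, ringKrullDim_stalk_eq_coheight, ringKrullDim_stalk_eq_coheight,
    hcx, hcy, hcz, show e - ptDim (f ≫ q) x =
      d - ptDim q (f x) + (e - d - ptDim (k := Y.residueField y) π z) by omega]
  push_cast
  rfl

end Groth.Agent.FlatMor12
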