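import Groth.Agent.CommAlg6.FibreLocal
import Groth.Agent.AdicRing.CompLocMap
import Groth.Agent.Props12.Stalks
import Groth.Prelude.Def_MoreMor

/-! Cohen–Macaulay morphisms: composition. -/

universe u

set_option autoImplicit false

open IsLocalRing AlgebraicGeometry CategoryTheory

namespace Groth.Agent.FlatMor12

theorem map_maximalIdeal_le {A B : Type u} [CommRing A] [CommRing B] [IsLocalRing A] [IsLocalRing B]
    (f : A →+* B) [IsLocalHom f] : (maximalIdeal A).map f ≤ maximalIdeal B :=
  Ideal.map_le_iff_le_comap.2 fun a ha => map_nonunit f a ha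

theorem isCM_iff_of_flat {A B : Type u} [CommRing A] [CommRing B] [IsLocalRing A] [IsLocalRing B]
    [IsNoetherianRing A] [IsNoetherianRing B] [Algebra A B] [IsLocalHom (algebraMap A B)]
    [Module.Flat A B] :
    LocCoh.IsCohenMacaulayLocalRing B ↔ LocCoh.IsCohenMacaulayLocalRing A ∧
      LocCoh.IsCohenMacaulayLocalRing (B ⧸ (maximalIdeal A).map (algebraMap A B)) := by
  have hne : (maximalIdeal A).map (algebraMap A B) ≠ ⊤ := fun h =>
    (maximalIdeal.isMaximal B).ne_top (top_le_iff.1 (h ▸ map_maximalIdeal_le (algebraMap A B)))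
  have : Nontrivial (B ⧸ (maximalIdeal A).map (algebraMap A B)) := Ideal.Quotient.nontrivial_iff.2 hne
  have : IsLocalRing (B ⧸ (maximalIdeal A).map (algebraMap A B)) :=
    .of_surjective' _ Ideal.Quotient.mk_surjective
  rw [CAlgH3.isCohenMacaulayLocalRing_iff_depth A, CAlgH3.isCohenMacaulayLocalRing_iff_depth B,
    CAlgH3.isCohenMacaulayLocalRing_iff_depth (B ⧸ (maximalIdeal A).map (algebraMap A B)),
    CommAlg6.ringKrullDim_eq_add_fibre (A := A) (B := B), CommAlg6.depth_eq_add_fibre (A := A) (B := B)]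
  have h₁ := CAlgH3.depth_le_supportDim (R := A) (M := A)
  have h₂ := CAlgH3.depth_le_supportDim (R := B ⧸ (maximalIdeal A).map (algebraMap A B))
    (M := B ⧸ (maximalIdeal A).map (algebraMap A B))
  rw [Module.supportDim_self_eq_ringKrullDim] at h₁ h₂
  obtain ⟨a, ha⟩ := CAlgH3.exists_depth_eq_natCast (R := A) (M := A)
  obtain ⟨b, hb⟩ := CAlgH3.exists_depth_eq_natCast (R := B ⧸ (maximalIdeal A).map (algebraMap A B))
    (M := B ⧸ (maximalIdeal A).map (algebraMap A B))
  rw [ha] at h₁ ⊢
  rw [hb] at h₂ ⊢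
  have hA : ringKrullDim A < ⊤ := ringKrullDim_lt_top
  have hF : ringKrullDim (B ⧸ (maximalIdeal A).map (algebraMap A B)) < ⊤ := ringKrullDim_lt_top
  revert h₁ h₂ hA hF
  generalize ringKrullDim A = x
  generalize ringKrullDim (B ⧸ (maximalIdeal A).map (algebraMap A B)) = y
  intro h₁ h₂ hA hF
  induction x with
  | bot => simp at h₁
  | coe x =>
    induction y with
    | bot => simp at h₂
    | coe y =>
      induction x using ENat.recTopCoe with
      | top => simp at hA
      | coe x =>
        induction y using ENat.recTopCoe with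
        | top => simp at hF
        | coe y =>
          norm_cast at h₁ h₂ ⊢
          omega

theorem isCM_ringEquiv {R S : Type u} [CommRing R] [CommRing S] (e : R ≃+* S)
    (h : LocCoh.IsCohenMacaulayLocalRing R) : LocCoh.IsCohenMacaulayLocalRing S := by
  have := isNoetherianRing_of_ringEquiv R e
  have := e.isLocalRing
  rw [CAlgH3.isCohenMacaulayLocalRing_iff_depth] at h ⊢
  rwa [← ringKrullDim_eq_of_ringEquiv e, ← CAlgH3.depth_ringEquiv e]

/-- Local rings along `C → A → B` with `A → B` flat: the `C`-fibre of `B` is Cohen–Macaulay iff the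
`C`-fibre of `A` and the `A`-fibre of `B` are. -/
theorem isCM_tower (C A B : Type u) [CommRing C] [CommRing A] [CommRing B] [IsLocalRing C]
    [IsLocalRing A] [IsLocalRing B] [Algebra C A] [Algebra A B] [Algebra C B] [IsScalarTower C A B]
    [IsLocalHom (algebraMap C A)] [IsLocalHom (algebraMap A B)] [Module.Flat A B]
    [IsNoetherianRing (A ⧸ (maximalIdeal C).map (algebraMap C A))]
    [IsNoetherianRing (B ⧸ (maximalIdeal C).map (algebraMap C B))] :
    LocCoh.IsCohenMacaulayLocalRing (B ⧸ (maximalIdeal C).map (algebraMap C B)) ↔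
      LocCoh.IsCohenMacaulayLocalRing (A ⧸ (maximalIdeal C).map (algebraMap C A)) ∧
      LocCoh.IsCohenMacaulayLocalRing (B ⧸ (maximalIdeal A).map (algebraMap A B)) := by
  set I := (maximalIdeal C).map (algebraMap C A) with hI
  have hIA : I ≤ maximalIdeal A := map_maximalIdeal_le (algebraMap C A)
  have hJ : (maximalIdeal C).map (algebraMap C B) = I.map (algebraMap A B) := by
    rw [hI, Ideal.map_map, ← IsScalarTower.algebraMap_eq]
  have hle : I.map (algebraMap A B) ≤ (maximalIdeal A).map (algebraMap A B) := Ideal.map_mono hIA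
  have hAB : (maximalIdeal A).map (algebraMap A B) ≤ maximalIdeal B :=
    map_maximalIdeal_le (algebraMap A B)
  have : IsNoetherianRing (B ⧸ I.map (algebraMap A B)) :=
    isNoetherianRing_of_ringEquiv _ (Ideal.quotEquivOfEq hJ)
  have : Nontrivial (A ⧸ I) := Ideal.Quotient.nontrivial_iff.2 fun h =>
    (maximalIdeal.isMaximal A).ne_top (top_le_iff.1 (h ▸ hIA))
  have : Nontrivial (B ⧸ I.map (algebraMap A B)) := Ideal.Quotient.nontrivial_iff.2 fun h =>
    (maximalIdeal.isMaximal B).ne_top (top_le_iff.1 (h ▸ hle.trans hAB))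
  have : IsLocalRing (A ⧸ I) := .of_surjective' _ Ideal.Quotient.mk_surjective
  have : IsLocalRing (B ⧸ I.map (algebraMap A B)) := .of_surjective' _ Ideal.Quotient.mk_surjective
  have : Module.Flat (A ⧸ I) (B ⧸ I.map (algebraMap A B)) :=
    Module.Flat.of_linearEquiv ({ (Algebra.TensorProduct.quotIdealMapEquivTensorQuot B I).toRingEquiv.trans
        (Algebra.TensorProduct.comm A B (A ⧸ I)).toRingEquiv with
      map_smul' := fun c z => by
        obtain ⟨c, rfl⟩ := Ideal.Quotient.mk_surjective c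
        obtain ⟨z, rfl⟩ := Ideal.Quotient.mk_surjective z
        rw [Algebra.smul_def, RingHom.id_apply]
        show Algebra.TensorProduct.comm A B (A ⧸ I)
            (Algebra.TensorProduct.quotIdealMapEquivTensorQuot B I
              (Ideal.Quotient.mk _ (algebraMap A B c) * Ideal.Quotient.mk _ z)) =
          Ideal.Quotient.mk I c • Algebra.TensorProduct.comm A B (A ⧸ I)
            (Algebra.TensorProduct.quotIdealMapEquivTensorQuot B I (Ideal.Quotient.mk _ z))
        rw [← map_mul]
        simp only [Algebra.TensorProduct.quotIdealMapEquivTensorQuot_mk,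
          Algebra.TensorProduct.comm_tmul, TensorProduct.smul_tmul', smul_eq_mul, mul_one]
        rw [← Algebra.smul_def, TensorProduct.tmul_smul, TensorProduct.smul_tmul', Algebra.smul_def,
          Ideal.Quotient.algebraMap_eq, mul_one] } :
      (B ⧸ I.map (algebraMap A B)) ≃ₗ[A ⧸ I] TensorProduct A (A ⧸ I) B)
  have hmax : maximalIdeal (A ⧸ I) = (maximalIdeal A).map (Ideal.Quotient.mk I) := by
    have := IsLocalHom.of_surjective (Ideal.Quotient.mk I) Ideal.Quotient.mk_surjective
    refine le_antisymm (fun x hx => ?_) (map_maximalIdeal_le _)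
    obtain ⟨a, rfl⟩ := Ideal.Quotient.mk_surjective x
    exact Ideal.mem_map_of_mem _ fun h => hx (h.map _)
  have hm : (maximalIdeal (A ⧸ I)).map (algebraMap (A ⧸ I) (B ⧸ I.map (algebraMap A B))) =
      ((maximalIdeal A).map (algebraMap A B)).map (Ideal.Quotient.mk (I.map (algebraMap A B))) :=
    (congrArg (Ideal.map _) hmax).trans ((Ideal.map_map _ _).trans
      (Eq.trans (congrArg (Ideal.map · (maximalIdeal A))
        (show (algebraMap (A ⧸ I) (B ⧸ I.map (algebraMap A B))).comp (Ideal.Quotient.mk I) =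
          (Ideal.Quotient.mk (I.map (algebraMap A B))).comp (algebraMap A B) from RingHom.ext fun _ => rfl))
        (Ideal.map_map _ _).symm))
  have : IsLocalHom (algebraMap (A ⧸ I) (B ⧸ I.map (algebraMap A B))) := by
    have := IsLocalHom.of_surjective (Ideal.Quotient.mk (I.map (algebraMap A B))) Ideal.Quotient.mk_surjective
    refine ⟨fun x hx => ?_⟩
    obtain ⟨a, rfl⟩ := Ideal.Quotient.mk_surjective x
    refine (isUnit_of_map_unit (algebraMap A B) a
      (isUnit_of_map_unit (Ideal.Quotient.mk (I.map (algebraMap A B))) _ ?_)).map _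
    exact hx
  rw [show LocCoh.IsCohenMacaulayLocalRing (B ⧸ (maximalIdeal C).map (algebraMap C B)) ↔
    LocCoh.IsCohenMacaulayLocalRing (B ⧸ I.map (algebraMap A B)) from
      ⟨isCM_ringEquiv (Ideal.quotEquivOfEq hJ), isCM_ringEquiv (Ideal.quotEquivOfEq hJ).symm⟩,
    isCM_iff_of_flat (A := A ⧸ I)]
  let e := (Ideal.quotEquivOfEq hm).trans (DoubleQuot.quotQuotEquivQuotOfLE hle)
  exact and_congr_right' ⟨isCM_ringEquiv e, isCM_ringEquiv e.symm⟩

theorem fibreStalk_equiv {X S : Scheme.{u}} (f : X ⟶ S) (x : X) :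
    Nonempty ((f.fiber (f x)).presheaf.stalk (f.asFiber x) ≃+*
      (X.presheaf.stalk x ⧸ (maximalIdeal (S.presheaf.stalk (f x))).map (f.stalkMap x).hom)) := by
  suffices ∀ (s : S) (y : ↥(f.fiber s)) (x : X), f.fiberι s y = x →
      Nonempty ((f.fiber s).presheaf.stalk y ≃+*
        (X.presheaf.stalk x ⧸ (maximalIdeal (S.presheaf.stalk (f x))).map (f.stalkMap x).hom)) from
    this _ _ x (f.fiberι_asFiber x)
  rintro s y x rfl
  obtain ⟨h1, h2⟩ := Props12.stalkMap_fiberι f s y
  exact ⟨((Ideal.quotEquivOfEq h2.symm).trans (RingHom.quotientKerEquivOfSurjective h1)).symm⟩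

theorem isCMAt_iff {X S : Scheme.{u}} (f : X ⟶ S) (x : X) :
    MoreMor.IsCMAt f x ↔ (f.stalkMap x).hom.Flat ∧ LocCoh.IsCohenMacaulayLocalRing
      (X.presheaf.stalk x ⧸ (maximalIdeal (S.presheaf.stalk (f x))).map (f.stalkMap x).hom) := by
  obtain ⟨e⟩ := fibreStalk_equiv f x
  exact and_congr_right' ⟨isCM_ringEquiv e, isCM_ringEquiv e.symm⟩

theorem isNoetherianRing_fibreStalk {X S : Scheme.{u}} (f : X ⟶ S) (x : X)
    (h : IsLocallyNoetherian (f.fiber (f x))) : IsNoetherianRing
      (X.presheaf.stalk x ⧸ (maximalIdeal (S.presheaf.stalk (f x))).map (f.stalkMap x).hom) := by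
  obtain ⟨e⟩ := fibreStalk_equiv f x
  exact isNoetherianRing_of_ringEquiv _ e

/-- The three fibre local rings along a composition. -/
theorem isCM_comp_iff {X Y Z : Scheme.{u}} (f : X ⟶ Y) (g : Y ⟶ Z) (x : X)
    (hfl : (f.stalkMap x).hom.Flat)
    (hY : IsNoetherianRing (Y.presheaf.stalk (f x) ⧸
      (maximalIdeal (Z.presheaf.stalk (g (f x)))).map (g.stalkMap (f x)).hom))
    (hN : IsNoetherianRing (X.presheaf.stalk x ⧸
      (maximalIdeal (Z.presheaf.stalk ((f ≫ g) x))).map ((f ≫ g).stalkMap x).hom)) :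
    MoreMor.IsCMAt (f ≫ g) x ↔ MoreMor.IsCMAt f x ∧ MoreMor.IsCMAt g (f x) := by
  let C := Z.presheaf.stalk (g (f x))
  let A := Y.presheaf.stalk (f x)
  let B := X.presheaf.stalk x
  have hc : ((f ≫ g).stalkMap x).hom = (f.stalkMap x).hom.comp (g.stalkMap (f x)).hom := by
    rw [Scheme.Hom.stalkMap_comp]; rfl
  let : Algebra C A := (g.stalkMap (f x)).hom.toAlgebra
  let : Algebra A B := (f.stalkMap x).hom.toAlgebra
  let : Algebra C B := ((f.stalkMap x).hom.comp (g.stalkMap (f x)).hom).toAlgebra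
  have : IsScalarTower C A B := .of_algebraMap_eq fun _ => rfl
  have : IsLocalHom (algebraMap C A) := inferInstanceAs (IsLocalHom (g.stalkMap (f x)).hom)
  have : IsLocalHom (algebraMap A B) := inferInstanceAs (IsLocalHom (f.stalkMap x).hom)
  have : Module.Flat A B := hfl
  have : IsNoetherianRing (A ⧸ (maximalIdeal C).map (algebraMap C A)) := hY
  have : IsNoetherianRing (B ⧸ (maximalIdeal C).map (algebraMap C B)) := by
    show IsNoetherianRing (B ⧸ (maximalIdeal C).map ((f.stalkMap x).hom.comp (g.stalkMap (f x)).hom))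
    exact hc ▸ hN
  rw [isCMAt_iff, isCMAt_iff, isCMAt_iff, hc]
  change _ ∧ LocCoh.IsCohenMacaulayLocalRing (B ⧸ (maximalIdeal C).map (algebraMap C B)) ↔ _
  rw [isCM_tower C A B]
  constructor
  · rintro ⟨h1, h2, h3⟩
    exact ⟨⟨hfl, h3⟩, AdicRing.flat_of_flat_comp_of_isLocalHom _ _ hfl h1, h2⟩
  · rintro ⟨⟨-, h3⟩, h1, h2⟩
    exact ⟨h1.comp hfl, h2, h3⟩

end Groth.Agent.FlatMor12
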