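import Groth.Agent.DimLib.BaseChange
import Groth.Agent.DimLib.Maximal
import Groth.Agent.DimLib.Components

/-! Base change of flat morphisms with equidimensional fibres, over a field. -/

universe u

set_option autoImplicit false
set_option backward.isDefEq.respectTransparency false

open CategoryTheory Limits AlgebraicGeometry

namespace Groth.Agent.FlatMor12

open Groth.Agent DimLib

/-- `η` has no proper generization in its fibre. -/
def IsFibreMax {X Y : Scheme.{u}} (f : X ⟶ Y) (η : X) : Prop :=
  ∀ w, w ⤳ η → f w = f η → η = w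

theorem fibreMax_asFiber {X Y : Scheme.{u}} (f : X ⟶ Y) {η : X} (hη : IsFibreMax f η) :
    ∀ w : f.fiber (f η), w ⤳ f.asFiber η → f.asFiber η = w := fun w hw => by
  refine (f.fiberι (f η)).isEmbedding.injective ((f.fiberι_asFiber η).trans (hη _ ?_ ?_))
  · have := hw.map (f.fiberι (f η)).continuous
    rwa [f.fiberι_asFiber] at this
  · exact (f.range_fiberι (f η)).le ⟨w, rfl⟩

theorem fiberι_fibreMax {X Y : Scheme.{u}} (f : X ⟶ Y) (y : Y) {a : f.fiber y}
    (ha : ∀ w, w ⤳ a → a = w) : IsFibreMax f (f.fiberι y a) := fun w hw hfw => by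
  have hy : f (f.fiberι y a) = y := (f.range_fiberι y).le ⟨a, rfl⟩
  obtain ⟨b, rfl⟩ : w ∈ Set.range (f.fiberι y) := by rw [f.range_fiberι]; exact hfw.trans hy
  rw [ha b ((f.fiberι y).isEmbedding.isInducing.specializes_iff.1 hw)]

variable {k : Type u} [Field k] {X Y : Scheme.{u}}

theorem ptDim_maximal_of_isPullback {K : Type u} [Field K] {F F' : Scheme.{u}} (π : F ⟶ Spec (.of k))
    [LocallyOfFiniteType π] (ρ : k →+* K) (π' : F' ⟶ Spec (.of K)) (l : F' ⟶ F)
    (sq : IsPullback l π' π (Spec.map (CommRingCat.ofHom ρ))) {z : F'} (hz : ∀ w, w ⤳ z → z = w) :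
    ptDim π' z = ptDim π (l z) ∧ ∀ a, a ⤳ l z → l z = a := by
  let _ : Algebra k K := ρ.toAlgebra
  let E := sq.isoPullback
  have hmax : ∀ w, w ⤳ E.hom z → E.hom z = w := by
    intro w hw
    obtain ⟨a, rfl⟩ := E.hom.homeomorph.surjective w
    exact congrArg E.hom (hz a (E.hom.homeomorph.isInducing.specializes_iff.1 hw))
  have hfst : l z = bcFst π K (E.hom z) := by
    show l z = (E.hom ≫ bcFst π K) z
    rw [show E.hom ≫ bcFst π K = l from sq.isoPullback_hom_fst]
  have he : ptDim π' z = ptDim (bcStr π K) (E.hom z) := by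
    have := DimLib.ptDim_of_isIso (bcStr π K) E.hom z
    rwa [show E.hom ≫ bcStr π K = π' from sq.isoPullback_hom_snd] at this
  rw [he, hfst, ptDim_bc_eq_of_maximal π K fun w hw _ => hmax w hw]
  exact ⟨rfl, maximal_apply_fst π _ hmax⟩

/-- Fibre dimension at fibre-maximal points is invariant under base change. -/
theorem trdegHom_of_fibreMax {Y' : Scheme.{u}} (f : X ⟶ Y) [LocallyOfFiniteType f] (g : Y' ⟶ Y) (n : ℕ)
    (hn : ∀ η : X, IsFibreMax f η →
      ptDim (k := Y.residueField (f η)) (f.fiberToSpecResidueField (f η)) (f.asFiber η) = n)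
    {z : ↥(pullback f g)} (hz : IsFibreMax (pullback.snd f g) z) :
    ptDim (k := Y'.residueField (pullback.snd f g z))
      ((pullback.snd f g).fiberToSpecResidueField (pullback.snd f g z))
      ((pullback.snd f g).asFiber z) = n := by
  let f' := pullback.snd f g
  let v := f' z
  let y := g v
  let b : Spec (Y'.residueField v) ⟶ Spec (Y.residueField y) := Spec.map (g.residueFieldMap v)
  have sq : IsPullback (f'.fiberι v ≫ pullback.fst f g) (f'.fiberToSpecResidueField v) f
      (Y'.fromSpecResidueField v ≫ g) :=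
    (IsPullback.of_hasPullback f' (Y'.fromSpecResidueField v)).paste_horiz
      (IsPullback.of_hasPullback f g)
  have hb : b ≫ Y.fromSpecResidueField y = Y'.fromSpecResidueField v ≫ g :=
    g.SpecMap_residueFieldMap_fromSpecResidueField v
  have hl : (f'.fiberι v ≫ pullback.fst f g) ≫ f = (f'.fiberToSpecResidueField v ≫ b) ≫ Y.fromSpecResidueField y := by
    rw [sq.w, Category.assoc, hb]
  let l : f'.fiber v ⟶ f.fiber y := pullback.lift _ _ hl
  have sq' : IsPullback l (f'.fiberToSpecResidueField v) (f.fiberToSpecResidueField y) b := by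
    refine IsPullback.of_right ?_ (pullback.lift_snd _ _ _) (IsPullback.of_hasPullback f (Y.fromSpecResidueField y))
    rw [hb, pullback.lift_fst]
    exact sq
  have : LocallyOfFiniteType (f.fiberToSpecResidueField y) :=
    inferInstanceAs (LocallyOfFiniteType (pullback.snd f (Y.fromSpecResidueField y)))
  obtain ⟨h1, h2⟩ := ptDim_maximal_of_isPullback (k := Y.residueField y) (K := Y'.residueField v)
    (f.fiberToSpecResidueField y) (g.residueFieldMap v).hom (f'.fiberToSpecResidueField v) l sq'
    (fibreMax_asFiber f' hz)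
  rw [h1]
  have key : ∀ (x : X) (y : Y), f x = y → ∀ a : f.fiber y, f.fiberι y a = x → IsFibreMax f x →
      ptDim (k := Y.residueField y) (f.fiberToSpecResidueField y) a = n := by
    intro x y hy
    subst hy
    intro a ha hx
    have := hn x hx
    rwa [show f.asFiber x = a from
      (f.fiberι _).isEmbedding.injective ((f.fiberι_asFiber x).trans ha.symm)] at this
  exact key _ y ((f.range_fiberι y).le ⟨l (f'.asFiber z), rfl⟩) _ rfl (fiberι_fibreMax f y h2)

theorem dim_component_of_equidim {Y' : Scheme.{u}} (qY : Y ⟶ Spec (.of k)) (qY' : Y' ⟶ Spec (.of k))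
    (f : X ⟶ Y) [LocallyOfFiniteType qY] [LocallyOfFiniteType (f ≫ qY)] [LocallyOfFiniteType qY']
    [IrreducibleSpace Y] [Flat f] (n : ℕ)
    (hX : ∀ Z ∈ irreducibleComponents X,
      topologicalKrullDim ↥Z = topologicalKrullDim Y + (n : WithBot ℕ∞))
    (g : Y' ⟶ Y) {V : Set Y'} (hV : IsClosed V) (hVirr : IsIrreducible V)
    {W : Set ↥((pullback.snd f g).base ⁻¹' V)}
    (hW : W ∈ irreducibleComponents ↥((pullback.snd f g).base ⁻¹' V)) :
    topologicalKrullDim ↥W = topologicalKrullDim ↥V + (n : WithBot ℕ∞) := by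
  have : LocallyOfFiniteType f := locallyOfFiniteType_of_comp f qY
  have hd := topologicalKrullDim_eq_ptDim_genericPoint qY
  rw [hd] at hX
  have hX' := (forall_components_iff (f ≫ qY) (fun t => t = _)).1 hX
  have hY : ∀ ξ : Y, (∀ w, w ⤳ ξ → ξ = w) → ptDim qY ξ = ptDim qY (genericPoint Y) := fun ξ h => by
    rw [h (genericPoint Y) (genericPoint_specializes ξ)]
  have hfib := (fibre_equidim_iff_of_flat qY f _ n hY).1 fun η hη => by
    exact_mod_cast hX' η hη
  have hn : ∀ η : X, IsFibreMax f η →
      ptDim (k := Y.residueField (f η)) (f.fiberToSpecResidueField (f η)) (f.asFiber η) = n :=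
    fun η hη => by
      have h1 := hfib η hη
      rw [ptDim_eq_add_of_mem_fiber qY f η] at h1
      omega
  let f' := pullback.snd f g
  obtain ⟨v, hv⟩ := QuasiSober.sober hVirr hV
  have hpre : IsClosed (f'.base ⁻¹' V) := hV.preimage f'.continuous
  have : QuasiSober ↥(f'.base ⁻¹' V) := hpre.isClosedEmbedding_subtypeVal.quasiSober
  obtain ⟨η, hη⟩ := QuasiSober.sober hW.1 (isClosed_of_mem_irreducibleComponents W hW)
  have hmaxη : ∀ w : ↥(pullback f g), w ⤳ η.1 → f' w ∈ V → η.1 = w := fun w hw hwV => by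
    have h2 := (mem_components_iff η).1 (hη.def.symm ▸ hW) ⟨w, hwV⟩
      (Topology.IsInducing.subtypeVal.specializes_iff.1 hw)
    exact ((Topology.IsInducing.subtypeVal.specializes_iff.2 h2).antisymm hw).eq
  have hfv : f' η.1 = v := by
    obtain ⟨w, hw, hwv⟩ := Flat.generalizingMap (f := f') (hv.specializes η.2)
    rw [hmaxη w hw (show f' w ∈ V from hwv.symm ▸ hv.mem)]
    exact hwv
  have hz : IsFibreMax f' η.1 := fun w hw hw' =>
    hmaxη w hw (show f' w ∈ V from hw'.symm ▸ η.2)
  have : LocallyOfFiniteType (f' ≫ qY') := inferInstance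
  have hWc : IsClosed (Subtype.val '' W : Set ↥(pullback f g)) :=
    hpre.isClosedEmbedding_subtypeVal.isClosedMap _ (isClosed_of_mem_irreducibleComponents W hW)
  have hgen : IsGenericPoint η.1 (Subtype.val '' W : Set ↥(pullback f g)) := by
    have := hη.image continuous_subtype_val
    rwa [hWc.closure_eq] at this
  have e : topologicalKrullDim ↥W = topologicalKrullDim ↥(Subtype.val '' W : Set ↥(pullback f g)) :=
    IsHomeomorph.topologicalKrullDim_eq _
      (Topology.IsEmbedding.subtypeVal.homeomorphImage W).isHomeomorph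
  rw [e, topologicalKrullDim_eq_ptDim_of_isGenericPoint (f' ≫ qY') hgen,
    topologicalKrullDim_eq_ptDim_of_isGenericPoint qY' hv, ptDim_eq_add_of_mem_fiber qY' f' η.1,
    trdegHom_of_fibreMax f g n hn hz, hfv]
  norm_cast

end Groth.Agent.FlatMor12
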