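import Groth.Agent.EGA43.FibDepth.Points

/-! Residue field extensions of morphisms locally of finite type have finite transcendence degree. -/

set_option autoImplicit false
set_option backward.isDefEq.respectTransparency false
universe u

open CategoryTheory CategoryTheory.Limits AlgebraicGeometry

namespace Groth.Agent.FlatMor12

theorem trdeg_residueFieldMap_fiberι_lt {X Y : Scheme.{u}} (f : X ⟶ Y) [LocallyOfFiniteType f] (y : Y)
    (z : f.fiber y) :
    @Algebra.trdeg (Y.residueField (f (f.fiberι y z))) (X.residueField (f.fiberι y z)) _ _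
      (f.residueFieldMap (f.fiberι y z)).hom.toAlgebra < Cardinal.aleph0 := by
  have hlft : LocallyOfFiniteType (f.fiberToSpecResidueField y) :=
    inferInstanceAs (LocallyOfFiniteType (pullback.snd f (Y.fromSpecResidueField y)))
  have hy : y = f (f.fiberι y z) :=
    ((f.range_fiberι y).le ⟨z, rfl⟩ : f (f.fiberι y z) = y).symm
  have h : CommRingCat.ofHom (DimLib.baseRingHom (k := Y.residueField y)
        (f.fiberToSpecResidueField y) z) =
      (Y.residueFieldCongr hy).hom ≫ f.residueFieldMap (f.fiberι y z) ≫
        (f.fiberι y).residueFieldMap z := by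
    apply Spec.map_injective
    rw [DimLib.specMap_baseRingHom, ← cancel_mono (Y.fromSpecResidueField y), Spec.map_comp,
      Spec.map_comp, Category.assoc, Category.assoc, Category.assoc,
      Scheme.residueFieldCongr_fromSpecResidueField,
      Scheme.Hom.SpecMap_residueFieldMap_fromSpecResidueField,
      Scheme.Hom.SpecMap_residueFieldMap_fromSpecResidueField_assoc, f.fiber_fac]
  have h' := DimLib.trdeg_baseRingHom_lt (k := Y.residueField y) (f.fiberToSpecResidueField y) z
  have hh : DimLib.baseRingHom (k := Y.residueField y) (f.fiberToSpecResidueField y) z =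
      ((f.fiberι y).residueFieldMap z).hom.comp
        ((f.residueFieldMap (f.fiberι y z)).hom.comp (Y.residueFieldCongr hy).hom.hom) :=
    congrArg CommRingCat.Hom.hom h
  rw [hh] at h'
  exact (DimLib.trdeg_lt_of_comp _ _ (DimLib.trdeg_lt_of_comp _ _ h').1).2

theorem trdeg_residueFieldMap_lt {X Y : Scheme.{u}} (f : X ⟶ Y) [LocallyOfFiniteType f] (x : X) :
    @Algebra.trdeg (Y.residueField (f x)) (X.residueField x) _ _ (f.residueFieldMap x).hom.toAlgebra <
      Cardinal.aleph0 :=
  (f.fiberι_asFiber x) ▸ trdeg_residueFieldMap_fiberι_lt f (f x) (f.asFiber x)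

end Groth.Agent.FlatMor12
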