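import Groth.Agent.FlatMor12.FlatLiftAt
import Groth.Agent.FlatMor12.EquidimBC
import Groth.Agent.FlatMor12.ResTrdeg
import Groth.Agent.FlatMorDim.LocalDim
import Groth.Agent.EGA43.Cons.FibreCritScheme
import Groth.Prelude.Def_Cyc

/-! Fibre dimension of composites. -/

set_option autoImplicit false
set_option backward.isDefEq.respectTransparency false
universe u

open CategoryTheory AlgebraicGeometry TopologicalSpace
open Groth.Agent

namespace Groth.Agent.FlatMor12

/-- Flat at a point: generisations do not lose transcendence degree. -/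
theorem exists_specializes_trdegHom_le_at {X S : Scheme.{u}} (f : X ⟶ S) [LocallyOfFiniteType f] (x : X)
    (hflat : (f.stalkMap x).hom.Flat) (s' : S) (hs : s' ⤳ f x) :
    ∃ x', x' ⤳ x ∧ f x' = s' ∧
      DimLib.trdegHom (f.residueFieldMap x).hom ≤ DimLib.trdegHom (f.residueFieldMap x').hom := by
  obtain ⟨V, hV, hxV, -⟩ := exists_isAffineOpen_mem_and_subset (x := f x) (U := ⊤) (Set.mem_univ _)
  obtain ⟨U, hU, hxU, hUV'⟩ := exists_isAffineOpen_mem_and_subset (x := x) (U := f ⁻¹ᵁ V) hxV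
  have e : U ≤ f ⁻¹ᵁ V := hUV'
  have hft := LocallyOfFiniteType.finiteType_appLE f hV hU e
  algebraize [(f.appLE V U e).hom]
  have hfl : Module.Flat Γ(S, V) (LocalizedModule (hU.primeIdealOf ⟨x, hxU⟩).asIdeal.primeCompl Γ(X, U)) :=
    (EGA43.Cons.flat_stalkMap_iff_of_affine f hV hU e hxU).1 hflat
  have hfl' : Module.Flat Γ(S, V) (Localization.AtPrime (hU.primeIdealOf ⟨x, hxU⟩).asIdeal) := hfl
  have hs'V : s' ∈ V := hs.mem_open V.isOpen hxV
  let p' := hV.primeIdealOf ⟨s', hs'V⟩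
  have hle : p'.asIdeal ≤ (hU.primeIdealOf ⟨x, hxU⟩).asIdeal.comap
      (algebraMap Γ(S, V) Γ(X, U)) := by
    show p'.asIdeal ≤ (hU.primeIdealOf ⟨x, hxU⟩).asIdeal.comap (f.appLE V U e).hom
    rw [EGA43.FibDepth.comap_primeIdealOf f hV hU e hxU]
    refine (PrimeSpectrum.le_iff_specializes p' _).2 ?_
    rw [← hV.fromSpec.isOpenEmbedding.isInducing.specializes_iff, hV.fromSpec_primeIdealOf,
      hV.fromSpec_primeIdealOf]
    exact hs
  obtain ⟨q', hq'le, hq'p, htr⟩ :=
    exists_le_trd_le' (hU.primeIdealOf ⟨x, hxU⟩) p'.asIdeal hle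
  have hy : hU.fromSpec q' ∈ U := hU.range_fromSpec.le ⟨q', rfl⟩
  have hq : hU.primeIdealOf ⟨hU.fromSpec q', hy⟩ = q' :=
    hU.fromSpec.isOpenEmbedding.injective (hU.fromSpec_primeIdealOf ⟨hU.fromSpec q', hy⟩)
  refine ⟨hU.fromSpec q', ?_, ?_, ?_⟩
  · have h' := ((PrimeSpectrum.le_iff_specializes _ _).1
      (show q' ≤ hU.primeIdealOf ⟨x, hxU⟩ from hq'le)).map hU.fromSpec.continuous
    rwa [hU.fromSpec_primeIdealOf] at h'
  · have h1 : (hU.primeIdealOf ⟨hU.fromSpec q', hy⟩).asIdeal.comap (f.appLE V U e).hom =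
        (hV.primeIdealOf ⟨f (hU.fromSpec q'), e hy⟩).asIdeal :=
      EGA43.FibDepth.comap_primeIdealOf f hV hU e hy
    rw [hq] at h1
    have h' : hV.primeIdealOf ⟨f (hU.fromSpec q'), e hy⟩ = p' :=
      PrimeSpectrum.ext (h1.symm.trans hq'p)
    have := congrArg hV.fromSpec h'
    rwa [hV.fromSpec_primeIdealOf, hV.fromSpec_primeIdealOf] at this
  · rw [EGA43.FibDepth.trdegHom_residueFieldMap f hV hU e hxU,
      EGA43.FibDepth.trdegHom_residueFieldMap f hV hU e hy, hq]
    exact htr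

theorem flat_stalkMap_of_specializes {X S : Scheme.{u}} (f : X ⟶ S) {x x' : X} (h : x' ⤳ x)
    (hflat : (f.stalkMap x).hom.Flat) : (f.stalkMap x').hom.Flat := by
  obtain ⟨V, hV, hxV, -⟩ := exists_isAffineOpen_mem_and_subset (x := f x) (U := ⊤) (Set.mem_univ _)
  obtain ⟨U, hU, hxU, hUV'⟩ := exists_isAffineOpen_mem_and_subset (x := x) (U := f ⁻¹ᵁ V) hxV
  have e : U ≤ f ⁻¹ᵁ V := hUV'
  have hxU' : x' ∈ U := h.mem_open U.isOpen hxU
  algebraize [(f.appLE V U e).hom]
  let q := (hU.primeIdealOf ⟨x, hxU⟩).asIdeal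
  let q' := (hU.primeIdealOf ⟨x', hxU'⟩).asIdeal
  have hle : q' ≤ q := by
    refine (PrimeSpectrum.le_iff_specializes _ _).2 ?_
    rw [← hU.fromSpec.isOpenEmbedding.isInducing.specializes_iff, hU.fromSpec_primeIdealOf,
      hU.fromSpec_primeIdealOf]
    exact h
  have hfl : Module.Flat Γ(S, V) (Localization.AtPrime q) :=
    (EGA43.Cons.flat_stalkMap_iff_of_affine f hV hU e hxU).1 hflat
  refine (EGA43.Cons.flat_stalkMap_iff_of_affine f hV hU e hxU').2 ?_
  show Module.Flat Γ(S, V) (Localization.AtPrime q')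
  have hle' : q.primeCompl ≤ q'.primeCompl := fun r hr hr' => hr (hle hr')
  let _ : Algebra (Localization.AtPrime q) (Localization.AtPrime q') :=
    (IsLocalization.map (M := q.primeCompl) (T := q'.primeCompl) (Localization.AtPrime q')
      (RingHom.id Γ(X, U)) hle').toAlgebra
  have : IsScalarTower Γ(X, U) (Localization.AtPrime q) (Localization.AtPrime q') :=
    .of_algebraMap_eq fun r => by rw [RingHom.algebraMap_toAlgebra, IsLocalization.map_eq]; rfl
  have : IsScalarTower Γ(S, V) (Localization.AtPrime q) (Localization.AtPrime q') := .to₁₃₄ _ Γ(X, U) _ _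
  have := IsLocalization.isLocalization_of_submonoid_le (Localization.AtPrime q) (Localization.AtPrime q')
    q.primeCompl q'.primeCompl hle'
  have := IsLocalization.flat (Localization.AtPrime q') (q'.primeCompl.map (algebraMap Γ(X, U) (Localization.AtPrime q)))
  exact Module.Flat.trans Γ(S, V) (Localization.AtPrime q) _

variable {X Y Z : Scheme.{u}} (f : X ⟶ Y) (g : Y ⟶ Z) [LocallyOfFiniteType f] [LocallyOfFiniteType g]

theorem trdegHom_comp_residueFieldMap (x : X) :
    DimLib.trdegHom ((f ≫ g).residueFieldMap x).hom =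
      DimLib.trdegHom (g.residueFieldMap (f x)).hom + DimLib.trdegHom (f.residueFieldMap x).hom := by
  rw [Scheme.residueFieldMap_comp]
  exact DimLib.trdegHom_comp _ _ (trdeg_residueFieldMap_lt g (f x)) (trdeg_residueFieldMap_lt f x)

omit [LocallyOfFiniteType f] in
theorem zero_le_fibreDimAt (x : X) : 0 ≤ FlatMor.fibreDimAt f x :=
  le_iInf fun U => by
    have : Nonempty (TopologicalSpace.IrreducibleCloseds ↥(U.1 : Set (f.fiber (f x)))) :=
      ⟨⟨closure {⟨f.asFiber x, U.2⟩}, isIrreducible_singleton.closure, isClosed_closure⟩⟩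
    exact Order.krullDim_nonneg

/-- Comparison of `WithBot ℕ∞` values by their natural upper bounds. -/
theorem le_of_forall_nat {a b : WithBot ℕ∞} (hb : 0 ≤ b) (h : ∀ n : ℕ, b ≤ (n : WithBot ℕ∞) → a ≤ (n : WithBot ℕ∞)) :
    a ≤ b := by
  induction b using WithBot.recBotCoe with
  | bot => exact absurd hb (by simp)
  | coe b =>
    induction b using ENat.recTopCoe with
    | top => exact le_top
    | coe n => exact h n le_rfl

theorem exists_nat_of_le {a : WithBot ℕ∞} (h0 : 0 ≤ a) {n : ℕ} (h : a ≤ (n : WithBot ℕ∞)) :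
    ∃ m : ℕ, a = (m : WithBot ℕ∞) ∧ m ≤ n := by
  induction a using WithBot.recBotCoe with
  | bot => exact absurd h0 (by simp)
  | coe a =>
    induction a using ENat.recTopCoe with
    | top => exact absurd (WithBot.coe_le_coe.1 h) (by simp)
    | coe m => exact ⟨m, rfl, ENat.coe_le_coe.1 (WithBot.coe_le_coe.1 h)⟩

theorem fibreDimAt_comp_le_nat (x : X) (a b : ℕ) (ha : FlatMor.fibreDimAt f x ≤ (a : WithBot ℕ∞))
    (hb : FlatMor.fibreDimAt g (f x) ≤ (b : WithBot ℕ∞)) :
    FlatMor.fibreDimAt (f ≫ g) x ≤ ((a + b : ℕ) : WithBot ℕ∞) := by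
  rw [FlatMorDim.fibreDimAt_le_iff]
  intro x' hx' hs
  have h1 : DimLib.trdegHom (f.residueFieldMap x').hom ≤ a :=
    (FlatMorDim.fibreDimAt_le_iff f x' a).1 (hs.mem_open (FlatMorDim.isOpen_fibreDimAt_le f a) ha)
      x' rfl specializes_rfl
  have h2 : DimLib.trdegHom (g.residueFieldMap (f x')).hom ≤ b :=
    (FlatMorDim.fibreDimAt_le_iff g (f x) b).1 hb (f x') (by simpa using hx') (hs.map f.continuous)
  rw [trdegHom_comp_residueFieldMap]
  omega

theorem fibreDimAt_comp_ge (x : X) (hflat : (f.stalkMap x).hom.Flat) (n : ℕ)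
    (h : FlatMor.fibreDimAt (f ≫ g) x ≤ (n : WithBot ℕ∞)) :
    FlatMor.fibreDimAt f x + FlatMor.fibreDimAt g (f x) ≤ (n : WithBot ℕ∞) := by
  classical
  rw [FlatMorDim.fibreDimAt_le_iff] at h
  let PA : ℕ → Prop := fun a => ∃ x₀, f x₀ = f x ∧ x₀ ⤳ x ∧ DimLib.trdegHom (f.residueFieldMap x₀).hom = a
  let PB : ℕ → Prop := fun b => ∃ y, g y = g (f x) ∧ y ⤳ f x ∧ DimLib.trdegHom (g.residueFieldMap y).hom = b
  have key : ∀ a b, PA a → PB b → a + b ≤ n := by
    rintro a b ⟨x₀, hx₀, hs₀, rfl⟩ ⟨y, hy, hsy, rfl⟩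
    obtain ⟨x', hx', hfx', htr⟩ := exists_specializes_trdegHom_le_at f x₀ (flat_stalkMap_of_specializes f hs₀ hflat) y (hx₀ ▸ hsy)
    subst hfx'
    have := h x' (by simpa using hy) (hx'.trans hs₀)
    rw [trdegHom_comp_residueFieldMap] at this
    omega
  have hA0 : PA _ := ⟨x, rfl, specializes_rfl, rfl⟩
  have hB0 : PB _ := ⟨f x, rfl, specializes_rfl, rfl⟩
  have hA : ∀ a, PA a → a ≤ n := fun a ha => (Nat.le_add_right a _).trans (key a _ ha hB0)
  have hB : ∀ b, PB b → b ≤ n := fun b hb => (Nat.le_add_left b _).trans (key _ b hA0 hb)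
  have hPA := Nat.findGreatest_spec (P := PA) (hA _ hA0) hA0
  have hPB := Nat.findGreatest_spec (P := PB) (hB _ hB0) hB0
  have h1 : FlatMor.fibreDimAt f x ≤ (Nat.findGreatest PA n : WithBot ℕ∞) := by
    rw [FlatMorDim.fibreDimAt_le_iff]
    intro x₀ hx₀ hs₀
    exact Nat.le_findGreatest (hA _ ⟨x₀, hx₀, hs₀, rfl⟩) ⟨x₀, hx₀, hs₀, rfl⟩
  have h2 : FlatMor.fibreDimAt g (f x) ≤ (Nat.findGreatest PB n : WithBot ℕ∞) := by
    rw [FlatMorDim.fibreDimAt_le_iff]
    intro y hy hsy
    exact Nat.le_findGreatest (hB _ ⟨y, hy, hsy, rfl⟩) ⟨y, hy, hsy, rfl⟩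
  refine (add_le_add h1 h2).trans ?_
  exact_mod_cast key _ _ hPA hPB

theorem hasRelDim_iff (d : ℕ) :
    Cyc.HasRelDim f d ↔ ∀ η, IsFibreMax f η → DimLib.trdegHom (f.residueFieldMap η).hom = d := by
  have key : ∀ y, (∀ T ∈ irreducibleComponents ↥(f.fiber y), topologicalKrullDim T = (d : WithBot ℕ∞)) ↔
      ∀ a : f.fiber y, (∀ w, w ⤳ a → a = w) → DimLib.trdegHom (f.residueFieldMap (f.fiberι y a)).hom = d := by
    intro y
    have : LocallyOfFiniteType (f.fiberToSpecResidueField y) :=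
      inferInstanceAs (LocallyOfFiniteType (Limits.pullback.snd f (Y.fromSpecResidueField y)))
    rw [DimLib.forall_components_iff (k := Y.residueField y) (f.fiberToSpecResidueField y)
      (fun t => t = (d : WithBot ℕ∞))]
    refine forall₂_congr fun a _ => ?_
    rw [EGA43.FibDepth.ptDim_fiber f]
    exact_mod_cast Iff.rfl
  constructor
  · intro h η hη
    have := (key (f η)).1 (h (f η)) (f.asFiber η) (fibreMax_asFiber f hη)
    rwa [f.fiberι_asFiber] at this
  · intro h y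
    exact (key y).2 fun a ha => h _ (fiberι_fibreMax f y ha)

end Groth.Agent.FlatMor12
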