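import Groth.Agent.AmpleLib.FTIdeal
import Groth.Agent.AmpleLib.GenLocus
import Groth.Prelude.Def_ClSub2
import Groth.Prelude.Def_BlowUp2

/-!
# Generators of the ideal module of an effective Cartier divisor

Light-weight versions (small import closure) of lemmas of `CurveRR24.PointInv`, `AbCubeLib.ExistsAmple` and
`AbCubeLib.CanonicalSection`.
-/

set_option autoImplicit false
set_option linter.style.haveILetI false
set_option linter.unusedSectionVars false
set_option backward.isDefEq.respectTransparency.types false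

universe u

open CategoryTheory CategoryTheory.Limits AlgebraicGeometry Opposite TopologicalSpace
open Groth.Agent.Coherent Groth.Agent.PicLib Groth.Agent.AmpleLib

namespace Groth.Agent.FlatMor12.IdealModGen

variable {X : Scheme.{u}}

theorem isLeftRegular_res {W : X.Opens} (hW : IsAffineOpen W) {a : Γ(X, W)} (ha : IsLeftRegular a)
    {V : X.Opens} (hV : V ≤ W) : IsLeftRegular (res hV a) := by
  intro b c hbc
  simp only at hbc
  refine TopCat.Presheaf.section_ext X.sheaf V b c fun z hz => ?_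
  obtain ⟨g, hg, hzg⟩ := hW.exists_basicOpen_le (V := V) ⟨z, hz⟩ (hV hz)
  haveI : IsLocalization.Away g Γ(X, X.basicOpen g) := hW.isLocalization_basicOpen g
  have hreg : IsLeftRegular (res (X.basicOpen_le g) a) := by
    intro u v huv
    simp only at huv
    obtain ⟨⟨u', ⟨_, n, rfl⟩⟩, hu⟩ := IsLocalization.surj (Submonoid.powers g) (u - v)
    have h0 : algebraMap Γ(X, W) Γ(X, X.basicOpen g) (a * u') = algebraMap Γ(X, W) Γ(X, X.basicOpen g) 0 := by
      rw [map_zero, map_mul, ← hu]
      show res _ a * ((u - v) * _) = 0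
      rw [← mul_assoc, mul_sub, huv, sub_self, zero_mul]
    obtain ⟨⟨w, hw⟩, hwu⟩ := (IsLocalization.eq_iff_exists (Submonoid.powers g) _).1 h0
    have h1 : w * u' = 0 := ha (by
      show a * (w * u') = a * 0
      rw [mul_zero, mul_left_comm]; simpa using hwu)
    have h2 := congrArg (algebraMap Γ(X, W) Γ(X, X.basicOpen g)) h1
    rw [map_mul, map_zero] at h2
    have h3 : algebraMap Γ(X, W) Γ(X, X.basicOpen g) u' = 0 :=
      (IsLocalization.map_units _ (⟨w, hw⟩ : Submonoid.powers g)).mul_right_eq_zero.1 h2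
    refine sub_eq_zero.1 ((IsLocalization.map_units _
      (⟨g ^ n, n, rfl⟩ : Submonoid.powers g)).mul_left_eq_zero.1 (hu.trans h3))
  have e : res hg b = res hg c := hreg (by
    show res _ a * res hg b = res _ a * res hg c
    rw [show res (X.basicOpen_le g) a = res hg (res hV a) from (PicLib.res_res hV hg a).symm,
      ← map_mul, ← map_mul, hbc])
  exact (TopCat.Presheaf.germ_res_apply X.presheaf (homOfLE hg) z hzg b).symm.trans
    ((congrArg (X.presheaf.germ (X.basicOpen g) z hzg) e).trans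
      (TopCat.Presheaf.germ_res_apply X.presheaf (homOfLE hg) z hzg c))

/-- An ideal principal on an affine open, by a regular element, is generated by it. -/
theorem bijective_smul_of_affine_gen (I : X.IdealSheafData) {W : X.Opens}
    {k : Γ(ClSub.idealMod I, W)} {a : Γ(X, W)} (hW : IsAffineOpen W)
    (hk : (ClSub.idealModι I).app W k = a) (ha : IsLeftRegular a)
    (hgen : I.ideal ⟨W, hW⟩ = Ideal.span {a}) : IsGen (ClSub.idealMod I) W k := by
  haveI := mono_idealModι I
  have key : ∀ (V : X.Opens) (hV : V ≤ W) (r : Γ(X, V)),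
      (ClSub.idealModι I).app V (r • resM _ hV k) = r * res hV a := fun V hV r => by
    rw [Scheme.Modules.Hom.app_smul, app_resM, hk]; rfl
  intro V hV
  constructor
  · intro b c h
    refine isLeftRegular_res hW ha hV ?_
    show res hV a * b = res hV a * c
    rw [mul_comm _ b, mul_comm _ c, ← key V hV b, ← key V hV c]
    exact congrArg _ h
  · intro x
    let y : Γ(X, V) := (ClSub.idealModι I).app V x
    have hloc : ∀ z : V, ∃ g : Γ(X, W), ∃ hg : X.basicOpen g ≤ V, z.1 ∈ X.basicOpen g ∧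
        ∃ r : Γ(X, X.basicOpen g), res hg y = r * res (X.basicOpen_le g) a := by
      intro z
      obtain ⟨g, hg, hzg⟩ := hW.exists_basicOpen_le (V := V) z (hV z.2)
      refine ⟨g, hg, hzg, ?_⟩
      have hy : res hg y ∈ I.ideal ⟨X.basicOpen g, hW.basicOpen g⟩ := by
        rw [← I.ker_subschemeι_app ⟨X.basicOpen g, hW.basicOpen g⟩, RingHom.mem_ker]
        exact (mem_range_idealModι I _ _).1 ⟨resM _ hg x, app_resM _ hg x⟩
      rw [← I.map_ideal (U := ⟨X.basicOpen g, hW.basicOpen g⟩) (V := ⟨W, hW⟩) (X.basicOpen_le g),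
        hgen, Ideal.map_span, Set.image_singleton] at hy
      obtain ⟨r, hr⟩ := Ideal.mem_span_singleton'.1 hy
      exact ⟨r, hr.symm⟩
    choose g hg hzg r hr using hloc
    obtain ⟨b, hb, -⟩ := TopCat.Sheaf.existsUnique_gluing' X.sheaf (fun z : V => X.basicOpen (g z)) V
      (fun z => homOfLE (hg z)) (fun z hz => Opens.mem_iSup.2 ⟨⟨z, hz⟩, hzg ⟨z, hz⟩⟩) r
      (fun i j => by
        refine isLeftRegular_res hW ha (inf_le_left.trans (X.basicOpen_le (g i))) ?_
        show res _ a * res (inf_le_left : X.basicOpen (g i) ⊓ X.basicOpen (g j) ≤ X.basicOpen (g i)) (r i) =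
          res _ a * res (inf_le_right : X.basicOpen (g i) ⊓ X.basicOpen (g j) ≤ X.basicOpen (g j)) (r j)
        have hi := congrArg (res (inf_le_left : X.basicOpen (g i) ⊓ X.basicOpen (g j) ≤ X.basicOpen (g i))) (hr i)
        have hj := congrArg (res (inf_le_right : X.basicOpen (g i) ⊓ X.basicOpen (g j) ≤ X.basicOpen (g j))) (hr j)
        rw [map_mul, PicLib.res_res, PicLib.res_res] at hi hj
        rw [mul_comm, ← hi, mul_comm, ← hj])
    refine ⟨(b : Γ(X, V)), app_injective_of_mono (ClSub.idealModι I) V ?_⟩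
    refine (key V hV b).trans ?_
    refine TopCat.Presheaf.section_ext X.sheaf V _ _ fun z hz => ?_
    have e : res (hg ⟨z, hz⟩) ((show Γ(X, V) from b) * res hV a) = res (hg ⟨z, hz⟩) y := by
      rw [map_mul, PicLib.res_res, hr ⟨z, hz⟩]
      exact congrArg (· * _) (hb ⟨z, hz⟩)
    exact (TopCat.Presheaf.germ_res_apply X.presheaf (homOfLE (hg ⟨z, hz⟩)) z (hzg ⟨z, hz⟩) _).symm.trans
      ((congrArg (X.presheaf.germ (X.basicOpen (g ⟨z, hz⟩)) z (hzg ⟨z, hz⟩)) e).trans
        (TopCat.Presheaf.germ_res_apply X.presheaf (homOfLE (hg ⟨z, hz⟩)) z (hzg ⟨z, hz⟩) _))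

/-- The ideal of an effective Cartier divisor is invertible. -/
theorem isInvertible_idealMod (I : X.IdealSheafData) (hI : BlowUp.IsEffCartierIdeal I) :
    PicF.IsInvertible (ClSub.idealMod I) := by
  refine isInvertible_of_gens fun x => ?_
  obtain ⟨U, hxU, f, hf, hspan⟩ := hI x
  obtain ⟨k, hk⟩ := (mem_range_idealModι I U.1 f).2 (RingHom.mem_ker.1
    ((I.ker_subschemeι_app U).symm ▸ hspan.ge (Ideal.mem_span_singleton_self f)))
  have hreg : IsLeftRegular f := fun b c (h : f * b = f * c) => sub_eq_zero.1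
    ((mem_nonZeroDivisors_iff.1 hf).2 _ (by rw [sub_mul, mul_comm b, mul_comm c, h, sub_self]))
  exact ⟨U.1, hxU, k, bijective_smul_of_affine_gen I U.2 hk hreg hspan⟩

/-- The module inverse to the ideal of an effective Cartier divisor has a section cutting out the divisor. -/
theorem exists_section_of_effCartier (I : X.IdealSheafData) (hI : BlowUp.IsEffCartierIdeal I) {L : X.Modules}
    (hL : PicF.IsInvertible L) (hLI : ClSub.IsInverseOf L (ClSub.idealMod I)) :
    ∃ s : Γ(L, ⊤), (glocus L s : Set X) = (I.support : Set X)ᶜ := by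
  classical
  obtain ⟨e⟩ := hLI
  have := mono_idealModι I
  have loc : ∀ x : X, ∃ (W : X.Opens) (l : Γ(L, W)) (k : Γ(ClSub.idealMod I, W)) (f : Γ(X, W)),
      x ∈ W ∧ IsGen L W l ∧ IsGen (ClSub.idealMod I) W k ∧ (ClSub.idealModι I).app W k = f ∧
        e.hom.app W (tmul l k) = (1 : Γ(X, W)) ∧ (W : Set X) ∩ (I.support : Set X)ᶜ = X.basicOpen f := by
    intro x
    obtain ⟨U, hxU, f, hf, hspan⟩ := hI x
    obtain ⟨k, hk⟩ := (mem_range_idealModι I U.1 f).2 (RingHom.mem_ker.1
      ((I.ker_subschemeι_app U).symm ▸ hspan.ge (Ideal.mem_span_singleton_self f)))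
    have hreg : IsLeftRegular f := fun b c (h : f * b = f * c) => sub_eq_zero.1
      ((mem_nonZeroDivisors_iff.1 hf).2 _ (by rw [sub_mul, mul_comm b, mul_comm c, h, sub_self]))
    have hkgen := bijective_smul_of_affine_gen I U.2 hk hreg hspan
    obtain ⟨W₀, hxW₀, l₀, hl₀⟩ := exists_isGen hL x
    let W := U.1 ⊓ W₀
    have hl := hl₀.restrict (inf_le_right : W ≤ W₀)
    have hkW := hkgen.restrict (inf_le_left : W ≤ U.1)
    have hT := isGen_tmul hl hkW
    let u : Γ(X, W) := e.hom.app W (tmul (resM L inf_le_right l₀) (resM _ inf_le_left k))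
    have hu : IsUnit u := by
      obtain ⟨c, hc⟩ := (hT W le_rfl).2 (e.inv.app W (1 : Γ(X, W)))
      have hc' : c • tmul (resM L (inf_le_right : W ≤ W₀) l₀) (resM _ (inf_le_left : W ≤ U.1) k) =
          e.inv.app W (1 : Γ(X, W)) := by
        have hc2 : c • resM _ (le_refl W) (tmul (resM L inf_le_right l₀) (resM _ inf_le_left k)) = _ := hc
        rwa [resM_self] at hc2
      have h2 := congrArg (e.hom.app W) hc'
      rw [Scheme.Modules.Hom.app_smul] at h2
      refine IsUnit.of_mul_eq_one_right c (h2.trans ?_)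
      exact congr(($(e.inv_hom_id)).app W (1 : Γ(X, W)))
    obtain ⟨v, hv⟩ := hu.exists_left_inv
    have hvu : IsUnit v := IsUnit.of_mul_eq_one _ hv
    refine ⟨W, v • resM L inf_le_right l₀, resM _ inf_le_left k, res (inf_le_left : W ≤ U.1) f, ⟨hxU, hxW₀⟩, ?_,
      hkW, (app_resM _ _ k).trans (congrArg (resM _ inf_le_left) hk), ?_, ?_⟩
    · have := hl.smul_unit hvu.unit
      rwa [IsUnit.unit_spec] at this
    · rw [tmul_smul_left, Scheme.Modules.Hom.app_smul]
      exact hv
    · rw [Scheme.basicOpen_res]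
      have h := I.coe_support_inter U
      rw [hspan] at h
      refine Set.ext fun z => ⟨fun ⟨hz, hzs⟩ => ⟨hz, ?_⟩, fun ⟨hz, hzf⟩ => ⟨hz, fun hzs => ?_⟩⟩
      · by_contra hzf
        refine hzs (h.ge ⟨?_, hz.1⟩).1
        simp only [Scheme.mem_zeroLocus_iff, SetLike.mem_coe]
        intro g hg hzg
        obtain ⟨r, rfl⟩ := Ideal.mem_span_singleton'.1 hg
        rw [Scheme.basicOpen_mul] at hzg
        exact hzf hzg.2
      · have := (h.le ⟨hzs, hz.1⟩).1
        simp only [Scheme.mem_zeroLocus_iff, SetLike.mem_coe] at this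
        exact this f (Ideal.mem_span_singleton_self f) hzf
  choose W l k f hxW hl hk hkf he hsupp using loc
  have hcov : (⊤ : X.Opens) ≤ ⨆ x, W x := fun x _ => Opens.mem_iSup.2 ⟨x, hxW x⟩
  obtain ⟨s, hs, -⟩ := TopCat.Sheaf.existsUnique_gluing' (⟨L.presheaf, L.isSheaf⟩ : TopCat.Sheaf Ab X)
    W ⊤ (fun x => homOfLE le_top) hcov (fun x => f x • l x) fun i j => by
      show resM L (inf_le_left : W i ⊓ W j ≤ W i) (f i • l i) = resM L (inf_le_right : W i ⊓ W j ≤ W j) (f j • l j)
      obtain ⟨c, hc⟩ := (hk i _ (inf_le_left : W i ⊓ W j ≤ W i)).2 (resM _ (inf_le_right : W i ⊓ W j ≤ W j) (k j))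
      obtain ⟨d, hd⟩ := (hl i _ (inf_le_left : W i ⊓ W j ≤ W i)).2 (resM _ (inf_le_right : W i ⊓ W j ≤ W j) (l j))
      have hc' : c • resM _ (inf_le_left : W i ⊓ W j ≤ W i) (k i) = resM _ (inf_le_right : W i ⊓ W j ≤ W j) (k j) := hc
      have hd' : d • resM _ (inf_le_left : W i ⊓ W j ≤ W i) (l i) = resM _ (inf_le_right : W i ⊓ W j ≤ W j) (l j) := hd
      have hf1 := congrArg ((ClSub.idealModι I).app (W i ⊓ W j)) hc'
      rw [Scheme.Modules.Hom.app_smul, app_resM, app_resM, hkf, hkf] at hf1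
      have hf2 : res (inf_le_right : W i ⊓ W j ≤ W j) (f j) = c * res (inf_le_left : W i ⊓ W j ≤ W i) (f i) := hf1.symm
      have h1 : d * c = 1 := by
        have h := congrArg (resM _ (inf_le_right : W i ⊓ W j ≤ W j)) (he j)
        rw [← app_resM, resM_tmul, ← hc', ← hd', tmul_smul_smul, Scheme.Modules.Hom.app_smul, ← resM_tmul,
          app_resM, he] at h
        have h' : (d * c) * res (inf_le_left : W i ⊓ W j ≤ W i) (1 : Γ(X, W i)) =
            res (inf_le_right : W i ⊓ W j ≤ W j) (1 : Γ(X, W j)) := h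
        rwa [map_one, map_one, mul_one] at h'
      rw [resM_smul, resM_smul, ← hd']
      show _ = res (inf_le_right : W i ⊓ W j ≤ W j) (f j) • d • _
      rw [hf2, ← mul_smul, show c * res (inf_le_left : W i ⊓ W j ≤ W i) (f i) * d =
        (d * c) * res (inf_le_left : W i ⊓ W j ≤ W i) (f i) by ring, h1, one_mul]
  refine ⟨s, Set.ext fun z => ?_⟩
  have hsW : resM L (le_top : W z ≤ ⊤) s = f z • l z := hs z
  have hg : glocus L s ⊓ W z = X.basicOpen (f z) := by
    rw [glocus_inf s (hl z)]
    refine congrArg X.basicOpen ((hl z).coef_eq le_rfl ?_)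
    rw [resM_self, hsW]
  constructor
  · intro hz
    exact ((hsupp z).ge ((SetLike.ext'_iff.1 hg).le ⟨hz, hxW z⟩)).2
  · intro hz
    exact (((SetLike.ext'_iff.1 hg).ge) ((hsupp z).le ⟨hxW z, hz⟩)).1

end Groth.Agent.FlatMor12.IdealModGen
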