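import Mathlib
import Groth.Agent.CAlgH.AdicSmoothField
import Groth.Agent.CAlgH.AdicSmoothCotangent
import Groth.Agent.CommAlg6.GenericRegular
import Groth.Agent.H8ProCons.Image
import Groth.Agent.Props12.Stalks

/-! Generic smoothness of dominant morphisms of integral schemes. -/

set_option autoImplicit false
set_option backward.isDefEq.respectTransparency false

universe u

namespace Groth.Agent.FlatMor12.GenericSmooth

open AlgebraicGeometry CategoryTheory Limits TopologicalSpace IsLocalRing

theorem isPullback_comp_mono {C : Type*} [Category C] {P A B Z W : C} {p : P ⟶ A} {q : P ⟶ B}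
    {f : A ⟶ Z} {g : B ⟶ Z} (h : IsPullback p q f g) (m : Z ⟶ W) [Mono m] :
    IsPullback p q (f ≫ m) (g ≫ m) :=
  ⟨⟨h.w_assoc m⟩, ⟨PullbackCone.IsLimit.mk _
    (fun s => h.lift s.fst s.snd ((cancel_mono m).1 (by simpa using s.condition)))
    (fun s => h.lift_fst _ _ _) (fun s => h.lift_snd _ _ _)
    (fun s l h₁ h₂ => h.hom_ext (h₁.trans (h.lift_fst _ _ _).symm) (h₂.trans (h.lift_snd _ _ _).symm))⟩⟩

/-- Regular, essentially of finite type over a perfect field implies formally smooth. -/
theorem formallySmooth_of_regular_of_perfect (K S : Type u) [Field K] [PerfectField K] [CommRing S]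
    [Algebra K S] [Algebra.EssFiniteType K S] [IsRegularLocalRing S] : Algebra.FormallySmooth K S := by
  let B := Algebra.EssFiniteType.subalgebra K S
  let q : Ideal B := (maximalIdeal S).comap (algebraMap B S)
  haveI : q.IsPrime := Ideal.IsPrime.comap _
  have hM : Algebra.EssFiniteType.submonoid K S = q.primeCompl := by
    ext b
    show IsUnit (algebraMap B S b) ↔ algebraMap B S b ∉ maximalIdeal S
    rw [IsLocalRing.notMem_maximalIdeal]
  haveI : IsLocalization.AtPrime S q := by
    rw [IsLocalization.AtPrime, ← hM]; infer_instance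
  let e₀ : Localization.AtPrime q ≃ₐ[B] S := IsLocalization.algEquiv q.primeCompl _ _
  let e : Localization.AtPrime q ≃ₐ[K] S := e₀.restrictScalars K
  haveI : IsRegularLocalRing (Localization.AtPrime q) := .of_ringEquiv e.symm.toRingEquiv
  haveI := CAlgH.AdicSmooth.formallySmooth_localization (A := K) q CAlgH.AdicSmooth.of_regular_perfect
  exact .of_equiv e

/-- The generic point goes to the generic point. -/
theorem genericPoint_eq_of_isDominant {X Y : Scheme.{u}} [IsIntegral X] [IsIntegral Y] (f : X ⟶ Y)
    [IsDominant f] : f (genericPoint X) = genericPoint Y := by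
  apply ((genericPoint_spec Y).eq _).symm
  have h := (genericPoint_spec X).image f.continuous
  rw [Set.image_univ, f.denseRange.closure_range] at h
  exact h

/-- Pulling back along the inclusion of the spectrum of a local ring preserves reducedness. -/
theorem isReduced_pullback_fromSpecStalk {X W : Scheme.{u}} (p : W ⟶ X) [IsReduced W] (x : X) :
    IsReduced (pullback p (X.fromSpecStalk x)) := by
  let j := pullback.fst p (X.fromSpecStalk x)
  haveI : Flat (X.fromSpecStalk x) := Props12.flat_fromSpecStalk x
  haveI : Flat j := inferInstance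
  haveI : IsPreimmersion j := MorphismProperty.pullback_fst _ _ inferInstance
  haveI : ∀ q, _root_.IsReduced ((pullback p (X.fromSpecStalk x)).presheaf.stalk q) := fun q => by
    have hfl := (Flat.iff_flat_stalkMap j).1 inferInstance q
    algebraize [(j.stalkMap q).hom]
    haveI : IsLocalHom (algebraMap (W.presheaf.stalk (j q)) ((pullback p (X.fromSpecStalk x)).presheaf.stalk q)) :=
      inferInstanceAs (IsLocalHom (j.stalkMap q).hom)
    haveI := Module.FaithfullyFlat.of_flat_of_isLocalHom (A := W.presheaf.stalk (j q))
      (B := (pullback p (X.fromSpecStalk x)).presheaf.stalk q)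
    let e := RingEquiv.ofBijective (j.stalkMap q).hom
      ⟨FaithfulSMul.algebraMap_injective (W.presheaf.stalk (j q)) _, j.stalkMap_surjective q⟩
    exact isReduced_of_injective e.symm e.symm.injective
  exact isReduced_of_isReduced_stalk _

variable {X Y : Scheme.{u}} [IsIntegral X] [IsIntegral Y] (f : X ⟶ Y) [IsDominant f]
  [LocallyOfFinitePresentation f]

/-- A regular point over the generic point is smooth when the function field is perfect. -/
theorem mem_smoothLocus_of_regular [PerfectField Y.functionField] (x : X)
    [IsRegularLocalRing (X.presheaf.stalk x)] (hx : f x = genericPoint Y) : x ∈ f.smoothLocus := by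
  rw [Scheme.Hom.mem_smoothLocus]
  have hess := LocallyOfFiniteType.stalkMap f x
  have key : ∀ (y : Y) (φ : Y.presheaf.stalk y ⟶ X.presheaf.stalk x), y = genericPoint Y →
      φ.hom.EssFiniteType → φ.hom.FormallySmooth := by
    rintro y φ rfl hφ
    algebraize [φ.hom]
    haveI : Algebra.EssFiniteType Y.functionField (X.presheaf.stalk x) := hφ
    exact formallySmooth_of_regular_of_perfect Y.functionField (X.presheaf.stalk x)
  exact key _ _ hx hess

/-- Geometrically reduced generic fibre gives smoothness at the generic point. -/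
theorem genericPoint_mem_smoothLocus
    (hsep : GeometricallyReduced (f.fiberToSpecResidueField (f (genericPoint X)))) :
    genericPoint X ∈ f.smoothLocus := by
  let η := genericPoint X
  let y := f η
  have hy : IsField (Y.presheaf.stalk y) := by
    rw [show y = genericPoint Y from genericPoint_eq_of_isDominant f]
    exact Field.toIsField Y.functionField
  letI : Field (Y.presheaf.stalk y) := hy.toField
  letI : Field (X.presheaf.stalk η) := (Field.toIsField X.functionField).toField
  let φ := f.stalkMap η
  rw [Scheme.Hom.mem_smoothLocus]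
  have hess := LocallyOfFiniteType.stalkMap f η
  algebraize [φ.hom]
  haveI : Algebra.EssFiniteType (Y.presheaf.stalk y) (X.presheaf.stalk η) := hess
  suffices Algebra.IsGeometricallyReduced (Y.presheaf.stalk y) (X.presheaf.stalk η) from
    CommAlg6.formallySmooth_of_isGeometricallyReduced _ _
  let Ω := AlgebraicClosure (Y.presheaf.stalk y)
  rw [Algebra.isGeometricallyReduced_field_iff]
  let a : Y.presheaf.stalk y ⟶ CommRingCat.of Ω := CommRingCat.ofHom (algebraMap (Y.presheaf.stalk y) Ω)
  let v : Spec (CommRingCat.of Ω) ⟶ Y := Spec.map a ≫ Y.fromSpecStalk y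
  -- the geometric generic fibre
  haveI : IsReduced (pullback f v) := by
    obtain ⟨ψ, hψ⟩ : ∃ ψ : Y.residueField y ⟶ CommRingCat.of Ω, Spec.map ψ ≫ Y.fromSpecResidueField y = v := by
      have hres : Function.Bijective (Y.residue y).hom :=
        ⟨RingHom.injective _, Ideal.Quotient.mk_surjective⟩
      haveI : IsIso (Y.residue y) := (ConcreteCategory.isIso_iff_bijective _).2 hres
      refine ⟨inv (Y.residue y) ≫ a, ?_⟩
      show Spec.map _ ≫ (Spec.map (Y.residue y) ≫ Y.fromSpecStalk y) = _
      rw [← Spec.map_comp_assoc, IsIso.hom_inv_id_assoc]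
    have hpb : IsPullback (pullback.snd (f.fiberToSpecResidueField y) (Spec.map ψ)) (pullback.fst (f.fiberToSpecResidueField y) (Spec.map ψ) ≫ f.fiberι y) v f := by
      rw [← hψ]
      exact (IsPullback.of_hasPullback _ _).flip.paste_vert (IsPullback.of_hasPullback f _).flip
    haveI := hsep.geometrically_isReduced (Spec.map ψ) _ _ (IsPullback.of_hasPullback _ _)
    exact isReduced_of_isOpenImmersion hpb.flip.isoPullback.inv
  haveI := isReduced_pullback_fromSpecStalk (pullback.fst f v) η
  let q : Spec (CommRingCat.of ((X.presheaf.stalk η : Type u))) ⟶ X := X.fromSpecStalk η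
  -- identify with the spectrum of the tensor product
  let e := pullbackSpecIso (Y.presheaf.stalk y) (X.presheaf.stalk η) Ω
  have hq : X.fromSpecStalk η ≫ f = Spec.map φ ≫ Y.fromSpecStalk y :=
    (Scheme.SpecMap_stalkMap_fromSpecStalk f).symm
  let φ' : Y.presheaf.stalk y ⟶ X.presheaf.stalk η :=
    CommRingCat.ofHom (algebraMap (Y.presheaf.stalk y) (X.presheaf.stalk η))
  have h2 : IsPullback (pullback.fst (Spec.map φ') (Spec.map a)) (pullback.snd (Spec.map φ') (Spec.map a))
      (X.fromSpecStalk η ≫ f) v := by
    rw [hq]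
    exact isPullback_comp_mono (IsPullback.of_hasPullback (Spec.map φ') (Spec.map a)) (Y.fromSpecStalk y)
  let iso : Spec (CommRingCat.of (TensorProduct (Y.presheaf.stalk y) (X.presheaf.stalk η) Ω)) ≅
      pullback (pullback.fst f v) (X.fromSpecStalk η) :=
    e.symm ≪≫ h2.isoPullback ≪≫ (pullbackRightPullbackFstIso f v (X.fromSpecStalk η)).symm ≪≫
      pullbackSymmetry _ _
  haveI := isReduced_of_isOpenImmersion iso.hom
  haveI : _root_.IsReduced (CommRingCat.of (TensorProduct (Y.presheaf.stalk y) (X.presheaf.stalk η) Ω)) :=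
    (affine_isReduced_iff _).1 inferInstance
  exact isReduced_of_injective
    (Algebra.TensorProduct.comm (Y.presheaf.stalk y) Ω (X.presheaf.stalk η)).toRingHom
    (AlgEquiv.injective _)

theorem dense_smoothLocus_of_mem (h : genericPoint X ∈ f.smoothLocus) :
    Dense (f.smoothLocus : Set X) :=
  f.smoothLocus.isOpen.dense ⟨_, h⟩

/-- Generic smoothness for a regular source and perfect function field of the target. -/
theorem exists_dense_open_smooth [QuasiCompact f] [PerfectField Y.functionField]
    (hreg : ∀ x : X, IsRegularLocalRing (X.presheaf.stalk x)) :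
    ∃ V : Y.Opens, Dense (V : Set Y) ∧ Smooth (f ∣_ V) := by
  let C : Set X := (f.smoothLocus : Set X)ᶜ
  have hC : ProCons.IsProConstructible C := by
    refine H8ProCons.isProConstructible_iff_compl.2 ?_
    rw [compl_compl]
    exact H8ProCons.isIndConstructible_of_isOpen f.smoothLocus.isOpen
  have hE := H8ProCons.isProConstructible_iff_compl.1 (H8ProCons.isProConstructible_image f hC)
  let V : Y.Opens := ⟨interior (f '' C)ᶜ, isOpen_interior⟩
  have hV : genericPoint Y ∈ interior (f '' C)ᶜ := by
    refine (H8ProCons.mem_interior_iff hE _).2 fun y hy => ?_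
    have hgen : y = genericPoint Y :=
      (hy.antisymm ((genericPoint_spec Y).specializes trivial)).eq
    rintro ⟨x, hx, hxy⟩
    haveI := hreg x
    exact hx (mem_smoothLocus_of_regular f x (hxy.trans hgen))
  refine ⟨V, V.isOpen.dense ⟨_, hV⟩, ?_⟩
  have hsq : IsPullback (𝟙 _) (f ∣_ V) ((f ⁻¹ᵁ V).ι ≫ f) V.ι := by
    rw [← morphismRestrict_ι f V]
    have h1 : IsPullback (𝟙 _) (f ∣_ V) (f ∣_ V) (𝟙 _) := IsPullback.of_horiz_isIso ⟨by simp⟩
    simpa using isPullback_comp_mono h1 V.ι
  haveI : Smooth ((f ⁻¹ᵁ V).ι ≫ f) := by
    rw [← Scheme.Hom.smoothLocus_eq_top_iff, ← Scheme.Hom.preimage_smoothLocus_eq]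
    refine top_le_iff.1 fun x _ => ?_
    by_contra hx
    exact interior_subset x.2 ⟨_, hx, rfl⟩
  exact MorphismProperty.of_isPullback (P := @Smooth) hsq ‹_›

end Groth.Agent.FlatMor12.GenericSmooth
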