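import Groth.Agent.EGA43.FibDepth.FibreDim
import Groth.Agent.EGA43.Chevalley.Chart
import Groth.Agent.EGA43.DimFormula.UnivDim
import Groth.Agent.EGA43.UnibranchOpen.Scheme
import Groth.Agent.FEtFF.NormalGeomUnibranch
import Groth.Agent.Desc19b.NormalSmooth
import Groth.Agent.H8ProCons.Image
import Groth.Agent.FlatMorLocalStr.Coords
import Groth.Agent.S14769

/-!
# Universally S-subtrusive morphisms and sections over valuation rings with algebraically closed
fraction field
-/

set_option autoImplicit false
set_option maxHeartbeats 1000000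
set_option backward.isDefEq.respectTransparency false

universe u

open CategoryTheory CategoryTheory.Limits AlgebraicGeometry IsLocalRing Polynomial

namespace Groth.Agent.FlatMor12.ValuationSections

open Groth.Agent EGA43.FibDepth

/-- Every point with values in a valuation ring with algebraically closed fraction field lifts. -/
def HasSections {X Y : Scheme.{u}} (f : X ⟶ Y) : Prop :=
  ∀ (V : Type u) [CommRing V] [IsDomain V] [ValuationRing V] [IsAlgClosed (FractionRing V)]
    (g : Spec (CommRingCat.of V) ⟶ Y), ∃ s : Spec (CommRingCat.of V) ⟶ X, s ≫ f = g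

section Closed

variable (V : Type u) [CommRing V] [IsDomain V] [ValuationRing V]

theorem exists_root_of_monic [IsAlgClosed (FractionRing V)] (p : V[X]) (hp : p.Monic) (hd : p.natDegree ≠ 0) :
    ∃ x : V, p.eval x = 0 := by
  haveI : IsIntegrallyClosed V := inferInstance
  obtain ⟨z, hz⟩ := IsAlgClosed.exists_root (p.map (algebraMap V (FractionRing V))) (by
    rw [Polynomial.degree_map_eq_of_injective (IsFractionRing.injective V (FractionRing V)),
      Polynomial.degree_eq_natDegree hp.ne_zero]
    exact_mod_cast hd)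
  have hz' : p.eval₂ (algebraMap V (FractionRing V)) z = 0 := by
    rwa [Polynomial.IsRoot.def, Polynomial.eval_map] at hz
  obtain ⟨x, rfl⟩ := IsIntegrallyClosed.isIntegral_iff.1 (⟨p, hp, hz'⟩ : IsIntegral V z)
  refine ⟨x, IsFractionRing.injective V (FractionRing V) ?_⟩
  rw [Polynomial.eval₂_at_apply] at hz'
  rw [map_zero]
  exact hz'

theorem isAlgClosed_residueField [IsAlgClosed (FractionRing V)] : IsAlgClosed (ResidueField V) := by
  refine IsAlgClosed.of_exists_root _ fun p hm hirr => ?_
  obtain ⟨q, hqp, hdeg, hq⟩ := Polynomial.lifts_and_natDegree_eq_and_monic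
    (Polynomial.map_surjective (residue V) residue_surjective p) hm
  have hd : q.natDegree ≠ 0 := by rw [hdeg]; exact hirr.natDegree_pos.ne'
  obtain ⟨x, hx⟩ := exists_root_of_monic V q hq hd
  refine ⟨residue V x, ?_⟩
  rw [← hqp, Polynomial.eval_map, Polynomial.eval₂_at_apply, hx, map_zero]

end Closed

section Core

variable {V C : Type u} [CommRing V] [IsDomain V] [ValuationRing V] [CommRing C] [Algebra V C]

theorem trd_le_generic [IsDomain C] [Algebra.FiniteType V C]
    (hinj : Function.Injective (algebraMap V C)) (q : PrimeSpectrum C) :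
    trd V q ≤ trd V (⟨⊥, Ideal.isPrime_bot⟩ : PrimeSpectrum C) :=
  EGA43.DimFormula.trd_le_of_valuationRing (⟨⊥, Ideal.isPrime_bot⟩ : PrimeSpectrum C) q bot_le
    (Ideal.comap_bot_of_injective _ hinj)

theorem exists_away_quasiFinite {T B : Type u} [CommRing T] [CommRing B] [Algebra T B]
    [Algebra.FiniteType T B] (q : PrimeSpectrum B) [Algebra.QuasiFiniteAt T q.asIdeal] :
    ∃ c : B, c ∉ q.asIdeal ∧ Algebra.QuasiFinite T (Localization.Away c) := by
  obtain ⟨S', hS', c, hc, hbij⟩ :=
    Algebra.QuasiFiniteAt.exists_fg_and_exists_notMem_and_awayMap_bijective (R := T) q.asIdeal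
  haveI : Module.Finite T S' := ⟨(Submodule.fg_top _).mpr hS'⟩
  haveI : Algebra.QuasiFinite T (Localization.Away c) := .trans _ S' _
  exact ⟨c.1, hc, .of_surjective_algHom (R := T) (S := Localization.Away c)
    (Localization.awayMapₐ S'.val c) hbij.2⟩

/-- A point of an integral flat algebra of finite type over the closed point of a valuation ring
with algebraically closed fraction field is the specialisation of a rational section. -/
theorem exists_algHom [IsAlgClosed (FractionRing V)] [IsDomain C] [Algebra.FiniteType V C]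
    (hinj : Function.Injective (algebraMap V C)) (q₀ : Ideal C) [q₀.IsPrime]
    (hq₀ : q₀.comap (algebraMap V C) = maximalIdeal V) : Nonempty (C →ₐ[V] V) := by
  classical
  obtain ⟨M, hM, hle⟩ := Ideal.exists_le_maximal q₀ (Ideal.IsPrime.ne_top ‹_›)
  let q : PrimeSpectrum C := ⟨M, hM.isPrime⟩
  have hqm : M.comap (algebraMap V C) = maximalIdeal V :=
    ((maximalIdeal.isMaximal V).eq_of_le (Ideal.comap_ne_top _ hM.ne_top)
      (hq₀ ▸ Ideal.comap_mono hle)).symm
  let η : PrimeSpectrum C := ⟨⊥, Ideal.isPrime_bot⟩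
  let e := trd V η
  obtain ⟨v, hv, -⟩ := FlatMorLocalStr.exists_coords (A := V) q (n := e)
    fun q' _ _ => trd_le_generic hinj q'
  let T := MvPolynomial (Fin e) V
  letI : Algebra T C := (MvPolynomial.aeval v : T →ₐ[V] C).toRingHom.toAlgebra
  haveI : IsScalarTower V T C :=
    .of_algebraMap_eq fun a => ((MvPolynomial.aeval v : T →ₐ[V] C).commutes a).symm
  haveI : Algebra.FiniteType T C := Algebra.FiniteType.of_restrictScalars_finiteType V _ C
  haveI : Algebra.QuasiFiniteAt T q.asIdeal := hv
  obtain ⟨c, hc, hqf⟩ := exists_away_quasiFinite (T := T) q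
  let R := Localization.Away c
  haveI : Algebra.QuasiFinite T R := hqf
  have hc0 : c ≠ 0 := fun h => hc (h ▸ q.asIdeal.zero_mem)
  haveI : IsDomain R :=
    IsLocalization.isDomain_localization (powers_le_nonZeroDivisors_of_noZeroDivisors hc0)
  have hinjR : Function.Injective (algebraMap C R) :=
    IsLocalization.injective R (powers_le_nonZeroDivisors_of_noZeroDivisors hc0)
  haveI : Algebra.FiniteType C R := IsLocalization.finiteType_of_monoid_fg (Submonoid.powers c) R
  haveI : Algebra.FiniteType T R := Algebra.FiniteType.trans (S := C) ‹_› ‹_›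
  -- the generic point maps to the generic point
  let ηR : PrimeSpectrum R := ⟨⊥, Ideal.isPrime_bot⟩
  have hηR : PrimeSpectrum.comap (algebraMap C R) ηR = η :=
    PrimeSpectrum.ext (Ideal.comap_bot_of_injective _ hinjR)
  have htrd : trd V ηR = e := by
    rw [← trd_comap_of_surjectiveOnStalks (IsScalarTower.toAlgHom V C R)
      (RingHom.surjectiveOnStalks_of_isLocalization (M := Submonoid.powers c) _) ηR]
    exact congrArg (trd V) hηR
  let N := PrimeSpectrum.comap (algebraMap T R) ηR
  have hNV : N.asIdeal.comap (algebraMap V T) = ⊥ := by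
    show ((⊥ : Ideal R).comap (algebraMap T R)).comap (algebraMap V T) = ⊥
    rw [Ideal.comap_comap, ← IsScalarTower.algebraMap_eq, IsScalarTower.algebraMap_eq V C R,
      ← Ideal.comap_comap, Ideal.comap_bot_of_injective _ hinjR, Ideal.comap_bot_of_injective _ hinj]
  let o : PrimeSpectrum T := ⟨⊥, Ideal.isPrime_bot⟩
  have hN0 : o = N := EGA43.Chevalley.eq_of_trd_eq (Q' := o) (Q := N) bot_le (by
    rw [hNV]
    exact Ideal.comap_bot_of_injective _ (MvPolynomial.C_injective (Fin e) V))
    ((trd_eq_of_quasiFinite (A := V) (B := T) ηR).symm.trans htrd)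
  have hker : RingHom.ker (algebraMap T R) = ⊥ := by
    rw [RingHom.ker_eq_comap_bot]
    exact (congrArg PrimeSpectrum.asIdeal hN0).symm
  haveI : IsIntegrallyClosed T := Desc19b.isIntegrallyClosed_mvPolynomial_fin' V e
  have hop := EGA43.UnibranchOpen.isOpenMap_comap_of_quasiFinite (A := T) (B := R)
    (hker.trans (nilradical_eq_zero T).symm) fun p => by
      have hle : p.asIdeal.primeCompl ≤ nonZeroDivisors T := Ideal.primeCompl_le_nonZeroDivisors p.asIdeal
      haveI : IsDomain (Localization.AtPrime p.asIdeal) := IsLocalization.isDomain_localization hle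
      haveI : IsIntegrallyClosed (Localization.AtPrime p.asIdeal) :=
        isIntegrallyClosed_of_isLocalization _ p.asIdeal.primeCompl hle
      exact FEtFF.isGeomUnibranch_of_normal _
  -- residues of the coordinates
  haveI := isAlgClosed_residueField V
  have hres : ∀ z : C, ∃ a : V, z - algebraMap V C a ∈ M := by
    haveI := hM
    letI := Ideal.Quotient.field M
    letI : Algebra (ResidueField V) (C ⧸ M) :=
      (Ideal.quotientMap M (algebraMap V C) hqm.ge).toAlgebra
    haveI : IsScalarTower V (ResidueField V) (C ⧸ M) := .of_algebraMap_eq fun _ => rfl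
    haveI : Algebra.FiniteType (ResidueField V) (C ⧸ M) :=
      Algebra.FiniteType.of_restrictScalars_finiteType V _ _
    haveI : Module.Finite (ResidueField V) (C ⧸ M) :=
      finite_of_finite_type_of_isJacobsonRing _ _
    intro z
    obtain ⟨a, ha⟩ := (IsAlgClosed.algebraMap_bijective_of_isIntegral (k := ResidueField V) (K := C ⧸ M)).2
      (Ideal.Quotient.mk M z)
    obtain ⟨a, rfl⟩ := residue_surjective a
    exact ⟨a, Ideal.Quotient.eq.1 (ha.symm.trans rfl)⟩
  choose res hres using hres
  let σ : T →ₐ[V] V := MvPolynomial.aeval fun i => res (v i)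
  let P₀ : PrimeSpectrum T := ⟨RingHom.ker σ.toRingHom, RingHom.ker_isPrime _⟩
  obtain ⟨qR, hqR⟩ : q ∈ Set.range (PrimeSpectrum.comap (algebraMap C R)) := by
    rw [PrimeSpectrum.localization_away_comap_range R c]
    exact hc
  have hP₀ : P₀.asIdeal ≤ (PrimeSpectrum.comap (algebraMap T R) qR).asIdeal := by
    intro P hP
    show algebraMap T R P ∈ qR.asIdeal
    rw [IsScalarTower.algebraMap_apply T C R, ← Ideal.mem_comap,
      show qR.asIdeal.comap (algebraMap C R) = M from congrArg PrimeSpectrum.asIdeal hqR,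
      ← Ideal.Quotient.eq_zero_iff_mem]
    have key : (Ideal.Quotient.mkₐ V M).comp (MvPolynomial.aeval v : T →ₐ[V] C) =
        (Algebra.ofId V (C ⧸ M)).comp σ := by
      refine MvPolynomial.algHom_ext fun i => ?_
      simp only [AlgHom.comp_apply, σ, MvPolynomial.aeval_X]
      exact Ideal.Quotient.eq.2 (hres (v i))
    refine (AlgHom.congr_fun key P).trans ?_
    show algebraMap V (C ⧸ M) (σ P) = 0
    rw [show σ P = 0 from hP, map_zero]
  obtain ⟨r, hr, hrP⟩ := H8ProCons.exists_generization_of_isOpenAt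
    (Spec.map (CommRingCat.ofHom (algebraMap T R))) (x := qR) (fun W hW => hop.image_mem_nhds hW)
    (y' := P₀) ((PrimeSpectrum.le_iff_specializes P₀ _).1 hP₀)
  let r' : PrimeSpectrum R := r
  have hrP' : PrimeSpectrum.comap (algebraMap T R) r' = P₀ := hrP
  have hrle : r'.asIdeal ≤ qR.asIdeal := (PrimeSpectrum.le_iff_specializes r' qR).2 hr
  -- its residue field is the fraction field of `V`
  haveI : r'.asIdeal.LiesOver P₀.asIdeal := ⟨(congrArg PrimeSpectrum.asIdeal hrP').symm⟩
  haveI hP₀pr : P₀.asIdeal.IsPrime := P₀.isPrime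
  let κP := P₀.asIdeal.ResidueField
  let κ := r'.asIdeal.ResidueField
  let _ := Localization.AtPrime.algebraOfLiesOver P₀.asIdeal r'.asIdeal
  have hfin : Module.Finite κP κ := inferInstance
  have hVT : ∀ t : T, t - MvPolynomial.C (σ t) ∈ P₀.asIdeal := fun t => by
    show σ (t - MvPolynomial.C (σ t)) = 0
    rw [map_sub]
    show σ t - σ (algebraMap V T (σ t)) = 0
    rw [σ.commutes]
    exact sub_self _
  have hinjP : Function.Injective (algebraMap V κP) := (injective_iff_map_eq_zero _).2 fun a ha => by
    rw [IsScalarTower.algebraMap_apply V T κP, Ideal.algebraMap_residueField_eq_zero] at ha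
    have h2 : σ (algebraMap V T a) = 0 := ha
    rwa [σ.commutes] at h2
  let ψ : FractionRing V →+* κP := IsFractionRing.lift hinjP
  have hψ : Function.Surjective ψ := fun z => by
    obtain ⟨a, b, -, rfl⟩ := IsFractionRing.div_surjective (A := T ⧸ P₀.asIdeal) z
    obtain ⟨a, rfl⟩ := Ideal.Quotient.mk_surjective a
    obtain ⟨b, rfl⟩ := Ideal.Quotient.mk_surjective b
    have hv : ∀ t : T, algebraMap (T ⧸ P₀.asIdeal) κP (Ideal.Quotient.mk _ t) =
        ψ (algebraMap V (FractionRing V) (σ t)) := fun t => by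
      rw [IsFractionRing.lift_algebraMap, Ideal.Quotient.eq.2 (hVT t)]
      rfl
    refine ⟨algebraMap V (FractionRing V) (σ a) / algebraMap V (FractionRing V) (σ b), ?_⟩
    rw [map_div₀, ← hv, ← hv]
  let Ψ : FractionRing V →+* κ := (algebraMap κP κ).comp ψ
  have hΨfin : Ψ.Finite := (RingHom.finite_algebraMap.2 hfin).comp (RingHom.Finite.of_surjective ψ hψ)
  have hΨ : Function.Bijective Ψ := IsAlgClosed.ringHom_bijective_of_isIntegral Ψ hΨfin.to_isIntegral
  let φ₀ : C →+* FractionRing V :=
    (RingEquiv.ofBijective Ψ hΨ).symm.toRingHom.comp ((algebraMap R κ).comp (algebraMap C R))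
  have hφ₀ : ∀ a : V, φ₀ (algebraMap V C a) = algebraMap V (FractionRing V) a := fun a => by
    show (RingEquiv.ofBijective Ψ hΨ).symm (algebraMap R κ (algebraMap C R (algebraMap V C a))) = _
    rw [RingEquiv.symm_apply_eq]
    show _ = algebraMap κP κ (ψ (algebraMap V (FractionRing V) a))
    rw [IsFractionRing.lift_algebraMap, IsScalarTower.algebraMap_apply V T κP,
      ← IsScalarTower.algebraMap_apply T κP κ, IsScalarTower.algebraMap_apply T R κ,
      IsScalarTower.algebraMap_apply T C R, ← IsScalarTower.algebraMap_apply V T C]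
  have hint : ∀ z : C, ∃ a : V, algebraMap V (FractionRing V) a = φ₀ z := fun z => by
    obtain h | h := (ValuationRing.isInteger_or_isInteger V (φ₀ z))
    · exact h
    · obtain ⟨m, hm⟩ := h
      by_cases hz : φ₀ z = 0
      · exact ⟨0, by rw [hz, map_zero]⟩
      by_cases hu : IsUnit m
      · obtain ⟨u, rfl⟩ := hu
        refine ⟨(u⁻¹ : Vˣ).1, ?_⟩
        rw [← inv_inj, ← hm]
        exact (map_units_inv (algebraMap V (FractionRing V)) u).symm ▸ (inv_inv _)
      exfalso
      have h1 : φ₀ (z * algebraMap V C m - 1) = 0 := by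
        rw [map_sub, map_mul, hφ₀, hm, mul_inv_cancel₀ hz, map_one, sub_self]
      have h2 : algebraMap C R (z * algebraMap V C m - 1) ∈ r'.asIdeal := by
        rw [← Ideal.algebraMap_residueField_eq_zero]
        exact (map_eq_zero_iff _ (RingEquiv.ofBijective Ψ hΨ).symm.injective).1 h1
      have h3 : z * algebraMap V C m - 1 ∈ M := by
        have : _ ∈ qR.asIdeal.comap (algebraMap C R) := hrle h2
        rwa [show qR.asIdeal.comap (algebraMap C R) = M from congrArg PrimeSpectrum.asIdeal hqR] at this
      have h4 : algebraMap V C m ∈ M := by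
        rw [← Ideal.mem_comap, hqm]; exact hu
      exact hM.ne_top ((Ideal.eq_top_iff_one _).2 (by
        have := M.sub_mem (M.mul_mem_left z h4) h3
        rwa [sub_sub_cancel] at this))
  choose φ hφ using hint
  have hinjV := IsFractionRing.injective V (FractionRing V)
  exact ⟨{
    toFun := φ
    map_one' := hinjV (by rw [hφ, map_one, map_one])
    map_mul' := fun x y => hinjV (by rw [map_mul, hφ, hφ, hφ, map_mul])
    map_zero' := hinjV (by rw [hφ, map_zero, map_zero])
    map_add' := fun x y => hinjV (by rw [map_add, hφ, hφ, hφ, map_add])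
    commutes' := fun a => hinjV ((hφ _).trans (hφ₀ a)) }⟩

end Core

theorem hasSections_of_univSSubtrusive {X Y : Scheme.{u}} (f : X ⟶ Y) [LocallyOfFiniteType f]
    (h : Subtr.UnivSSubtrusive f) : HasSections f := by
  intro V _ _ _ _ g
  obtain ⟨V', _, _, _, a, b, hb, hab⟩ := (S14769.result f).1 h V g
  obtain ⟨O, hO, hgO, -⟩ := exists_isAffineOpen_mem_and_subset (x := g (closedPoint V)) (U := ⊤) trivial
  let χ : CommRingCat.of V ⟶ CommRingCat.of V' := Spec.preimage b
  have hχ : Spec.map χ = b := Spec.map_preimage b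
  -- `b` is injective and local on rings
  have hsurj : Function.Surjective (Spec.map χ) := hχ ▸ hb.surj
  have hinj : Function.Injective χ.hom := (injective_iff_map_eq_zero _).2 fun x hx => by
    obtain ⟨p, hp⟩ := hsurj (⟨⊥, Ideal.isPrime_bot⟩ : PrimeSpectrum V)
    have h0 : p.asIdeal.comap χ.hom = ⊥ := congrArg PrimeSpectrum.asIdeal hp
    rw [← Ideal.mem_bot, ← h0, Ideal.mem_comap, hx]
    exact zero_mem _
  have hclosed : b (closedPoint V') = closedPoint V := by
    obtain ⟨p, hp⟩ := hb.surj (closedPoint V)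
    have h1 : b p ⤳ b (closedPoint V') := (specializes_closedPoint (R := V') p).map b.continuous
    rw [hp] at h1
    exact ((specializes_closedPoint (R := V) _).antisymm h1).eq
  have hga : f (a (closedPoint V')) = g (closedPoint V) := by
    rw [← Scheme.Hom.comp_apply, hab, Scheme.Hom.comp_apply, hclosed]
  obtain ⟨_, ⟨U, hU, rfl⟩, haU, hUO⟩ := X.isBasis_affineOpens.exists_subset_of_mem_open
    (show a (closedPoint V') ∈ f ⁻¹ᵁ O by show f _ ∈ O; rw [hga]; exact hgO) (f ⁻¹ᵁ O).2
  have hrg : Set.range g ⊆ Set.range hO.fromSpec := by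
    rw [hO.range_fromSpec]
    rintro _ ⟨p, rfl⟩
    exact ((specializes_closedPoint (R := V) p).map g.continuous).mem_open O.2 hgO
  have hra : Set.range a ⊆ Set.range hU.fromSpec := by
    rw [hU.range_fromSpec]
    rintro _ ⟨p, rfl⟩
    exact ((specializes_closedPoint (R := V') p).map a.continuous).mem_open U.2 haU
  haveI : IsOpenImmersion hO.fromSpec := hO.isOpenImmersion_fromSpec
  haveI : IsOpenImmersion hU.fromSpec := hU.isOpenImmersion_fromSpec
  let ψ : Γ(Y, O) ⟶ CommRingCat.of V := Spec.preimage (IsOpenImmersion.lift hO.fromSpec g hrg)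
  let ρ : Γ(X, U) ⟶ CommRingCat.of V' := Spec.preimage (IsOpenImmersion.lift hU.fromSpec a hra)
  have hψ : Spec.map ψ ≫ hO.fromSpec = g := by rw [Spec.map_preimage, IsOpenImmersion.lift_fac]
  have hρ : Spec.map ρ ≫ hU.fromSpec = a := by rw [Spec.map_preimage, IsOpenImmersion.lift_fac]
  have hsq : f.appLE O U hUO ≫ ρ = ψ ≫ χ := by
    apply Spec.map_injective
    rw [← cancel_mono hO.fromSpec, Spec.map_comp, Spec.map_comp, Category.assoc, Category.assoc,
      hO.SpecMap_appLE_fromSpec f hU hUO, ← Category.assoc, hρ, hab, hψ, hχ]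
  letI : Algebra Γ(Y, O) Γ(X, U) := (f.appLE O U hUO).hom.toAlgebra
  letI : Algebra V V' := χ.hom.toAlgebra
  haveI : Algebra.FiniteType Γ(Y, O) Γ(X, U) := f.finiteType_appLE hO hU hUO
  obtain ⟨S, hS⟩ := Algebra.FiniteType.out (R := Γ(Y, O)) (A := Γ(X, U))
  classical
  let C : Subalgebra V V' := Algebra.adjoin V (ρ.hom '' (S : Set Γ(X, U)))
  haveI : Algebra.FiniteType V C :=
    Algebra.FiniteType.adjoin_of_finite (S.finite_toSet.image _)
  have hρC : ∀ z, ρ.hom z ∈ C := fun z => by
    have hz : z ∈ Algebra.adjoin Γ(Y, O) (S : Set Γ(X, U)) := hS ▸ Algebra.mem_top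
    induction hz using Algebra.adjoin_induction with
    | mem x hx => exact Algebra.subset_adjoin ⟨x, hx, rfl⟩
    | algebraMap x =>
      have e : ρ.hom (algebraMap Γ(Y, O) Γ(X, U) x) = χ.hom (ψ.hom x) :=
        RingHom.congr_fun (congrArg CommRingCat.Hom.hom hsq) x
      rw [e]
      exact C.algebraMap_mem (ψ.hom x)
    | add x y _ _ hx hy => rw [map_add]; exact add_mem hx hy
    | mul x y _ _ hx hy => rw [map_mul]; exact mul_mem hx hy
  let ρ' : Γ(X, U) →+* C := ρ.hom.codRestrict C.toSubring hρC
  let q₀ : Ideal C := (maximalIdeal V').comap C.val.toRingHom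
  have hq₀ : q₀.comap (algebraMap V C) = maximalIdeal V := by
    rw [Ideal.comap_comap, show C.val.toRingHom.comp (algebraMap V C) = χ.hom from rfl]
    exact congrArg PrimeSpectrum.asIdeal (show Spec.map χ (closedPoint V') = closedPoint V by rw [hχ, hclosed])
  obtain ⟨φ⟩ := exists_algHom (V := V) (C := C)
    (fun x y hxy => hinj (congrArg Subtype.val hxy)) q₀ hq₀
  refine ⟨Spec.map (CommRingCat.ofHom (φ.toRingHom.comp ρ')) ≫ hU.fromSpec, ?_⟩
  rw [Category.assoc, ← hO.SpecMap_appLE_fromSpec f hU hUO, ← Spec.map_comp_assoc, ← hψ]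
  congr 2
  refine CommRingCat.hom_ext (RingHom.ext fun x => ?_)
  show φ (ρ' (f.appLE O U hUO x)) = ψ.hom x
  have e : ρ' (f.appLE O U hUO x) = algebraMap V C (ψ.hom x) :=
    Subtype.ext (RingHom.congr_fun (congrArg CommRingCat.Hom.hom hsq) x)
  rw [e, φ.commutes]
  rfl

theorem univSSubtrusive_of_hasSections {X Y : Scheme.{u}} (f : X ⟶ Y) (h : HasSections f) :
    Subtr.UnivSSubtrusive f := by
  refine (S14769.result f).2 fun V _ _ _ g => ?_
  let L := AlgebraicClosure (FractionRing V)
  let φ : V →+* L := (algebraMap (FractionRing V) L).comp (algebraMap V (FractionRing V))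
  have hφ : Function.Injective φ :=
    (algebraMap (FractionRing V) L).injective.comp (IsFractionRing.injective V (FractionRing V))
  let O : LocalSubring L := LocalSubring.range φ
  obtain ⟨W, hW⟩ := O.exists_le_valuationSubring
  haveI : IsAlgClosed (FractionRing W) :=
    IsAlgClosed.of_ringEquiv L _ (FractionRing.algEquiv W L).toRingEquiv.symm
  obtain ⟨hsub, hloc⟩ := hW
  let χ : V →+* W := φ.codRestrict W.toSubring fun x => hsub ⟨x, rfl⟩
  have hχl : IsLocalHom χ := by
    refine ⟨fun x hx => ?_⟩
    have h1 : IsUnit (Subring.inclusion hsub ⟨φ x, ⟨x, rfl⟩⟩) := hx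
    obtain ⟨y, hy⟩ := isUnit_iff_exists_inv.1 (hloc.map_nonunit _ h1)
    obtain ⟨v, hv⟩ := y.2
    refine isUnit_iff_exists_inv.2 ⟨v, hφ ?_⟩
    rw [map_mul, map_one, hv]
    exact congrArg Subtype.val hy
  have hsurj : Surjective (Spec.map (CommRingCat.ofHom χ)) := by
    letI : Algebra V W := χ.toAlgebra
    have hi : Function.Injective χ := fun x y e => hφ (congrArg Subtype.val e)
    have : Module.IsTorsionFree V W := Module.isTorsionFree_iff_algebraMap_injective.2 hi
    have : Module.Flat V W := Module.Flat.flat_iff_torsion_eq_bot_of_isBezout.2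
      (Submodule.isTorsionFree_iff_torsion_eq_bot.1 inferInstance)
    have : IsLocalHom (algebraMap V W) := hχl
    have : Module.FaithfullyFlat V W := Module.FaithfullyFlat.of_flat_of_isLocalHom
    exact ⟨PrimeSpectrum.comap_surjective_of_faithfullyFlat (A := V) (B := W)⟩
  obtain ⟨s, hs⟩ := h W (Spec.map (CommRingCat.ofHom χ) ≫ g)
  exact ⟨W, inferInstance, inferInstance, inferInstance, s, _, hsurj, hs⟩

end Groth.Agent.FlatMor12.ValuationSections
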