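import Groth.Agent.EGA43.FibDepth.Unit
import Groth.Agent.FlatMorDim.LocalDim
import Groth.Agent.FlatMor12.MiracleScheme

/-! Open pieces of constant fibre dimension, dense in every fibre, of a flat morphism. -/

universe u

set_option autoImplicit false
set_option backward.isDefEq.respectTransparency false

open CategoryTheory Limits AlgebraicGeometry

namespace Groth.Agent.FlatMor12

open Groth.Agent DimLib EGA43.FibDepth

variable {X Y : Scheme.{u}} (f : X ⟶ Y)

theorem stalk_dim_add_ptDim_le {k : Type u} [Field k] {Z : Scheme.{u}} (p : Z ⟶ Spec (.of k))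
    [LocallyOfFiniteType p] (z : Z) (m : ℕ) (hm : ∀ w, w ⤳ z → ptDim p w ≤ m) :
    ringKrullDim (Z.presheaf.stalk z) + (ptDim p z : WithBot ℕ∞) ≤ (m : WithBot ℕ∞) := by
  have hz : ptDim p z ≤ m := hm z specializes_rfl
  have h : Order.coheight z ≤ ((m - ptDim p z : ℕ) : ℕ∞) := by
    refine Order.coheight_le fun l hl => ?_
    have hi : ∀ i : Fin (l.length + 1), ptDim p z + i.val ≤ ptDim p (l i) := by
      intro i
      induction i using Fin.induction with
      | zero => rw [Fin.val_zero, add_zero, ← hl]; rfl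
      | succ i ih =>
        have hs := l.step i
        have := ptDim_lt_of_specializes p (Scheme.le_iff_specializes.1 hs.le) hs.ne'
        simp only [Fin.val_succ, Fin.val_castSucc] at ih ⊢
        omega
    have h1 := hi (Fin.last _)
    have hle : l.head ≤ l (Fin.last _) := LTSeries.monotone l (Fin.zero_le _)
    have h2 := hm (l (Fin.last _)) (hl ▸ Scheme.le_iff_specializes.1 hle)
    simp only [Fin.val_last] at h1
    exact_mod_cast (by omega : l.length ≤ m - ptDim p z)
  calc ringKrullDim (Z.presheaf.stalk z) + (ptDim p z : WithBot ℕ∞)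
      ≤ (((m - ptDim p z : ℕ) : ℕ∞) : WithBot ℕ∞) + (ptDim p z : WithBot ℕ∞) := by
        rw [ringKrullDim_stalk_eq_coheight]
        exact add_le_add (WithBot.coe_le_coe.2 h) le_rfl
    _ = (((m - ptDim p z) + ptDim p z : ℕ) : WithBot ℕ∞) := by push_cast; rfl
    _ = m := by rw [Nat.sub_add_cancel hz]

variable [LocallyOfFinitePresentation f]

theorem rect_le (y : Y) (z : f.fiber y) (n m : ℕ)
    (hn : RectifiedDepthGE f (Coh.structureModule X) n y z)
    (hm : ∀ w, w ⤳ z → ptDim (k := Y.residueField y) (f.fiberToSpecResidueField y) w ≤ m) : n ≤ m := by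
  have : LocallyOfFiniteType (f.fiberToSpecResidueField y) :=
    inferInstanceAs (LocallyOfFiniteType (pullback.snd f (Y.fromSpecResidueField y)))
  let _ : Algebra (X.presheaf.stalk (f.fiberι y z)) ((f.fiber y).presheaf.stalk z) :=
    ((f.fiberι y).stalkMap z).hom.toAlgebra
  let e1 : ((Scheme.Modules.pullback (f.fiberι y)).obj (Coh.structureModule X)).presheaf.stalk z
      ≃ₗ[(f.fiber y).presheaf.stalk z] TensorProduct (X.presheaf.stalk (f.fiberι y z))
        ((f.fiber y).presheaf.stalk z) ((Coh.structureModule X).presheaf.stalk (f.fiberι y z)) :=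
    ((ModStalk.pullbackStalkIso (f.fiberι y) z).app (Coh.structureModule X)).toLinearEquiv
  let e := tensorUnitEquiv e1 (unitStalkEquiv (f.fiberι y z))
  have := isNoetherianRing_fiber_stalk f y z
  rw [RectifiedDepthGE, CAlgH3.depth_congr e,
    topologicalKrullDim_eq_ptDim_of_isGenericPoint (k := Y.residueField y)
      (f.fiberToSpecResidueField y) isGenericPoint_closure] at hn
  have hd := CAlgH3.depth_le_supportDim (R := (f.fiber y).presheaf.stalk z) (M := (f.fiber y).presheaf.stalk z)
  rw [Module.supportDim_self_eq_ringKrullDim] at hd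
  have := (hn.trans (add_le_add hd le_rfl)).trans (stalk_dim_add_ptDim_le _ z m hm)
  exact_mod_cast this

theorem piece_of_fibreMax (x : X) (s : Y) (hs : f x = s) (η : f.fiber s) (hη : f.fiberι s η = x)
    (hmax : ∀ w, w ⤳ η → η = w) :
    FlatMor.fibreDimAt f x ≤ (ptDim (k := Y.residueField s) (f.fiberToSpecResidueField s) η : WithBot ℕ∞) ∧
      RectifiedDepthGE f (Coh.structureModule X) (ptDim (k := Y.residueField s) (f.fiberToSpecResidueField s) η)
        (f x) (f.asFiber x) := by
  subst hs
  have hηx : η = f.asFiber x :=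
    (f.fiberι _).isEmbedding.injective (hη.trans (f.fiberι_asFiber x).symm)
  subst hηx
  have : LocallyOfFiniteType (f.fiberToSpecResidueField (f x)) :=
    inferInstanceAs (LocallyOfFiniteType (pullback.snd f (Y.fromSpecResidueField (f x))))
  refine ⟨?_, ?_⟩
  · exact (FlatMorDim.localDim_le_iff (k := Y.residueField (f x)) _ _ _).2
      fun w hw => (congrArg _ (hmax w hw).symm).le
  · show RectifiedDepthGE f _ _ _ _
    rw [RectifiedDepthGE, topologicalKrullDim_eq_ptDim_of_isGenericPoint (k := Y.residueField (f x))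
      (f.fiberToSpecResidueField (f x)) isGenericPoint_closure]
    exact le_add_of_nonneg_left (WithBot.coe_le_coe.2 bot_le)

theorem fibreDimAt_eq_of_piece (x : X) (d : ℕ) (h1 : FlatMor.fibreDimAt f x ≤ (d : WithBot ℕ∞))
    (h2 : RectifiedDepthGE f (Coh.structureModule X) d (f x) (f.asFiber x)) :
    FlatMor.fibreDimAt f x = d := by
  refine le_antisymm h1 ?_
  have : LocallyOfFiniteType (f.fiberToSpecResidueField (f x)) :=
    inferInstanceAs (LocallyOfFiniteType (pullback.snd f (Y.fromSpecResidueField (f x))))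
  have key : ∀ m : ℕ, FlatMor.fibreDimAt f x ≤ (m : WithBot ℕ∞) → d ≤ m := fun m hm =>
    rect_le f (f x) (f.asFiber x) d m h2
      ((FlatMorDim.localDim_le_iff (k := Y.residueField (f x)) _ _ _).1 hm)
  by_contra hlt
  rw [not_le] at hlt
  rcases Nat.eq_zero_or_pos d with hd | hd
  · subst hd
    refine absurd hlt (not_lt.2 ?_)
    refine le_iInf fun W => ?_
    let a : ↥(W.1 : Set ↥(f.fiber (f x))) := ⟨_, W.2⟩
    have : Nonempty (TopologicalSpace.IrreducibleCloseds ↥(W.1 : Set ↥(f.fiber (f x)))) :=
      ⟨⟨closure {a}, isIrreducible_singleton.closure, isClosed_closure⟩⟩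
    exact Order.krullDim_nonneg
  · obtain ⟨d', rfl⟩ := Nat.exists_eq_add_of_lt hd
    have := key d' (by
      induction hd : FlatMor.fibreDimAt f x using WithBot.recBotCoe with
      | bot => exact bot_le
      | coe a =>
        rw [hd] at hlt
        induction a using ENat.recTopCoe with
        | top => exact absurd hlt (not_lt.2 (WithBot.coe_le_coe.2 le_top))
        | coe a =>
          change (a : WithBot ℕ∞) < _ at hlt
          have : a < 0 + d' + 1 := by exact_mod_cast hlt
          exact_mod_cast (show a ≤ d' by omega))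
    omega

theorem exists_pieces [Flat f] :
    ∃ U : ℕ → X.Opens, (∀ s : Y, Dense ((f.fiberι s) ⁻¹' ((⨆ d, U d : X.Opens) : Set X))) ∧
      ∀ (d : ℕ) (x : X), x ∈ U d → FlatMor.fibreDimAt f x = d := by
  have : LocallyOfFiniteType f := inferInstance
  have hflat : FlatMod.IsFlatOver f (Coh.structureModule X) := fun x =>
    (isFlatOverAt_structureModule f x).2 (Flat.stalkMap f x)
  let U : ℕ → X.Opens := fun d => ⟨{x | FlatMor.fibreDimAt f x ≤ (d : WithBot ℕ∞)} ∩
      {x | RectifiedDepthGE f (Coh.structureModule X) d (f x) (f.asFiber x)},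
    (FlatMorDim.isOpen_fibreDimAt_le f d).inter
      (isOpen_loci f _ (isFP_structureModule X) hflat d).1⟩
  refine ⟨U, fun s => ?_, fun d x hx => le_antisymm hx.1 ?_⟩
  · intro z
    let π := f.fiberToSpecResidueField s
    have : LocallyOfFiniteType π :=
      inferInstanceAs (LocallyOfFiniteType (pullback.snd f (Y.fromSpecResidueField s)))
    obtain ⟨η, hη, hmax⟩ := exists_maximal_specializes z
    refine hη.mem_closed isClosed_closure (subset_closure ?_)
    show f.fiberι s η ∈ (⨆ d, U d : X.Opens)
    refine TopologicalSpace.Opens.mem_iSup.2 ⟨ptDim (k := Y.residueField s) π η, ?_⟩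
    exact piece_of_fibreMax f _ s ((f.range_fiberι s).le ⟨η, rfl⟩) η rfl hmax
  · exact (fibreDimAt_eq_of_piece f x d hx.1 hx.2).ge

/-- At a fibre-maximal point the fibre dimension agrees with that at any generization. -/
theorem fibreDimAt_eq_of_specializes [Flat f] {x x' : X} (hsp : x' ⤳ x)
    (hmax : ∀ w, w ⤳ f.asFiber x → f.asFiber x = w) :
    FlatMor.fibreDimAt f x' = FlatMor.fibreDimAt f x := by
  have hflat : FlatMod.IsFlatOver f (Coh.structureModule X) := fun x =>
    (isFlatOverAt_structureModule f x).2 (Flat.stalkMap f x)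
  obtain ⟨h1, h2⟩ := piece_of_fibreMax f x (f x) rfl (f.asFiber x) (f.fiberι_asFiber x) hmax
  set d := ptDim (k := Y.residueField (f x)) (f.fiberToSpecResidueField (f x)) (f.asFiber x)
  have h1' := hsp.mem_open (FlatMorDim.isOpen_fibreDimAt_le f d) h1
  have h2' := hsp.mem_open (isOpen_loci f _ (isFP_structureModule X) hflat d).1 h2
  rw [fibreDimAt_eq_of_piece f x d h1 h2, fibreDimAt_eq_of_piece f x' d h1' h2']

end Groth.Agent.FlatMor12
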