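import Groth.Agent.FlatMorDim.LocalDim
import Groth.Agent.EGA43.FibDepth.ConsAffine

/-! The loci `fibreDimAt ≤ n` are retrocompact for morphisms locally of finite presentation. -/

set_option autoImplicit false
set_option backward.isDefEq.respectTransparency false
universe u

open CategoryTheory AlgebraicGeometry TopologicalSpace Topology Groth.Agent Groth.Agent.FlatMorDim

namespace Groth.Agent.FlatMor12

variable {X Y : Scheme.{u}} (f : X ⟶ Y) [LocallyOfFinitePresentation f]

theorem isCompact_fibreDimAt_le_inter {V : Y.Opens} (hV : IsAffineOpen V) {U : X.Opens}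
    (hU : IsAffineOpen U) (e : U ≤ f ⁻¹ᵁ V) (n : ℕ) :
    IsCompact ({x : X | FlatMor.fibreDimAt f x ≤ (n : WithBot ℕ∞)} ∩ U) := by
  algebraize [(f.appLE V U e).hom]
  have : Algebra.FinitePresentation Γ(Y, V) Γ(X, U) :=
    LocallyOfFinitePresentation.finitePresentation_appLE f hV hU e
  let O := {q : PrimeSpectrum Γ(X, U) | ∀ q' : PrimeSpectrum Γ(X, U), q'.asIdeal ≤ q.asIdeal →
    q'.asIdeal.comap (algebraMap Γ(Y, V) Γ(X, U)) = q.asIdeal.comap (algebraMap Γ(Y, V) Γ(X, U)) →
      EGA43.FibDepth.trd Γ(Y, V) q' ≤ n}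
  have hOc : IsConstructible O := by
    have h : O = EGA43.FibDepth.trdLocus Γ(Y, V) Set.univ n := by
      ext q
      exact ⟨fun h q' h1 h2 _ => h q' h1 h2, fun h q' h1 h2 => h q' h1 h2 trivial⟩
    rw [h]
    exact EGA43.FibDepth.isConstructible_trdLocus (by simp) n
  have hO : IsOpen O := EGA43.FibDepth.isOpen_trd_le n
  have key : ∀ x (hx : x ∈ U),
      FlatMor.fibreDimAt f x ≤ (n : WithBot ℕ∞) ↔ hU.primeIdealOf ⟨x, hx⟩ ∈ O := by
    intro x hx
    have hp : ∀ y (hy : y ∈ U), (hU.primeIdealOf ⟨y, hy⟩).asIdeal.comap (f.appLE V U e).hom =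
        (hV.primeIdealOf ⟨f y, e hy⟩).asIdeal :=
      fun y hy => EGA43.FibDepth.comap_primeIdealOf f hV hU e hy
    rw [fibreDimAt_le_iff]
    constructor
    · intro h q' hle hq'
      have hy : hU.fromSpec q' ∈ U := hU.range_fromSpec.le ⟨q', rfl⟩
      have hq : hU.primeIdealOf ⟨hU.fromSpec q', hy⟩ = q' :=
        hU.fromSpec.isOpenEmbedding.injective (hU.fromSpec_primeIdealOf ⟨hU.fromSpec q', hy⟩)
      rw [← hq, ← EGA43.FibDepth.trdegHom_residueFieldMap f hV hU e hy]
      refine h _ ?_ ?_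
      · have := hp _ hy
        rw [hq] at this
        have h' : hV.primeIdealOf ⟨f (hU.fromSpec q'), e hy⟩ = hV.primeIdealOf ⟨f x, e hx⟩ :=
          PrimeSpectrum.ext (by rw [← this, ← hp x hx]; exact hq')
        have := congrArg hV.fromSpec h'
        rwa [hV.fromSpec_primeIdealOf, hV.fromSpec_primeIdealOf] at this
      · have h' := ((PrimeSpectrum.le_iff_specializes _ _).1
          (show q' ≤ hU.primeIdealOf ⟨x, hx⟩ from hle)).map hU.fromSpec.continuous
        rwa [hU.fromSpec_primeIdealOf] at h'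
    · intro h x' hx' hs
      have hx'U : x' ∈ U := hs.mem_open U.isOpen hx
      rw [EGA43.FibDepth.trdegHom_residueFieldMap f hV hU e hx'U]
      refine h _ ?_ ?_
      · refine (PrimeSpectrum.le_iff_specializes _ _).2 ?_
        rw [← hU.fromSpec.isOpenEmbedding.isInducing.specializes_iff, hU.fromSpec_primeIdealOf,
          hU.fromSpec_primeIdealOf]
        exact hs
      · show Ideal.comap (f.appLE V U e).hom _ = Ideal.comap (f.appLE V U e).hom _
        rw [hp x' hx'U, hp x hx]
        congr 3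
  have heq : {x : X | FlatMor.fibreDimAt f x ≤ (n : WithBot ℕ∞)} ∩ U = hU.fromSpec '' O := by
    ext x
    constructor
    · rintro ⟨hx, hxU⟩
      exact ⟨_, (key x hxU).1 hx, hU.fromSpec_primeIdealOf ⟨x, hxU⟩⟩
    · rintro ⟨q, hq, rfl⟩
      have hy : hU.fromSpec q ∈ U := hU.range_fromSpec.le ⟨q, rfl⟩
      refine ⟨(key _ hy).2 ?_, hy⟩
      rwa [show hU.primeIdealOf ⟨hU.fromSpec q, hy⟩ = q from
        hU.fromSpec.isOpenEmbedding.injective (hU.fromSpec_primeIdealOf ⟨_, hy⟩)]
  rw [heq]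
  obtain ⟨D, hD⟩ := PrimeSpectrum.exists_constructibleSetData_iff.2 hOc
  refine IsCompact.image ?_ hU.fromSpec.continuous
  rw [← hD, PrimeSpectrum.ConstructibleSetData.toSet]
  refine D.finite_toSet.isCompact_biUnion fun C _ => ?_
  rw [PrimeSpectrum.BasicConstructibleSetData.toSet, Set.diff_eq, ← PrimeSpectrum.basicOpen_eq_zeroLocus_compl]
  exact (PrimeSpectrum.isCompact_basicOpen C.f).inter_left (PrimeSpectrum.isClosed_zeroLocus _)

end Groth.Agent.FlatMor12
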