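import Groth.Agent.FlatMorLocalStr.SmoothOpen
import Groth.Agent.EGA43.SectionComp.Linking

/-!
# Section components of smooth morphisms are open
-/

set_option autoImplicit false
set_option linter.unusedSectionVars false

universe u

open AlgebraicGeometry CategoryTheory Limits TopologicalSpace

namespace Groth.Agent.FlatMor12.SmoothSectionOpen

open FlatMorSection

theorem exists_qc_open_linking {X Y : Scheme.{u}} (f : X ⟶ Y) [LocallyOfFiniteType f] {y : Y}
    {a x : X} (ha : f a = y) (hx : x ∈ connectedComponentIn (f.base ⁻¹' {y}) a) (O : Y.Opens)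
    (hyO : y ∈ O) :
    ∃ W : X.Opens, IsCompact (W : Set X) ∧ W ≤ f ⁻¹ᵁ O ∧ a ∈ W ∧
      x ∈ connectedComponentIn (f.base ⁻¹' {y} ∩ W) a := by
  classical
  have hrange : ∀ v ∈ connectedComponentIn (f.base ⁻¹' {y}) a, v ∈ Set.range (f.fiberι y) :=
    fun v hv => (f.range_fiberι y).ge (connectedComponentIn_subset _ _ hv)
  obtain ⟨a', ha'⟩ : a ∈ Set.range (f.fiberι y) := (f.range_fiberι y).ge ha
  obtain ⟨x', hx'⟩ := hrange x hx
  haveI : LocallyOfFiniteType (f.fiberToSpecResidueField y) :=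
    inferInstanceAs (LocallyOfFiniteType (Limits.pullback.snd f (Y.fromSpecResidueField y)))
  haveI : IsLocallyNoetherian (f.fiber y) :=
    LocallyOfFiniteType.isLocallyNoetherian (f.fiberToSpecResidueField y)
  have hF : H8Top.IsLocNoetherian ↥(f.fiber y) := fun z => by
    obtain ⟨W, hW, hzW, -⟩ := exists_isAffineOpen_mem_and_subset (x := z) (U := ⊤) trivial
    haveI := IsLocallyNoetherian.component_noetherian ⟨W, hW⟩
    exact ⟨W, W.isOpen.mem_nhds hzW, noetherianSpace_of_isAffineOpen W hW⟩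
  have hmem : x' ∈ connectedComponent a' := by
    have hpre : _root_.IsPreconnected (f.fiberι y ⁻¹' connectedComponentIn (f.base ⁻¹' {y}) a) := by
      rw [← (f.fiberι y).isEmbedding.isInducing.isPreconnected_image,
        Set.image_preimage_eq_of_subset hrange]
      exact isPreconnected_connectedComponentIn
    refine hpre.subset_connectedComponent ?_ (show f.fiberι y x' ∈ _ by rwa [hx'])
    rw [Set.mem_preimage, ha']
    exact mem_connectedComponentIn ha
  obtain ⟨C, hC, hCp, haC, hxC⟩ := EGA43.SectionComp.exists_compact_preconnected hF hmem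
  have hK := hC.image (f.fiberι y).continuous
  have hKO : ∀ v ∈ f.fiberι y '' C, v ∈ f ⁻¹ᵁ O := by
    rintro _ ⟨q, -, rfl⟩
    have h : f (f.fiberι y q) = y := (f.range_fiberι y).le ⟨q, rfl⟩
    show f (f.fiberι y q) ∈ O
    rw [h]; exact hyO
  choose W hW hvW hWO using fun v : ↥((f ⁻¹ᵁ O : X.Opens) : Set X) =>
    exists_isAffineOpen_mem_and_subset (x := v.1) (U := f ⁻¹ᵁ O) v.2
  obtain ⟨t, ht⟩ := hK.elim_finite_subcover (fun v => (W v : Set X)) (fun v => (W v).isOpen)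
    fun v hv => Set.mem_iUnion.2 ⟨⟨v, hKO v hv⟩, hvW _⟩
  have hcoe : ((⨆ v ∈ t, W v : X.Opens) : Set X) = ⋃ v ∈ t, (W v : Set X) := by simp
  refine ⟨⨆ v ∈ t, W v, hcoe ▸ t.finite_toSet.isCompact_biUnion fun v _ => (hW v).isCompact,
    iSup₂_le fun v _ => hWO v, hcoe.ge (ht ⟨a', haC, ha'⟩), ?_⟩
  refine (hCp.image _ (f.fiberι y).continuous.continuousOn).subset_connectedComponentIn
    ⟨a', haC, ha'⟩ ?_ ⟨x', hxC, hx'⟩
  intro v hv
  refine ⟨?_, hcoe.ge (ht hv)⟩
  obtain ⟨q, -, rfl⟩ := hv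
  exact (f.range_fiberι y).le ⟨q, rfl⟩

section Base

variable {W : Type u} [CommRing W] [IsDomain W] [IsIntegrallyClosed W] {P : Scheme.{u}}
  (f : P ⟶ Spec (CommRingCat.of W))

/-- A point without proper generizations. -/
def IsMax (η : P) : Prop := ∀ z : P, z ⤳ η → z = η

theorem chart [Smooth f] {U : P.Opens} (hU : IsAffineOpen U) :
    (∀ x ∈ U, ∃ η ∈ U, IsMax η ∧ η ⤳ x) ∧
      (∀ x ∈ U, ∀ η η', IsMax η → IsMax η' → η ⤳ x → η' ⤳ x → η = η') ∧
      {η : P | IsMax η ∧ η ∈ U}.Finite := by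
  let φ : CommRingCat.of W ⟶ Γ(P, U) := (Scheme.ΓSpecIso _).inv ≫ f.appLE ⊤ U le_top
  have hφ : φ.hom.Smooth := by
    have h : (f.appLE ⊤ U le_top).hom.Smooth :=
      HasRingHomProperty.appLE @Smooth f inferInstance ⟨⊤, isAffineOpen_top _⟩ ⟨U, hU⟩ le_top
    exact RingHom.Smooth.respectsIso.2 _ (Scheme.ΓSpecIso (CommRingCat.of W)).symm.commRingCatIsoToRingEquiv h
  let _ : Algebra W Γ(P, U) := φ.hom.toAlgebra
  have : Algebra.Smooth W Γ(P, U) := hφ
  let e : PrimeSpectrum Γ(P, U) → P := fun p => hU.fromSpec p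
  have he : ∀ p, e p ∈ U := fun p => hU.range_fromSpec.le ⟨p, rfl⟩
  have hsp : ∀ p q : PrimeSpectrum Γ(P, U), e p ⤳ e q ↔ p.asIdeal ≤ q.asIdeal := fun p q => by
    rw [PrimeSpectrum.asIdeal_le_asIdeal, PrimeSpectrum.le_iff_specializes]
    exact hU.fromSpec.isOpenEmbedding.isInducing.specializes_iff
  have hex : ∀ x ∈ U, ∃ p, e p = x := fun x hx => hU.range_fromSpec.ge hx
  have hmax : ∀ p : PrimeSpectrum Γ(P, U), IsMax (e p) ↔ p.asIdeal ∈ minimalPrimes Γ(P, U) := by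
    intro p
    constructor
    · intro h
      obtain ⟨Q, hQ, hQp⟩ := Ideal.exists_minimalPrimes_le (I := (⊥ : Ideal Γ(P, U)))
        (J := p.asIdeal) bot_le
      have e1 : e ⟨Q, hQ.1.1⟩ = e p := h _ ((hsp _ _).2 hQp)
      rw [← hU.fromSpec.isOpenEmbedding.injective e1]
      exact hQ
    · intro hp z hz
      obtain ⟨q, rfl⟩ := hex z (hz.mem_open U.2 (he p))
      have h1 := (hsp q p).1 hz
      exact congrArg e (PrimeSpectrum.ext (le_antisymm h1 (hp.2 ⟨q.2, bot_le⟩ h1)))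
  refine ⟨fun x hx => ?_, fun x hx η η' hη hη' h h' => ?_, ?_⟩
  · obtain ⟨p, rfl⟩ := hex x hx
    obtain ⟨Q, hQ, hQp⟩ := Ideal.exists_minimalPrimes_le (I := (⊥ : Ideal Γ(P, U)))
      (J := p.asIdeal) bot_le
    exact ⟨e ⟨Q, hQ.1.1⟩, he _, (hmax _).2 hQ, (hsp _ _).2 hQp⟩
  · obtain ⟨q, rfl⟩ := hex η (h.mem_open U.2 hx)
    obtain ⟨q', rfl⟩ := hex η' (h'.mem_open U.2 hx)
    obtain ⟨p, rfl⟩ := hex x hx
    exact congrArg e (PrimeSpectrum.ext (FlatMorLocalStr.minimalPrime_unique W ((hmax q).1 hη)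
      ((hmax q').1 hη') ((hsp q p).1 h) ((hsp q' p).1 h')))
  · refine (((FlatMorLocalStr.finite_minimalPrimes_of_smooth (B := Γ(P, U)) W).preimage
      (fun a _ b _ h => PrimeSpectrum.ext h)).image e).subset ?_
    rintro η ⟨hη, hηU⟩
    obtain ⟨p, rfl⟩ := hex η hηU
    exact ⟨p, (hmax p).1 hη, rfl⟩

theorem isClopen_closure [Smooth f] {η : P} (hη : IsMax η) : IsClopen (closure {η}) := by
  refine ⟨isClosed_closure, isOpen_iff_forall_mem_open.2 fun x hx => ?_⟩
  obtain ⟨U, hU, hxU, -⟩ := exists_isAffineOpen_mem_and_subset (x := x) (U := ⊤) trivial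
  obtain ⟨hc, hu, hf⟩ := chart f hU
  let S := {η' : P | IsMax η' ∧ η' ∈ U} \ {η}
  refine ⟨(U : Set P) \ ⋃ η' ∈ S, closure {η'}, ?_,
    U.2.sdiff (hf.sdiff.isClosed_biUnion fun _ _ => isClosed_closure), hxU, ?_⟩
  · rintro z ⟨hz, hz'⟩
    obtain ⟨η', hη'U, hη', hsp⟩ := hc z hz
    by_cases e : η' = η
    · exact e ▸ specializes_iff_mem_closure.1 hsp
    · exact (hz' (Set.mem_biUnion ⟨⟨hη', hη'U⟩, e⟩ (specializes_iff_mem_closure.1 hsp))).elim
  · rintro hz
    obtain ⟨η', ⟨⟨hη', -⟩, hne⟩, hsp⟩ := Set.mem_iUnion₂.1 hz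
    exact hne (hu x hxU η' η hη' hη (specializes_iff_mem_closure.2 hsp)
      (specializes_iff_mem_closure.2 hx))

/-- Sections connected in the special fibre are connected in the generic fibre. -/
theorem connected_generic [IsLocalRing W] [Smooth f] (l s : Spec (CommRingCat.of W) ⟶ P)
    (hl : l ≫ f = 𝟙 _) (hs : s ≫ f = 𝟙 _)
    (h : l (IsLocalRing.closedPoint W) ∈
      connectedComponentIn (f ⁻¹' {IsLocalRing.closedPoint W}) (s (IsLocalRing.closedPoint W))) :
    l ⟨⊥, Ideal.isPrime_bot⟩ ∈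
      connectedComponentIn (f ⁻¹' {(⟨⊥, Ideal.isPrime_bot⟩ : PrimeSpectrum W)})
        (s ⟨⊥, Ideal.isPrime_bot⟩) := by
  let c : ↥(Spec (CommRingCat.of W)) := IsLocalRing.closedPoint W
  let g : ↥(Spec (CommRingCat.of W)) := (⟨⊥, Ideal.isPrime_bot⟩ : PrimeSpectrum W)
  have hgen : ∀ z : ↥(Spec (CommRingCat.of W)), g ⤳ z := fun z =>
    (PrimeSpectrum.le_iff_specializes (⟨⊥, Ideal.isPrime_bot⟩ : PrimeSpectrum W) z).1 bot_le
  have hsec : ∀ (t : Spec (CommRingCat.of W) ⟶ P), t ≫ f = 𝟙 _ → ∀ p, f (t p) = p :=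
    fun t ht p => congrArg (fun φ : Spec (CommRingCat.of W) ⟶ Spec (CommRingCat.of W) => φ p) ht
  obtain ⟨U, hU, hsU, -⟩ := exists_isAffineOpen_mem_and_subset (x := s c) (U := ⊤) trivial
  obtain ⟨η, -, hη, hηs⟩ := (chart f hU).1 _ hsU
  have hcl := isClopen_closure f hη
  have hlc : l c ∈ closure {η} := by
    refine isPreconnected_connectedComponentIn.subset_isClopen hcl ⟨s c, ?_,
      specializes_iff_mem_closure.1 hηs⟩ h
    exact mem_connectedComponentIn (hsec s hs c)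
  have hmem : ∀ t : Spec (CommRingCat.of W) ⟶ P, t ≫ f = 𝟙 _ → t c ∈ closure {η} →
      t g ∈ closure {η} := fun t _ htc =>
    ((hgen c).map t.continuous).mem_open hcl.isOpen htc
  have hsc : s g ∈ closure {η} := hmem s hs (specializes_iff_mem_closure.1 hηs)
  have hfη : f η = g := by
    have h1 : f η ⤳ g := hsec s hs g ▸ (specializes_iff_mem_closure.2 hsc).map f.continuous
    exact h1.antisymm (hgen _) |>.eq
  have hpre : _root_.IsPreconnected (closure {η} ∩ f ⁻¹' {g}) :=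
    isPreconnected_singleton.subset_closure
      (Set.singleton_subset_iff.2 ⟨subset_closure rfl, hfη⟩) Set.inter_subset_left
  exact hpre.subset_connectedComponentIn ⟨hsc, hsec s hs g⟩ Set.inter_subset_right
    ⟨hmem l hl hlc, hsec l hl g⟩

end Base

theorem stableUnderGeneralization {X S : Scheme.{u}} (f : X ⟶ S) [Smooth f] (s : S ⟶ X)
    (hs : s ≫ f = 𝟙 S) : StableUnderGeneralization (MoreMor.sectionComponents f s) := by
  intro x x' hxx hx
  obtain ⟨U, hU, hxU, -⟩ := exists_isAffineOpen_mem_and_subset (x := x) (U := ⊤) trivial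
  have hx'U : x' ∈ U := hxx.mem_open U.2 hxU
  obtain ⟨p, hp⟩ := hU.range_fromSpec.ge hxU
  obtain ⟨p', hp'⟩ := hU.range_fromSpec.ge hx'U
  have hle : p'.asIdeal ≤ p.asIdeal :=
    (PrimeSpectrum.le_iff_specializes p' p).2
      (hU.fromSpec.isOpenEmbedding.isInducing.specializes_iff.1 (by rw [hp, hp']; exact hxx))
  obtain ⟨V, l, hlm, hl0⟩ := FlatMorLocalStr.exists_valuation p'.asIdeal p.asIdeal hle
  let W : Type u := V
  let m : Spec (CommRingCat.of W) ⟶ X := Spec.map (CommRingCat.ofHom l) ≫ hU.fromSpec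
  have hm1 : m (IsLocalRing.closedPoint W) = x := by
    rw [← hp]
    exact congrArg hU.fromSpec (PrimeSpectrum.ext hlm)
  have hm0 : m (⟨⊥, Ideal.isPrime_bot⟩ : PrimeSpectrum W) = x' := by
    rw [← hp']
    exact congrArg hU.fromSpec (PrimeSpectrum.ext hl0)
  have hc := IsPullback.of_hasPullback f (m ≫ f)
  let lt : Spec (CommRingCat.of W) ⟶ pullback f (m ≫ f) :=
    pullback.lift m (𝟙 _) (by rw [Category.id_comp])
  let st : Spec (CommRingCat.of W) ⟶ pullback f (m ≫ f) :=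
    pullback.lift ((m ≫ f) ≫ s) (𝟙 _)
      (by rw [Category.assoc, hs, Category.comp_id, Category.id_comp])
  have hbc := sectionComponents_baseChange f s hs (pullback.snd f (m ≫ f)) (pullback.fst _ _)
    (m ≫ f) hc st (pullback.lift_snd _ _ _) (pullback.lift_fst _ _ _)
  have hsnd : ∀ p, pullback.snd f (m ≫ f) (lt p) = p := fun p =>
    congrArg (fun φ : Spec (CommRingCat.of W) ⟶ Spec (CommRingCat.of W) => φ p)
      (pullback.lift_snd m (𝟙 _) _)
  have hfst : ∀ p, pullback.fst f (m ≫ f) (lt p) = m p := fun p =>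
    congrArg (fun φ : Spec (CommRingCat.of W) ⟶ X => φ p) (pullback.lift_fst m (𝟙 _) _)
  have h1 : lt (IsLocalRing.closedPoint W) ∈
      MoreMor.sectionComponents (pullback.snd f (m ≫ f)) st := by
    rw [hbc, Set.mem_preimage, hfst, hm1]
    exact hx
  change _ ∈ connectedComponentIn _ _ at h1
  rw [hsnd] at h1
  have h2 := connected_generic (pullback.snd f (m ≫ f)) lt st (pullback.lift_snd _ _ _)
    (pullback.lift_snd _ _ _) h1
  have h3 : lt (⟨⊥, Ideal.isPrime_bot⟩ : PrimeSpectrum W) ∈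
      MoreMor.sectionComponents (pullback.snd f (m ≫ f)) st := by
    show _ ∈ connectedComponentIn _ _
    rw [hsnd]
    exact h2
  rw [hbc, Set.mem_preimage, hfst, hm0] at h3
  exact h3

theorem isOpen_of_qc {X S : Scheme.{u}} (f : X ⟶ S) [Smooth f] [QuasiCompact f] [QuasiSeparated f]
    (s : S ⟶ X) (hs : s ≫ f = 𝟙 S) : IsOpen (MoreMor.sectionComponents f s) := by
  refine isOpen_iff_mem_nhds.2 fun x hx => ?_
  obtain ⟨U, hU, hxU, -⟩ := exists_isAffineOpen_mem_and_subset (x := x) (U := ⊤) trivial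
  have hlc := isLocallyConstructible_sectionComponents f s hs
  have hc := (H8Lim.isLocallyConstructible_preimage hU.fromSpec hlc).isConstructible
  have hopen : IsOpen (hU.fromSpec ⁻¹' MoreMor.sectionComponents f s) :=
    PrimeSpectrum.isOpen_of_stableUnderGeneralization_of_isConstructible
      ((stableUnderGeneralization f s hs).preimage hU.fromSpec.continuous) hc
  refine Filter.mem_of_superset
    ((hU.fromSpec.isOpenEmbedding.isOpenMap _ hopen).mem_nhds ?_) (Set.image_preimage_subset _ _)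
  obtain ⟨p, hp⟩ := hU.range_fromSpec.ge hxU
  exact ⟨p, by rwa [Set.mem_preimage, hp], hp⟩

/-- Section components of a smooth morphism with quasi-separated source are open. -/
theorem isOpen_sectionComponents {X S : Scheme.{u}} [QuasiSeparatedSpace ↥X] (f : X ⟶ S) [Smooth f]
    (g : S ⟶ X) (hg : g ≫ f = 𝟙 S) : IsOpen (MoreMor.sectionComponents f g) := by
  refine isOpen_iff_mem_nhds.2 fun x hx => ?_
  have hfg : ∀ z, f (g z) = z := fun z => congrArg (fun φ : S ⟶ S => φ z) hg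
  obtain ⟨U₀, hU₀, hyU₀, -⟩ := exists_isAffineOpen_mem_and_subset (x := f x) (U := ⊤) trivial
  obtain ⟨W, hWc, hWU₀, hgW, hxW⟩ := exists_qc_open_linking f (hfg (f x)) hx U₀ hyU₀
  obtain ⟨a, haW, hya⟩ := hU₀.exists_basicOpen_le (V := g ⁻¹ᵁ W) ⟨f x, hgW⟩ hyU₀
  let U : S.Opens := S.basicOpen a
  have hUaff : IsAffineOpen U := hU₀.basicOpen a
  let W' : X.Opens := W ⊓ f ⁻¹ᵁ U
  have hW'c : IsCompact (W' : Set X) := by
    obtain ⟨t, ht⟩ := hWc.elim_finite_subcover
      (fun V : {V : X.Opens // IsAffineOpen V ∧ V ≤ f ⁻¹ᵁ U₀} => (V.1 : Set X))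
      (fun V => V.1.2) (fun v hv => by
        obtain ⟨V, hV, hvV, hVle⟩ :=
          exists_isAffineOpen_mem_and_subset (x := v) (U := f ⁻¹ᵁ U₀) (hWU₀ hv)
        exact Set.mem_iUnion.2 ⟨⟨V, hV, hVle⟩, hvV⟩)
    have e : (W' : Set X) = ⋃ V ∈ t, ((V.1 ⊓ f ⁻¹ᵁ U : X.Opens) : Set X) ∩ (W : Set X) := by
      ext v
      simp only [Set.mem_iUnion]
      constructor
      · rintro ⟨hvW, hvU⟩
        obtain ⟨V, hVt, hvV⟩ := Set.mem_iUnion₂.1 (ht hvW)
        exact ⟨V, hVt, ⟨hvV, hvU⟩, hvW⟩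
      · rintro ⟨V, -, ⟨-, hvU⟩, hvW⟩
        exact ⟨hvW, hvU⟩
    rw [e]
    refine t.finite_toSet.isCompact_biUnion fun V _ => ?_
    have hVU : IsAffineOpen (V.1 ⊓ f ⁻¹ᵁ U) := by
      have e' : X.basicOpen (f.appLE U₀ V.1 V.2.2 a) = V.1 ⊓ f ⁻¹ᵁ U := by
        rw [Scheme.Hom.appLE, CommRingCat.comp_apply, Scheme.basicOpen_res,
          ← Scheme.preimage_basicOpen]
      rw [← e']
      exact V.2.1.basicOpen _
    exact QuasiSeparatedSpace.inter_isCompact _ _ (V.1 ⊓ f ⁻¹ᵁ U).2 hVU.isCompact W.2 hWc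
  let f' : W'.toScheme ⟶ U.toScheme := f.resLE U W' inf_le_right
  let g' : U.toScheme ⟶ W'.toScheme := g.resLE W' U
    (fun z hz => ⟨haW hz, show f (g z) ∈ U from (hfg z).symm ▸ hz⟩)
  have hg'f' : g' ≫ f' = 𝟙 _ := by
    rw [← cancel_mono U.ι, Category.assoc, Scheme.Hom.resLE_comp_ι, Scheme.Hom.resLE_comp_ι_assoc, hg,
      Category.comp_id, Category.id_comp]
  haveI : Smooth f' := IsZariskiLocalAtSource.resLE (P := @Smooth) _ ‹Smooth f›
  haveI : IsAffine U.toScheme := hUaff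
  haveI : CompactSpace ↥W'.toScheme := isCompact_iff_compactSpace.1 hW'c
  haveI : QuasiSeparatedSpace ↥W'.toScheme := W'.ι.isOpenEmbedding.quasiSeparatedSpace
  haveI : QuasiSeparated f' := inferInstance
  haveI : QuasiCompact f' := inferInstance
  have hopen := isOpen_of_qc f' g' hg'f'
  have hfW : ∀ z : W'.toScheme, (f' z).1 = f z.1 := fun z =>
    congrArg (fun φ : W'.toScheme ⟶ S => φ z) (Scheme.Hom.resLE_comp_ι f (e := inf_le_right))
  have hgW' : ∀ z : U.toScheme, (g' z).1 = g z.1 := fun z =>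
    congrArg (fun φ : U.toScheme ⟶ X => φ z) (Scheme.Hom.resLE_comp_ι g (U := W')
      (e := fun w hw => ⟨haW hw, show f (g w) ∈ U from (hfg w).symm ▸ hw⟩))
  have hsub : Subtype.val '' MoreMor.sectionComponents f' g' ⊆ MoreMor.sectionComponents f g := by
    rintro _ ⟨z, hz, rfl⟩
    refine (isPreconnected_connectedComponentIn.image _ continuous_subtype_val.continuousOn).subset_connectedComponentIn
      ⟨g' (f' z), mem_connectedComponentIn (congrArg (fun φ : U.toScheme ⟶ U.toScheme => φ (f' z)) hg'f'),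
        (hgW' _).trans (congrArg g (hfW z))⟩ ?_ ⟨z, hz, rfl⟩
    rintro _ ⟨q, hq, rfl⟩
    exact (hfW q).symm.trans ((congrArg Subtype.val
      (connectedComponentIn_subset (f' ⁻¹' {f' z}) (g' (f' z)) hq)).trans (hfW z))
  have hxW' : x ∈ W' := ⟨(connectedComponentIn_subset _ _ hxW).2, hya⟩
  refine Filter.mem_of_superset ((W'.ι.isOpenEmbedding.isOpenMap _ hopen).mem_nhds
    ⟨⟨x, hxW'⟩, ?_, rfl⟩) hsub
  show (⟨x, hxW'⟩ : W'.toScheme) ∈ connectedComponentIn _ _
  have hfib : f.base ⁻¹' {f x} ∩ (W : Set X) ⊆ Set.range (Subtype.val : W'.toScheme → X) :=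
    fun v hv => ⟨⟨v, hv.2, show f v ∈ U from (show f v = f x from hv.1) ▸ hya⟩, rfl⟩
  have hpre : _root_.IsPreconnected ((Subtype.val : W'.toScheme → X) ⁻¹'
      connectedComponentIn (f.base ⁻¹' {f x} ∩ W) (g (f x))) := by
    refine Topology.IsInducing.subtypeVal.isPreconnected_image.1 ?_
    exact (Set.image_preimage_eq_of_subset ((connectedComponentIn_subset _ _).trans hfib)).symm ▸
      isPreconnected_connectedComponentIn
  refine hpre.subset_connectedComponentIn ?_ (fun v hv => ?_) hxW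
  · have h0 : (g' (f' ⟨x, hxW'⟩)).1 = g (f x) := (hgW' _).trans (congrArg g (hfW ⟨x, hxW'⟩))
    refine Set.mem_preimage.2 ?_
    rw [h0]
    exact mem_connectedComponentIn ⟨hfg _, hgW⟩
  · exact Subtype.ext ((hfW v).trans
      (((connectedComponentIn_subset _ _ hv).1).trans (hfW ⟨x, hxW'⟩).symm))

end Groth.Agent.FlatMor12.SmoothSectionOpen
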