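import Groth.Agent.FlatMor12.ConnectedNhd
import Groth.Agent.FlatMorLocalStr.Nbhd
import Groth.Agent.S1549
import Groth.Agent.MorProj.SmoothLocus
import Groth.Agent.FlatMorSmoothSect.Scheme

/-!
# Etale neighbourhoods separating a geometrically connected open of a fibre
-/

set_option autoImplicit false
set_option backward.isDefEq.respectTransparency false

universe u

open CategoryTheory CategoryTheory.Limits AlgebraicGeometry TopologicalSpace Topology

namespace Groth.Agent.FlatMor12.ConnectedEtaleNhd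

theorem exists_compact_open {Y : Scheme.{u}} {K : Set Y} (hK : IsCompact K) (O : Y.Opens) (hKO : K ⊆ O) :
    ∃ O' : Y.Opens, IsCompact (O' : Set Y) ∧ K ⊆ O' ∧ O' ≤ O := by
  have hcov : ∀ x : O, ∃ W : Y.Opens, IsAffineOpen W ∧ x.1 ∈ W ∧ W ≤ O := fun x =>
    exists_isAffineOpen_mem_and_subset (x := x.1) (U := O) x.2
  choose W hW hxW hWO using hcov
  obtain ⟨t, ht⟩ := hK.elim_finite_subcover (fun x => (W x : Set Y)) (fun x => (W x).2)
    fun x hx => Set.mem_iUnion.2 ⟨⟨x, hKO hx⟩, hxW _⟩
  refine ⟨⨆ x ∈ t, W x, ?_, ?_, iSup₂_le fun x _ => hWO x⟩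
  · simp only [TopologicalSpace.Opens.coe_iSup]
    exact t.finite_toSet.isCompact_biUnion fun x _ => (hW x).isCompact
  · simpa only [TopologicalSpace.Opens.coe_iSup] using ht

/-- The smooth points of a geometrically reduced scheme over a field are dense. -/
theorem exists_smooth_mem {k : Type u} [Field k] {F : Scheme.{u}} (p : F ⟶ Spec (CommRingCat.of k))
    [LocallyOfFiniteType p] [GeometricallyReduced p] [IsReduced F] (T : F.Opens) (hT : (T : Set F).Nonempty) :
    ∃ t ∈ T, t ∈ p.smoothLocus := by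
  letI : F.Over (Spec (CommRingCat.of k)) := ⟨p⟩
  haveI : IsReduced F := inferInstance
  haveI : LocallyOfFiniteType (F ↘ Spec (CommRingCat.of k)) := ‹_›
  obtain ⟨U, hU, hsm⟩ := (S1549.result k F).1 ‹GeometricallyReduced p›
  obtain ⟨t, htT, htU⟩ := hU.inter_open_nonempty _ T.2 hT
  refine ⟨t, htT, ?_⟩
  have : Smooth (U.ι ≫ p) := hsm
  have h := (U.ι ≫ p).smoothLocus_eq_top
  rw [← Scheme.Hom.preimage_smoothLocus_eq] at h
  have h' : (⟨t, htU⟩ : U) ∈ U.ι ⁻¹ᵁ p.smoothLocus := h ▸ trivial
  exact h'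

theorem smooth_smoothLocus_ι {X S : Scheme.{u}} (f : X ⟶ S) [LocallyOfFinitePresentation f]
    {U : X.Opens} (hU : U ≤ f.smoothLocus) : Smooth (U.ι ≫ f) := by
  rw [← Scheme.Hom.smoothLocus_eq_top_iff, ← Scheme.Hom.preimage_smoothLocus_eq, ← top_le_iff]
  exact fun z _ => hU z.2

theorem mem_smoothLocus_fiberι {Y S : Scheme.{u}} (h : Y ⟶ S) [Flat h] [LocallyOfFinitePresentation h]
    (s : S) [LocallyOfFinitePresentation (h.fiberToSpecResidueField s)] (t : h.fiber s)
    (ht : t ∈ (h.fiberToSpecResidueField s).smoothLocus) : h.fiberι s t ∈ h.smoothLocus := by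
  obtain ⟨x, hx⟩ : ∃ x, h.fiberι s t = x := ⟨_, rfl⟩
  have hxs : h x = s := hx ▸ (h.range_fiberι s).le ⟨t, rfl⟩
  subst hxs
  have ht' : h.asFiber x = t :=
    (h.fiberι (h x)).isEmbedding.injective ((h.fiberι_asFiber x).trans hx.symm)
  rw [hx]
  exact (MorProj.mem_smoothLocus_iff_flat_and_fiber h x).2
    ⟨Flat.stalkMap h x, by rw [ht']; exact ht⟩

theorem geometricallyReduced_comp_ι {Y S : Scheme.{u}} (h : Y ⟶ S) [GeometricallyReduced h]
    (O : Y.Opens) : GeometricallyReduced (O.ι ≫ h) := by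
  refine ⟨geometrically_iff_of_isClosedUnderIsomorphisms.mpr fun K _ x => ?_⟩
  haveI : IsReduced (pullback h x) :=
    pullback_of_geometrically (GeometricallyReduced.geometrically_isReduced (f := h)) K x
  exact isReduced_of_isOpenImmersion
    (pullback.map (O.ι ≫ h) x h x O.ι (𝟙 _) (𝟙 _) (by simp) (by simp))

theorem range_of_isPullback {P X Y Z : Scheme.{u}} {f : P ⟶ X} {g : P ⟶ Y} {f' : X ⟶ Z} {g' : Y ⟶ Z}
    (sq : IsPullback f g f' g') : Set.range f = f' ⁻¹' Set.range g' := by
  rw [← Scheme.Pullback.range_fst (f := f') (g := g'), ← sq.isoPullback_hom_fst]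
  rw [Scheme.Hom.comp_base, TopCat.coe_comp, Set.range_comp,
    Set.range_eq_univ.2 (show Function.Surjective sq.isoPullback.hom from
      sq.isoPullback.hom.homeomorph.surjective), Set.image_univ]

theorem exists_connected_etale_nhd {Y S : Scheme.{u}} (h : Y ⟶ S) [Flat h] [LocallyOfFinitePresentation h]
    [QuasiCompact h] [QuasiSeparated h] [GeometricallyReduced h] (s : S) (T : (h.fiber s).Opens)
    (hT : GeometricallyConnected (T.ι ≫ h.fiberToSpecResidueField s)) :
    ∃ (S' : Scheme.{u}) (g : S' ⟶ S) (s' : S'), IsAffine S' ∧ Hens2.IsEtaleNbhd g s' s ∧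
      ∃ V : (pullback h g).Opens, IsCompact (V : Set ↑(pullback h g)) ∧
        GeometricallyConnected (V.ι ≫ pullback.snd h g) ∧
        ∀ y' : ↑(pullback h g), pullback.snd h g y' = s' →
          (y' ∈ V ↔ pullback.fst h g y' ∈ (h.fiberι s) '' (T : Set ↑(h.fiber s))) := by
  let F := h.fiber s
  let pF := h.fiberToSpecResidueField s
  haveI : LocallyOfFinitePresentation pF :=
    inferInstanceAs (LocallyOfFinitePresentation (pullback.snd h (S.fromSpecResidueField s)))
  haveI : IsLocallyNoetherian F := LocallyOfFiniteType.isLocallyNoetherian pF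
  haveI : QuasiCompact pF := inferInstanceAs (QuasiCompact (pullback.snd h (S.fromSpecResidueField s)))
  haveI : CompactSpace F := QuasiCompact.compactSpace_of_compactSpace pF
  haveI : IsNoetherian F := ⟨⟩
  have hTne : (T : Set F).Nonempty := by
    haveI := GeometricallyConnected.connectedSpace_of_subsingleton (T.ι ≫ pF)
    obtain ⟨t⟩ := (inferInstance : Nonempty (T : Scheme.{u}))
    exact ⟨t.1, t.2⟩
  -- a quasi-compact open with fibre `T`
  obtain ⟨O₀, hO₀, hO₀T⟩ := (h.fiberι s).isEmbedding.isInducing.isOpen_iff.1 T.2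
  obtain ⟨W₀, hW₀, hsW₀, -⟩ := exists_isAffineOpen_mem_and_subset (x := s) (U := (⊤ : S.Opens)) trivial
  obtain ⟨O, hOc, hKO, hOO'⟩ := exists_compact_open
    ((NoetherianSpace.isCompact (T : Set F)).image (h.fiberι s).continuous) (⟨O₀, hO₀⟩ ⊓ h ⁻¹ᵁ W₀) (by
      rintro _ ⟨t, ht, rfl⟩
      refine ⟨hO₀T.ge ht, ?_⟩
      show h (h.fiberι s t) ∈ W₀
      rw [((h.range_fiberι s).le ⟨t, rfl⟩ : h (h.fiberι s t) = s)]
      exact hsW₀)
  have hOO : O ≤ ⟨O₀, hO₀⟩ := hOO'.trans inf_le_left
  have hOW : O ≤ h ⁻¹ᵁ W₀ := hOO'.trans inf_le_right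
  have hOT : ∀ y : Y, h y = s → (y ∈ O ↔ y ∈ (h.fiberι s) '' (T : Set F)) := by
    intro y hy
    refine ⟨fun hyO => ?_, fun hy' => hKO hy'⟩
    obtain ⟨t, rfl⟩ := (h.range_fiberι s).ge hy
    exact ⟨t, hO₀T.le (hOO hyO), rfl⟩
  -- an étale quasi-section in `O`
  obtain ⟨t₀, ht₀, hsm₀⟩ := exists_smooth_mem pF T hTne
  let x₀ := h.fiberι s t₀
  have hx₀s : h x₀ = s := (h.range_fiberι s).le ⟨t₀, rfl⟩
  have hx₀sm : x₀ ∈ h.smoothLocus := mem_smoothLocus_fiberι h s t₀ hsm₀
  let Os : Y.Opens := O ⊓ h.smoothLocus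
  haveI : Smooth (Os.ι ≫ h) := smooth_smoothLocus_ι h inf_le_right
  obtain ⟨Z, a, z, ha, haz, σ₀, hσ₀⟩ := FlatMorSmoothSect.exists_section_etale_locally (Os.ι ≫ h)
    ⟨x₀, hKO ⟨t₀, ht₀, rfl⟩, hx₀sm⟩
  have haz' : a z = s := haz.trans hx₀s
  obtain ⟨S', e, s', hS', he, V, v, hfin, hsurj, hvV, hvz, hvs, huniq⟩ :=
    FlatMorLocalStr.exists_split_affine a haz'
  have heet := he.etale
  haveI := hfin
  haveI := hsurj
  let g' := V.ι ≫ pullback.snd a e
  haveI : LocallyOfFinitePresentation (pullback.snd a e) := MorphismProperty.pullback_snd _ _ inferInstance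
  haveI : Flat (pullback.snd a e) := MorphismProperty.pullback_snd _ _ inferInstance
  let hO := O.ι ≫ h
  haveI : GeometricallyReduced hO := geometricallyReduced_comp_ι h O
  let f' := pullback.snd hO e
  haveI : Flat f' := MorphismProperty.pullback_snd _ _ inferInstance
  haveI : LocallyOfFinitePresentation f' := MorphismProperty.pullback_snd _ _ inferInstance
  haveI : QuasiSeparated f' := MorphismProperty.pullback_snd _ _ inferInstance
  haveI : GeometricallyReduced f' := MorphismProperty.pullback_snd _ _ inferInstance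
  haveI : IsAffine S' := hS'
  haveI : QuasiCompact f' := by
    haveI : IsAffine W₀ := hW₀
    haveI : CompactSpace O := isCompact_iff_compactSpace.1 hOc
    -- `e` and `hO` factor through `W₀`
    have heW : Set.range e ⊆ Set.range W₀.ι := by
      rw [Scheme.Opens.range_ι]
      rintro _ ⟨y, rfl⟩
      obtain ⟨w, rfl⟩ := (V.ι ≫ pullback.snd a e).surjective y
      have h1 : e ((V.ι ≫ pullback.snd a e) w) = h (O.ι ((Y.homOfLE (inf_le_left : Os ≤ O))
          (σ₀ (pullback.fst a e (V.ι w))))) := by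
        simp only [← Scheme.Hom.comp_apply, Category.assoc, Scheme.homOfLE_ι_assoc]
        show (V.ι ≫ pullback.snd a e ≫ e) w = ((V.ι ≫ pullback.fst a e ≫ σ₀) ≫ (Os.ι ≫ h)) w
        rw [Category.assoc, Category.assoc, hσ₀, pullback.condition]
      rw [h1]
      exact hOW (Subtype.prop _)
    have hOr : Set.range hO ⊆ Set.range W₀.ι := by
      rw [Scheme.Opens.range_ι]
      rintro _ ⟨y, rfl⟩
      exact hOW y.2
    let e₀ := IsOpenImmersion.lift W₀.ι e heW
    let hO₀ := IsOpenImmersion.lift W₀.ι hO hOr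
    have sq₀ : IsPullback (pullback.fst hO₀ e₀) (pullback.snd hO₀ e₀) hO e := by
      have := IsPullback.of_isLimit (pullbackIsPullbackOfCompMono hO₀ e₀ W₀.ι)
      simpa only [hO₀, e₀, IsOpenImmersion.lift_fac, PullbackCone.mk_pt, PullbackCone.mk_fst,
        PullbackCone.mk_snd] using this
    haveI : QuasiCompact hO₀ := inferInstance
    haveI : CompactSpace ↑(pullback hO₀ e₀) :=
      QuasiCompact.compactSpace_of_compactSpace (pullback.snd hO₀ e₀)
    haveI : CompactSpace ↑(pullback hO e) := sq₀.isoPullback.hom.homeomorph.compactSpace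
    infer_instance
  let σ : (V : Scheme.{u}) ⟶ pullback hO e :=
    pullback.lift (V.ι ≫ pullback.fst a e ≫ σ₀ ≫ Y.homOfLE (inf_le_left : Os ≤ O)) g' (by
      simp only [hO, g', Category.assoc, Scheme.homOfLE_ι_assoc]
      rw [hσ₀, pullback.condition])
  have hσ : σ ≫ f' = g' := pullback.lift_snd _ _ _
  have hs'g : s' ∈ Set.range g' := ⟨⟨v, hvV⟩, hvs⟩
  have hconn : GeometricallyConnected (f'.fiberToSpecResidueField s') := by
    refine (Set.ext_iff.1 (S9765.result hO e f' (pullback.fst hO e) (IsPullback.of_hasPullback hO e)) s').2 ?_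
    show GeometricallyConnected (hO.fiberToSpecResidueField (e s'))
    rw [show e s' = s from he.base_eq]
    have hle : T ≤ h.fiberι s ⁻¹ᵁ O := fun t ht => hKO ⟨t, ht, rfl⟩
    have hTO : h.fiberι s ⁻¹ᵁ O = T := le_antisymm (fun t ht => hO₀T.le (hOO ht)) hle
    have sq : IsPullback (h.fiberι s ∣_ O) ((h.fiberι s ⁻¹ᵁ O).ι ≫ pF) hO (S.fromSpecResidueField s) :=
      (isPullback_morphismRestrict (h.fiberι s) O).paste_vert (IsPullback.of_hasPullback h _)
    have hT' : GeometricallyConnected ((h.fiberι s ⁻¹ᵁ O).ι ≫ pF) := by rw [hTO]; exact hT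
    have e2 := sq.isoPullback_inv_snd
    show GeometricallyConnected (pullback.snd hO (S.fromSpecResidueField s))
    rw [← e2]
    exact (MorphismProperty.cancel_left_of_respectsIso @GeometricallyConnected _ _).2 hT'
  obtain ⟨U, hUc, hUs, -, hUconn⟩ := ConnectedNhd.exists_connected_nhd f' g' σ hσ s' hs'g hconn
  -- shrink the base to the image
  have hs'U : s' ∈ f' '' (U : Set ↑(pullback hO e)) := by
    haveI := GeometricallyConnected.connectedSpace_of_subsingleton (f'.fiberToSpecResidueField s')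
    obtain ⟨w⟩ := (inferInstance : Nonempty (f'.fiber s'))
    have hw : f' (f'.fiberι s' w) = s' := (f'.range_fiberι s').le ⟨w, rfl⟩
    exact ⟨_, hUs hw, hw⟩
  obtain ⟨A, hA, hsA, hAU⟩ := exists_isAffineOpen_mem_and_subset (x := s')
    (U := ⟨f' '' (U : Set ↑(pullback hO e)), f'.isOpenMap _ U.2⟩) hs'U
  let g := A.ι ≫ e
  let j : pullback hO e ⟶ pullback h e :=
    pullback.map hO e h e O.ι (𝟙 _) (𝟙 _) (by simp [hO]) (by simp)
  have sqj : IsPullback j (pullback.fst hO e) (pullback.fst h e) O.ι := by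
    refine (IsPullback.of_bot ?_ (pullback.lift_fst _ _ _).symm (IsPullback.of_hasPullback h e)).flip
    rw [pullback.lift_snd, Category.comp_id]
    exact IsPullback.of_hasPullback hO e
  haveI : IsOpenImmersion j := MorphismProperty.of_isPullback sqj.flip inferInstance
  let m : pullback h g ⟶ pullback h e :=
    pullback.lift (pullback.fst _ _) (pullback.snd _ _ ≫ A.ι) (by
      rw [Category.assoc]; exact pullback.condition)
  have hm : IsPullback m (pullback.snd h g) (pullback.snd h e) A.ι := by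
    refine IsPullback.of_right ?_ (pullback.lift_snd _ _ _) (IsPullback.of_hasPullback h e)
    rw [pullback.lift_fst]
    exact IsPullback.of_hasPullback h g
  haveI : IsOpenImmersion m := MorphismProperty.of_isPullback hm.flip inferInstance
  let V'' : (pullback h g).Opens := m ⁻¹ᵁ (j ''ᵁ U)
  refine ⟨A, g, ⟨s', hsA⟩, hA, ⟨inferInstance, he.base_eq,
    FlatMorLocalStr.residueFieldMap_bijective_comp A.ι e ⟨s', hsA⟩ he.residue_bijective⟩, V'', ?_, ?_, ?_⟩
  · have hj : IsCompact (j '' (U : Set ↑(pullback hO e))) := hUc.image j.continuous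
    have hr : Set.range m = (pullback.snd h e) ⁻¹' (A : Set S') := by
      rw [range_of_isPullback hm, Scheme.Opens.range_ι]
    haveI : QuasiSeparatedSpace ↑(pullback h e) := quasiSeparatedSpace_of_quasiSeparated (pullback.snd h e)
    show IsCompact (m ⁻¹' (j '' (U : Set ↑(pullback hO e))))
    rw [m.isEmbedding.isCompact_iff, Set.image_preimage_eq_inter_range, hr]
    exact QuasiSeparatedSpace.inter_isCompact _ _ (j.isOpenMap _ U.2) hj (A.2.preimage (pullback.snd h e).continuous)
      (QuasiCompact.isCompact_preimage (f := pullback.snd h e) _ A.2 hA.isCompact)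
  · refine (GeometricallyConnected.iff_geometricallyConnected_fiber (V''.ι ≫ pullback.snd h g)).2 fun b => ?_
    have sq₁ : IsPullback (m ∣_ (j ''ᵁ U)) (V''.ι ≫ pullback.snd h g)
        ((j ''ᵁ U).ι ≫ pullback.snd h e) A.ι :=
      (isPullback_morphismRestrict m (j ''ᵁ U)).paste_vert hm
    refine (Set.ext_iff.1 (S9765.result _ A.ι _ _ sq₁) b).2 ?_
    have e3 : (j.isoImage U).inv ≫ U.ι ≫ f' = (j ''ᵁ U).ι ≫ pullback.snd h e := by
      rw [Iso.inv_comp_eq, ← Category.assoc _ (j ''ᵁ U).ι, Scheme.Hom.isoImage_hom_ι, Category.assoc]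
      simp [j, f']
    have sq₂ : IsPullback (j.isoImage U).inv ((j ''ᵁ U).ι ≫ pullback.snd h e) (U.ι ≫ f') (𝟙 S') :=
      IsPullback.of_horiz_isIso ⟨by rw [e3, Category.comp_id]⟩
    refine (Set.ext_iff.1 (S9765.result _ (𝟙 S') _ _ sq₂) _).2 (hUconn _ ?_)
    exact hAU b.2
  · intro y' hy'
    have hw : pullback.snd h e (m y') = s' := by
      have h1 : pullback.snd h e (m y') = A.ι (pullback.snd h g y') := by
        simp only [← Scheme.Hom.comp_apply, hm.w]
      rw [h1, hy']; rfl
    have hwf : pullback.fst h e (m y') = pullback.fst h g y' := by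
      simp only [← Scheme.Hom.comp_apply, m, pullback.lift_fst]
    rw [← hwf]
    show m y' ∈ j '' (U : Set ↑(pullback hO e)) ↔ _
    constructor
    · rintro ⟨u, hu, hju⟩
      rw [← hju] at hw ⊢
      have h1 : pullback.fst h e (j u) = O.ι (pullback.fst hO e u) := by
        simp only [← Scheme.Hom.comp_apply, sqj.w]
      have h2 : h (pullback.fst h e (j u)) = s := by
        rw [← Scheme.Hom.comp_apply, pullback.condition, Scheme.Hom.comp_apply, hw]; exact he.base_eq
      refine (hOT _ h2).1 ?_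
      rw [h1]; exact Subtype.prop _
    · intro hT'
      have h1 : m y' ∈ Set.range j := by
        rw [range_of_isPullback sqj, Scheme.Opens.range_ι]
        obtain ⟨t, ht, hte⟩ := hT'
        show pullback.fst h e (m y') ∈ O
        rw [← hte]
        exact hKO ⟨t, ht, rfl⟩
      obtain ⟨u, hu⟩ := h1
      refine ⟨u, hUs ?_, hu⟩
      show f' u = s'
      rw [← hw, ← hu]
      simp only [f', ← Scheme.Hom.comp_apply, j, pullback.lift_snd, Category.comp_id]

end Groth.Agent.FlatMor12.ConnectedEtaleNhd
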