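import Groth.Agent.FlatMorDVR.UnivOpenLinear
import Groth.Agent.FlatMorUniv.Model
import Groth.Agent.EGA43.Limit.Immersions

/-!
# Universal openness of locally quasi-finite finitely presented morphisms descends along limits
-/

set_option autoImplicit false
set_option backward.isDefEq.respectTransparency.types false
universe u

open AlgebraicGeometry CategoryTheory Limits TensorProduct Topology

namespace Groth.Agent.FlatMor12

theorem image_preimage_of_isPullback {P X Y Z : Scheme.{u}} {fst : P ⟶ X} {snd : P ⟶ Y} {f : X ⟶ Z}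
    {g : Y ⟶ Z} (h : IsPullback fst snd f g) (s : Set X) :
    ⇑snd '' (⇑fst ⁻¹' s) = ⇑g ⁻¹' (⇑f '' s) := by
  ext y
  constructor
  · rintro ⟨p, hp, rfl⟩
    refine ⟨fst p, hp, ?_⟩
    rw [← Scheme.Hom.comp_apply, h.w, Scheme.Hom.comp_apply]
  · rintro ⟨x, hx, e⟩
    obtain ⟨p, hp1, hp2⟩ := Scheme.exists_preimage_of_isPullback h x y e
    exact ⟨p, by rw [Set.mem_preimage, hp1]; exact hx, hp2⟩

section

variable {A B : Type u} [CommRing A] [CommRing B] [Algebra A B] {d : ℕ}

/-- Powers of finitely many elements generating the unit ideal move every element into the span of `b`. -/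
def IsSpanning (A : Type u) {B : Type u} [CommRing A] [CommRing B] [Algebra A B] {d : ℕ} (b : Fin d → B) :
    Prop :=
  ∃ s : Finset B, Ideal.span (s : Set B) = ⊤ ∧
    ∀ g ∈ s, ∀ y : B, ∃ N : ℕ, ∀ n, N ≤ n → g ^ n * y ∈ Submodule.span A (Set.range b)

theorem exists_isSpanning [Algebra.FinitePresentation A B] [Algebra.QuasiFinite A B] :
    ∃ (d : ℕ) (b : Fin d → B), IsSpanning A b := by
  classical
  obtain ⟨C, _, _, _, _, φ, s, hs, hbij⟩ := FlatMorUniv.exists_model (A := A) (B := B)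
  obtain ⟨d, c, hc⟩ := Module.Finite.exists_fin (R := A) (M := C)
  refine ⟨d, φ ∘ c, s.image φ, by rw [Finset.coe_image]; exact hs, fun g hg y => ?_⟩
  obtain ⟨g, hgs, rfl⟩ := Finset.mem_image.1 hg
  have hr : ∀ x : C, φ x ∈ Submodule.span A (Set.range (φ ∘ c)) := fun x => by
    rw [Set.range_comp]
    exact Submodule.apply_mem_span_image_of_mem_span φ.toLinearMap (hc ▸ Submodule.mem_top)
  obtain ⟨a, m, ha⟩ := Localization.awayMap_surjective_iff.1 (hbij g hgs).2 y
  refine ⟨m, fun n hn => ?_⟩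
  obtain ⟨k, rfl⟩ := Nat.exists_eq_add_of_le hn
  have : φ g ^ (m + k) * y = φ (g ^ k * a) := by
    rw [map_mul, map_pow]
    calc φ g ^ (m + k) * y = φ g ^ k * (φ g ^ m * y) := by ring
      _ = _ := congrArg _ ha.symm
  rw [this]
  exact hr _

variable (b : Fin d → B)

/-- The image in affine space of the nonvanishing locus of the universal linear form in `b`. -/
def linImage (A : Type u) {B : Type u} [CommRing A] [CommRing B] [Algebra A B] {d : ℕ} (b : Fin d → B) :
    Set (Spec (CommRingCat.of (MvPolynomial (Fin d) A))) :=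
  ⇑(Spec.map (CommRingCat.ofHom (MvPolynomial.map (σ := Fin d) (algebraMap A B)))) ''
    (PrimeSpectrum.basicOpen (∑ i : Fin d, MvPolynomial.X i * MvPolynomial.C (b i)) :
      Set (PrimeSpectrum (MvPolynomial (Fin d) B)))

variable (A B d) in
theorem isPullback_map : IsPullback (Spec.map (CommRingCat.ofHom (MvPolynomial.C : B →+* MvPolynomial (Fin d) B)))
    (Spec.map (CommRingCat.ofHom (MvPolynomial.map (σ := Fin d) (algebraMap A B))))
    (Spec.map (CommRingCat.ofHom (algebraMap A B)))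
    (Spec.map (CommRingCat.ofHom (MvPolynomial.C : A →+* MvPolynomial (Fin d) A))) := by
  letI := MvPolynomial.algebraMvPolynomial (σ := Fin d) (R := A) (S := B)
  exact isPullback_SpecMap_of_isPushout _ _ _ _
    (CommRingCat.isPushout_of_isPushout A B (MvPolynomial (Fin d) A) (MvPolynomial (Fin d) B))

theorem isConstructible_linImage [Algebra.FinitePresentation A B] : IsConstructible (linImage A b) := by
  haveI : LocallyOfFinitePresentation (Spec.map (CommRingCat.ofHom (algebraMap A B))) :=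
    HasRingHomProperty.Spec_iff.2 (RingHom.finitePresentation_algebraMap.2 inferInstance)
  haveI : LocallyOfFinitePresentation
      (Spec.map (CommRingCat.ofHom (MvPolynomial.map (σ := Fin d) (algebraMap A B)))) :=
    MorphismProperty.of_isPullback (P := @LocallyOfFinitePresentation) (isPullback_map A B d) inferInstance
  exact Scheme.Hom.isConstructible_image _
    ((PrimeSpectrum.isCompact_basicOpen _).isConstructible (PrimeSpectrum.basicOpen _).isOpen)

theorem exists_mem_span (hb : IsSpanning A b) (R : Type u) [CommRing R] [Algebra A R]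
    {h : R ⊗[A] B} {p : PrimeSpectrum (R ⊗[A] B)} (hp : h ∉ p.asIdeal) :
    ∃ a : Fin d → R, (∑ i, a i ⊗ₜ[A] b i) ∉ p.asIdeal ∧
      PrimeSpectrum.basicOpen (∑ i, a i ⊗ₜ[A] b i) ≤ PrimeSpectrum.basicOpen h := by
  obtain ⟨s, hs, hsy⟩ := hb
  let ι := (Algebra.TensorProduct.includeRight : B →ₐ[A] R ⊗[A] B)
  obtain ⟨g, hg, hgp⟩ : ∃ g ∈ s, ι g ∉ p.asIdeal := by
    by_contra! hcon
    refine p.2.ne_top ((Ideal.eq_top_iff_one _).2 ?_)
    have : Ideal.span (s : Set B) ≤ p.asIdeal.comap ι.toRingHom := Ideal.span_le.2 fun x hx => hcon x hx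
    rw [hs] at this
    simpa using this (Submodule.mem_top (x := (1 : B)))
  let M := Submodule.span R (Set.range fun i => (1 : R) ⊗ₜ[A] b i)
  have key : ∀ h : R ⊗[A] B, ∃ N : ℕ, ∀ n, N ≤ n → ι g ^ n * h ∈ M := by
    intro h
    induction h using TensorProduct.induction_on with
    | zero => exact ⟨0, fun n _ => by simp⟩
    | tmul r y =>
      obtain ⟨N, hN⟩ := hsy g hg y
      refine ⟨N, fun n hn => ?_⟩
      have e : ι g ^ n * r ⊗ₜ[A] y = r • ((1 : R) ⊗ₜ[A] (g ^ n * y)) := by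
        simp [ι, Algebra.TensorProduct.tmul_pow, TensorProduct.smul_tmul']
      rw [e]
      refine M.smul_mem r ?_
      have := Submodule.apply_mem_span_image_of_mem_span ι.toLinearMap (hN n hn)
      refine (Submodule.span_le (p := M.restrictScalars A)).2 ?_ this
      rw [← Set.range_comp]
      exact Submodule.subset_span
    | add x y hx hy =>
      obtain ⟨N, hN⟩ := hx
      obtain ⟨N', hN'⟩ := hy
      exact ⟨max N N', fun n hn => by
        rw [mul_add]
        exact add_mem (hN n (le_of_max_le_left hn)) (hN' n (le_of_max_le_right hn))⟩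
  obtain ⟨N, hN⟩ := key h
  obtain ⟨a, ha⟩ := (Submodule.mem_span_range_iff_exists_fun R).1 (hN N le_rfl)
  simp only [TensorProduct.smul_tmul', smul_eq_mul, mul_one] at ha
  refine ⟨a, ?_, ?_⟩
  · rw [ha]
    intro hm
    rcases p.2.mem_or_mem hm with h1 | h1
    · exact hgp (p.2.mem_of_pow_mem _ h1)
    · exact hp h1
  · rw [ha, PrimeSpectrum.basicOpen_mul]
    exact inf_le_right

theorem image_basicOpen_tensor (R : Type u) [CommRing R] [Algebra A R] (a : Fin d → R) :
    ⇑(Spec.map (CommRingCat.ofHom (Algebra.TensorProduct.includeLeftRingHom : R →+* R ⊗[A] B))) ''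
        (PrimeSpectrum.basicOpen (∑ i, a i ⊗ₜ[A] b i) : Set (PrimeSpectrum (R ⊗[A] B))) =
      ⇑(Spec.map (CommRingCat.ofHom (MvPolynomial.eval₂Hom (algebraMap A R) a))) ⁻¹' linImage A b := by
  let εA := MvPolynomial.eval₂Hom (algebraMap A R) a
  let l : R →+* R ⊗[A] B := Algebra.TensorProduct.includeLeftRingHom
  let εB := MvPolynomial.eval₂Hom (Algebra.TensorProduct.includeRight : B →ₐ[A] R ⊗[A] B).toRingHom
    (fun i => l (a i))
  have hcomm : εB.comp (MvPolynomial.map (σ := Fin d) (algebraMap A B)) = l.comp εA := by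
    refine MvPolynomial.ringHom_ext (fun r => ?_) (fun i => ?_)
    · simp [εA, εB, l]
      first | done | exact ((Algebra.TensorProduct.includeRight : B →ₐ[A] R ⊗[A] B).commutes r)
    · simp [εA, εB, l]
  have hL : εB (∑ i : Fin d, MvPolynomial.X i * MvPolynomial.C (b i)) = ∑ i, a i ⊗ₜ[A] b i := by
    simp [εB, l]
  have e1 : Spec.map (CommRingCat.ofHom εB) ≫ Spec.map (CommRingCat.ofHom (MvPolynomial.C : B →+* _)) =
      Spec.map (CommRingCat.ofHom (Algebra.TensorProduct.includeRight : B →ₐ[A] R ⊗[A] B).toRingHom) := by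
    rw [← Spec.map_comp, ← CommRingCat.ofHom_comp, MvPolynomial.eval₂Hom_comp_C]
  have e2 : Spec.map (CommRingCat.ofHom εA) ≫ Spec.map (CommRingCat.ofHom (MvPolynomial.C : A →+* _)) =
      Spec.map (CommRingCat.ofHom (algebraMap A R)) := by
    rw [← Spec.map_comp, ← CommRingCat.ofHom_comp, MvPolynomial.eval₂Hom_comp_C]
  have hout : IsPullback (Spec.map (CommRingCat.ofHom εB) ≫ Spec.map (CommRingCat.ofHom (MvPolynomial.C : B →+* _)))
      (Spec.map (CommRingCat.ofHom l)) (Spec.map (CommRingCat.ofHom (algebraMap A B)))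
      (Spec.map (CommRingCat.ofHom εA) ≫ Spec.map (CommRingCat.ofHom (MvPolynomial.C : A →+* _))) := by
    rw [e1, e2]
    exact (isPullback_SpecMap_of_isPushout _ _ _ _ (CommRingCat.isPushout_tensorProduct A R B)).flip
  have hsq := IsPullback.of_right hout
    (by rw [← Spec.map_comp, ← Spec.map_comp, ← CommRingCat.ofHom_comp, ← CommRingCat.ofHom_comp, hcomm])
    (isPullback_map A B d)
  refine (congrArg (fun t => ⇑(Spec.map (CommRingCat.ofHom l)) '' t) ?_).trans
    (image_preimage_of_isPullback hsq _)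
  ext q
  show _ ∉ q.asIdeal ↔ _ ∉ q.asIdeal.comap εB
  rw [Ideal.mem_comap, hL]

theorem isOpenMap_includeLeft (hb : IsSpanning A b) (R : Type u) [CommRing R] [Algebra A R]
    (h : ∀ a : Fin d → R, IsOpen
      (⇑(Spec.map (CommRingCat.ofHom (MvPolynomial.eval₂Hom (algebraMap A R) a))) ⁻¹' linImage A b)) :
    IsOpenMap ⇑(Spec.map (CommRingCat.ofHom (Algebra.TensorProduct.includeLeftRingHom : R →+* R ⊗[A] B))) := by
  intro U hU
  rw [isOpen_iff_forall_mem_open]
  rintro _ ⟨p, hp, rfl⟩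
  obtain ⟨_, ⟨g, rfl⟩, hpg, hgU⟩ := PrimeSpectrum.isTopologicalBasis_basic_opens.exists_subset_of_mem_open hp hU
  obtain ⟨a, ha, hle⟩ := exists_mem_span b hb R (h := g) (p := p) hpg
  refine ⟨_, Set.image_mono (fun x hx => hgU (hle hx)), ?_, Set.mem_image_of_mem _ ha⟩
  rw [image_basicOpen_tensor b R a]
  exact h a

theorem universallyOpen_pullback_snd (hb : IsSpanning A b) {T P : Scheme.{u}} {t : T ⟶ Spec (CommRingCat.of A)}
    {pr : P ⟶ Spec (CommRingCat.of (MvPolynomial (Fin d) A))} {s : P ⟶ T}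
    (hP : IsPullback pr s (Spec.map (CommRingCat.ofHom (MvPolynomial.C : A →+* MvPolynomial (Fin d) A))) t)
    (hW : IsOpen (⇑pr ⁻¹' linImage A b)) :
    UniversallyOpen (pullback.snd (Spec.map (CommRingCat.ofHom (algebraMap A B))) t) := by
  rw [UniversallyOpen.eq]
  intro X' Y' i₁ i₂ f' hpb
  rw [IsZariskiLocalAtTarget.iff_of_openCover (P := topologically IsOpenMap) Y'.affineCover]
  suffices key : ∀ (R : CommRingCat.{u}) (j : Spec R ⟶ Y'), IsOpenMap ⇑(pullback.snd f' j) from
    fun k => key _ (Y'.affineCover.f k)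
  intro R j
  obtain ⟨ψ, hψ⟩ := Spec.map_surjective (j ≫ i₂ ≫ t)
  letI := ψ.hom.toAlgebra
  have big := ((IsPullback.of_hasPullback f' j).flip.flip.paste_horiz hpb.flip).paste_horiz
    (IsPullback.of_hasPullback (Spec.map (CommRingCat.ofHom (algebraMap A B))) t)
  rw [show (j ≫ i₂) ≫ t = Spec.map ψ from (Category.assoc _ _ _).trans hψ.symm] at big
  have hR := (isPullback_SpecMap_of_isPushout _ _ _ _ (CommRingCat.isPushout_tensorProduct A R B)).flip
  have e : pullback.snd f' j = (big.isoIsPullback _ _ hR).hom ≫ Spec.map (CommRingCat.ofHom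
      (Algebra.TensorProduct.includeLeftRingHom)) := (big.isoIsPullback_hom_snd _ _ hR).symm
  rw [e, Scheme.Hom.comp_base, TopCat.coe_comp]
  refine (isOpenMap_includeLeft b hb _ fun a => ?_).comp
    (big.isoIsPullback _ _ hR).hom.homeomorph.isOpenMap
  let εA := Spec.map (CommRingCat.ofHom (MvPolynomial.eval₂Hom ψ.hom a))
  have w : εA ≫ Spec.map (CommRingCat.ofHom (MvPolynomial.C : A →+* MvPolynomial (Fin d) A)) = (j ≫ i₂) ≫ t := by
    rw [Category.assoc, ← hψ, ← Spec.map_comp, ← CommRingCat.ofHom_comp, MvPolynomial.eval₂Hom_comp_C]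
    rfl
  have hz : hP.lift εA (j ≫ i₂) w ≫ pr = εA := hP.lift_fst _ _ _
  show IsOpen (⇑εA ⁻¹' _)
  rw [← hz, Scheme.Hom.comp_base, TopCat.coe_comp, Set.preimage_comp]
  exact hW.preimage (hP.lift εA (j ≫ i₂) w).continuous

theorem isOpen_preimage_linImage {T P : Scheme.{u}} {t : T ⟶ Spec (CommRingCat.of A)}
    [UniversallyOpen (pullback.snd (Spec.map (CommRingCat.ofHom (algebraMap A B))) t)]
    {pr : P ⟶ Spec (CommRingCat.of (MvPolynomial (Fin d) A))} {s : P ⟶ T}
    (hP : IsPullback pr s (Spec.map (CommRingCat.ofHom (MvPolynomial.C : A →+* MvPolynomial (Fin d) A))) t)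
    [QuasiCompact pr] :
    IsOpen (⇑pr ⁻¹' linImage A b) ∧ IsCompact (⇑pr ⁻¹' linImage A b) := by
  set q := Spec.map (CommRingCat.ofHom (MvPolynomial.map (σ := Fin d) (algebraMap A B)))
  have hQ := IsPullback.of_hasPullback q pr
  have big := hQ.paste_horiz (isPullback_map A B d)
  rw [hP.w] at big
  have hf := IsPullback.of_hasPullback (Spec.map (CommRingCat.ofHom (algebraMap A B))) t
  let z := hf.lift _ _ (big.w.trans (Category.assoc _ _ _).symm)
  have sq : IsPullback z (pullback.snd q pr) (pullback.snd (Spec.map (CommRingCat.ofHom (algebraMap A B))) t) s :=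
    IsPullback.of_right (by rw [hf.lift_fst]; exact big) (hf.lift_snd _ _ _) hf
  haveI : UniversallyOpen (pullback.snd q pr) := MorphismProperty.of_isPullback sq inferInstance
  rw [linImage, ← image_preimage_of_isPullback hQ]
  refine ⟨(pullback.snd q pr).isOpenMap _ ((PrimeSpectrum.basicOpen _).isOpen.preimage (pullback.fst q pr).continuous), ?_⟩
  refine IsCompact.image ?_ (pullback.snd q pr).continuous
  exact QuasiCompact.isCompact_preimage (f := pullback.fst q pr) _ (PrimeSpectrum.basicOpen _).isOpen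
    (PrimeSpectrum.isCompact_basicOpen _)

end

section

variable {I : Type u} [SmallCategory I] [IsCofiltered I] {D : I ⥤ Scheme.{u}} {c : Cone D}
  [∀ (i j : I) (f : i ⟶ j), IsAffineHom (D.map f)] {i₀ : I}

open EGA43.Limit

theorem exists_stage_universallyOpen_affine (hc : IsLimit c) [IsAffine (D.obj i₀)] {X₀ : Scheme.{u}} [IsAffine X₀]
    (f₀ : X₀ ⟶ D.obj i₀) [LocallyOfFinitePresentation f₀] [LocallyQuasiFinite f₀]
    {X : Scheme.{u}} (p : X ⟶ X₀) (f : X ⟶ c.pt) (sq : IsPullback p f f₀ (c.π.app i₀)) [UniversallyOpen f] :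
    ∃ (j : I) (φ : j ⟶ i₀), UniversallyOpen (pullback.snd f₀ (D.map φ)) := by
  classical
  have hfp : f₀.appTop.hom.FinitePresentation :=
    HasRingHomProperty.iff_of_isAffine.1 ‹LocallyOfFinitePresentation f₀›
  have hqf : f₀.appTop.hom.QuasiFinite := HasRingHomProperty.iff_of_isAffine.1 ‹LocallyQuasiFinite f₀›
  algebraize [f₀.appTop.hom]
  obtain ⟨d, b, hb⟩ := exists_isSpanning (A := Γ(D.obj i₀, ⊤)) (B := Γ(X₀, ⊤))
  let e0 := (D.obj i₀).isoSpec
  let fA := Spec.map (CommRingCat.ofHom (algebraMap Γ(D.obj i₀, ⊤) Γ(X₀, ⊤)))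
  have hnat : f₀ ≫ e0.hom = X₀.isoSpec.hom ≫ fA := (Scheme.isoSpec_hom_naturality f₀).symm
  let cA := Spec.map (CommRingCat.ofHom (MvPolynomial.C : Γ(D.obj i₀, ⊤) →+* MvPolynomial (Fin d) Γ(D.obj i₀, ⊤)))
  have hbase : ∀ {T U : Scheme.{u}} (t : T ⟶ D.obj i₀) (a : U ⟶ X₀) (g : U ⟶ T), IsPullback a g f₀ t →
      (UniversallyOpen g ↔ UniversallyOpen (pullback.snd fA (t ≫ e0.hom))) := by
    intro T U t a g hsq
    have h' : IsPullback (a ≫ X₀.isoSpec.hom) g fA (t ≫ e0.hom) :=
      hsq.of_iso (Iso.refl _) X₀.isoSpec (Iso.refl _) e0 (by simp) (by simp) hnat (by simp)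
    exact MorphismProperty.arrow_mk_iso_iff (@UniversallyOpen.{u})
      (Arrow.isoMk (f := Arrow.mk g) (g := Arrow.mk (pullback.snd fA (t ≫ e0.hom))) h'.isoPullback (Iso.refl _) (by simp))
  let g₀ : Spec (CommRingCat.of (MvPolynomial (Fin d) Γ(D.obj i₀, ⊤))) ⟶ D.obj i₀ := cA ≫ e0.inv
  have hcv : ∀ {T P : Scheme.{u}} (t : T ⟶ D.obj i₀) (pr : P ⟶ _) (s : P ⟶ T), IsPullback pr s g₀ t →
      IsPullback pr s cA (t ≫ e0.hom) := fun t pr s h =>
    h.of_iso (Iso.refl _) (Iso.refl _) (Iso.refl _) e0 (by simp) (by simp) (by simp [g₀]) (by simp)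
  haveI := isAffineHom_π_app D c hc i₀
  have hY := IsPullback.of_hasPullback g₀ (c.π.app i₀)
  haveI : UniversallyOpen (pullback.snd fA (c.π.app i₀ ≫ e0.hom)) := (hbase _ p f sq).1 inferInstance
  obtain ⟨ho, hco⟩ := isOpen_preimage_linImage b (hcv _ _ _ hY)
  obtain ⟨i, V, hV, hVe⟩ := exists_preimage_eq (stage D g₀) (stageCone D c g₀ hY)
    (isLimitStageCone D c g₀ hY hc) ⟨_, ho⟩ hco
  let E₁ : Set ((stage D g₀).obj i) := ⇑(pullback.fst g₀ (D.map i.hom)) ⁻¹' linImage Γ(D.obj i₀, ⊤) b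
  have hE₁ : IsConstructible E₁ :=
    (pullback.fst g₀ (D.map i.hom)).isConstructible_preimage (isConstructible_linImage b)
  have hEV : IsConstructible (V : Set ((stage D g₀).obj i)) := hV.isConstructible V.2
  have hπ : (stageCone D c g₀ hY).π.app i ≫ pullback.fst g₀ (D.map i.hom) = pullback.fst g₀ (c.π.app i₀) :=
    pullback.lift_fst _ _ _
  obtain ⟨k, ψ, hk⟩ := exists_preimage_eq_empty (isLimitStageCone D c g₀ hY hc) i
    ((hE₁.sdiff hEV).union (hEV.sdiff hE₁)) (Set.eq_empty_iff_forall_notMem.2 fun x hx => by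
      have h1 : (stageCone D c g₀ hY).π.app i x ∈ E₁ ↔
          pullback.fst g₀ (c.π.app i₀) x ∈ linImage Γ(D.obj i₀, ⊤) b :=
        iff_of_eq (congrArg (· ∈ linImage Γ(D.obj i₀, ⊤) b)
          ((Scheme.Hom.comp_apply _ _ x).symm.trans (congrArg (fun m : pullback g₀ (c.π.app i₀) ⟶ _ => m x) hπ)))
      have h2 : (stageCone D c g₀ hY).π.app i x ∈ (V : Set ((stage D g₀).obj i)) ↔
          pullback.fst g₀ (c.π.app i₀) x ∈ linImage Γ(D.obj i₀, ⊤) b :=
        Set.ext_iff.1 (congrArg SetLike.coe hVe) x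
      rcases hx with ⟨a1, a2⟩ | ⟨a1, a2⟩
      · exact a2 (h2.2 (h1.1 a1))
      · exact a2 (h1.2 (h2.1 a1)))
  refine ⟨k.left, k.hom, (hbase _ _ _ (IsPullback.of_hasPullback f₀ (D.map k.hom))).2 ?_⟩
  refine universallyOpen_pullback_snd b hb (hcv _ _ _ (IsPullback.of_hasPullback g₀ (D.map k.hom))) ?_
  have hkπ : (stage D g₀).map ψ ≫ pullback.fst g₀ (D.map i.hom) = pullback.fst g₀ (D.map k.hom) :=
    stage_map_fst D g₀ ψ
  have : ⇑(pullback.fst g₀ (D.map k.hom)) ⁻¹' linImage Γ(D.obj i₀, ⊤) b =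
      ⇑((stage D g₀).map ψ) ⁻¹' (V : Set ((stage D g₀).obj i)) := by
    ext x
    have hx := Set.eq_empty_iff_forall_notMem.1 hk x
    have e : (stage D g₀).map ψ x ∈ E₁ ↔ pullback.fst g₀ (D.map k.hom) x ∈ linImage Γ(D.obj i₀, ⊤) b :=
      iff_of_eq (congrArg (· ∈ linImage Γ(D.obj i₀, ⊤) b)
        ((Scheme.Hom.comp_apply _ _ x).symm.trans (congrArg (fun m : pullback g₀ (D.map k.hom) ⟶ _ => m x) hkπ)))
    refine Iff.trans e.symm ?_
    by_contra hne
    apply hx
    by_cases hx1 : (stage D g₀).map ψ x ∈ E₁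
    · exact Or.inl ⟨hx1, fun hv => hne (iff_of_true hx1 hv)⟩
    · exact Or.inr ⟨by_contra fun hv => hne (iff_of_false hx1 hv), hx1⟩
  rw [this]
  exact V.2.preimage ((stage D g₀).map ψ).continuous

theorem descendsAffine_universallyOpen :
    DescendsAffine ((@LocallyOfFinitePresentation : MorphismProperty Scheme.{u}) ⊓ @LocallyQuasiFinite)
      @UniversallyOpen.{u} := by
  intro I _ _ D c hc _ i₀ _ X₀ f₀ _ _ hQ X p f sq hf
  classical
  have := hQ.1
  have := hQ.2
  have := hf
  have : CompactSpace X₀ := QuasiCompact.compactSpace_of_compactSpace f₀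
  let 𝒰 := X₀.affineCover.finiteSubcover
  have H : ∀ k, ∃ (j : I) (φ : j ⟶ i₀), UniversallyOpen (pullback.snd (𝒰.f k ≫ f₀) (D.map φ)) := fun k => by
    haveI : IsAffine (𝒰.X k) := inferInstanceAs (IsAffine (X₀.affineCover.X _))
    have sq' := (IsPullback.of_hasPullback (𝒰.f k) p).paste_vert sq
    have : UniversallyOpen (pullback.snd (𝒰.f k) p ≫ f) := inferInstance
    exact exists_stage_universallyOpen_affine hc (𝒰.f k ≫ f₀) _ _ sq'
  choose j φ hj using H
  haveI : Fintype 𝒰.I₀ := Fintype.ofFinite _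
  obtain ⟨l, hl⟩ := IsCofiltered.inf_objs_exists ((Finset.univ : Finset 𝒰.I₀).image fun k => Over.mk (φ k))
  refine ⟨l.left, l.hom, ?_⟩
  rw [IsZariskiLocalAtSource.iff_of_openCover (P := @UniversallyOpen.{u})
    (𝒰.pullback₁ (pullback.fst f₀ (D.map l.hom)))]
  intro (k : 𝒰.I₀)
  obtain ⟨χ⟩ := hl (Finset.mem_image_of_mem (fun k => Over.mk (φ k)) (Finset.mem_univ k))
  have h1 := persist (P := @UniversallyOpen.{u}) (D := D) (𝒰.f k ≫ f₀) χ (hj k)
  have sq2 := (IsPullback.of_hasPullback (pullback.fst f₀ (D.map l.hom)) (𝒰.f k)).flip.paste_vert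
    (IsPullback.of_hasPullback f₀ (D.map l.hom))
  show UniversallyOpen (pullback.fst (pullback.fst f₀ (D.map l.hom)) (𝒰.f k) ≫ pullback.snd f₀ (D.map l.hom))
  exact (MorphismProperty.arrow_mk_iso_iff (@UniversallyOpen.{u})
    (Arrow.isoMk (f := Arrow.mk (pullback.fst (pullback.fst f₀ (D.map l.hom)) (𝒰.f k) ≫ pullback.snd f₀ (D.map l.hom)))
      (g := Arrow.mk (pullback.snd (𝒰.f k ≫ f₀) (D.map l.hom))) sq2.isoPullback (Iso.refl _) (by simp))).2 h1

/-- Universal openness descends for locally quasi-finite finitely presented morphisms. -/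
theorem descends_universallyOpen :
    Descends ((@LocallyOfFinitePresentation : MorphismProperty Scheme.{u}) ⊓ @LocallyQuasiFinite)
      @UniversallyOpen.{u} :=
  Descends.of_affineBase descendsAffine_universallyOpen

end

end Groth.Agent.FlatMor12
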