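import Groth.Agent.FlatMor12.UnivOpenChart
import Groth.Agent.FlatMor12.UnivOpenDescent
import Groth.Agent.FlatMor12.ConnectedEtaleNhd
import Groth.Agent.FlatMorLocalStr.Coords
import Groth.Agent.H8Lim.FibreDimStage
import Groth.Agent.H8ProCons.Basic

/-!
# Universal openness of finitely presented morphisms descends along limits
-/

set_option autoImplicit false
set_option maxHeartbeats 1000000
set_option backward.isDefEq.respectTransparency false

universe u

open CategoryTheory CategoryTheory.Limits AlgebraicGeometry TopologicalSpace Topology Opposite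

namespace Groth.Agent.FlatMor12.UnivOpenLimit

open Groth.Agent

/-- A point which is a maximal point of its fibre. -/
abbrev IsFibMax {X Y : Scheme.{u}} (f : X ⟶ Y) (x : X) : Prop :=
  ∀ w, w ⤳ x → f w = f x → w = x

/-- Universal openness follows from charts through the fibre-maximal points. -/
theorem universallyOpen_of_charts {X Y : Scheme.{u}} (f : X ⟶ Y)
    (h : ∀ x, IsFibMax f x → ∃ (Z : Scheme.{u}) (ι : Z ⟶ X), UniversallyOpen (ι ≫ f) ∧ x ∈ Set.range ι) :
    UniversallyOpen f := by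
  refine EGA43.Chevalley.universallyOpen_of_forall f fun x => ?_
  obtain ⟨z, hzx, hz, hmax⟩ := EGA43.Chevalley.exists_maximal_in_fibre f x
  obtain ⟨Z, ι, hι, w, rfl⟩ := h z fun v hv he => hmax v hv (he.trans hz)
  refine EGA43.Chevalley.isUnivOpenAt_of_specializes f hzx hz
    (EGA43.Chevalley.isUnivOpenAt_of_comp ι f w fun Y' g z' _ W hW => ?_)
  exact (pullback.snd (ι ≫ f) g).isOpenMap.image_mem_nhds hW

theorem mem_of_mem_fibreClosure {X Y : Scheme.{u}} {f : X ⟶ Y} {E : Set X} {x : X}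
    (hmax : IsFibMax f x) (hx : x ∈ EGA43.Cons.fibreClosureSch f E) : x ∈ E := by
  obtain ⟨y, hy, hyx, he⟩ := hx
  exact hmax y hyx he ▸ hy

theorem preimage_fibreClosure {X Y X' Y' : Scheme.{u}} {g' : X' ⟶ X} {f' : X' ⟶ Y'} {f : X ⟶ Y}
    {g : Y' ⟶ Y} (sq : IsPullback g' f' f g) (E : Set X) :
    g' ⁻¹' EGA43.Cons.fibreClosureSch f E = EGA43.Cons.fibreClosureSch f' (g' ⁻¹' E) := by
  ext x
  constructor
  · rintro ⟨y, hy, hyx, he⟩
    let e := sq.isoPullback
    have h1 : pullback.fst f g (e.hom x) = g' x := by rw [← Scheme.Hom.comp_apply, sq.isoPullback_hom_fst]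
    obtain ⟨q, hq, hq1, hq2⟩ := EGA43.Chevalley.exists_specializes_pullback f g (e.hom x)
      (z := y) (h1 ▸ hyx) (h1 ▸ he)
    refine ⟨e.inv q, ?_, ?_, ?_⟩
    · show g' (e.inv q) ∈ E
      rw [← Scheme.Hom.comp_apply, sq.isoPullback_inv_fst, hq1]
      exact hy
    · have h2 := hq.map e.inv.continuous
      rw [← Scheme.Hom.comp_apply e.hom, Iso.hom_inv_id] at h2
      simpa using h2
    · rw [← Scheme.Hom.comp_apply, sq.isoPullback_inv_snd, hq2, ← Scheme.Hom.comp_apply,
        sq.isoPullback_hom_snd]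
  · rintro ⟨y, hy, hyx, he⟩
    refine ⟨g' y, hy, hyx.map g'.continuous, ?_⟩
    rw [← Scheme.Hom.comp_apply, sq.w, Scheme.Hom.comp_apply, he, ← Scheme.Hom.comp_apply, ← sq.w,
      Scheme.Hom.comp_apply]

theorem exists_finite_subcover {X : Scheme.{u}} [CompactSpace X] [QuasiSeparatedSpace X] {ι : Type*}
    (E : ι → Set X) (hE : ∀ i, IsConstructible (E i)) (hcov : ⋃ i, E i = Set.univ) :
    ∃ t : Finset ι, ⋃ i ∈ t, E i = Set.univ := by
  have ho : ∀ i, IsOpen (WithTopology.ofTopology ⁻¹' E i : Set (WithConstructibleTopology X)) := fun i =>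
    WithConstructibleTopology.isOpen_iff.2 (H8ProCons.isOpen_cons_of_isConstructible (hE i))
  obtain ⟨t, ht⟩ := isCompact_univ.elim_finite_subcover _ ho (by
    rw [← Set.preimage_iUnion, hcov, Set.preimage_univ])
  refine ⟨t, Set.eq_univ_of_forall fun x => ?_⟩
  obtain ⟨i, hi, hx⟩ := Set.mem_iUnion₂.1 (ht (Set.mem_univ (WithTopology.toTopology _ x)))
  exact Set.mem_iUnion₂.2 ⟨i, hi, hx⟩

/-! ### The chart attached to a tuple of functions -/

/-- `B_h ⧸ (b)`. -/
def LocusRing {B : Type u} [CommRing B] (h : B) {r : ℕ} (b : Fin r → B) : Type u :=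
  Localization.Away h ⧸ Ideal.span (Set.range fun k => algebraMap B (Localization.Away h) (b k))

noncomputable instance {B : Type u} [CommRing B] (h : B) {r : ℕ} (b : Fin r → B) :
    CommRing (LocusRing h b) :=
  inferInstanceAs (CommRing (_ ⧸ _))

noncomputable def locusHom {B : Type u} [CommRing B] (h : B) {r : ℕ} (b : Fin r → B) : B →+* LocusRing h b :=
  (Ideal.Quotient.mk _).comp (algebraMap B (Localization.Away h))

theorem locusHom_surjectiveOnStalks {B : Type u} [CommRing B] (h : B) {r : ℕ} (b : Fin r → B) :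
    RingHom.SurjectiveOnStalks (locusHom h b) :=
  (RingHom.surjectiveOnStalks_of_surjective Ideal.Quotient.mk_surjective).comp
    (RingHom.surjectiveOnStalks_of_isLocalization (M := Submonoid.powers h) _)

theorem locusHom_isUnit {B : Type u} [CommRing B] (h : B) {r : ℕ} (b : Fin r → B) :
    IsUnit (locusHom h b h) :=
  show IsUnit (Ideal.Quotient.mk (Ideal.span (Set.range fun k => algebraMap B (Localization.Away h) (b k)))
    (algebraMap B (Localization.Away h) h)) from
  (IsLocalization.Away.algebraMap_isUnit (S := Localization.Away h) h).map _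

theorem locusHom_zero {B : Type u} [CommRing B] (h : B) {r : ℕ} (b : Fin r → B) (k : Fin r) :
    locusHom h b (b k) = 0 :=
  Ideal.Quotient.eq_zero_iff_mem.2 (Ideal.subset_span ⟨k, rfl⟩)

noncomputable def locusLift {B C : Type u} [CommRing B] [CommRing C] {h : B} {r : ℕ} {b : Fin r → B}
    (ψ : B →+* C) (hh : IsUnit (ψ h)) (hb : ∀ k, ψ (b k) = 0) : LocusRing h b →+* C :=
  Ideal.Quotient.lift _ (IsLocalization.Away.lift h hh) fun x hx => by
    refine Ideal.span_le (I := RingHom.ker (IsLocalization.Away.lift h hh)) |>.2 ?_ hx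
    rintro _ ⟨k, rfl⟩
    rw [SetLike.mem_coe, RingHom.mem_ker, IsLocalization.Away.lift_eq, hb]

theorem locusLift_comp {B C : Type u} [CommRing B] [CommRing C] {h : B} {r : ℕ} {b : Fin r → B}
    (ψ : B →+* C) (hh : IsUnit (ψ h)) (hb : ∀ k, ψ (b k) = 0) :
    (locusLift ψ hh hb).comp (locusHom h b) = ψ := RingHom.ext fun x => by
  show IsLocalization.Away.lift h hh (algebraMap B (Localization.Away h) x) = ψ x
  exact IsLocalization.Away.lift_eq h hh x

theorem locus_hom_ext {B C : Type u} [CommRing B] [CommRing C] {h : B} {r : ℕ} {b : Fin r → B}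
    {f g : LocusRing h b →+* C} (e : f.comp (locusHom h b) = g.comp (locusHom h b)) : f = g :=
  Ideal.Quotient.ringHom_ext (IsLocalization.ringHom_ext (Submonoid.powers h) e)

theorem isPushout_locus {B B' : Type u} [CommRing B] [CommRing B'] (ψ : B →+* B') (h : B) {r : ℕ}
    (b : Fin r → B) :
    ∃ ψ' : LocusRing h b →+* LocusRing (ψ h) (ψ ∘ b),
      IsPushout (CommRingCat.ofHom ψ) (CommRingCat.ofHom (locusHom h b))
        (CommRingCat.ofHom (locusHom (ψ h) (ψ ∘ b))) (CommRingCat.ofHom ψ') := by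
  let L' := locusHom (ψ h) (ψ ∘ b)
  have h0 : ∀ k, (L'.comp ψ) (b k) = 0 := fun k => locusHom_zero (ψ h) (ψ ∘ b) k
  have h1 : IsUnit ((L'.comp ψ) h) := locusHom_isUnit (ψ h) (ψ ∘ b)
  let ψ' : LocusRing h b →+* LocusRing (ψ h) (ψ ∘ b) := locusLift (L'.comp ψ) h1 h0
  refine ⟨ψ', ?_⟩
  have hw : L'.comp ψ = ψ'.comp (locusHom h b) := (locusLift_comp _ _ _).symm
  have hu : ∀ {C : Type u} [CommRing C] (α : B' →+* C) (β : LocusRing h b →+* C),
      α.comp ψ = β.comp (locusHom h b) → IsUnit (α (ψ h)) ∧ ∀ k, α ((ψ ∘ b) k) = 0 :=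
    fun α β e => ⟨by
      rw [← RingHom.comp_apply, e]; exact (locusHom_isUnit h b).map β, fun k => by
      show (α.comp ψ) (b k) = 0
      rw [e, RingHom.comp_apply, locusHom_zero, map_zero]⟩
  have w : CommRingCat.ofHom ψ ≫ CommRingCat.ofHom L' =
      CommRingCat.ofHom (locusHom h b) ≫ CommRingCat.ofHom ψ' := CommRingCat.hom_ext hw
  refine IsPushout.of_isColimit' ⟨w⟩ (PushoutCocone.IsColimit.mk w
    (fun s => CommRingCat.ofHom (locusLift s.inl.hom
      (hu s.inl.hom s.inr.hom (congrArg CommRingCat.Hom.hom s.condition)).1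
      (hu s.inl.hom s.inr.hom (congrArg CommRingCat.Hom.hom s.condition)).2)) ?_ ?_ ?_)
  · intro s
    obtain ⟨p1, p2⟩ := hu s.inl.hom s.inr.hom (congrArg CommRingCat.Hom.hom s.condition)
    exact CommRingCat.hom_ext (locusLift_comp s.inl.hom p1 p2)
  · intro s
    refine CommRingCat.hom_ext (locus_hom_ext ?_)
    show (RingHom.comp _ ψ').comp (locusHom h b) = _
    rw [RingHom.comp_assoc, ← hw, ← RingHom.comp_assoc]
    obtain ⟨p1, p2⟩ := hu s.inl.hom s.inr.hom (congrArg CommRingCat.Hom.hom s.condition)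
    show ((locusLift s.inl.hom p1 p2).comp L').comp ψ = _
    rw [locusLift_comp]
    exact congrArg CommRingCat.Hom.hom s.condition
  · intro s m h1 _
    refine CommRingCat.hom_ext (locus_hom_ext ?_)
    rw [CommRingCat.hom_ofHom, locusLift_comp]
    exact congrArg CommRingCat.Hom.hom h1

section Gamma

variable {X S : Scheme.{u}} [IsAffine X] (p : X ⟶ S) (h : Γ(X, ⊤)) {r : ℕ} (b : Fin r → Γ(X, ⊤))
  {e : ℕ} (t : Fin e → Γ(X, ⊤))

/-- The locally closed subscheme `D(h) ∩ V(b)`. -/
noncomputable def locusι : Spec (CommRingCat.of (LocusRing h b)) ⟶ X :=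
  Spec.map (CommRingCat.ofHom (locusHom h b)) ≫ X.isoSpec.inv

/-- Its map to affine space by `t`. -/
noncomputable def chartMap : Spec (CommRingCat.of (LocusRing h b)) ⟶ 𝔸(ULift.{u} (Fin e); S) :=
  AffineSpace.homOfVector (locusι h b ≫ p) fun i => (locusι h b).appTop (t i.down)

@[simp, reassoc]
theorem chartMap_over : chartMap p h b t ≫ (𝔸(ULift.{u} (Fin e); S) ↘ S) = locusι h b ≫ p :=
  AffineSpace.homOfVector_over _ _

instance : LocallyOfFinitePresentation (locusι h b) := by
  have : LocallyOfFinitePresentation (Spec.map (CommRingCat.ofHom (locusHom h b))) := by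
    refine (HasRingHomProperty.Spec_iff (P := @LocallyOfFinitePresentation)).2 ?_
    refine RingHom.FinitePresentation.comp ?_
      (RingHom.finitePresentation_algebraMap.2 (IsLocalization.Away.finitePresentation h))
    exact RingHom.FinitePresentation.of_surjective _ Ideal.Quotient.mk_surjective
      (by rw [Ideal.mk_ker]; exact Submodule.fg_span (Set.finite_range _))
  exact MorphismProperty.comp_mem _ _ _ this inferInstance

theorem locallyOfFinitePresentation_chartMap [LocallyOfFinitePresentation p] :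
    LocallyOfFinitePresentation (chartMap p h b t) := by
  haveI : LocallyOfFinitePresentation (chartMap p h b t ≫ (𝔸(ULift.{u} (Fin e); S) ↘ S)) := by
    rw [chartMap_over]; infer_instance
  exact EGA43.Limit.locallyOfFinitePresentation_of_comp (chartMap p h b t) (𝔸(ULift.{u} (Fin e); S) ↘ S)

variable {p h b t}

theorem exists_isPullback_chart {X' S' : Scheme.{u}} [IsAffine X'] {p' : X' ⟶ S'} {u : X' ⟶ X} {w : S' ⟶ S}
    (sq : IsPullback u p' p w) :
    ∃ u' : Spec (CommRingCat.of (LocusRing (u.appTop h) (⇑u.appTop ∘ b))) ⟶ Spec (CommRingCat.of (LocusRing h b)),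
      IsPullback u' (locusι (u.appTop h) (⇑u.appTop ∘ b)) (locusι h b) u ∧
      IsPullback u' (chartMap p' (u.appTop h) (⇑u.appTop ∘ b) (⇑u.appTop ∘ t)) (chartMap p h b t)
        (AffineSpace.map _ w) := by
  obtain ⟨ψ', hψ'⟩ := isPushout_locus u.appTop.hom h b
  have h1 := isPullback_SpecMap_of_isPushout _ _ _ _ hψ'
  have h2 : IsPullback X'.isoSpec.inv (Spec.map u.appTop) u X.isoSpec.inv :=
    IsPullback.of_horiz_isIso ⟨(Scheme.isoSpec_inv_naturality u).symm⟩
  have h3 : IsPullback (Spec.map (CommRingCat.ofHom ψ')) (locusι (u.appTop h) (⇑u.appTop ∘ b))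
      (locusι h b) u := (h1.paste_horiz h2).flip
  refine ⟨_, h3, ?_⟩
  refine IsPullback.of_bot ?_ ?_ (AffineSpace.isPullback_map w)
  · rw [chartMap_over, chartMap_over]
    exact h3.paste_vert sq
  · refine AffineSpace.hom_ext ?_ fun i => ?_
    · simp only [Category.assoc, chartMap_over, AffineSpace.map_over, chartMap_over_assoc]
      rw [← sq.w, ← Category.assoc, ← Category.assoc, h3.w]
    · rw [Scheme.Hom.comp_appTop, Scheme.Hom.comp_appTop, CommRingCat.comp_apply, CommRingCat.comp_apply,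
        AffineSpace.map_appTop_coord]
      simp only [chartMap, AffineSpace.homOfVector_appTop_coord, Function.comp_apply]
      have hk := congrArg (fun k : _ ⟶ X => k.appTop (t i.down)) h3.w
      simp only [Scheme.Hom.comp_appTop, CommRingCat.comp_apply] at hk
      exact hk

end Gamma

theorem exists_away_quasiFinite {T B : Type u} [CommRing T] [CommRing B] [Algebra T B]
    [Algebra.FiniteType T B] (q : PrimeSpectrum B) [Algebra.QuasiFiniteAt T q.asIdeal] :
    ∃ c : B, c ∉ q.asIdeal ∧ (algebraMap T (Localization.Away c)).QuasiFinite := by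
  obtain ⟨S', hS', c, hc, hbij⟩ :=
    Algebra.QuasiFiniteAt.exists_fg_and_exists_notMem_and_awayMap_bijective (R := T) q.asIdeal
  haveI : Module.Finite T S' := ⟨(Submodule.fg_top _).mpr hS'⟩
  haveI : Algebra.QuasiFinite T (Localization.Away c) := .trans _ S' _
  haveI : Algebra.QuasiFinite T (Localization.Away c.1) :=
    .of_surjective_algHom (R := T) (S := Localization.Away c) (Localization.awayMapₐ S'.val c) hbij.2
  exact ⟨c.1, hc, RingHom.quasiFinite_algebraMap.2 ‹_›⟩

/-- The ring form of the chart through a point which is minimal in its fibre. -/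
theorem exists_chart_ring {A B : Type u} [CommRing A] [CommRing B] [Algebra A B]
    [Algebra.FinitePresentation A B] [UniversallyOpen (Spec.map (CommRingCat.ofHom (algebraMap A B)))]
    (q : PrimeSpectrum B) (hmax : ∀ q' : PrimeSpectrum B, q'.asIdeal ≤ q.asIdeal →
      q'.asIdeal.comap (algebraMap A B) = q.asIdeal.comap (algebraMap A B) → q' = q) :
    ∃ (h : B) (r : ℕ) (b : Fin r → B) (e : ℕ) (v : Fin e → B),
      let θ := (locusHom h b).comp (MvPolynomial.aeval v : MvPolynomial (Fin e) A →ₐ[A] B).toRingHom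
      UniversallyOpen (Spec.map (CommRingCat.ofHom θ)) ∧ θ.QuasiFinite ∧
        q ∈ Set.range (PrimeSpectrum.comap (locusHom h b)) := by
  classical
  let e := EGA43.FibDepth.trd A q
  obtain ⟨v, hv, -⟩ := FlatMorLocalStr.exists_coords (A := A) q (n := e)
    fun q' hle hc => (hmax q' hle hc).symm ▸ le_rfl
  let T := MvPolynomial (Fin e) A
  let α : T →+* B := (MvPolynomial.aeval v : T →ₐ[A] B).toRingHom
  obtain ⟨c, hc, hcqf⟩ : ∃ c : B, c ∉ q.asIdeal ∧ ((algebraMap B (Localization.Away c)).comp α).QuasiFinite := by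
    letI : Algebra T B := α.toAlgebra
    haveI : IsScalarTower A T B := .of_algebraMap_eq fun a => ((MvPolynomial.aeval v : T →ₐ[A] B).commutes a).symm
    haveI : Algebra.FiniteType T B := Algebra.FiniteType.of_restrictScalars_finiteType A _ B
    haveI : Algebra.QuasiFiniteAt T q.asIdeal := hv
    obtain ⟨c, hc, h⟩ := exists_away_quasiFinite (T := T) q
    refine ⟨c, hc, ?_⟩
    rwa [IsScalarTower.algebraMap_eq T B (Localization.Away c), RingHom.algebraMap_toAlgebra α] at h
  let R := Localization.Away c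
  haveI : Algebra.FinitePresentation A R :=
    haveI : Algebra.FinitePresentation B R := IsLocalization.Away.finitePresentation c
    Algebra.FinitePresentation.trans A B R
  haveI : UniversallyOpen (Spec.map (CommRingCat.ofHom (algebraMap A R))) := by
    have h1 : Spec.map (CommRingCat.ofHom (algebraMap A R)) = Spec.map (CommRingCat.ofHom (algebraMap B R)) ≫
        Spec.map (CommRingCat.ofHom (algebraMap A B)) := by
      rw [← Spec.map_comp, ← CommRingCat.ofHom_comp, ← IsScalarTower.algebraMap_eq]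
    haveI : IsOpenImmersion (Spec.map (CommRingCat.ofHom (algebraMap B R))) := IsOpenImmersion.of_isLocalization c
    rw [h1]; infer_instance
  obtain ⟨a, ha⟩ := UnivOpenChart.exists_finset_zeroLocus_eq_dimGE A R e
  have hnum : ∀ z : R, ∃ b : B, Ideal.span {algebraMap B R b} = Ideal.span {z} := fun z => by
    obtain ⟨n, b, hb⟩ := IsLocalization.Away.surj c z
    refine ⟨b, ?_⟩
    rw [← hb, Ideal.span_singleton_mul_right_unit]
    exact (IsLocalization.Away.algebraMap_isUnit c).pow n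
  choose num hnum using hnum
  let b : Fin a.card → B := fun k => num (a.equivFin.symm k).1
  let J := Ideal.span (Set.range fun k => algebraMap B R (b k))
  have hJ : J = Ideal.span (a : Set R) := by
    refine le_antisymm (Ideal.span_le.2 ?_) (Ideal.span_le.2 fun z hz => ?_)
    · rintro _ ⟨k, rfl⟩
      exact Ideal.span_mono (Set.singleton_subset_iff.2 (a.equivFin.symm k).2)
        ((hnum _).le (Ideal.mem_span_singleton_self _))
    · have h1 : algebraMap B R (num z) ∈ J := Ideal.subset_span ⟨a.equivFin ⟨z, hz⟩, by simp [b]⟩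
      exact Ideal.span_le.2 (Set.singleton_subset_iff.2 h1) ((hnum z).ge (Ideal.mem_span_singleton_self z))
  let t' : Fin e → R := fun i => algebraMap B R (v i)
  have ht' : (MvPolynomial.aeval t' : T →ₐ[A] R).toRingHom = (algebraMap B R).comp α := by
    refine MvPolynomial.ringHom_ext (fun a => ?_) fun i => ?_
    · simp [α, ← IsScalarTower.algebraMap_apply]
    · simp [t', α]
  have hzero : PrimeSpectrum.zeroLocus (J : Set R) = UnivOpenChart.dimGE A e := by
    rw [hJ, PrimeSpectrum.zeroLocus_span, ha]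
  have hU := UnivOpenChart.universallyOpen_chart t' (ht'.symm ▸ hcqf) J (Submodule.fg_span (Set.finite_range _)) hzero
  refine ⟨c, a.card, b, e, v, ?_, ?_, ?_⟩
  · rw [ht'] at hU
    exact hU
  · exact (RingHom.QuasiFinite.of_finite (RingHom.Finite.of_surjective (Ideal.Quotient.mk J) Ideal.Quotient.mk_surjective)).comp hcqf
  · obtain ⟨q₀, hq₀⟩ : q ∈ Set.range (PrimeSpectrum.comap (algebraMap B R)) := by
      rw [PrimeSpectrum.localization_away_comap_range R c]
      exact hc
    have htr := EGA43.FibDepth.trd_comap_of_surjectiveOnStalks (IsScalarTower.toAlgHom A B R)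
      (RingHom.surjectiveOnStalks_of_isLocalization (M := Submonoid.powers c) _) q₀
    have hE : q₀ ∈ UnivOpenChart.dimGE A e :=
      ⟨q₀, le_rfl, rfl, (congrArg (EGA43.FibDepth.trd A) hq₀).symm.le.trans htr.le⟩
    obtain ⟨w, hw⟩ : q₀ ∈ Set.range (PrimeSpectrum.comap (Ideal.Quotient.mk J)) := by
      rw [range_comap_of_surjective _ _ Ideal.Quotient.mk_surjective, Ideal.mk_ker, hzero]
      exact hE
    refine ⟨w, ?_⟩
    show PrimeSpectrum.comap (algebraMap B R) (PrimeSpectrum.comap (Ideal.Quotient.mk J) w) = q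
    rw [hw, hq₀]

/-- At a fibre-maximal point of a universally open morphism of affine schemes there is a chart. -/
theorem exists_chart {X S : Scheme.{u}} [IsAffine X] [IsAffine S] (p : X ⟶ S) [LocallyOfFinitePresentation p]
    [UniversallyOpen p] (x : X) (hx : IsFibMax p x) :
    ∃ (h : Γ(X, ⊤)) (r : ℕ) (b : Fin r → Γ(X, ⊤)) (e : ℕ) (t : Fin e → Γ(X, ⊤)),
      UniversallyOpen (chartMap p h b t) ∧ LocallyQuasiFinite (chartMap p h b t) ∧
        x ∈ Set.range (locusι h b) := by
  let A := Γ(S, ⊤)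
  let B := Γ(X, ⊤)
  have hfp : p.appTop.hom.FinitePresentation :=
    HasRingHomProperty.iff_of_isAffine.1 ‹LocallyOfFinitePresentation p›
  letI : Algebra A B := p.appTop.hom.toAlgebra
  haveI : Algebra.FinitePresentation A B := RingHom.finitePresentation_algebraMap.1 hfp
  have hnat : Spec.map p.appTop ≫ S.isoSpec.inv = X.isoSpec.inv ≫ p := Scheme.isoSpec_inv_naturality p
  haveI : UniversallyOpen (Spec.map (CommRingCat.ofHom (algebraMap A B))) := by
    have h1 : Spec.map p.appTop = X.isoSpec.inv ≫ p ≫ S.isoSpec.hom := by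
      rw [← Category.assoc, ← hnat, Category.assoc, Iso.inv_hom_id, Category.comp_id]
    show UniversallyOpen (Spec.map p.appTop)
    rw [h1]; infer_instance
  let q : PrimeSpectrum B := X.isoSpec.hom x
  have hqx : X.isoSpec.inv q = x := by
    show X.isoSpec.inv (X.isoSpec.hom x) = x
    rw [← Scheme.Hom.comp_apply, Iso.hom_inv_id]
    simp
  have hmax : ∀ q' : PrimeSpectrum B, q'.asIdeal ≤ q.asIdeal →
      q'.asIdeal.comap (algebraMap A B) = q.asIdeal.comap (algebraMap A B) → q' = q := fun q' hle hc => by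
    have hpw : ∀ q'' : PrimeSpectrum B, p (X.isoSpec.inv q'') = S.isoSpec.inv (Spec.map p.appTop q'') := fun q'' => by
      rw [← Scheme.Hom.comp_apply, ← Scheme.Hom.comp_apply, hnat]
    have h1 := hx (X.isoSpec.inv q')
      (hqx ▸ ((PrimeSpectrum.le_iff_specializes q' q).1 hle).map X.isoSpec.inv.continuous)
      (by
        rw [← hqx, hpw, hpw]
        exact congrArg _ (PrimeSpectrum.ext hc))
    exact X.isoSpec.inv.homeomorph.injective (h1.trans hqx.symm)
  obtain ⟨h, r, b, e, v, hU, hQ, w, hw⟩ := exists_chart_ring (A := A) q hmax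
  refine ⟨h, r, b, e, v, ?_⟩
  let T := MvPolynomial (Fin e) A
  let T' := MvPolynomial (ULift.{u} (Fin e)) A
  let α : T →+* B := (MvPolynomial.aeval v : T →ₐ[A] B).toRingHom
  let ren : T' →+* T := (MvPolynomial.renameEquiv A (Equiv.ulift : ULift.{u} (Fin e) ≃ Fin e)).toRingEquiv.toRingHom
  haveI : IsIso (CommRingCat.ofHom ren) :=
    (MvPolynomial.renameEquiv A (Equiv.ulift : ULift.{u} (Fin e) ≃ Fin e)).toRingEquiv.toCommRingCatIso.isIso_hom
  let Φ : Spec (CommRingCat.of T) ⟶ 𝔸(ULift.{u} (Fin e); S) :=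
    Spec.map (CommRingCat.ofHom ren) ≫ (AffineSpace.SpecIso (ULift.{u} (Fin e)) A).inv ≫
      AffineSpace.map _ S.isoSpec.inv
  haveI : IsIso (AffineSpace.map (ULift.{u} (Fin e)) S.isoSpec.inv) :=
    MorphismProperty.of_isPullback (P := MorphismProperty.isomorphisms Scheme.{u})
      (AffineSpace.isPullback_map S.isoSpec.inv).flip (inferInstanceAs (IsIso S.isoSpec.inv))
  haveI : IsIso Φ := inferInstance
  have hΦ : chartMap p h b v = Spec.map (CommRingCat.ofHom ((locusHom h b).comp α)) ≫ Φ := by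
    refine AffineSpace.hom_ext ?_ fun i => ?_
    · simp only [Φ, Category.assoc, chartMap_over, locusι, AffineSpace.map_over,
        AffineSpace.SpecIso_inv_over_assoc]
      rw [← hnat, ← Spec.map_comp_assoc, ← Spec.map_comp_assoc, ← Spec.map_comp_assoc]
      congr 2
      refine CommRingCat.hom_ext (RingHom.ext fun a => ?_)
      show locusHom h b (algebraMap A B a) =
        locusHom h b (MvPolynomial.aeval v (MvPolynomial.rename (Equiv.ulift : ULift.{u} (Fin e) ≃ Fin e) (MvPolynomial.C a : T')))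
      rw [MvPolynomial.rename_C, MvPolynomial.aeval_C]
    · rw [chartMap, AffineSpace.homOfVector_appTop_coord]
      simp only [Φ, Scheme.Hom.comp_appTop, CommRingCat.comp_apply, AffineSpace.map_appTop_coord, locusι]
      rw [AffineSpace.SpecIso_inv_appTop_coord]
      have e1 : X.isoSpec.inv.appTop = (Scheme.ΓSpecIso Γ(X, ⊤)).inv := by
        have h2 : X.isoSpec.inv.appTop ≫ X.toSpecΓ.appTop ≫ 𝟙 _ = X.isoSpec.inv.appTop ≫ X.toSpecΓ.appTop := by
          rw [Category.comp_id]
        have h3 : X.toSpecΓ.appTop ≫ X.isoSpec.inv.appTop = 𝟙 _ := by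
          rw [← Scheme.Hom.comp_appTop, Scheme.isoSpec_inv_toSpecΓ, Scheme.Hom.id_appTop]
        rw [Scheme.toSpecΓ_appTop] at h3
        exact (Iso.inv_ext (f := Scheme.ΓSpecIso Γ(X, ⊤)) h3).symm
      rw [e1, ← CommRingCat.comp_apply, ← CommRingCat.comp_apply, ← Scheme.ΓSpecIso_inv_naturality,
        ← CommRingCat.comp_apply, ← Category.assoc, ← Scheme.ΓSpecIso_inv_naturality, Category.assoc,
        ← Scheme.ΓSpecIso_inv_naturality]
      simp only [CommRingCat.comp_apply]
      refine congrArg _ ?_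
      show locusHom h b (v i.down) = locusHom h b (MvPolynomial.aeval v (MvPolynomial.rename (Equiv.ulift : ULift.{u} (Fin e) ≃ Fin e) (MvPolynomial.X i : T')))
      rw [MvPolynomial.rename_X, MvPolynomial.aeval_X]
      rfl
  refine ⟨?_, ?_, ?_⟩
  · rw [hΦ]
    exact (MorphismProperty.cancel_right_of_respectsIso @UniversallyOpen _ _).2 hU
  · rw [hΦ]
    exact (MorphismProperty.cancel_right_of_respectsIso @LocallyQuasiFinite _ _).2
      ((HasRingHomProperty.Spec_iff (P := @LocallyQuasiFinite)).2 hQ)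
  · refine ⟨w, ?_⟩
    show X.isoSpec.inv (PrimeSpectrum.comap (locusHom h b) w) = x
    rw [hw, hqx]

section Limit

open EGA43.Limit

variable {I : Type u} [SmallCategory I] [IsCofiltered I] {D : I ⥤ Scheme.{u}} {c : Cone D}
  [∀ (i j : I) (f : i ⟶ j), IsAffineHom (D.map f)]

theorem exists_stage_family (hc : IsLimit c) [∀ i, CompactSpace (D.obj i)] [∀ i, QuasiSeparatedSpace (D.obj i)]
    {K : Type} [Finite K] (s : K → Γ(c.pt, ⊤)) :
    ∃ (i : I) (s' : K → Γ(D.obj i, ⊤)), ∀ k, (c.π.app i).appTop (s' k) = s k := by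
  classical
  haveI : ∀ {i j : I} (f : i ⟶ j), IsAffineHom (D.map f) := fun f => inferInstance
  choose i s' hs using fun k => exists_appTop_π_eq_of_isLimit D c hc (s k)
  haveI := Fintype.ofFinite K
  obtain ⟨j, hj⟩ := IsCofiltered.inf_objs_exists (Finset.univ.image i)
  have φ : ∀ k, j ⟶ i k := fun k => (hj (Finset.mem_image_of_mem i (Finset.mem_univ k))).some
  refine ⟨j, fun k => (D.map (φ k)).appTop (s' k), fun k => ?_⟩
  rw [← CommRingCat.comp_apply, ← Scheme.Hom.comp_appTop, c.w]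
  exact (hs k).symm

variable (hc : IsLimit c) {i₀ : I} {X₀ : Scheme.{u}} (f₀ : X₀ ⟶ D.obj i₀) {X : Scheme.{u}} {q : X ⟶ X₀}
  {f : X ⟶ c.pt} (sq : IsPullback q f f₀ (c.π.app i₀))

theorem of_transfer {P : MorphismProperty Scheme.{u}} [P.IsStableUnderBaseChange] {n : Type u}
    {S T Z Z' : Scheme.{u}} {w : S ⟶ T} {g : Z ⟶ 𝔸(n; T)} {g' : Z' ⟶ 𝔸(n; S)} {u' : Z' ⟶ Z}
    (h : IsPullback u' g' g (AffineSpace.map n w))
    (hP : P (pullback.snd g (pullback.fst (𝔸(n; T) ↘ T) w))) : P g' := by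
  let ε := (AffineSpace.isPullback_map (n := n) w).isoPullback
  have hε : ε.hom ≫ pullback.fst (𝔸(n; T) ↘ T) w = AffineSpace.map n w :=
    (AffineSpace.isPullback_map (n := n) w).isoPullback_hom_fst
  let m : Z' ⟶ pullback g (pullback.fst (𝔸(n; T) ↘ T) w) :=
    pullback.lift u' (g' ≫ ε.hom) (by rw [Category.assoc, hε, h.w])
  have hm : IsPullback m g' (pullback.snd g (pullback.fst (𝔸(n; T) ↘ T) w)) ε.hom := by
    refine IsPullback.of_right (h₁₂ := pullback.fst g _) ?_ (pullback.lift_snd _ _ _) (IsPullback.of_hasPullback g _)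
    rw [pullback.lift_fst, hε]
    exact h
  exact MorphismProperty.of_isPullback hm hP

variable [IsAffine (D.obj i₀)] [IsAffine X₀] [LocallyOfFinitePresentation f₀]

omit [IsCofiltered I] [LocallyOfFinitePresentation f₀] in
theorem isAffine_stage (o : Over i₀) : IsAffine ((stage D f₀).obj o) := by
  haveI : IsAffine (D.obj o.left) := isAffine_of_isAffineHom (D.map o.hom)
  exact inferInstanceAs (IsAffine (pullback f₀ (D.map o.hom)))

/-- The chart attached to functions at a stage. -/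
noncomputable abbrev stageChart (o : Over i₀) [IsAffine ((stage D f₀).obj o)] (h : Γ((stage D f₀).obj o, ⊤))
    {r : ℕ} (b : Fin r → Γ((stage D f₀).obj o, ⊤)) {e : ℕ} (t : Fin e → Γ((stage D f₀).obj o, ⊤)) :=
  chartMap (pullback.snd f₀ (D.map o.hom)) h b t

/-- The projection from the limit to a stage. -/
noncomputable abbrev toStage (o : Over i₀) : X ⟶ (stage D f₀).obj o := (stageCone D c f₀ sq).π.app o

include hc in
theorem exists_stage_chart {Q P : MorphismProperty Scheme.{u}} [Q.RespectsIso] [P.IsStableUnderBaseChange]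
    (hQP : Descends Q P) [IsAffine X] (o : Over i₀) [IsAffine ((stage D f₀).obj o)]
    (h : Γ((stage D f₀).obj o, ⊤)) {r : ℕ} (b : Fin r → Γ((stage D f₀).obj o, ⊤)) {e : ℕ}
    (t : Fin e → Γ((stage D f₀).obj o, ⊤)) (hQ : Q (stageChart f₀ o h b t))
    (hP : P (chartMap f ((toStage f₀ sq o).appTop h)
      (⇑(toStage f₀ sq o).appTop ∘ b) (⇑(toStage f₀ sq o).appTop ∘ t))) :
    ∃ (k : Over i₀) (ψ : k ⟶ o) (_ : IsAffine ((stage D f₀).obj k)),
      P (stageChart f₀ k (((stage D f₀).map ψ).appTop h) (⇑((stage D f₀).map ψ).appTop ∘ b)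
        (⇑((stage D f₀).map ψ).appTop ∘ t)) := by
  obtain ⟨u₁, -, hu₁⟩ := exists_isPullback_chart (h := h) (b := b) (t := t)
    (u := toStage f₀ sq o) (p := pullback.snd f₀ (D.map o.hom)) (stageCone_isPullback D c f₀ sq o)
  haveI : IsAffine (D.obj o.left) := isAffine_of_isAffineHom (D.map o.hom)
  haveI : QuasiCompact (stageChart f₀ o h b t) := quasiCompact_of_compactSpace _
  obtain ⟨j, φ, hj⟩ := hQP.transfer hc (stageChart f₀ o h b t) (𝔸(ULift.{u} (Fin e); D.obj o.left) ↘ D.obj o.left)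
    hQ (AffineSpace.isPullback_map (c.π.app o.left)) hu₁ hP
  let k : Over i₀ := Over.mk (φ ≫ o.hom)
  let ψ : k ⟶ o := Over.homMk φ rfl
  haveI := isAffine_stage f₀ k
  obtain ⟨u₂, -, hu₂⟩ := exists_isPullback_chart (h := h) (b := b) (t := t)
    (p := pullback.snd f₀ (D.map o.hom)) (stage_isPullback D f₀ ψ)
  exact ⟨k, ψ, ‹_›, of_transfer hu₂ hj⟩

include hc sq in
/-- Universal openness descends for finitely presented morphisms of affine schemes. -/
theorem exists_stage_universallyOpen [UniversallyOpen f] :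
    ∃ (j : I) (φ : j ⟶ i₀), UniversallyOpen (pullback.snd f₀ (D.map φ)) := by
  classical
  let E := stage D f₀
  let C := stageCone D c f₀ sq
  let π : ∀ o, X ⟶ E.obj o := toStage f₀ sq
  have hC := isLimitStageCone D c f₀ sq hc
  haveI : ∀ o, IsAffine (E.obj o) := isAffine_stage f₀
  haveI := isAffineHom_π_app D c hc i₀
  haveI : IsAffineHom q := MorphismProperty.of_isPullback sq.flip ‹IsAffineHom (c.π.app i₀)›
  haveI : IsAffine c.pt := isAffine_of_isAffineHom (c.π.app i₀)
  haveI : IsAffine X := isAffine_of_isAffineHom q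
  haveI : LocallyOfFinitePresentation f := MorphismProperty.of_isPullback sq ‹LocallyOfFinitePresentation f₀›
  haveI : ∀ o : Over i₀, LocallyOfFinitePresentation (pullback.snd f₀ (D.map o.hom)) := fun o =>
    MorphismProperty.pullback_snd _ _ ‹_›
  have hdata : ∀ x : {x : X // IsFibMax f x}, ∃ (r e : ℕ) (k : Over i₀) (h : Γ(E.obj k, ⊤))
      (b : Fin r → Γ(E.obj k, ⊤)) (t : Fin e → Γ(E.obj k, ⊤)),
      UniversallyOpen (stageChart f₀ k h b t) ∧
        x.1 ∈ Set.range (locusι ((π k).appTop h) (⇑(π k).appTop ∘ b)) := fun x => by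
    obtain ⟨h, r, b, e, t, hU, hQ, hx⟩ := exists_chart f x.1 x.2
    obtain ⟨o, s', hs'⟩ := exists_stage_family hC (Sum.elim (fun _ : Unit => h) (Sum.elim b t))
    let h₁ := s' (Sum.inl ())
    let b₁ : Fin r → Γ(E.obj o, ⊤) := fun k => s' (Sum.inr (Sum.inl k))
    let t₁ : Fin e → Γ(E.obj o, ⊤) := fun k => s' (Sum.inr (Sum.inr k))
    obtain rfl : (π o).appTop h₁ = h := hs' (Sum.inl ())
    obtain rfl : ⇑(π o).appTop ∘ b₁ = b := funext fun k => hs' (Sum.inr (Sum.inl k))
    obtain rfl : ⇑(π o).appTop ∘ t₁ = t := funext fun k => hs' (Sum.inr (Sum.inr k))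
    haveI : LocallyOfFinitePresentation (stageChart f₀ o h₁ b₁ t₁) := locallyOfFinitePresentation_chartMap _ _ _ _
    obtain ⟨k, ψ, _, hk⟩ := exists_stage_chart hc f₀ sq descends_locallyQuasiFinite o h₁ b₁ t₁ inferInstance hQ
    have hw : π k ≫ E.map ψ = π o := C.w ψ
    let h₂ := (E.map ψ).appTop h₁
    let b₂ := ⇑(E.map ψ).appTop ∘ b₁
    let t₂ := ⇑(E.map ψ).appTop ∘ t₁
    have eh : (π k).appTop h₂ = (π o).appTop h₁ := by
      rw [← hw, Scheme.Hom.comp_appTop, CommRingCat.comp_apply]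
    have eb : ⇑(π k).appTop ∘ b₂ = ⇑(π o).appTop ∘ b₁ := funext fun i => by
      rw [← hw, Scheme.Hom.comp_appTop]; rfl
    have et : ⇑(π k).appTop ∘ t₂ = ⇑(π o).appTop ∘ t₁ := funext fun i => by
      rw [← hw, Scheme.Hom.comp_appTop]; rfl
    haveI : LocallyOfFinitePresentation (stageChart f₀ k h₂ b₂ t₂) := locallyOfFinitePresentation_chartMap _ _ _ _
    obtain ⟨l, χ, _, hl⟩ := exists_stage_chart hc f₀ sq descends_universallyOpen k h₂ b₂ t₂
      ⟨inferInstance, hk⟩ (by
        show UniversallyOpen (chartMap f ((π k).appTop h₂) (⇑(π k).appTop ∘ b₂) (⇑(π k).appTop ∘ t₂))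
        rw [eh, eb, et]; exact hU)
    have hw' : π l ≫ E.map χ = π k := C.w χ
    have eh' : (π l).appTop ((E.map χ).appTop h₂) = (π o).appTop h₁ := by
      rw [← eh, ← hw', Scheme.Hom.comp_appTop, CommRingCat.comp_apply]
    have eb' : ⇑(π l).appTop ∘ (⇑(E.map χ).appTop ∘ b₂) = ⇑(π o).appTop ∘ b₁ := by
      rw [← eb, ← hw', Scheme.Hom.comp_appTop]; rfl
    refine ⟨r, e, l, _, _, _, hl, ?_⟩
    rw [eh', eb']
    exact hx
  choose r e k h b t hU hmem using hdata
  -- finitely many charts suffice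
  let W : {x : X // IsFibMax f x} → Set X := fun x =>
    EGA43.Cons.fibreClosureSch f (Set.range (locusι ((π (k x)).appTop (h x)) (⇑(π (k x)).appTop ∘ b x)))
  have hW : ∀ x, IsConstructible (W x) := fun x => by
    refine (EGA43.Cons.isLocallyConstructible_fibreClosureSch f ?_).isConstructible
    rw [← Set.image_univ]
    haveI : QuasiCompact (locusι ((π (k x)).appTop (h x)) (⇑(π (k x)).appTop ∘ b x)) :=
      quasiCompact_of_compactSpace _
    exact Scheme.Hom.isLocallyConstructible_image _ IsLocallyConstructible.univ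
  obtain ⟨F, hF⟩ := exists_finite_subcover W hW (Set.eq_univ_of_forall fun y => by
    obtain ⟨z, hzy, hz, hmax⟩ := EGA43.Chevalley.exists_maximal_in_fibre f y
    have hz' : IsFibMax f z := fun w hw he => hmax w hw (he.trans hz)
    exact Set.mem_iUnion.2 ⟨⟨z, hz'⟩, z, hmem ⟨z, hz'⟩, hzy, hz⟩)
  obtain ⟨m, hm⟩ := IsCofiltered.inf_objs_exists (F.image k)
  have ψ : ∀ x : F, m ⟶ k x.1 := fun x => (hm (Finset.mem_image_of_mem k x.2)).some
  let L : ∀ (o : Over i₀) (x : F), (o ⟶ k x.1) → Set (E.obj o) := fun o x φ =>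
    Set.range (locusι ((E.map φ).appTop (h x.1)) (⇑(E.map φ).appTop ∘ b x.1))
  let U₀ : Set (E.obj m) :=
    EGA43.Cons.fibreClosureSch (pullback.snd f₀ (D.map m.hom)) (⋃ x : F, L m x (ψ x))
  have hL : ∀ {o o' : Over i₀} (χ : o ⟶ o') (x : F) (φ : o' ⟶ k x.1),
      (E.map χ) ⁻¹' L o' x φ = L o x (χ ≫ φ) := fun {o o'} χ x φ => by
    obtain ⟨u', hu', -⟩ := exists_isPullback_chart (h := (E.map φ).appTop (h x.1))
      (b := ⇑(E.map φ).appTop ∘ b x.1) (t := ⇑(E.map φ).appTop ∘ t x.1)
      (p := pullback.snd f₀ (D.map o'.hom)) (stage_isPullback D f₀ χ)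
    have hr := ConnectedEtaleNhd.range_of_isPullback hu'.flip
    simp only [L]
    rw [E.map_comp, Scheme.Hom.comp_appTop]
    exact hr.symm
  have hU₀ : IsConstructible U₀ := by
    refine (EGA43.Cons.isLocallyConstructible_fibreClosureSch _ ?_).isConstructible
    refine IsLocallyConstructible.iUnion fun x => ?_
    simp only [L]
    rw [← Set.image_univ]
    haveI : QuasiCompact (locusι ((E.map (ψ x)).appTop (h x.1)) (⇑(E.map (ψ x)).appTop ∘ b x.1)) :=
      quasiCompact_of_compactSpace _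
    exact Scheme.Hom.isLocallyConstructible_image _ IsLocallyConstructible.univ
  have hlim : π m ⁻¹' U₀ = π m ⁻¹' Set.univ := by
    simp only [U₀]
    rw [Set.preimage_univ, preimage_fibreClosure (g' := π m) (stageCone_isPullback D c f₀ sq m), Set.eq_univ_iff_forall]
    intro y
    obtain ⟨x, hx, z, hz, hzy, he⟩ := Set.mem_iUnion₂.1 (hF.ge (Set.mem_univ y))
    refine ⟨z, Set.mem_iUnion.2 ⟨⟨x, hx⟩, ?_⟩, hzy, he⟩
    have hw : π m ≫ E.map (ψ ⟨x, hx⟩) = π (k x) := C.w _
    obtain ⟨u', hu', -⟩ := exists_isPullback_chart (h := (E.map (ψ ⟨x, hx⟩)).appTop (h x))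
      (b := ⇑(E.map (ψ ⟨x, hx⟩)).appTop ∘ b x) (t := ⇑(E.map (ψ ⟨x, hx⟩)).appTop ∘ t x)
      (u := toStage f₀ sq m) (p := pullback.snd f₀ (D.map m.hom)) (stageCone_isPullback D c f₀ sq m)
    refine (ConnectedEtaleNhd.range_of_isPullback hu'.flip).le ?_
    rw [← hw, Scheme.Hom.comp_appTop] at hz
    exact hz
  obtain ⟨l, χ, hl⟩ := H8Lim.exists_preimage_eq hC hU₀ IsConstructible.univ hlim
  refine ⟨l.left, l.hom, universallyOpen_of_charts _ fun y hy => ?_⟩
  have hy' : y ∈ E.map χ ⁻¹' U₀ := hl.ge (Set.mem_univ _)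
  rw [preimage_fibreClosure (stage_isPullback D f₀ χ), Set.preimage_iUnion] at hy'
  obtain ⟨x, hx⟩ := Set.mem_iUnion.1 (mem_of_mem_fibreClosure hy hy')
  rw [hL] at hx
  refine ⟨_, locusι ((E.map (χ ≫ ψ x)).appTop (h x.1)) (⇑(E.map (χ ≫ ψ x)).appTop ∘ b x.1), ?_, hx⟩
  obtain ⟨u', -, hu'⟩ := exists_isPullback_chart (h := h x.1) (b := b x.1) (t := t x.1)
    (p := pullback.snd f₀ (D.map (k x.1).hom)) (stage_isPullback D f₀ (χ ≫ ψ x))
  haveI := MorphismProperty.of_isPullback (P := @UniversallyOpen) hu' (hU x.1)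
  haveI := EGA43.UnibranchOpen.universallyOpen_over_affineSpace (e x.1) (D.obj l.left)
  rw [← chartMap_over (pullback.snd f₀ (D.map l.hom)) _ _ (⇑(E.map (χ ≫ ψ x)).appTop ∘ t x.1)]
  infer_instance

end Limit

theorem descendsAffine_universallyOpen_fp :
    EGA43.Limit.DescendsAffine @LocallyOfFinitePresentation.{u} @UniversallyOpen.{u} := by
  intro I _ _ D c hc _ i₀ _ X₀ f₀ _ _ hQ X p f sq hf
  classical
  have := hQ
  have := hf
  have : CompactSpace X₀ := QuasiCompact.compactSpace_of_compactSpace f₀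
  let 𝒰 := X₀.affineCover.finiteSubcover
  have H : ∀ k, ∃ (j : I) (φ : j ⟶ i₀), UniversallyOpen (pullback.snd (𝒰.f k ≫ f₀) (D.map φ)) := fun k => by
    haveI : IsAffine (𝒰.X k) := inferInstanceAs (IsAffine (X₀.affineCover.X _))
    have sq' := (IsPullback.of_hasPullback (𝒰.f k) p).paste_vert sq
    have : UniversallyOpen (pullback.snd (𝒰.f k) p ≫ f) := inferInstance
    exact exists_stage_universallyOpen hc (𝒰.f k ≫ f₀) sq'
  choose j φ hj using H
  haveI : Fintype 𝒰.I₀ := Fintype.ofFinite _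
  obtain ⟨l, hl⟩ := IsCofiltered.inf_objs_exists ((Finset.univ : Finset 𝒰.I₀).image fun k => Over.mk (φ k))
  refine ⟨l.left, l.hom, ?_⟩
  rw [IsZariskiLocalAtSource.iff_of_openCover (P := @UniversallyOpen.{u})
    (𝒰.pullback₁ (pullback.fst f₀ (D.map l.hom)))]
  intro (k : 𝒰.I₀)
  obtain ⟨χ⟩ := hl (Finset.mem_image_of_mem (fun k => Over.mk (φ k)) (Finset.mem_univ k))
  have h1 := EGA43.Limit.persist (P := @UniversallyOpen.{u}) (D := D) (𝒰.f k ≫ f₀) χ (hj k)
  have sq2 := (IsPullback.of_hasPullback (pullback.fst f₀ (D.map l.hom)) (𝒰.f k)).flip.paste_vert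
    (IsPullback.of_hasPullback f₀ (D.map l.hom))
  show UniversallyOpen (pullback.fst (pullback.fst f₀ (D.map l.hom)) (𝒰.f k) ≫ pullback.snd f₀ (D.map l.hom))
  exact (MorphismProperty.arrow_mk_iso_iff (@UniversallyOpen.{u})
    (Arrow.isoMk (f := Arrow.mk (pullback.fst (pullback.fst f₀ (D.map l.hom)) (𝒰.f k) ≫ pullback.snd f₀ (D.map l.hom)))
      (g := Arrow.mk (pullback.snd (𝒰.f k ≫ f₀) (D.map l.hom))) sq2.isoPullback (Iso.refl _) (by simp))).2 h1

/-- EGA IV 8.10.5: universal openness descends along limits for finitely presented morphisms. -/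
theorem descends_universallyOpen_fp :
    EGA43.Limit.Descends @LocallyOfFinitePresentation.{u} @UniversallyOpen.{u} :=
  EGA43.Limit.Descends.of_affineBase descendsAffine_universallyOpen_fp

theorem of_isPullback_factor {P : MorphismProperty Scheme.{u}} [P.IsStableUnderBaseChange]
    {X Y A B Z W : Scheme.{u}} {f : X ⟶ Y} {pA : Z ⟶ X} {gA : Z ⟶ A} {a : A ⟶ Y}
    (hA : IsPullback pA gA f a) {pB : W ⟶ X} {gB : W ⟶ B} {b : B ⟶ Y} (hB : IsPullback pB gB f b)
    (μ : B ⟶ A) (hμ : μ ≫ a = b) (h : P gA) : P gB := by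
  let m : W ⟶ Z := hA.lift pB (gB ≫ μ) (by rw [Category.assoc, hμ, hB.w])
  have hm : IsPullback m gB gA μ := by
    refine IsPullback.of_right (h₁₂ := pA) ?_ (hA.lift_snd _ _ _) hA
    rw [hA.lift_fst, hμ]
    exact hB
  exact MorphismProperty.of_isPullback hm h

/-- Universal openness descends over a quasi-compact target. -/
theorem exists_universallyOpen_descend {I : Type u} [SmallCategory I] [IsCofiltered I]
    (D : I ⥤ Scheme.{u}) (c : Limits.Cone D) (hc : Limits.IsLimit c)
    [∀ (i j : I) (a : i ⟶ j), IsAffineHom (D.map a)] (i₀ : I)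
    {X₀ Y₀ : Scheme.{u}} (f₀ : X₀ ⟶ Y₀) (g₀ : Y₀ ⟶ D.obj i₀) [CompactSpace Y₀]
    [LocallyOfFinitePresentation f₀] [QuasiCompact f₀] [QuasiSeparated f₀]
    {X Y : Scheme.{u}} (f : X ⟶ Y) (g : Y ⟶ c.pt) (qY : Y ⟶ Y₀) (qX : X ⟶ X₀)
    (hY : IsPullback qY g g₀ (c.π.app i₀)) (hX : IsPullback qX f f₀ qY) [UniversallyOpen f] :
    ∃ (i : I) (φ : i ⟶ i₀), UniversallyOpen (pullback.snd f₀ (pullback.fst g₀ (D.map φ))) := by
  classical
  let 𝒰 := Y₀.affineCover.finiteSubcover
  have H : ∀ k, ∃ (j : I) (φ : j ⟶ i₀), UniversallyOpen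
      (pullback.snd (pullback.snd f₀ (𝒰.f k)) (pullback.fst (𝒰.f k ≫ g₀) (D.map φ))) := fun k => by
    haveI : IsAffine (𝒰.X k) := inferInstanceAs (IsAffine (Y₀.affineCover.X _))
    have hY' := (IsPullback.of_hasPullback qY (𝒰.f k)).flip.paste_vert hY
    let f₀' := pullback.snd f₀ (𝒰.f k)
    let fW := pullback.snd f₀' (pullback.snd qY (𝒰.f k))
    haveI : UniversallyOpen fW := by
      refine of_isPullback_factor hX
        ((IsPullback.of_hasPullback f₀' (pullback.snd qY (𝒰.f k))).paste_horiz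
          (IsPullback.of_hasPullback f₀ (𝒰.f k))) (pullback.fst qY (𝒰.f k)) ?_ ‹UniversallyOpen f›
      exact pullback.condition
    exact EGA43.Limit.transfer' (Q := @LocallyOfFinitePresentation.{u}) (P := @UniversallyOpen.{u})
      f₀' (𝒰.f k ≫ g₀) inferInstance hY' (IsPullback.of_hasPullback f₀' _) ‹UniversallyOpen fW›
      fun f₁ _ _ h₁ sq => by
        haveI : IsIso (pullback.fst (𝒰.f k ≫ g₀) (D.map (Over.mk (𝟙 i₀)).hom)) := by
          have : IsIso (D.map (Over.mk (𝟙 i₀)).hom) := inferInstanceAs (IsIso (D.map (𝟙 i₀)))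
          infer_instance
        haveI : IsAffine ((EGA43.Limit.stage D (𝒰.f k ≫ g₀)).obj (Over.mk (𝟙 i₀))) :=
          IsAffine.of_isIso (pullback.fst (𝒰.f k ≫ g₀) (D.map (Over.mk (𝟙 i₀)).hom))
        exact descendsAffine_universallyOpen_fp (EGA43.Limit.stage D (𝒰.f k ≫ g₀))
          (EGA43.Limit.stageCone D c (𝒰.f k ≫ g₀) hY')
          (EGA43.Limit.isLimitStageCone D c (𝒰.f k ≫ g₀) hY' hc) (Over.mk (𝟙 i₀)) f₁ h₁ _ _ sq ‹UniversallyOpen fW›
  choose j φ hj using H
  haveI : Fintype 𝒰.I₀ := Fintype.ofFinite _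
  obtain ⟨l, hl⟩ := IsCofiltered.inf_objs_exists
    (insert (Over.mk (𝟙 i₀)) ((Finset.univ : Finset 𝒰.I₀).image fun k => Over.mk (φ k)))
  refine ⟨l.left, l.hom, ?_⟩
  rw [IsZariskiLocalAtTarget.iff_of_openCover (P := @UniversallyOpen.{u})
    (𝒰.pullback₁ (pullback.fst g₀ (D.map l.hom)))]
  intro (k : 𝒰.I₀)
  obtain ⟨χ⟩ := hl (Finset.mem_insert_of_mem
    (Finset.mem_image_of_mem (fun k => Over.mk (φ k)) (Finset.mem_univ k)))
  have hχ : χ.left ≫ φ k = l.hom := Over.w χ
  let μ : pullback (pullback.fst g₀ (D.map l.hom)) (𝒰.f k) ⟶ pullback (𝒰.f k ≫ g₀) (D.map (φ k)) :=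
    pullback.lift (pullback.snd _ _)
      (pullback.fst _ _ ≫ pullback.snd g₀ (D.map l.hom) ≫ D.map χ.left) (by
      simp only [Category.assoc, ← D.map_comp, hχ]
      rw [← pullback.condition_assoc, ← pullback.condition])
  refine of_isPullback_factor (P := @UniversallyOpen.{u})
    ((IsPullback.of_hasPullback (pullback.snd f₀ (𝒰.f k)) (pullback.fst (𝒰.f k ≫ g₀) (D.map (φ k)))).paste_horiz
      (IsPullback.of_hasPullback f₀ (𝒰.f k)))
    ((IsPullback.of_hasPullback (pullback.snd f₀ (pullback.fst g₀ (D.map l.hom))) _).paste_horiz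
      (IsPullback.of_hasPullback f₀ (pullback.fst g₀ (D.map l.hom)))) μ ?_ (hj k)
  show μ ≫ pullback.fst _ _ ≫ 𝒰.f k = pullback.fst (pullback.fst g₀ (D.map l.hom)) (𝒰.f k) ≫ pullback.fst g₀ _
  simp only [μ, pullback.lift_fst_assoc]
  exact pullback.condition.symm

end Groth.Agent.FlatMor12.UnivOpenLimit
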