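import Mathlib
import Groth.Prelude.Def_Hens2

/-! Elementary étale neighbourhoods. -/

set_option backward.isDefEq.respectTransparency false

universe u

namespace Groth.Agent.FlatMor12

open AlgebraicGeometry CategoryTheory Limits TensorProduct

attribute [local instance] Localization.AtPrime.algebraOfLiesOver

theorem residueFieldMap_specMap_bijective {A B : Type u} [CommRing A] [CommRing B] [Algebra A B]
    (p : Ideal A) [p.IsPrime] (P : Ideal B) [P.IsPrime] [P.LiesOver p]
    (h : Function.Bijective (Ideal.ResidueField.mapₐ p P (Algebra.ofId _ _) (P.over_def p))) :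
    Function.Bijective ((Spec.map (CommRingCat.ofHom (algebraMap A B))).residueFieldMap
      ⟨P, inferInstance⟩) := by
  obtain rfl : p = P.comap (algebraMap A B) := P.over_def p
  let R := CommRingCat.of A
  let R' := CommRingCat.of B
  let g : Spec R' ⟶ Spec R := Spec.map (CommRingCat.ofHom (algebraMap A B))
  let y : Spec R' := ⟨P, inferInstance⟩
  let M : CommRingCat.of (g y).asIdeal.ResidueField ⟶ CommRingCat.of y.asIdeal.ResidueField :=
    CommRingCat.ofHom (Ideal.ResidueField.mapₐ (P.comap (algebraMap A B)) P (Algebra.ofId _ _)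
      (P.over_def _)).toRingHom
  have hM : CommRingCat.ofHom (algebraMap R (g y).asIdeal.ResidueField) ≫ M =
      CommRingCat.ofHom (algebraMap A B) ≫ CommRingCat.ofHom (algebraMap R' y.asIdeal.ResidueField) := by
    ext a
    exact ((Ideal.ResidueField.mapₐ (P.comap (algebraMap A B)) P (Algebra.ofId A B)
      (P.over_def _)).commutes a).trans (IsScalarTower.algebraMap_apply A B _ a)
  have key : g.residueFieldMap y =
      (Scheme.Spec.residueFieldIso R (g y)).hom ≫ M ≫ (Scheme.Spec.residueFieldIso R' y).inv := by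
    rw [← Spec.map_inj, ← cancel_mono ((Spec R).fromSpecResidueField (g y)),
      Scheme.Hom.SpecMap_residueFieldMap_fromSpecResidueField,
      ← Scheme.Spec.map_residueFieldIso_inv_eq_fromSpecResidueField R',
      ← Scheme.Spec.map_residueFieldIso_inv_eq_fromSpecResidueField R]
    dsimp only [g]
    rw [Category.assoc, ← Spec.map_comp, ← Spec.map_comp, ← Spec.map_comp, ← Spec.map_comp,
      ← hM]
    simp only [Category.assoc, Iso.inv_hom_id_assoc]
    rfl
  change Function.Bijective (g.residueFieldMap y)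
  rw [key]
  exact ((Scheme.Spec.residueFieldIso R' y).symm.commRingCatIsoToRingEquiv.bijective).comp
    (h.comp (Scheme.Spec.residueFieldIso R (g y)).commRingCatIsoToRingEquiv.bijective)

variable {X S : Scheme.{u}} (f : X ⟶ S)

/-- An elementary étale neighbourhood has a section over the residue field. -/
theorem exists_section_of_isEtaleNbhd {U : Scheme.{u}} {g : U ⟶ S} {u : U} {s : S}
    (h : Hens2.IsEtaleNbhd g u s) :
    ∃ σ : Spec (S.residueField s) ⟶ U, σ ≫ g = S.fromSpecResidueField s ∧ ∀ y, σ y = u := by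
  obtain ⟨-, rfl, hb⟩ := h
  have : IsIso (g.residueFieldMap u) := (ConcreteCategory.isIso_iff_bijective _).2 hb
  refine ⟨Spec.map (inv (g.residueFieldMap u)) ≫ U.fromSpecResidueField u, ?_, fun y => ?_⟩
  · rw [Category.assoc, ← Scheme.Hom.SpecMap_residueFieldMap_fromSpecResidueField, ← Category.assoc,
      ← Spec.map_comp, IsIso.hom_inv_id, Spec.map_id, Category.id_comp]
  · rw [Scheme.Hom.comp_apply]
    exact Scheme.fromSpecResidueField_apply u _

/-- An étale morphism with a section over the residue field is an elementary étale neighbourhood. -/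
theorem isEtaleNbhd_of_section {U : Scheme.{u}} (g : U ⟶ S) [Etale g] (s : S)
    (σ : Spec (S.residueField s) ⟶ U) (hσ : σ ≫ g = S.fromSpecResidueField s) :
    Hens2.IsEtaleNbhd g (σ (IsLocalRing.closedPoint (S.residueField s))) s := by
  have hs : g (σ (IsLocalRing.closedPoint (S.residueField s))) = s := by
    rw [← Scheme.Hom.comp_apply, hσ]
    exact Scheme.fromSpecResidueField_apply s _
  refine ⟨inferInstance, hs, ?_⟩
  have hsurj : ∀ {T : Scheme.{u}} (F : Spec (S.residueField s) ⟶ T) [IsPreimmersion F] (c),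
      Function.Surjective (F.residueFieldMap c) := by
    intro T F _ c z
    obtain ⟨z', rfl⟩ := Scheme.residue_surjective _ _ z
    obtain ⟨w, rfl⟩ := F.stalkMap_surjective c z'
    exact ⟨T.residue _ w, congr(($(Scheme.residue_residueFieldMap F c)).hom w)⟩
  let c := IsLocalRing.closedPoint (S.residueField s)
  have hcomp : Function.Surjective ((σ ≫ g).residueFieldMap c) := by
    have : IsPreimmersion (σ ≫ g) := by rw [hσ]; infer_instance
    exact hsurj _ c
  refine ⟨RingHom.injective _, fun x => ?_⟩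
  obtain ⟨z, hz⟩ := hcomp (σ.residueFieldMap c x)
  rw [Scheme.residueFieldMap_comp] at hz
  exact ⟨z, (σ.residueFieldMap c).hom.injective hz⟩

/-- Over an elementary étale neighbourhood the fibres do not change. -/
theorem exists_fiber_iso {U : Scheme.{u}} {g : U ⟶ S} {u : U} {s : S}
    (h : Hens2.IsEtaleNbhd g u s) :
    ∃ φ : (pullback.snd f g).fiber u ⟶ f.fiber s, IsIso φ ∧
      φ ≫ f.fiberι s = (pullback.snd f g).fiberι u ≫ pullback.fst f g := by
  obtain ⟨-, rfl, hb⟩ := h
  have : IsIso (g.residueFieldMap u) := (ConcreteCategory.isIso_iff_bijective _).2 hb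
  have hsq := isPullback_fiberToSpecResidueField_of_isPullback (IsPullback.of_hasPullback f g) u
  refine ⟨_, hsq.isIso_fst_of_isIso, ?_⟩
  exact pullback.lift_fst _ _ _

theorem isFinite_sup {P V : Scheme.{u}} (π : P ⟶ V) [LocallyOfFiniteType π] [IsSeparated π]
    (A B : P.Opens) [IsFinite (A.ι ≫ π)] [IsFinite (B.ι ≫ π)] :
    IsFinite ((A ⊔ B).ι ≫ π) := by
  let p : A.toScheme ⨿ B.toScheme ⟶ (A ⊔ B).toScheme :=
    coprod.desc (P.homOfLE le_sup_left) (P.homOfLE le_sup_right)
  have : Surjective p := ⟨fun z => by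
    rcases z.2 with h | h
    · refine ⟨(coprod.inl : A.toScheme ⟶ _) ⟨z.1, h⟩, ?_⟩
      rw [← Scheme.Hom.comp_apply, coprod.inl_desc]
      exact Subtype.ext (Scheme.homOfLE_apply _ _)
    · refine ⟨(coprod.inr : B.toScheme ⟶ _) ⟨z.1, h⟩, ?_⟩
      rw [← Scheme.Hom.comp_apply, coprod.inr_desc]
      exact Subtype.ext (Scheme.homOfLE_apply _ _)⟩
  have : UniversallyClosed (p ≫ (A ⊔ B).ι ≫ π) := by
    rw [show p ≫ (A ⊔ B).ι ≫ π = coprod.desc (A.ι ≫ π) (B.ι ≫ π) by ext1 <;> simp [p]]
    infer_instance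
  have : UniversallyClosed ((A ⊔ B).ι ≫ π) := UniversallyClosed.of_comp_surjective p _
  have : IsProper ((A ⊔ B).ι ≫ π) := ⟨⟩
  have : LocallyQuasiFinite ((A ⊔ B).ι ≫ π) := by
    refine IsZariskiLocalAtSource.of_iSup_eq_top (P := @LocallyQuasiFinite)
      (fun b : Bool => (A ⊔ B).ι ⁻¹ᵁ (cond b A B)) ?_ fun b => ?_
    · rw [eq_top_iff]
      intro z _
      rcases z.2 with h | h
      · exact TopologicalSpace.Opens.mem_iSup.2 ⟨true, h⟩
      · exact TopologicalSpace.Opens.mem_iSup.2 ⟨false, h⟩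
    · rw [← morphismRestrict_ι_assoc]
      have : LocallyQuasiFinite ((cond b A B).ι ≫ π) := by cases b <;> dsimp only [cond] <;> infer_instance
      infer_instance
  exact IsFinite.of_isProper_of_locallyQuasiFinite _

theorem isFinite_finset_sup {P V : Scheme.{u}} (π : P ⟶ V) [LocallyOfFiniteType π] [IsSeparated π]
    {κ : Type*} (s : Finset κ) (U : κ → P.Opens) (h : ∀ k ∈ s, IsFinite ((U k).ι ≫ π)) :
    IsFinite ((s.sup U).ι ≫ π) := by
  classical
  induction s using Finset.induction_on with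
  | empty =>
    have : IsEmpty ((∅ : Finset κ).sup U).toScheme := ⟨fun q => by
      have key : ∀ p : P, p ∉ (∅ : Finset κ).sup U := fun p h => by
        rw [Finset.sup_empty] at h; exact h
      exact key q.1 q.2⟩
    infer_instance
  | @insert a t _ ih =>
    rw [Finset.sup_insert]
    have := h a (Finset.mem_insert_self _ _)
    have := ih fun k hk => h k (Finset.mem_insert_of_mem hk)
    exact isFinite_sup π _ _

set_option backward.defeqAttrib.useBackward true in
/-- A quasi-finite point has an elementary étale neighbourhood splitting off a finite clopen part. -/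
theorem exists_elementary_split [LocallyOfFiniteType f] [IsSeparated f] {x : X} {s : S}
    (h : f x = s) (hx : f.QuasiFiniteAt x) :
    ∃ (U : Scheme.{u}) (g : U ⟶ S) (u : U), Hens2.IsEtaleNbhd g u s ∧
      ∃ (V : (pullback f g).Opens) (v : ↑(pullback f g)), IsClopen (V : Set ↑(pullback f g)) ∧
        IsFinite (V.ι ≫ pullback.snd f g) ∧ v ∈ V ∧ pullback.fst f g v = x ∧
        pullback.snd f g v = u := by
  obtain ⟨_, ⟨U, hU, rfl⟩, hxU, -⟩ := S.isBasis_affineOpens.exists_subset_of_mem_open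
    (Set.mem_univ (f x)) isOpen_univ
  obtain ⟨_, ⟨V, hV, rfl⟩, hxV, hUV : V ≤ f ⁻¹ᵁ U⟩ :=
    X.isBasis_affineOpens.exists_subset_of_mem_open hxU (f ⁻¹ᵁ U).2
  have : (f.appLE U V hUV).hom.FiniteType := f.finiteType_appLE hU hV hUV
  algebraize [(f.appLE U V hUV).hom]
  have : (hV.primeIdealOf ⟨x, hxV⟩).asIdeal.LiesOver (hU.primeIdealOf ⟨f x, hxU⟩).asIdeal := by
    suffices hU.primeIdealOf ⟨f x, hxU⟩ = Spec.map (f.appLE U V hUV) (hV.primeIdealOf ⟨x, hxV⟩) from
      ⟨congr(($this).1)⟩
    apply hU.isoSpec.inv.homeomorph.injective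
    apply Subtype.ext
    simp only [IsAffineOpen.primeIdealOf, Scheme.Hom.homeomorph_apply,
      ← Scheme.Hom.comp_apply, ← Scheme.Opens.ι_apply, IsAffineOpen.isoSpec_hom]
    simp
  have : Algebra.QuasiFiniteAt Γ(S, U) (hV.primeIdealOf ⟨x, hxV⟩).asIdeal :=
    hx.quasiFiniteAt hV hU hUV hxV
  obtain ⟨R, _, _, _, P, _, hPp, e, _, P', _, _, hP', heP', hbij, _, -⟩ :=
    Algebra.exists_etale_isIdempotentElem_forall_liesOver_eq
    (hU.primeIdealOf ⟨f x, hxU⟩).asIdeal (hV.primeIdealOf ⟨x, hxV⟩).asIdeal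
  have : (algebraMap R (Localization.Away e)).Finite := RingHom.finite_algebraMap.mpr ‹_›
  let φ : Γ(S, U) ⟶ .of R := CommRingCat.ofHom <| algebraMap Γ(S, U) R
  have hφ : φ.hom.Etale := RingHom.etale_algebraMap.mpr ‹_›
  have : Etale (Spec.map φ) := HasRingHomProperty.Spec_iff.mpr hφ
  let e₁ : Spec (.of (R ⊗ Γ(X, V))) ≅ pullback (Spec.map (f.appLE U V hUV)) (Spec.map φ) :=
    (pullbackSpecIso _ _ _).symm ≪≫ pullbackSymmetry _ _
  have he₁ : e₁.hom ≫ pullback.fst _ _ =
      Spec.map (CommRingCat.ofHom Algebra.TensorProduct.includeRight.toRingHom) := by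
    dsimp [e₁, RingHom.algebraMap_toAlgebra]
    rw [Category.assoc, pullbackSymmetry_hom_comp_fst]
    exact pullbackSpecIso_inv_snd ..
  let g : Spec (.of (R ⊗[Γ(S, U)] Γ(X, V))) ⟶ pullback f (Spec.map φ ≫ hU.fromSpec) :=
    e₁.hom ≫ pullback.map _ _ _ _ hV.fromSpec (𝟙 _) hU.fromSpec
      (IsAffineOpen.SpecMap_appLE_fromSpec ..) (by simp)
  let W₁ := g ''ᵁ PrimeSpectrum.basicOpen e
  have : IsFinite (W₁.ι ≫ pullback.snd f _) := by
    let ι : Spec (.of (Localization.Away e)) ⟶ pullback f (Spec.map φ ≫ hU.fromSpec) :=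
      Spec.map (CommRingCat.ofHom <| algebraMap _ _) ≫ g
    have : ι.opensRange = W₁ := by
      simp only [Scheme.Hom.opensRange_comp, ι, W₁]
      congr 1
      exact TopologicalSpace.Opens.ext <| PrimeSpectrum.localization_away_comap_range _ _
    rw [← this, ← MorphismProperty.cancel_left_of_respectsIso @IsFinite
      (Scheme.Hom.isoOpensRange _).hom]
    have H : (pullbackSpecIso _ R _).inv ≫ pullback.fst _ (Spec.map (f.appLE U V hUV)) = _ :=
      pullbackSpecIso_inv_fst ..
    simpa [Scheme.Hom.isoOpensRange, ι, g, e₁, RingHom.algebraMap_toAlgebra, φ, H,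
      ← Spec.map_comp, IsFinite.SpecMap_iff]
  have : IsFinite W₁.ι := .of_comp _ (pullback.snd f _)
  let u : Spec (.of R) := ⟨P, ‹_›⟩
  have hu : hU.fromSpec (Spec.map φ u) = s := by
    dsimp [Spec.map_apply]
    convert! hU.fromSpec_primeIdealOf ⟨f x, hxU⟩
    · exact PrimeSpectrum.ext (Ideal.over_def _ _).symm
    · simp [h]
  refine ⟨Spec (.of R), Spec.map φ ≫ hU.fromSpec, u, ⟨inferInstance, hu, ?_⟩, W₁, g ⟨P', ‹_›⟩,
    ⟨?_, W₁.isOpen⟩, ‹_›, ⟨⟨P', ‹_›⟩, heP', rfl⟩, ?_, ?_⟩
  · rw [Scheme.residueFieldMap_comp]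
    have h1 := residueFieldMap_specMap_bijective (hU.primeIdealOf ⟨f x, hxU⟩).asIdeal P hbij
    have : IsIso (hU.fromSpec.residueFieldMap (Spec.map φ u)) := inferInstance
    exact Function.Bijective.comp (g := ⇑((Spec.map φ).residueFieldMap u)) h1
      ((ConcreteCategory.isIso_iff_bijective _).1 this)
  · simpa using W₁.ι.isClosedMap.isClosed_range
  · trans hV.fromSpec ⟨P'.comap Algebra.TensorProduct.includeRight.toRingHom, inferInstance⟩
    · simp [← Scheme.Hom.comp_apply, -Scheme.Hom.comp_base, g, reassoc_of% he₁]; rfl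
    convert! hV.fromSpec_primeIdealOf ⟨x, hxV⟩
  · have he₂ : e₁.hom ≫ pullback.snd _ _ =
        Spec.map (CommRingCat.ofHom Algebra.TensorProduct.includeLeftRingHom) := by
      dsimp [e₁]
      rw [Category.assoc]
      erw [pullbackSymmetry_hom_comp_snd]
      exact pullbackSpecIso_inv_fst ..
    trans (⟨P'.comap Algebra.TensorProduct.includeLeftRingHom, inferInstance⟩ : PrimeSpectrum R)
    · simp [← Scheme.Hom.comp_apply, -Scheme.Hom.comp_base, g, he₂]; rfl
    exact PrimeSpectrum.ext (P'.over_def P).symm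

/-- Pulling back a finite clopen part along a morphism of neighbourhoods. -/
theorem finite_part_baseChange {U U' : Scheme.{u}} {g : U ⟶ S} {g' : U' ⟶ S} (c : U' ⟶ U)
    (hc : c ≫ g = g') (V : (pullback f g).Opens) (hV : IsClopen (V : Set ↑(pullback f g)))
    (hfin : IsFinite (V.ι ≫ pullback.snd f g)) :
    ∃ V' : (pullback f g').Opens, IsClopen (V' : Set ↑(pullback f g')) ∧
      IsFinite (V'.ι ≫ pullback.snd f g') ∧
      ∀ (w : ↑(pullback f g')), (∀ v', pullback.snd f g v' = c (pullback.snd f g' w) →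
        pullback.fst f g v' = pullback.fst f g' w → v' ∈ V) → w ∈ V' := by
  subst hc
  let m : pullback f (c ≫ g) ⟶ pullback f g :=
    pullback.lift (pullback.fst _ _) (pullback.snd _ _ ≫ c) (by rw [pullback.condition, Category.assoc])
  have hm₁ : m ≫ pullback.fst f g = pullback.fst f (c ≫ g) := pullback.lift_fst _ _ _
  have hm₂ : m ≫ pullback.snd f g = pullback.snd f (c ≫ g) ≫ c := pullback.lift_snd _ _ _
  have hsq : IsPullback m (pullback.snd f (c ≫ g)) (pullback.snd f g) c := by
    refine IsPullback.of_right ?_ hm₂ (IsPullback.of_hasPullback f g)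
    rw [hm₁]
    exact IsPullback.of_hasPullback f (c ≫ g)
  refine ⟨m ⁻¹ᵁ V, ⟨hV.1.preimage m.continuous, (m ⁻¹ᵁ V).isOpen⟩,
    MorphismProperty.of_isPullback (P := @IsFinite)
      ((isPullback_morphismRestrict m V).flip.paste_horiz hsq.flip).flip hfin, fun w hw => ?_⟩
  exact hw (m w) (by rw [← Scheme.Hom.comp_apply, hm₂, Scheme.Hom.comp_apply])
    (by rw [← Scheme.Hom.comp_apply, hm₁])

theorem quasiFiniteAt_of_isOpen_fiber [LocallyOfFiniteType f] (s : S) (z : f.fiber s)
    (hz : IsOpen ({z} : Set ↑(f.fiber s))) : f.QuasiFiniteAt (f.fiberι s z) := by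
  obtain ⟨x, hx⟩ : ∃ x, f.fiberι s z = x := ⟨_, rfl⟩
  rw [hx]
  obtain rfl : f x = s := by
    rw [← hx]; exact (Set.mem_preimage.1 ((f.range_fiberι s).subset ⟨z, rfl⟩) :)
  rw [Scheme.Hom.quasiFiniteAt_iff_isOpen_singleton_asFiber]
  have : f.asFiber x = z := (f.fiberι _).isEmbedding.injective ((f.fiberι_asFiber x).trans hx.symm)
  rwa [this]

/-- Finitely many quasi-finite points of a fibre can be split off in an elementary étale
neighbourhood. -/
theorem exists_elementary_split_finset [LocallyOfFiniteType f] [IsSeparated f] (s : S)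
    (t : Finset X) (ht : ∀ x ∈ t, f x = s ∧ f.QuasiFiniteAt x) :
    ∃ (U : Scheme.{u}) (g : U ⟶ S) (u : U), Hens2.IsEtaleNbhd g u s ∧
      ∃ V : (pullback f g).Opens, IsClopen (V : Set ↑(pullback f g)) ∧
        IsFinite (V.ι ≫ pullback.snd f g) ∧
        ∀ w : ↑(pullback f g), pullback.snd f g w = u → pullback.fst f g w ∈ t → w ∈ V := by
  classical
  induction t using Finset.induction_on with
  | empty =>
    refine ⟨S, 𝟙 S, s, ?_, (∅ : Finset Unit).sup (fun _ => ⊥), by
        rw [Finset.sup_empty, TopologicalSpace.Opens.coe_bot]; exact isClopen_empty,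
      isFinite_finset_sup _ _ _ (by simp), fun w _ h => absurd h (Finset.notMem_empty _)⟩
    have := isEtaleNbhd_of_section (𝟙 S) s (S.fromSpecResidueField s) (Category.comp_id _)
    rwa [show S.fromSpecResidueField s _ = s from Scheme.fromSpecResidueField_apply s _] at this
  | @insert a t _ ih =>
    obtain ⟨U, g, u, hn, V, hV, hVfin, hcov⟩ := ih fun x hx => ht x (Finset.mem_insert_of_mem hx)
    obtain ⟨hfa, hqa⟩ := ht a (Finset.mem_insert_self _ _)
    obtain ⟨U', g', u', hn', V', v, hV', hV'fin, hvV, hv₁, hv₂⟩ := exists_elementary_split f hfa hqa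
    obtain ⟨σ, hσ, hσu⟩ := exists_section_of_isEtaleNbhd hn
    obtain ⟨σ', hσ', hσu'⟩ := exists_section_of_isEtaleNbhd hn'
    have := hn.etale
    have := hn'.etale
    let τ : Spec (S.residueField s) ⟶ pullback g g' := pullback.lift σ σ' (hσ.trans hσ'.symm)
    have hnW := isEtaleNbhd_of_section (pullback.fst g g' ≫ g) s τ (by
      rw [pullback.lift_fst_assoc, hσ])
    obtain ⟨A, hA, hAfin, hAmem⟩ := finite_part_baseChange f (pullback.fst g g') rfl V hV hVfin
    obtain ⟨B, hB, hBfin, hBmem⟩ := finite_part_baseChange f (g' := pullback.fst g g' ≫ g)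
      (pullback.snd g g') pullback.condition.symm V' hV' hV'fin
    refine ⟨_, _, _, hnW, A ⊔ B, ?_, isFinite_sup _ A B, fun w hw hwt => ?_⟩
    · rw [TopologicalSpace.Opens.coe_sup]
      exact hA.union hB
    have h₁ : pullback.fst g g' (pullback.snd f (pullback.fst g g' ≫ g) w) = u := by
      rw [hw, ← Scheme.Hom.comp_apply, pullback.lift_fst]; exact hσu _
    have h₂ : pullback.snd g g' (pullback.snd f (pullback.fst g g' ≫ g) w) = u' := by
      rw [hw, ← Scheme.Hom.comp_apply, pullback.lift_snd]; exact hσu' _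
    rcases Finset.mem_insert.1 hwt with h | h
    · refine Or.inr (hBmem w fun z hz₂ hz₁ => ?_)
      rw [h] at hz₁
      rw [h₂] at hz₂
      obtain ⟨φ, hφi, hφ⟩ := exists_fiber_iso f hn'
      obtain ⟨z', hz'⟩ : z ∈ Set.range ((pullback.snd f g').fiberι u') := by
        rw [Scheme.Hom.range_fiberι]; exact hz₂
      obtain ⟨v', hv'⟩ : v ∈ Set.range ((pullback.snd f g').fiberι u') := by
        rw [Scheme.Hom.range_fiberι]; exact hv₂
      have hzv : z' = v' := by
        refine φ.isOpenEmbedding.injective ((f.fiberι s).isEmbedding.injective ?_)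
        rw [← Scheme.Hom.comp_apply, ← Scheme.Hom.comp_apply, hφ, Scheme.Hom.comp_apply,
          Scheme.Hom.comp_apply, hz', hv', hz₁, hv₁]
      rw [← hz', hzv, hv']
      exact hvV
    · refine Or.inl (hAmem w fun z hz₂ hz₁ => hcov z (hz₂.trans h₁) ?_)
      rw [hz₁]; exact h

theorem exists_split_isolated [LocallyOfFiniteType f] [IsSeparated f] (s : S)
    (hfin : {x : ↑(f.fiber s) | IsOpen ({x} : Set ↑(f.fiber s))}.Finite) :
    ∃ (U : Scheme.{u}) (g : U ⟶ S) (u : U), Hens2.IsEtaleNbhd g u s ∧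
      ∃ V : (pullback f g).Opens, IsClopen (V : Set ↑(pullback f g)) ∧
        IsFinite (V.ι ≫ pullback.snd f g) ∧
        ∀ w : ↑((pullback.snd f g).fiber u), (pullback.snd f g).fiberι u w ∉ V →
          ¬ IsOpen ({w} : Set ↑((pullback.snd f g).fiber u)) := by
  classical
  obtain ⟨U, g, u, hn, V, hV, hVfin, hcov⟩ :=
    exists_elementary_split_finset f s (hfin.toFinset.image (f.fiberι s)) (by
      intro x hx
      obtain ⟨x', hx', rfl⟩ := Finset.mem_image.1 hx
      have hs : f (f.fiberι s x') = s :=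
        (Set.mem_preimage.1 ((f.range_fiberι s).subset ⟨x', rfl⟩) :)
      refine ⟨hs, ?_⟩
      rw [Set.Finite.mem_toFinset] at hx'
      exact quasiFiniteAt_of_isOpen_fiber f s x' hx')
  refine ⟨U, g, u, hn, V, hV, hVfin, fun w hw hopen => hw (hcov _ ?_ ?_)⟩
  · exact (Set.mem_preimage.1 (((pullback.snd f g).range_fiberι u).subset ⟨w, rfl⟩) :)
  obtain ⟨φ, hφi, hφ⟩ := exists_fiber_iso f hn
  refine Finset.mem_image.2 ⟨φ w, ?_, by rw [← Scheme.Hom.comp_apply, hφ, Scheme.Hom.comp_apply]⟩
  rw [Set.Finite.mem_toFinset]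
  show IsOpen ({φ w} : Set ↑(f.fiber s))
  rw [← Set.image_singleton]
  exact φ.isOpenEmbedding.isOpenMap _ hopen

end Groth.Agent.FlatMor12
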