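import Mathlib

/-!
# An algebra as the limit of the spectra of its finitely generated subalgebras containing given elements
-/

set_option autoImplicit false
set_option backward.isDefEq.respectTransparency.types false

universe u

open CategoryTheory Limits AlgebraicGeometry Opposite

namespace Groth.Agent.FlatMor12.MatchSystem

variable (A : Type u) [CommRing A] {H : Type u} [CommRing H] [Algebra A H] (G : Finset H)

/-- Subalgebras generated by `G` and a finite set. -/
noncomputable def sub (s : Finset H) : Subalgebra A H := Algebra.adjoin A ((G : Set H) ∪ (s : Set H))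

theorem sub_mono {s t : Finset H} (h : s ⊆ t) : sub A G s ≤ sub A G t :=
  Algebra.adjoin_mono (Set.union_subset_union_right _ (Finset.coe_subset.2 h))

theorem adjoin_le (s : Finset H) : Algebra.adjoin A (G : Set H) ≤ sub A G s :=
  Algebra.adjoin_mono Set.subset_union_left

/-- The diagram of subrings. -/
noncomputable def ringDiag : Finset H ⥤ CommRingCat.{u} where
  obj s := CommRingCat.of (sub A G s)
  map {s t} h := CommRingCat.ofHom (Subalgebra.inclusion (sub_mono A G (leOfHom h))).toRingHom
  map_id _ := by ext x; rfl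
  map_comp _ _ := by ext x; rfl

/-- The cocone with point `H`. -/
noncomputable def cocone : Cocone (ringDiag A G) where
  pt := CommRingCat.of H
  ι := { app := fun s ↦ CommRingCat.ofHom (sub A G s).val.toRingHom
         naturality := fun _ _ _ ↦ by ext x; rfl }

/-- `H` is the colimit. -/
noncomputable def isColimit : IsColimit (cocone A G) := by
  classical
  have : ReflectsColimit (ringDiag A G) (forget CommRingCat.{u}) :=
    reflectsColimit_of_reflectsIsomorphisms _ _
  refine isColimitOfReflects (forget CommRingCat.{u}) (Types.FilteredColimit.isColimitOf _ _ ?_ ?_)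
  · intro x
    exact ⟨{x}, ⟨x, Algebra.subset_adjoin (Or.inr (Finset.mem_coe.mpr (Finset.mem_singleton_self x)))⟩, rfl⟩
  · intro i j xi xj h
    exact ⟨i ∪ j, homOfLE Finset.subset_union_left, homOfLE Finset.subset_union_right, Subtype.ext h⟩

/-- The diagram of spectra. -/
noncomputable def diag : (Finset H)ᵒᵖ ⥤ Scheme.{u} := (ringDiag A G).op ⋙ Scheme.Spec

/-- The cone with point `Spec H`. -/
noncomputable def cone : Cone (diag A G) := Scheme.Spec.mapCone (cocone A G).op

/-- `Spec H` is the limit. -/
noncomputable def isLimit : IsLimit (cone A G) := isLimitOfPreserves Scheme.Spec (isColimit A G).op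

instance (j : (Finset H)ᵒᵖ) : IsAffine ((diag A G).obj j) := inferInstanceAs (IsAffine (Spec _))

instance (s : Finset H) : Algebra.FiniteType A (sub A G s) :=
  Algebra.FiniteType.adjoin_of_finite (G.finite_toSet.union s.finite_toSet)

variable {BT : Type u} [CommRing BT] (β : BT →+* H) (hβ : ∀ b, β b ∈ Algebra.adjoin A (G : Set H))

/-- `β` into a stage. -/
noncomputable def restr (s : Finset H) : BT →+* sub A G s :=
  β.codRestrict (sub A G s) fun b => adjoin_le A G s (hβ b)

/-- The compatible maps of stages to `Spec BT ⟶ T`. -/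
noncomputable def toTarget {T : Scheme.{u}} (f : Spec (CommRingCat.of BT) ⟶ T) :
    diag A G ⟶ (Functor.const (Finset H)ᵒᵖ).obj T where
  app j := Spec.map (CommRingCat.ofHom (restr A G β hβ j.unop)) ≫ f
  naturality i j h := by
    show Spec.map _ ≫ Spec.map _ ≫ f = (Spec.map _ ≫ f) ≫ 𝟙 T
    rw [Category.comp_id, ← Spec.map_comp_assoc]
    rfl

theorem π_toTarget {T : Scheme.{u}} (f : Spec (CommRingCat.of BT) ⟶ T) (j : (Finset H)ᵒᵖ) :
    (cone A G).π.app j ≫ (toTarget A G β hβ f).app j = Spec.map (CommRingCat.ofHom β) ≫ f := by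
  show Spec.map _ ≫ Spec.map _ ≫ f = _
  rw [← Spec.map_comp_assoc]
  rfl

/-- The compatible maps of stages to `Spec A ⟶ S`. -/
noncomputable def toBase {S : Scheme.{u}} (f : Spec (CommRingCat.of A) ⟶ S) :
    diag A G ⟶ (Functor.const (Finset H)ᵒᵖ).obj S where
  app j := Spec.map (CommRingCat.ofHom (algebraMap A (sub A G j.unop))) ≫ f
  naturality i j h := by
    show Spec.map _ ≫ Spec.map _ ≫ f = (Spec.map _ ≫ f) ≫ 𝟙 S
    rw [Category.comp_id, ← Spec.map_comp_assoc]
    rfl

theorem π_toBase {S : Scheme.{u}} (f : Spec (CommRingCat.of A) ⟶ S) (j : (Finset H)ᵒᵖ) :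
    (cone A G).π.app j ≫ (toBase A G f).app j = Spec.map (CommRingCat.ofHom (algebraMap A H)) ≫ f := by
  show Spec.map _ ≫ Spec.map _ ≫ f = _
  rw [← Spec.map_comp_assoc]
  rfl

end Groth.Agent.FlatMor12.MatchSystem
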