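import Groth.Agent.Synt15.LCIBridge
import Groth.Agent.Synt15.KoszulCI
import Groth.Agent.CAlgH.NLPerfect

/-!
# Morphisms Koszul at every point are locally of finite presentation; flat + lci = syntomic
-/

set_option autoImplicit false
set_option backward.isDefEq.respectTransparency false

universe u

open CategoryTheory CategoryTheory.Limits AlgebraicGeometry
open Groth.Agent.FlatMorKoszul

namespace Groth.Agent.FlatMor12.LCISyntomic

variable {X Y : Scheme.{u}}

theorem finitePresentation_of_isLCI {A B : Type u} [CommRing A] [CommRing B] [Algebra A B]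
    (h : LCI.IsLCI A B) : Algebra.FinitePresentation A B := by
  obtain ⟨-, n, α, hα, hI⟩ := h
  exact Algebra.FinitePresentation.of_surjective hα (CAlgH.NLPerfect.fg_of_isKoszulRegularIdeal hI)

theorem locallyOfFinitePresentation_of_isKoszulPt (f : X ⟶ Y) (h : ∀ x, IsKoszulPt f x) :
    LocallyOfFinitePresentation f := by
  choose U V hU hV e hxU hl using h
  refine (IsZariskiLocalAtSource.iff_of_openCover (X.openCoverOfIsOpenCover _ (TopologicalSpace.IsOpenCover.mk (u := U)
    (eq_top_iff.2 fun x _ => TopologicalSpace.Opens.mem_iSup.2 ⟨x, hxU x⟩)))).2 fun x => ?_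
  show LocallyOfFinitePresentation ((U x).ι ≫ f)
  rw [← IsAffineOpen.toSpecΓ_fromSpec_assoc (hU x), ← IsAffineOpen.SpecMap_appLE_fromSpec f (hV x) (hU x) (e x)]
  haveI : LocallyOfFinitePresentation (Spec.map (f.appLE (V x) (U x) (e x))) :=
    (HasRingHomProperty.Spec_iff (P := @LocallyOfFinitePresentation)).2
      (@finitePresentation_of_isLCI _ _ _ _ (f.appLE (V x) (U x) (e x)).hom.toAlgebra (hl x))
  haveI : IsIso (U x).toSpecΓ := by
    rw [← IsAffineOpen.isoSpec_hom (hU x)]; infer_instance
  infer_instance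

theorem flat_and_lci_iff (f : X ⟶ Y) :
    (Flat f ∧ ∀ x : X, Synt.IsKoszulAt f x) ↔ Synt.IsSyntomicMor f := by
  constructor
  · rintro ⟨hf, h⟩
    have := locallyOfFinitePresentation_of_isKoszulPt f fun x =>
      Synt15.isKoszulPt_of_isKoszulAt f (h x)
    exact Synt15.isSyntomicMor_of_isKoszulAt f h
  · intro h
    exact ⟨((Synt15.isSyntomicMor_iff f).1 h).1, Synt15.isKoszulAt_of_isSyntomicMor f h⟩

end Groth.Agent.FlatMor12.LCISyntomic
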