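import Groth.Agent.FlatMor12.KoszulSourceCore
import Groth.Agent.FlatMor12.LCISyntomic
import Groth.Agent.Synt15.Lift
import Groth.Agent.Synt15.Syntomic
import Groth.Agent.AlgSpLib.FppfSource
import Groth.Agent.Synt15.KoszulOfCI

/-!
# Local complete intersection morphisms descend along syntomic surjections of the source
-/

set_option autoImplicit false
set_option linter.style.haveILetI false

universe u

open MvPolynomial CategoryTheory AlgebraicGeometry
open Groth.Agent.FlatMorKoszul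

namespace Groth.Agent.FlatMor12.KoszulSource

variable {A B : Type u} [CommRing A] [CommRing B] [Algebra A B]

set_option backward.isDefEq.respectTransparency false in
/-- `A → B` is lci if it becomes lci after syntomic algebras covering `Spec B`. -/
theorem isLCI_of_syntomic_cover [Algebra.FinitePresentation A B]
    (h : ∀ p : PrimeSpectrum B, ∃ (C : Type u) (_ : CommRing C) (_ : Algebra B C) (_ : Algebra A C)
      (_ : IsScalarTower A B C), Synt.IsSyntomic B C ∧ LCI.IsLCI A C ∧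
        ∃ q : PrimeSpectrum C, PrimeSpectrum.comap (algebraMap B C) q = p) :
    LCI.IsLCI A B := by
  classical
  obtain ⟨n, α, hα, hIfg⟩ := Algebra.FinitePresentation.out (R := A) (A := B)
  refine ⟨inferInstance, n, α, hα, (isKoszulRegularIdeal_iff _).2 fun P0 hP0 => ?_⟩
  let P := MvPolynomial (Fin n) A
  let I : Ideal P := RingHom.ker α.toRingHom
  let e : (P ⧸ I) ≃+* B := RingHom.quotientKerEquivOfSurjective hα
  have he : ∀ x, e (Ideal.Quotient.mk I x) = α x := fun _ => rfl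
  haveI : (P0.asIdeal.map α.toRingHom).IsPrime := Ideal.map_isPrime_of_surjective hα hP0
  have hp : (P0.asIdeal.map α.toRingHom).comap α.toRingHom = P0.asIdeal := by
    rw [Ideal.comap_map_of_surjective α.toRingHom hα, ← RingHom.ker_eq_comap_bot, sup_eq_left.2 hP0]
  obtain ⟨C, _, _, _, _, hsyn, hlci, q, hq⟩ := h ⟨P0.asIdeal.map α.toRingHom, ‹_›⟩
  have hqp : q.asIdeal.comap (algebraMap B C) = P0.asIdeal.map α.toRingHom :=
    congrArg PrimeSpectrum.asIdeal hq
  obtain ⟨Q, _, hQ⟩ := Synt15.exists_fibre_point (R := B) q.asIdeal _ hqp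
  haveI := hsyn.1
  haveI := hsyn.2.1
  haveI : Module.Flat C (Localization.AtPrime q.asIdeal) := IsLocalization.flat _ q.asIdeal.primeCompl
  obtain ⟨g, hg, n0, c0, Fb, hFb, ⟨e0⟩⟩ := Synt15.exists_relGCI_nhd (R := B) q.asIdeal _ hqp
    (Module.Flat.trans B C (Localization.AtPrime q.asIdeal)) Q hQ
    (Synt15.isCIOver_of_isLCIOver (hsyn.2.2 ⟨P0.asIdeal.map α.toRingHom, ‹_›⟩) Q)
  let Cg := Localization.Away g
  let Fb' : Fin c0 → MvPolynomial (Fin n0) (P ⧸ I) := fun i => MvPolynomial.map e.symm.toRingHom (Fb i)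
  have hFb' : Synt.IsRelGCI (P ⧸ I) n0 c0 Fb' := Synt15.isRelGCI_map e.symm.toRingHom hFb
  let eR : Synt.RelGCIRing B n0 c0 Fb ≃+* Synt.RelGCIRing (P ⧸ I) n0 c0 Fb' :=
    Ideal.quotientEquiv _ _ (MvPolynomial.mapEquiv (Fin n0) e.symm) (by
      rw [Ideal.map_span, ← Set.range_comp]
      rfl)
  letI algI : Algebra (P ⧸ I) Cg := ((algebraMap B Cg).comp e.toRingHom).toAlgebra
  letI algP : Algebra P Cg := ((algebraMap B Cg).comp α.toRingHom).toAlgebra
  haveI : IsScalarTower P (P ⧸ I) Cg := ⟨fun x y z => by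
    obtain ⟨y, rfl⟩ := Ideal.Quotient.mk_surjective y
    show algebraMap B Cg (α (x * y)) * z = algebraMap B Cg (α x) * (algebraMap B Cg (α y) * z)
    rw [map_mul, map_mul, mul_assoc]⟩
  haveI : IsScalarTower A P Cg := IsScalarTower.of_algebraMap_eq fun a => by
    show algebraMap A Cg a = algebraMap B Cg (α (algebraMap A P a))
    rw [α.commutes, ← IsScalarTower.algebraMap_apply A B Cg]
  let eI : Cg ≃ₐ[P ⧸ I] Synt.RelGCIRing (P ⧸ I) n0 c0 Fb' :=
    AlgEquiv.ofRingEquiv (f := e0.toRingEquiv.trans eR) fun x => by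
      show eR (e0 (algebraMap B Cg (e x))) = _
      rw [e0.commutes]
      show Ideal.Quotient.mk _ (MvPolynomial.map e.symm.toRingHom (MvPolynomial.C (e x))) = _
      rw [MvPolynomial.map_C]
      show Ideal.Quotient.mk _ (MvPolynomial.C (e.symm (e x))) = _
      rw [e.symm_apply_apply]
      rfl
  obtain ⟨n', c', F, hF, ⟨e'⟩⟩ := Synt15.exists_relGCI_lift (B := Cg) I Fb' hFb' eI
  have hCg : LCI.IsLCI A Cg := isLCI_trans hlci (isLCI_away g)
  have h' := @isLCI_of_equiv A Cg (Synt.RelGCIRing P n' c' F ⧸ I.map (algebraMap P (Synt.RelGCIRing P n' c' F)))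
    _ _ _ _ _ (e'.restrictScalars A) hCg
  obtain ⟨qg, hqg⟩ : q ∈ Set.range (PrimeSpectrum.comap (algebraMap C Cg)) := by
    rw [PrimeSpectrum.localization_away_comap_range Cg g]; exact hg
  let S := Synt.RelGCIRing P n' c' F
  let mk' : S →+* Cg := e'.symm.toRingEquiv.toRingHom.comp (Ideal.Quotient.mk _)
  have hk := kAt_core I hIfg F hF h' (qg.asIdeal.comap mk') (fun x hx => by
    rw [Ideal.mem_comap]
    show e'.symm (Ideal.Quotient.mk _ x) ∈ qg.asIdeal
    rw [Ideal.Quotient.eq_zero_iff_mem.2 hx, map_zero]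
    exact zero_mem _)
  have hcomap : (qg.asIdeal.comap mk').comap (algebraMap P S) = P0.asIdeal := by
    have hm : mk'.comp (algebraMap P S) = (algebraMap C Cg).comp ((algebraMap B C).comp α.toRingHom) :=
      RingHom.ext fun x => by
        show e'.symm (Ideal.Quotient.mk _ (algebraMap P S x)) = _
        rw [← Ideal.Quotient.algebraMap_eq, ← IsScalarTower.algebraMap_apply, e'.symm.commutes]
        exact IsScalarTower.algebraMap_apply B C Cg (α x)
    rw [Ideal.comap_comap, hm, ← Ideal.comap_comap, ← Ideal.comap_comap,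
      show qg.asIdeal.comap (algebraMap C Cg) = q.asIdeal from congrArg PrimeSpectrum.asIdeal hqg, hqp, hp]
  rwa [hcomap] at hk

/-- Koszul at every point descends along syntomic surjections of the source. -/
theorem isKoszulAt_of_syntomic_precomp {X' X Y : Scheme.{u}} (g : X' ⟶ X) (hg : Synt.IsSyntomicMor g)
    [Surjective g] (f : X ⟶ Y) (h : ∀ x' : X', Synt.IsKoszulAt (g ≫ f) x') (x : X) :
    Synt.IsKoszulAt f x := by
  have hgfl := (Synt15.isSyntomicMor_iff g).1 hg
  haveI := hgfl.1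
  haveI := hgfl.2.1
  have hK := fun x' => Synt15.isKoszulPt_of_isKoszulAt _ (h x')
  haveI := AlgSpLib.lfp_of_comp_fppf g f
    (LCISyntomic.locallyOfFinitePresentation_of_isKoszulPt _ hK)
  refine Synt15.isKoszulAt_of_isKoszulPt f ?_
  obtain ⟨V, hV, hfx, -⟩ := exists_isAffineOpen_mem_and_subset (x := f x) (U := ⊤) trivial
  obtain ⟨U, hU, hxU, e⟩ := exists_isAffineOpen_mem_and_subset (x := x) (U := f ⁻¹ᵁ V) hfx
  refine ⟨U, V, hU, hV, e, hxU, ?_⟩
  letI algAB := (f.appLE V U e).hom.toAlgebra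
  haveI : Algebra.FinitePresentation Γ(Y, V) Γ(X, U) := f.finitePresentation_appLE hV hU e
  refine isLCI_of_syntomic_cover fun p => ?_
  obtain ⟨x', hx'⟩ := g.surjective (hU.fromSpec p)
  have hmem : g x' ∈ U := by rw [hx']; exact hU.range_fromSpec.le ⟨p, rfl⟩
  obtain ⟨U', hU', e', hxU', hs⟩ := Synt15.exists_syntomic_nhd (hg x') hU hmem
  letI algBC := (g.appLE U U' e').hom.toAlgebra
  letI algAC := ((g ≫ f).appLE V U' (e'.trans (g.preimage_mono e))).hom.toAlgebra
  haveI : IsScalarTower Γ(Y, V) Γ(X, U) Γ(X', U') := IsScalarTower.of_algebraMap_eq fun a =>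
    (congr($(Scheme.Hom.appLE_comp_appLE g f V U U' e e') a)).symm
  refine ⟨_, _, algBC, algAC, this, hs, Synt15.isLCI_appLE_of_isKoszulPt _ hK U' V hU' hV _,
    hU'.primeIdealOf ⟨x', hxU'⟩, ?_⟩
  refine hU.fromSpec.isOpenEmbedding.injective ?_
  show (Spec.map (g.appLE U U' e') ≫ hU.fromSpec) (hU'.primeIdealOf ⟨x', hxU'⟩) = hU.fromSpec p
  rw [IsAffineOpen.SpecMap_appLE_fromSpec g hU hU' e', Scheme.Hom.comp_apply,
    hU'.fromSpec_primeIdealOf, hx']

theorem lci_iff_of_syntomic_surjective {X' X Y : Scheme.{u}} (g : X' ⟶ X) (hg : Synt.IsSyntomicMor g)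
    [Surjective g] (f : X ⟶ Y) :
    (∀ x' : X', Synt.IsKoszulAt (g ≫ f) x') ↔ ∀ x : X, Synt.IsKoszulAt f x :=
  ⟨fun h x => isKoszulAt_of_syntomic_precomp g hg f h x, fun h x' =>
    Synt15.isKoszulAt_comp g f (Synt15.isKoszulAt_of_isSyntomicMor g hg x') (h (g x'))⟩

end Groth.Agent.FlatMor12.KoszulSource
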