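import Groth.Prelude.Def_Cyc
import Groth.Agent.FlatMorDim.Valuation
import Groth.Agent.FlatMorDim.LocalDim
import Groth.Agent.DimLib.Maximal
import Mathlib.RingTheory.Ideal.KrullsHeightTheorem
import Mathlib.AlgebraicGeometry.Morphisms.UniversallyOpen

/-! Local dimension along flat morphisms of given relative dimension. -/

universe u

set_option autoImplicit false
set_option backward.isDefEq.respectTransparency false

open TensorProduct AlgebraicGeometry CategoryTheory Limits TopologicalSpace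

namespace Groth.Agent.FlatMor12

open Groth.Agent Groth.Agent.EGA43.FibDepth

attribute [local instance] Algebra.TensorProduct.rightAlgebra

variable {A B : Type u} [CommRing A] [CommRing B] [Algebra A B] [Algebra.FiniteType A B]

theorem ringKrullDim_le_add [IsNoetherianRing A] (d : ℕ) (h : ∀ q : PrimeSpectrum B, trd A q ≤ d) :
    ringKrullDim B ≤ ringKrullDim A + d := by
  have : IsNoetherianRing B := Algebra.FiniteType.isNoetherianRing A B
  refine iSup_le fun l => ?_
  let P := l.last
  let p := P.asIdeal.comap (algebraMap A B)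
  have : P.asIdeal.LiesOver p := ⟨rfl⟩
  have hl : (l.length : ℕ∞) ≤ P.asIdeal.height := by
    rw [PrimeSpectrum.height_eq_orderHeight]
    exact Order.length_le_height le_rfl
  have h2 : (P.asIdeal.map (Ideal.Quotient.mk (p.map (algebraMap A B)))).height ≤ (d : ℕ∞) := by
    let π := Ideal.Quotient.mk (p.map (algebraMap A B))
    have hle : p.map (algebraMap A B) ≤ P.asIdeal := Ideal.map_comap_le
    have := Ideal.map_isPrime_of_surjective (f := π) Ideal.Quotient.mk_surjective (I := P.asIdeal)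
      (by rw [Ideal.mk_ker]; exact hle)
    let P' : PrimeSpectrum (B ⧸ p.map (algebraMap A B)) := ⟨P.asIdeal.map π, this⟩
    have hP' : (PrimeSpectrum.comap π P').asIdeal = P.asIdeal := by
      show (P.asIdeal.map π).comap π = _
      rw [Ideal.comap_map_of_surjective _ Ideal.Quotient.mk_surjective, ← RingHom.ker_eq_comap_bot,
        Ideal.mk_ker, sup_eq_left]
      exact hle
    rw [show P.asIdeal.map π = P'.asIdeal from rfl, PrimeSpectrum.height_eq_orderHeight]
    refine Order.height_le fun m hm => ?_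
    have hover : ∀ i, p = (PrimeSpectrum.comap π (m i)).asIdeal.comap (algebraMap A B) := by
      intro i
      refine le_antisymm (Ideal.map_le_iff_le_comap.1 (le_of_eq_of_le Ideal.mk_ker.symm
        (Ideal.comap_mono bot_le))) (Ideal.comap_mono ?_)
      rw [← hP', ← hm]
      exact Ideal.comap_mono (LTSeries.monotone m (Fin.le_last i))
    choose Q hQ using fun i => exists_prime_over (A := A) (p := p) (p.Fiber B) _ (hover i)
    let m' : LTSeries (PrimeSpectrum (p.Fiber B)) := LTSeries.mk m.length Q fun i j hij => by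
      have h1 : PrimeSpectrum.comap π (m i) < PrimeSpectrum.comap π (m j) :=
        RingHom.strictMono_comap_of_surjective Ideal.Quotient.mk_surjective (m.strictMono hij)
      refine lt_of_le_of_ne (le_of_comap_le (R := B) p (by rw [hQ, hQ]; exact h1.le)) fun e => h1.ne ?_
      rw [← hQ i, ← hQ j, e]
    have h3 := (Order.LTSeries.length_le_krullDim m').trans
      ((FlatMorDim.ringKrullDim_fiber_le_iff (A := A) (R := B) p d).2 fun q _ => h q)
    exact_mod_cast h3
  have h1 : (p.height : WithBot ℕ∞) ≤ ringKrullDim A :=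
    Ideal.height_le_ringKrullDim_of_ne_top (Ideal.IsPrime.ne_top inferInstance)
  calc (l.length : WithBot ℕ∞) ≤ ((p.height + (d : ℕ∞) : ℕ∞) : WithBot ℕ∞) :=
        WithBot.coe_le_coe.2 (hl.trans ((Ideal.height_le_height_add_of_liesOver p P.asIdeal).trans
          (add_le_add le_rfl h2)))
    _ ≤ ringKrullDim A + d := by
      rw [WithBot.coe_add]
      exact add_le_add h1 le_rfl

theorem add_le_ringKrullDim [Module.Flat A B] (d : ℕ)
    (hsurj : ∀ p : PrimeSpectrum A, ∃ q : PrimeSpectrum B, q.asIdeal.comap (algebraMap A B) = p.asIdeal)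
    (h : ∀ q : PrimeSpectrum B, (∀ q' : PrimeSpectrum B, q'.asIdeal ≤ q.asIdeal →
      q'.asIdeal.comap (algebraMap A B) = q.asIdeal.comap (algebraMap A B) → q' = q) → trd A q = d) :
    ringKrullDim A + d ≤ ringKrullDim B := by
  rcases isEmpty_or_nonempty (PrimeSpectrum A) with hA | hA
  · rw [show ringKrullDim A = ⊥ from Order.krullDim_eq_bot, WithBot.bot_add]
    exact bot_le
  suffices ∀ l : LTSeries (PrimeSpectrum A), ((l.length + d : ℕ) : WithBot ℕ∞) ≤ ringKrullDim B by
    induction hd : ringKrullDim A using WithBot.recBotCoe with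
    | bot => exact absurd hd (bot_lt_iff_ne_bot.1 (lt_of_lt_of_le (WithBot.bot_lt_coe 0) Order.krullDim_nonneg))
    | coe a =>
      induction a using ENat.recTopCoe with
      | top =>
        have hn : ∀ n : ℕ, (n : WithBot ℕ∞) ≤ ringKrullDim B := fun n => by
          obtain ⟨l, hl⟩ := Order.le_krullDim_iff.1 (show (n : WithBot ℕ∞) ≤ ringKrullDim A by
            rw [hd]; exact WithBot.coe_le_coe.2 le_top)
          exact le_trans (by rw [← hl]; exact_mod_cast Nat.le_add_right _ d) (this l)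
        obtain ⟨b, hb⟩ := WithBot.ne_bot_iff_exists.1 (bot_lt_iff_ne_bot.1
          (lt_of_lt_of_le (WithBot.bot_lt_coe 0) (hn 0)))
        have hbt : b = ⊤ := ENat.eq_top_iff_forall_ge.2 fun n =>
          WithBot.coe_le_coe.1 ((hn n).trans_eq hb.symm)
        have hB : ringKrullDim B = ⊤ := by
          rw [← hb, hbt]
          rfl
        rw [hB]; exact le_top
      | coe a =>
        obtain ⟨l, hl⟩ := Order.le_krullDim_iff.1 (le_of_eq hd.symm :
          ((a : ℕ) : WithBot ℕ∞) ≤ ringKrullDim A)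
        refine le_trans (le_of_eq ?_) (this l)
        rw [hl, Nat.cast_add]
        rfl
  intro l
  let p := l.last.asIdeal
  obtain ⟨q₀, hq₀⟩ := hsurj l.last
  obtain ⟨Q₀, -⟩ := exists_prime_over (A := A) (p := p) (p.Fiber B) q₀ hq₀.symm
  have : Nontrivial (p.Fiber B) := PrimeSpectrum.nonempty_iff_nontrivial.1 ⟨Q₀⟩
  obtain ⟨M, hM⟩ : (minimalPrimes (p.Fiber B)).Nonempty :=
    Set.nonempty_coe_sort.1 (Ideal.nonempty_minimalPrimes bot_ne_top)
  let Q : PrimeSpectrum (p.Fiber B) := ⟨M, hM.1.1⟩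
  have htrd : trd A (PrimeSpectrum.comap (algebraMap B (p.Fiber B)) Q) = d := by
    refine h _ fun q' hle hq' => ?_
    obtain ⟨Q', rfl⟩ := exists_prime_over (A := A) (p := p) (p.Fiber B) q'
      ((comap_algebraMap_eq (R := B) p Q).trans hq'.symm)
    have hle' := le_of_comap_le (R := B) p hle
    rw [show Q' = Q from PrimeSpectrum.ext (le_antisymm hle' (hM.2 ⟨Q'.isPrime, bot_le⟩ hle'))]
  have hdim : ((d : ℕ) : WithBot ℕ∞) ≤ ringKrullDim (p.Fiber B) := by
    have := ringKrullDim_quotient_eq_trd (A := A) (R := B) p Q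
    rw [htrd] at this
    exact this.ge.trans (ringKrullDim_quotient_le _)
  obtain ⟨m, hm⟩ := Order.le_krullDim_iff.1 hdim
  let m' : LTSeries (PrimeSpectrum B) := LTSeries.map m (PrimeSpectrum.comap (algebraMap B (p.Fiber B)))
    (fun Q₁ Q₂ h12 => lt_of_le_not_ge (Ideal.comap_mono h12.le) fun h21 =>
      h12.not_ge (le_of_comap_le (R := B) p h21))
  have : m'.head.asIdeal.LiesOver l.last.asIdeal := ⟨comap_algebraMap_eq (R := B) p m.head⟩
  obtain ⟨l', hl'len, hl', -⟩ := Ideal.exists_ltSeries_of_hasGoingDown (R := A) l m'.head.asIdeal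
  have h4 := Order.LTSeries.length_le_krullDim (l'.smash m' hl')
  simp only [RelSeries.smash_length, hl'len, m', LTSeries.map_length, hm] at h4
  exact h4

variable {X Y : Scheme.{u}} (f : X ⟶ Y) [LocallyOfFiniteType f]

theorem trd_of_hasRelDim {d : ℕ} (hd : Cyc.HasRelDim f d) {V : Y.Opens} (hV : IsAffineOpen V)
    {U : X.Opens} (hU : IsAffineOpen U) (e : U ≤ f ⁻¹ᵁ V) (q : PrimeSpectrum Γ(X, U)) :
    letI := (f.appLE V U e).hom.toAlgebra
    trd Γ(Y, V) q ≤ d ∧ ((∀ q' : PrimeSpectrum Γ(X, U), q'.asIdeal ≤ q.asIdeal →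
      q'.asIdeal.comap (algebraMap Γ(Y, V) Γ(X, U)) = q.asIdeal.comap (algebraMap Γ(Y, V) Γ(X, U)) →
        q' = q) → trd Γ(Y, V) q = d) := by
  let _ := (f.appLE V U e).hom.toAlgebra
  have hx : hU.fromSpec q ∈ U := hU.range_fromSpec.le ⟨q, rfl⟩
  have hq : hU.primeIdealOf ⟨hU.fromSpec q, hx⟩ = q :=
    hU.fromSpec.isOpenEmbedding.injective (hU.fromSpec_primeIdealOf ⟨_, hx⟩)
  generalize hU.fromSpec q = x at hx hq
  subst hq
  rw [← trdegHom_residueFieldMap f hV hU e hx]
  let π := f.fiberToSpecResidueField (f x)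
  have : LocallyOfFiniteType π :=
    inferInstanceAs (LocallyOfFiniteType (Limits.pullback.snd f (Y.fromSpecResidueField (f x))))
  have hmax := (DimLib.forall_components_iff (k := Y.residueField (f x)) π (fun t => t = (d : WithBot ℕ∞))).1 (hd (f x))
  let z := f.asFiber x
  have hz : DimLib.ptDim (k := Y.residueField (f x)) π z = DimLib.trdegHom (f.residueFieldMap x).hom := by
    rw [ptDim_fiber f, f.fiberι_asFiber]
  rw [← hz]
  constructor
  · obtain ⟨η, hη⟩ := QuasiSober.sober (S := irreducibleComponent z)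
      isIrreducible_irreducibleComponent isClosed_irreducibleComponent
    have hηm : ∀ w, w ⤳ η → η = w := fun w hw =>
      (((DimLib.mem_components_iff η).1 (hη.def.symm ▸ irreducibleComponent_mem_irreducibleComponents z) w hw).antisymm hw).eq
    refine (DimLib.ptDim_le_of_specializes π (hη.specializes mem_irreducibleComponent)).trans ?_
    exact_mod_cast (hmax η hηm).le
  · intro hmin
    refine Nat.cast_injective (R := WithBot ℕ∞) (hmax z fun w hw => ?_)
    apply (f.fiberι (f x)).isEmbedding.injective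
    rw [f.fiberι_asFiber]
    have hw1 : f.fiberι (f x) w ⤳ x := by
      have := hw.map (f.fiberι (f x)).continuous
      rwa [f.fiberι_asFiber] at this
    have hw2 : f (f.fiberι (f x) w) = f x := (f.range_fiberι (f x)).le ⟨w, rfl⟩
    have hwU := hw1.mem_open U.2 hx
    refine ((hU.fromSpec_primeIdealOf ⟨_, hwU⟩).symm.trans ((congrArg hU.fromSpec
      (hmin (hU.primeIdealOf ⟨_, hwU⟩) ?_ ?_)).trans (hU.fromSpec_primeIdealOf ⟨x, hx⟩))).symm
    · refine (PrimeSpectrum.le_iff_specializes _ _).2 ?_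
      rw [← hU.fromSpec.isOpenEmbedding.isInducing.specializes_iff, hU.fromSpec_primeIdealOf,
        hU.fromSpec_primeIdealOf]
      exact hw1
    · show Ideal.comap (f.appLE V U e).hom _ = Ideal.comap (f.appLE V U e).hom _
      rw [comap_primeIdealOf f hV hU e hwU, comap_primeIdealOf f hV hU e hx]
      congr 3

theorem topologicalKrullDim_affine {U : X.Opens} (hU : IsAffineOpen U) :
    topologicalKrullDim (U : Set X) = ringKrullDim Γ(X, U) := by
  rw [← PrimeSpectrum.topologicalKrullDim_eq_ringKrullDim]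
  exact IsHomeomorph.topologicalKrullDim_eq _ hU.isoSpec.hom.homeomorph.isHomeomorph

theorem topologicalKrullDim_mono {S T : Set X} (h : S ⊆ T) :
    topologicalKrullDim S ≤ topologicalKrullDim T :=
  (Topology.IsEmbedding.inclusion h).isInducing.topologicalKrullDim_le

theorem localDim_eq_add [IsLocallyNoetherian Y] [Flat f] {d : ℕ} (hd : Cyc.HasRelDim f d) (x : X) :
    FlatMor.localDim X x = FlatMor.localDim Y (f x) + (d : WithBot ℕ∞) := by
  apply le_antisymm
  · have : Nonempty {W : Opens Y // f x ∈ W} := ⟨⟨⊤, trivial⟩⟩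
    obtain ⟨⟨W, hW⟩, hWeq⟩ := ciInf_mem fun W : {W : Opens Y // f x ∈ W} => topologicalKrullDim (W.1 : Set Y)
    rw [show FlatMor.localDim Y (f x) = topologicalKrullDim (W : Set Y) from hWeq.symm]
    obtain ⟨V, hV, hxV, hVW⟩ := exists_isAffineOpen_mem_and_subset (x := f x) (U := (W : Y.Opens)) hW
    obtain ⟨U, hU, hxU, hUV'⟩ := exists_isAffineOpen_mem_and_subset (x := x) (U := f ⁻¹ᵁ V) hxV
    have e : U ≤ f ⁻¹ᵁ V := hUV'
    algebraize [(f.appLE V U e).hom]
    have : Algebra.FiniteType Γ(Y, V) Γ(X, U) := LocallyOfFiniteType.finiteType_appLE f hV hU e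
    have : IsNoetherianRing Γ(Y, V) := IsLocallyNoetherian.component_noetherian ⟨V, hV⟩
    refine (iInf_le _ (⟨U, hxU⟩ : {U : Opens X // x ∈ U})).trans ?_
    rw [topologicalKrullDim_affine hU]
    refine (ringKrullDim_le_add (A := Γ(Y, V)) d fun q => (trd_of_hasRelDim f hd hV hU e q).1).trans ?_
    rw [← topologicalKrullDim_affine hV]
    exact add_le_add (topologicalKrullDim_mono hVW) le_rfl
  · refine le_iInf fun ⟨W, hW⟩ => ?_
    obtain ⟨V, hV, hxV, -⟩ := exists_isAffineOpen_mem_and_subset (x := f x) (U := ⊤) (Set.mem_univ _)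
    obtain ⟨U, hU, hxU, hUV'⟩ := exists_isAffineOpen_mem_and_subset (x := x) (U := (W : X.Opens) ⊓ f ⁻¹ᵁ V) ⟨hW, hxV⟩
    have : LocallyOfFinitePresentation f := inferInstance
    have hopen : IsOpen (f '' U) := f.isOpenMap _ U.2
    obtain ⟨a, ha, hxa⟩ := hV.exists_basicOpen_le (V := ⟨f '' U, hopen⟩) ⟨f x, x, hxU, rfl⟩ hxV
    let V' := Y.basicOpen a
    have hV' : IsAffineOpen V' := hV.basicOpen a
    have eU : U ≤ f ⁻¹ᵁ V := fun y hy => (hUV' hy).2
    let U' := X.basicOpen (f.appLE V U eU a)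
    have hU' : IsAffineOpen U' := hU.basicOpen _
    have hU'eq : U' = U ⊓ f ⁻¹ᵁ V' := by
      simp only [U', V', Scheme.Hom.appLE, CommRingCat.comp_apply, Scheme.basicOpen_res,
        Scheme.preimage_basicOpen]
    have e : U' ≤ f ⁻¹ᵁ V' := hU'eq ▸ inf_le_right
    algebraize [(f.appLE V' U' e).hom]
    have : Algebra.FiniteType Γ(Y, V') Γ(X, U') := LocallyOfFiniteType.finiteType_appLE f hV' hU' e
    have : Module.Flat Γ(Y, V') Γ(X, U') := Flat.flat_appLE f hV' hU' e
    have hsurj : ∀ p : PrimeSpectrum Γ(Y, V'),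
        ∃ q : PrimeSpectrum Γ(X, U'), q.asIdeal.comap (algebraMap Γ(Y, V') Γ(X, U')) = p.asIdeal := by
      intro p
      have hp : hV'.fromSpec p ∈ V' := hV'.range_fromSpec.le ⟨p, rfl⟩
      obtain ⟨z, hz, hzp⟩ := ha hp
      have hz' : z ∈ U' := by
        rw [hU'eq]; exact ⟨hz, show f z ∈ V' by rw [hzp]; exact hp⟩
      refine ⟨hU'.primeIdealOf ⟨z, hz'⟩, ?_⟩
      show Ideal.comap (f.appLE V' U' e).hom _ = _
      rw [comap_primeIdealOf f hV' hU' e hz']
      congr 1
      apply hV'.fromSpec.isOpenEmbedding.injective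
      rw [hV'.fromSpec_primeIdealOf]
      exact hzp
    refine le_trans ?_ (topologicalKrullDim_mono (S := (U' : Set X)) fun y hy =>
      (hUV' (X.basicOpen_le _ hy)).1)
    rw [topologicalKrullDim_affine hU']
    refine le_trans (add_le_add ?_ le_rfl)
      (add_le_ringKrullDim (A := Γ(Y, V')) d hsurj fun q => (trd_of_hasRelDim f hd hV' hU' e q).2)
    exact (iInf_le _ (⟨V', hxa⟩ : {U : Opens Y // f x ∈ U})).trans (topologicalKrullDim_affine hV').le

end Groth.Agent.FlatMor12
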