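import Groth.Agent.ModStalk.Pullback
import Groth.Agent.Props12.Stalks
import Groth.Agent.Props12.FinLocFree
import Groth.Agent.EGA43.QcohFP
import Groth.Agent.EGA43.InjFibre.Scheme
import Groth.Agent.Desc19b.ModStFibGrpd
import Groth.Prelude.Def_FlatMod2
import Mathlib.RingTheory.Flat.EquationalCriterion
import Mathlib.RingTheory.Flat.FaithfullyFlat.Basic

/-!
# The free locus of a flat finitely presented module commutes with base change
-/

set_option autoImplicit false
set_option backward.isDefEq.respectTransparency false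

universe u

open CategoryTheory CategoryTheory.Limits AlgebraicGeometry TensorProduct

namespace Groth.Agent.FlatMor12.FreeLocusBC

section Algebra

variable {R A : Type u} [CommRing R] [CommRing A] [IsLocalRing A] [Algebra R A]
variable {M : Type u} [AddCommGroup M] [Module A M] [Module R M] [IsScalarTower R A M]

/-- A module flat over the base which is free on the closed fibre is free. -/
theorem free_of_fibre {B : Type u} [CommRing B] [Algebra A B] [Module.FinitePresentation A M]
    [Module.Flat R M] (𝔪 : Ideal R) (hsurj : Function.Surjective (algebraMap A B))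
    (hker : RingHom.ker (algebraMap A B) = 𝔪.map (algebraMap R A))
    (hmax : 𝔪.map (algebraMap R A) ≤ IsLocalRing.maximalIdeal A)
    (hfree : Module.Free B (B ⊗[A] M)) : Module.Free A M := by
  classical
  let I : Ideal A := 𝔪.map (algebraMap R A)
  let q : M →ₗ[A] B ⊗[A] M := TensorProduct.mk A B M 1
  have hq : Function.Surjective q := TensorProduct.mk_surjective A M B hsurj
  let e : (A ⧸ I) ≃ₐ[A] B := (Ideal.quotientEquivAlgOfEq A hker.symm).trans
    (Ideal.quotientKerAlgEquivOfSurjective (f := Algebra.ofId A B) hsurj)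
  have hq0 : ∀ m, q m = 0 → m ∈ I • (⊤ : Submodule A M) := by
    intro m hm
    have h1 := congrArg (TensorProduct.congr e.symm.toLinearEquiv (LinearEquiv.refl A M)) hm
    rw [map_zero] at h1
    change e.symm (1 : B) ⊗ₜ[A] m = 0 at h1
    rw [map_one] at h1
    have h2 := congrArg (TensorProduct.quotTensorEquivQuotSMul M I) h1
    rw [map_zero] at h2
    erw [TensorProduct.quotTensorEquivQuotSMul_mk_tmul, one_smul] at h2
    exact (Submodule.Quotient.mk_eq_zero _).1 h2
  let b := Module.Free.chooseBasis B (B ⊗[A] M)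
  choose m hm using fun i => hq (b i)
  let p : (Module.Free.ChooseBasisIndex B (B ⊗[A] M) → A) →ₗ[A] M := Fintype.linearCombination A m
  have hpq : ∀ x, q (p x) = ∑ i, algebraMap A B (x i) • b i := fun x => by
    simp only [p, Fintype.linearCombination_apply, map_sum, map_smul, hm]
    exact Finset.sum_congr rfl fun i _ => (IsScalarTower.algebraMap_smul B (x i) (b i)).symm
  have hI : I ≤ (⊥ : Ideal A).jacobson := by
    rw [IsLocalRing.jacobson_eq_maximalIdeal ⊥ bot_ne_top]; exact hmax
  have hp : Function.Surjective p := by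
    rw [← LinearMap.range_eq_top]
    refine top_le_iff.1 (Submodule.le_of_le_smul_of_le_jacobson_bot Module.Finite.fg_top hI ?_)
    intro y _
    obtain ⟨x, hx⟩ : ∃ x, q (p x) = q y := by
      choose a ha using fun i => hsurj (b.repr (q y) i)
      exact ⟨a, by rw [hpq]; simp_rw [ha]; exact b.sum_repr (q y)⟩
    refine Submodule.mem_sup.2 ⟨p x, LinearMap.mem_range_self p x, y - p x, hq0 _ ?_, by abel⟩
    rw [map_sub, hx, sub_self]
  let K := LinearMap.ker p
  have hK : K.FG := Module.FinitePresentation.fg_ker p hp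
  have hmain : K ≤ I • K := by
    intro x hx
    have h0 : ∑ i, algebraMap A B (x i) • b i = 0 := by rw [← hpq, LinearMap.mem_ker.1 hx, map_zero]
    have hxI : ∀ i, x i ∈ I := fun i =>
      hker.le (Fintype.linearIndependent_iff.1 b.linearIndependent _ h0 i)
    have hmem : x ∈ 𝔪 • (⊤ : Submodule R (Module.Free.ChooseBasisIndex B (B ⊗[A] M) → A)) := by
      rw [← Finset.univ_sum_single x]
      refine Submodule.sum_mem _ fun i _ => ?_
      have hi : x i ∈ (𝔪 • (⊤ : Submodule R A)) := by
        rw [Ideal.smul_top_eq_map]; exact hxI i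
      have := Submodule.mem_map_of_mem
        (f := LinearMap.single R (fun _ : Module.Free.ChooseBasisIndex B (B ⊗[A] M) => A) i) hi
      rw [Submodule.map_smul''] at this
      exact Submodule.smul_mono le_rfl le_top this
    obtain ⟨n, c, v, hcv, hc⟩ : ∃ (n : ℕ) (c : Fin n → R)
        (v : Fin n → (Module.Free.ChooseBasisIndex B (B ⊗[A] M) → A)),
        x = ∑ k, c k • v k ∧ ∀ k, c k ∈ 𝔪 := by
      clear hx h0 hxI
      induction hmem using Submodule.smul_induction_on' with
      | smul a ha w _ => exact ⟨1, fun _ => a, fun _ => w, by simp, fun _ => ha⟩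
      | add y _ z _ hy hz =>
        obtain ⟨n, c, v, rfl, hc⟩ := hy
        obtain ⟨n', c', v', rfl, hc'⟩ := hz
        exact ⟨n + n', Fin.append c c', Fin.append v v', by simp [Fin.sum_univ_add],
          Fin.addCases (fun i => by simpa using hc i) (fun i => by simpa using hc' i)⟩
    have hrel : ∑ k, c k • p (v k) = 0 := by
      rw [← LinearMap.mem_ker.1 hx, hcv, map_sum]
      exact Finset.sum_congr rfl fun k _ => (LinearMap.map_smul_of_tower p (c k) (v k)).symm
    obtain ⟨l, a, z, hz, ha⟩ := Module.Flat.isTrivialRelation_of_sum_smul_eq_zero hrel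
    choose w hw using fun j => hp (z j)
    have hk : ∀ k, v k - ∑ j, a k j • w j ∈ K := fun k => by
      rw [LinearMap.mem_ker, map_sub, map_sum]
      simp only [LinearMap.map_smul_of_tower, hw]
      rw [← hz, sub_self]
    have hx' : x = ∑ k, algebraMap R A (c k) • (v k - ∑ j, a k j • w j) := by
      simp only [IsScalarTower.algebraMap_smul, smul_sub, Finset.sum_sub_distrib, Finset.smul_sum,
        smul_smul]
      rw [Finset.sum_comm]
      simp only [← Finset.sum_smul, ha, zero_smul, Finset.sum_const_zero, sub_zero]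
      exact hcv
    rw [hx']
    exact Submodule.sum_mem _ fun k _ =>
      Submodule.smul_mem_smul (Ideal.mem_map_of_mem _ (hc k)) (hk k)
  have hbot : K = ⊥ := Submodule.eq_bot_of_le_smul_of_le_jacobson_bot I K hK hmain hI
  exact Module.Free.of_equiv (LinearEquiv.ofBijective p ⟨LinearMap.ker_eq_bot.1 hbot, hp⟩)

end Algebra

section Scheme

variable {X Y S : Scheme.{u}}

theorem finitePresentation_stalk (M : X.Modules) [Coh.IsQCoh M] (hM : CohB1.IsFP M) (x : X) :
    Module.FinitePresentation (X.presheaf.stalk x) (M.presheaf.stalk x) := by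
  obtain ⟨U, hU, hx, -⟩ := exists_isAffineOpen_mem_and_subset (x := x) (U := ⊤) trivial
  have := EGA43.QcohFP.finitePresentation_sections M hM hU
  let _ := (X.presheaf.germ U x hx).hom.toAlgebra
  let _ := Module.compHom (M.presheaf.stalk x) (X.presheaf.germ U x hx).hom
  have : IsScalarTower Γ(X, U) (X.presheaf.stalk x) (M.presheaf.stalk x) :=
    IsScalarTower.of_algebraMap_smul fun _ _ => rfl
  let φ : Γ(M, U) →ₗ[Γ(X, U)] M.presheaf.stalk x :=
    { toFun := M.presheaf.germ U x hx
      map_add' := map_add _
      map_smul' := QCohLoc.germ_smul' (M := M) hx }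
  have := EGA43.QcohFP.isLocalizedModule_germ M hU hx φ fun _ => rfl
  haveI : IsLocalization (hU.primeIdealOf ⟨x, hx⟩).asIdeal.primeCompl (X.presheaf.stalk x) :=
    hU.isLocalization_stalk ⟨x, hx⟩
  exact FinitePresentation.of_isBaseChange φ
    (IsLocalizedModule.isBaseChange (hU.primeIdealOf ⟨x, hx⟩).asIdeal.primeCompl _ φ)

theorem free_stalk_of_iso {M N : X.Modules} (e : M ≅ N) (x : X)
    (h : Module.Free (X.presheaf.stalk x) (M.presheaf.stalk x)) :
    Module.Free (X.presheaf.stalk x) (N.presheaf.stalk x) :=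
  haveI := h
  let l : M.presheaf.stalk x ≃ₗ[X.presheaf.stalk x] N.presheaf.stalk x :=
    ((DerSch.stalkFunctor X x).mapIso e).toLinearEquiv
  Module.Free.of_equiv l

/-- The stalk of a pullback as a tensor product. -/
noncomputable def stalkTensor (f : Y ⟶ X) (M : X.Modules) (y : Y) :
    letI := (f.stalkMap y).hom.toAlgebra
    ((Scheme.Modules.pullback f).obj M).presheaf.stalk y ≃ₗ[Y.presheaf.stalk y]
      Y.presheaf.stalk y ⊗[X.presheaf.stalk (f y)] M.presheaf.stalk (f y) :=
  ((ModStalk.pullbackStalkIso f y).app M).toLinearEquiv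

theorem free_stalk_pullback (f : Y ⟶ X) (M : X.Modules) (y : Y)
    (h : Module.Free (X.presheaf.stalk (f y)) (M.presheaf.stalk (f y))) :
    Module.Free (Y.presheaf.stalk y) (((Scheme.Modules.pullback f).obj M).presheaf.stalk y) := by
  let _ := (f.stalkMap y).hom.toAlgebra
  haveI := h
  exact Module.Free.of_equiv (stalkTensor f M y).symm

theorem free_stalk_of_flat (f : Y ⟶ X) [Flat f] (M : X.Modules) [Coh.IsQCoh M] (hM : CohB1.IsFP M)
    (y : Y) (h : Module.Free (Y.presheaf.stalk y) (((Scheme.Modules.pullback f).obj M).presheaf.stalk y)) :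
    Module.Free (X.presheaf.stalk (f y)) (M.presheaf.stalk (f y)) := by
  let _ := (f.stalkMap y).hom.toAlgebra
  haveI := h
  haveI : Module.Free (Y.presheaf.stalk y) (Y.presheaf.stalk y ⊗[X.presheaf.stalk (f y)] M.presheaf.stalk (f y)) :=
    Module.Free.of_equiv (stalkTensor f M y)
  haveI : Module.Flat (X.presheaf.stalk (f y)) (Y.presheaf.stalk y) := Flat.stalkMap f y
  haveI : IsLocalHom (algebraMap (X.presheaf.stalk (f y)) (Y.presheaf.stalk y)) :=
    inferInstanceAs (IsLocalHom (f.stalkMap y).hom)
  haveI := Module.FaithfullyFlat.of_flat_of_isLocalHom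
    (A := X.presheaf.stalk (f y)) (B := Y.presheaf.stalk y)
  haveI := Module.Flat.of_flat_tensorProduct (X.presheaf.stalk (f y)) (M.presheaf.stalk (f y))
    (Y.presheaf.stalk y)
  haveI := finitePresentation_stalk M hM (f y)
  exact Module.free_of_flat_of_isLocalRing

theorem free_stalk_of_fibre (f : X ⟶ S) (M : X.Modules) [Coh.IsQCoh M] (hM : CohB1.IsFP M) (s : S)
    (y : ↥(f.fiber s)) (hfl : FlatMod.IsFlatOverAt f M (f.fiberι s y))
    (h : Module.Free ((f.fiber s).presheaf.stalk y)
      (((Scheme.Modules.pullback (f.fiberι s)).obj M).presheaf.stalk y)) :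
    Module.Free (X.presheaf.stalk (f.fiberι s y)) (M.presheaf.stalk (f.fiberι s y)) := by
  set x := f.fiberι s y
  let _ := ((f.fiberι s).stalkMap y).hom.toAlgebra
  let _ := (f.stalkMap x).hom.toAlgebra
  let _ := FlatMod.moduleStalkOver f M x
  haveI : IsScalarTower (S.presheaf.stalk (f x)) (X.presheaf.stalk x) (M.presheaf.stalk x) :=
    IsScalarTower.of_algebraMap_smul fun _ _ => rfl
  haveI : Module.Flat (S.presheaf.stalk (f x)) (M.presheaf.stalk x) := hfl
  haveI := finitePresentation_stalk M hM x
  haveI := h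
  obtain ⟨hs, hk⟩ := Props12.stalkMap_fiberι f s y
  exact free_of_fibre (B := (f.fiber s).presheaf.stalk y) (IsLocalRing.maximalIdeal _) hs hk
    (Ideal.map_le_iff_le_comap.2 fun b hb => map_nonunit (f.stalkMap x).hom b hb)
    (Module.Free.of_equiv (stalkTensor (f.fiberι s) M y))

variable {X' S' : Scheme.{u}}

theorem free_stalk_iff (f : X ⟶ S) (M : X.Modules) [Coh.IsQCoh M] (hM : CohB1.IsFP M)
    (hfl : FlatMod.IsFlatOver f M) (g : S' ⟶ S) (f' : X' ⟶ S') (g' : X' ⟶ X)
    (hc : IsPullback g' f' f g) (x' : X') :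
    Module.Free (X'.presheaf.stalk x') (((Scheme.Modules.pullback g').obj M).presheaf.stalk x') ↔
      Module.Free (X.presheaf.stalk (g' x')) (M.presheaf.stalk (g' x')) := by
  refine ⟨fun h => ?_, free_stalk_pullback g' M x'⟩
  let s' := f' x'
  obtain ⟨y', hy'⟩ : x' ∈ Set.range (f'.fiberι s') := (f'.range_fiberι s').ge rfl
  let s := g s'
  let l : f'.fiber s' ⟶ f.fiber s :=
    pullback.lift (f'.fiberι s' ≫ g') (f'.fiberToSpecResidueField s' ≫ Spec.map (g.residueFieldMap s'))
      (by
        simp only [Category.assoc, hc.w]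
        rw [Scheme.Hom.SpecMap_residueFieldMap_fromSpecResidueField]
        exact pullback.condition_assoc g)
  have hl : l ≫ f.fiberι s = f'.fiberι s' ≫ g' := pullback.lift_fst _ _ _
  have hl2 : l ≫ f.fiberToSpecResidueField s =
      f'.fiberToSpecResidueField s' ≫ Spec.map (g.residueFieldMap s') := pullback.lift_snd _ _ _
  haveI : Flat (Spec.map (g.residueFieldMap s')) := by
    rw [Flat.SpecMap_iff]
    let := (g.residueFieldMap s').hom.toAlgebra
    exact RingHom.flat_algebraMap_iff.2
      (inferInstance : Module.Flat (S.residueField s) (S'.residueField s'))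
  haveI : Flat l := by
    have h1 : IsPullback (f'.fiberι s' ≫ g') (f'.fiberToSpecResidueField s') f
        (Spec.map (g.residueFieldMap s') ≫ S.fromSpecResidueField s) := by
      rw [Scheme.Hom.SpecMap_residueFieldMap_fromSpecResidueField]
      exact (IsPullback.of_hasPullback f' (S'.fromSpecResidueField s')).paste_horiz hc
    have h2 : IsPullback l (f'.fiberToSpecResidueField s') (f.fiberToSpecResidueField s)
        (Spec.map (g.residueFieldMap s')) :=
      IsPullback.of_right (by show IsPullback (l ≫ f.fiberι s) _ _ _; rw [hl]; exact h1) hl2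
        (IsPullback.of_hasPullback f (S.fromSpecResidueField s))
    exact MorphismProperty.of_isPullback (P := @Flat) h2.flip ‹Flat (Spec.map (g.residueFieldMap s'))›
  haveI := EGA43.InjFibre.isQCoh_pullback (f.fiberι s) M
  rw [← hy'] at h ⊢
  have h3 := free_stalk_pullback (f'.fiberι s') _ y' h
  have e : (Scheme.Modules.pullback (f'.fiberι s')).obj ((Scheme.Modules.pullback g').obj M) ≅
      (Scheme.Modules.pullback l).obj ((Scheme.Modules.pullback (f.fiberι s)).obj M) :=
    (Scheme.Modules.pullbackComp (f'.fiberι s') g').app M ≪≫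
      (Scheme.Modules.pullbackCongr hl.symm).app M ≪≫
        ((Scheme.Modules.pullbackComp l (f.fiberι s)).app M).symm
  have h4 := free_stalk_of_flat l _ (Desc19b.ModStFib.isFP_pullback (f.fiberι s) M hM) y'
    (free_stalk_of_iso e y' h3)
  have h5 := free_stalk_of_fibre f M hM s (l y') (hfl _) h4
  have heq : f.fiberι s (l y') = g' (f'.fiberι s' y') := by
    rw [← Scheme.Hom.comp_apply, hl]; rfl
  rw [heq] at h5
  exact h5

end Scheme

end Groth.Agent.FlatMor12.FreeLocusBC
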