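import Groth.Agent.FlatMor12.FlatFun.Sheaf
import Groth.Agent.FlatMor12.FlatFun.Stage
import Groth.Agent.EGA43.FPKernel
import Groth.Agent.EGA43.InjFibre.StalkBridge
import Groth.Agent.EGA43.FibDepth.Supp
import Groth.Agent.EGA43.Cons.FibreClosureScheme
import Groth.Agent.H8Lim.ModFPDescent
import Groth.Agent.Props12.FlatOver
import Groth.Agent.H8Coh.FibreFree

/-!
# The locus where a map of modules is an isomorphism on fibres
-/

set_option autoImplicit false
set_option backward.isDefEq.respectTransparency false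

universe u

open CategoryTheory CategoryTheory.Limits AlgebraicGeometry TensorProduct Topology

namespace Groth.Agent.FlatMor12.IsoLocusMod

open Groth.Agent.EGA43 Groth.Agent.EGA43.InjCokerFlat Groth.Agent.Coherent

variable {X S : Scheme.{u}}

theorem isCompact_of_isConstructible {X : Scheme.{u}} [CompactSpace X] [QuasiSeparatedSpace X]
    {s : Set X} (hs : IsConstructible s) : IsCompact s := by
  have : Nonempty {U : X.Opens // IsCompact (U : Set X)} := ⟨⟨⊥, by simp⟩⟩
  refine IsConstructible.induction_of_isTopologicalBasis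
    (P := fun s _ => IsCompact s) (fun U : {U : X.Opens // IsCompact (U : Set X)} => (U.1 : Set X))
    (TopologicalSpace.isTopologicalBasis_of_isOpen_of_nhds ?_ ?_) (fun U => U.2) (fun i t ht => ?_)
    (fun _ _ _ _ h1 h2 => h1.union h2) s hs
  · rintro _ ⟨U, rfl⟩
    exact U.1.2
  · intro x v hx hv
    obtain ⟨_, ⟨W, hW, rfl⟩, hxW, hWv⟩ := X.isBasis_affineOpens.exists_subset_of_mem_open hx hv
    exact ⟨_, ⟨⟨W, hW.isCompact⟩, rfl⟩, hxW, hWv⟩
  · exact IsCompact.diff i.2 (isOpen_biUnion fun j _ => j.1.2)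

theorem quasiCompact_ι {U : X.Opens} (h : IsLocallyConstructible ((U : Set X)ᶜ)) : QuasiCompact U.ι := by
  rw [quasiCompact_iff_forall_isAffineOpen]
  intro V hV
  have hc := (Cons.isConstructible_preimage_fromSpec h hV).compl
  rw [← Set.preimage_compl, compl_compl] at hc
  have := (isCompact_of_isConstructible hc).image hV.fromSpec.continuous
  rw [U.ι.isOpenEmbedding.isInducing.isCompact_iff]
  convert this using 1
  rw [Scheme.Hom.coe_preimage, Set.image_preimage_eq_inter_range, Set.image_preimage_eq_inter_range,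
    hV.range_fromSpec, U.range_ι, Set.inter_comm]

/-- The support of a module. -/
def suppM (F : X.Modules) : Set X := {x | ¬ Subsingleton (F.presheaf.stalk x)}

theorem suppM_preimage_fromSpec (F : X.Modules) [Coh.IsQCoh F] {U : X.Opens} (hU : IsAffineOpen U) :
    hU.fromSpec ⁻¹' suppM F = Module.support Γ(X, U) Γ(F, U) := by
  ext p
  have hx : hU.fromSpec p ∈ U := hU.range_fromSpec.le ⟨p, rfl⟩
  let _ := (X.presheaf.germ U _ hx).hom.toAlgebra
  let _ := Module.compHom (F.presheaf.stalk (hU.fromSpec p)) (X.presheaf.germ U _ hx).hom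
  let g : Γ(F, U) →ₗ[Γ(X, U)] F.presheaf.stalk (hU.fromSpec p) :=
    { toFun := fun m => F.presheaf.germ U _ hx m
      map_add' := fun a b => map_add _ a b
      map_smul' := fun r m => QCohLoc.germ_smul' F hx r m }
  have := QcohFP.isLocalizedModule_germ F hU hx g fun _ => rfl
  rw [show hU.primeIdealOf ⟨_, hx⟩ = p from
    hU.fromSpec.isOpenEmbedding.injective (hU.fromSpec_primeIdealOf _)] at this
  show ¬ Subsingleton _ ↔ p ∈ Module.support Γ(X, U) Γ(F, U)
  rw [Module.mem_support_iff, ← not_subsingleton_iff_nontrivial]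
  exact not_congr (IsLocalizedModule.iso p.asIdeal.primeCompl g).toEquiv.subsingleton_congr.symm

theorem suppM_props {F : X.Modules} [Coh.IsQCoh F] (hF : CohB1.IsFP F) :
    IsClosed (suppM F) ∧ IsLocallyConstructible (suppM F) := by
  have h : ∀ x : X, ∃ (U : X.Opens) (hU : IsAffineOpen U), x ∈ U ∧
      IsClosed (hU.fromSpec ⁻¹' suppM F) ∧ IsConstructible (hU.fromSpec ⁻¹' suppM F) := fun x => by
    obtain ⟨U, hU, hxU, -⟩ := exists_isAffineOpen_mem_and_subset (x := x) (U := ⊤) trivial
    have := QcohFP.finitePresentation_sections F hF hU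
    refine ⟨U, hU, hxU, ?_, ?_⟩ <;> rw [suppM_preimage_fromSpec F hU]
    · exact Module.isClosed_support
    · exact FibDepth.isConstructible_support _
  refine ⟨?_, Cons.isLocallyConstructible_of_forall_fromSpec fun x => ?_⟩
  · rw [← isOpen_compl_iff, isOpen_iff_forall_mem_open]
    intro x hx
    obtain ⟨U, hU, hxU, hcl, -⟩ := h x
    refine ⟨hU.fromSpec '' (hU.fromSpec ⁻¹' suppM F)ᶜ, ?_,
      hU.fromSpec.isOpenEmbedding.isOpenMap _ hcl.isOpen_compl, ⟨hU.primeIdealOf ⟨x, hxU⟩, ?_, hU.fromSpec_primeIdealOf ⟨x, hxU⟩⟩⟩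
    · rintro _ ⟨p, hp, rfl⟩
      exact hp
    · rw [Set.mem_compl_iff, Set.mem_preimage, hU.fromSpec_primeIdealOf ⟨x, hxU⟩]
      exact hx
  · obtain ⟨U, hU, hxU, -, hc⟩ := h x
    exact ⟨U, hU, hxU, hc⟩

variable {F G : X.Modules} (u : F ⟶ G)

theorem mem_suppM_cokernel (x : X) : x ∈ suppM (cokernel u) ↔ ¬ Function.Surjective (stalkMapOf u x) := by
  let e := PreservesCokernel.iso (DerSch.stalkFunctor X x) u
  refine not_congr ⟨fun h => ?_, fun h => ?_⟩
  · have : IsZero (cokernel ((DerSch.stalkFunctor X x).map u)) :=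
      IsZero.of_iso (ModuleCat.isZero_of_iff_subsingleton.2 h) e.symm
    exact (ModuleCat.epi_iff_surjective _).1 (Preadditive.epi_of_isZero_cokernel _ this)
  · have := (ModuleCat.epi_iff_surjective ((DerSch.stalkFunctor X x).map u)).2 h
    exact ModuleCat.isZero_of_iff_subsingleton.1 (IsZero.of_iso (isZero_cokernel_of_epi _) e)

theorem mem_suppM_kernel (x : X) : x ∈ suppM (kernel u) ↔ ¬ Function.Injective (stalkMapOf u x) := by
  let e := PreservesKernel.iso (DerSch.stalkFunctor X x) u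
  refine not_congr ⟨fun h => ?_, fun h => ?_⟩
  · have : IsZero (kernel ((DerSch.stalkFunctor X x).map u)) :=
      IsZero.of_iso (ModuleCat.isZero_of_iff_subsingleton.2 h) e.symm
    exact (ModuleCat.mono_iff_injective _).1 (Preadditive.mono_of_isZero_kernel _ this)
  · have := (ModuleCat.mono_iff_injective ((DerSch.stalkFunctor X x).map u)).2 h
    exact ModuleCat.isZero_of_iff_subsingleton.1 (IsZero.of_iso (isZero_kernel_of_mono _) e)

theorem stalk_injective_of_pullback {Y : Scheme.{u}} (h : Y ⟶ X) [Flat h] (y : Y)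
    (hi : Function.Injective (stalkMapOf ((Scheme.Modules.pullback h).map u) y)) :
    Function.Injective (stalkMapOf u (h y)) := by
  have hf := FlatFun.faithfullyFlat_stalkMap h y
  have nat := (ModStalk.pullbackStalkIso h y).hom.naturality u
  dsimp only [Functor.comp_obj, Functor.comp_map] at nat
  let ψ := (DerSch.stalkFunctor X (h y)).map u
  algebraize [(h.stalkMap y).hom]
  have e : (ModuleCat.extendScalars.{u, u, u} (h.stalkMap y).hom).map ψ =
      (ModStalk.pullbackStalkIso h y).inv.app F ≫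
        (DerSch.stalkFunctor Y y).map ((Scheme.Modules.pullback h).map u) ≫
        (ModStalk.pullbackStalkIso h y).hom.app G := by
    rw [nat, Iso.inv_hom_id_app_assoc]
  have : Function.Injective ((ModuleCat.extendScalars.{u, u, u} (h.stalkMap y).hom).map ψ) := by
    rw [e]
    exact ((ModStalk.pullbackStalkIso h y).app G).toLinearEquiv.injective.comp
      (hi.comp ((ModStalk.pullbackStalkIso h y).app F).symm.toLinearEquiv.injective)
  exact (Module.FaithfullyFlat.lTensor_injective_iff_injective _ (Y.presheaf.stalk y) ψ.hom).1 this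

/-- The points at which `u` is not bijective on stalks. -/
def bad : Set X := {x | ¬ Function.Bijective (stalkMapOf u x)}

theorem isIso_pullback_of_disjoint {Y : Scheme.{u}} (h : Y ⟶ X) (hd : ∀ y, h y ∉ bad u) :
    IsIso ((Scheme.Modules.pullback h).map u) :=
  FlatFun.Kind.glob_of_stalks .bij _ fun y =>
    FlatFun.Kind.stalk_pullback .bij h u y (not_not.1 (hd y))

theorem bad_props (f : X ⟶ S) [LocallyOfFinitePresentation f] [Coh.IsQCoh F] [Coh.IsQCoh G]
    (hF : CohB1.IsFP F) (hG : CohB1.IsFP G) (hfl : FlatMod.IsFlatOver f G) :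
    IsClosed (bad u) ∧ IsLocallyConstructible (bad u) := by
  have hC : Coh.IsQCoh (cokernel u) := isQCoh_cokernel u
  obtain ⟨hCcl, hCcons⟩ := suppM_props (H8Lim.isFP_cokernel u (H8Coh.FibreFree.isFT_of_isFP F hF) hG)
  let U₁ : X.Opens := ⟨(suppM (cokernel u))ᶜ, hCcl.isOpen_compl⟩
  let v := (Scheme.Modules.pullback U₁.ι).map u
  have := InjFibre.isQCoh_pullback U₁.ι F
  have := InjFibre.isQCoh_pullback U₁.ι G
  have hepi : Epi v := FlatFun.Kind.glob_of_stalks .surj _ fun y =>
    FlatFun.Kind.stalk_pullback .surj U₁.ι u y (not_not.1 fun hn => y.2 ((mem_suppM_cokernel u _).2 hn))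
  have hflv : FlatMod.IsFlatOver (U₁.ι ≫ f) ((Scheme.Modules.pullback U₁.ι).obj G) := fun y =>
    (Props12.isFlatOverAt_pullback_iff U₁.ι f G y (Flat.stalkMap U₁.ι y)).1 (hfl _)
  have hK : Coh.IsQCoh (kernel v) := isQCoh_kernel v
  obtain ⟨hKcl, hKcons⟩ := suppM_props (FPKernel.isFP_kernel (U₁.ι ≫ f)
    (Desc19b.ModStFib.isFP_pullback U₁.ι F hF) (Desc19b.ModStFib.isFP_pullback U₁.ι G hG) hflv v)
  have hbad : bad u = suppM (cokernel u) ∪ U₁.ι '' suppM (kernel v) := by
    ext x
    by_cases hx : x ∈ suppM (cokernel u)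
    · exact ⟨fun _ => Or.inl hx, fun _ hb => (mem_suppM_cokernel u x).1 hx hb.2⟩
    have hs : Function.Surjective (stalkMapOf u x) := not_not.1 fun hn => hx ((mem_suppM_cokernel u x).2 hn)
    constructor
    · intro hb
      refine Or.inr ⟨⟨x, hx⟩, ?_, rfl⟩
      rw [mem_suppM_kernel]
      intro hinj
      exact hb ⟨stalk_injective_of_pullback u U₁.ι ⟨x, hx⟩ hinj, hs⟩
    · rintro (h | ⟨y, hy, rfl⟩)
      · exact absurd h hx
      · intro hb
        rw [mem_suppM_kernel] at hy
        exact hy (FlatFun.Kind.stalk_pullback .bij U₁.ι u y hb).1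
  refine ⟨?_, ?_⟩
  · rw [hbad, ← isOpen_compl_iff]
    have : (suppM (cokernel u) ∪ U₁.ι '' suppM (kernel v))ᶜ = U₁.ι '' (suppM (kernel v))ᶜ := by
      ext x
      constructor
      · intro hx
        exact ⟨⟨x, fun h => hx (Or.inl h)⟩, fun h => hx (Or.inr ⟨_, h, rfl⟩), rfl⟩
      · rintro ⟨y, hy, rfl⟩ (h | ⟨y', hy', he⟩)
        · exact y.2 h
        · exact hy (Subtype.val_injective he ▸ hy')
    rw [this]
    exact U₁.ι.isOpenEmbedding.isOpenMap _ hKcl.isOpen_compl
  · rw [hbad]
    have : QuasiCompact U₁.ι := quasiCompact_ι (by rw [show ((U₁ : Set X))ᶜ = suppM (cokernel u) from compl_compl _]; exact hCcons)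
    exact hCcons.union (U₁.ι.isLocallyConstructible_image hKcons)

theorem finite_stalk {F : X.Modules} [Coh.IsQCoh F] (hF : CohB1.IsFT F) (x : X) :
    Module.Finite (X.presheaf.stalk x) (F.presheaf.stalk x) := by
  obtain ⟨U, hU, hx, -⟩ := exists_isAffineOpen_mem_and_subset (x := x) (U := ⊤) trivial
  have := H8Lim.finite_sections_of_isFT hF hU
  let _ := (X.presheaf.germ U _ hx).hom.toAlgebra
  let _ := Module.compHom (F.presheaf.stalk x) (X.presheaf.germ U _ hx).hom
  have : IsScalarTower Γ(X, U) (X.presheaf.stalk x) (F.presheaf.stalk x) :=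
    .of_algebraMap_smul fun _ _ => rfl
  let g : Γ(F, U) →ₗ[Γ(X, U)] F.presheaf.stalk x :=
    { toFun := fun m => F.presheaf.germ U _ hx m
      map_add' := fun a b => map_add _ a b
      map_smul' := fun r m => QCohLoc.germ_smul' F hx r m }
  have := QcohFP.isLocalizedModule_germ F hU hx g fun _ => rfl
  have : IsLocalization (hU.primeIdealOf ⟨x, hx⟩).asIdeal.primeCompl (X.presheaf.stalk x) :=
    hU.isLocalization_stalk ⟨x, hx⟩
  exact Module.Finite.of_isLocalizedModule (hU.primeIdealOf ⟨x, hx⟩).asIdeal.primeCompl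
    (Rₚ := X.presheaf.stalk x) g

theorem mem_ker_tensor {O R' M : Type u} [CommRing O] [CommRing R'] [Algebra O R'] [AddCommGroup M] [Module O M]
    (J : Ideal O) (hs : Function.Surjective (algebraMap O R')) (hJ : RingHom.ker (algebraMap O R') = J)
    (m : M) : (1 : R') ⊗ₜ[O] m = 0 ↔ m ∈ (J • (⊤ : Submodule O M)) := by
  let e₀ : (O ⧸ J) ≃ₐ[O] R' :=
    (Ideal.quotientEquivAlgOfEq O hJ.symm).trans (Ideal.quotientKerAlgEquivOfSurjective (f := Algebra.ofId O R') hs)
  let e : R' ⊗[O] M ≃ₗ[O] M ⧸ (J • (⊤ : Submodule O M)) :=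
    (TensorProduct.congr e₀.symm.toLinearEquiv (LinearEquiv.refl O M)).trans (TensorProduct.quotTensorEquivQuotSMul M J)
  have he : e ((1 : R') ⊗ₜ[O] m) = Submodule.Quotient.mk m := by
    show TensorProduct.quotTensorEquivQuotSMul M J (e₀.symm 1 ⊗ₜ m) = _
    rw [map_one]
    exact (TensorProduct.quotTensorEquivQuotSMul_mk_tmul J 1 m).trans (by rw [one_smul])
  rw [← e.map_eq_zero_iff, he, Submodule.Quotient.mk_eq_zero]

/-- A fibrewise isomorphism is an isomorphism on stalks. -/
theorem notMem_bad_of_fibre (f : X ⟶ S) [LocallyOfFinitePresentation f] [Coh.IsQCoh F] [Coh.IsQCoh G]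
    (hF : CohB1.IsFP F) (hG : CohB1.IsFP G) (hfl : FlatMod.IsFlatOver f G) (s : S) (x' : f.fiber s)
    [IsIso ((Scheme.Modules.pullback (f.fiberι s)).map u)] : f.fiberι s x' ∉ bad u := by
  obtain ⟨hs, hker⟩ := Props12.stalkMap_fiberι f s x'
  let ι := f.fiberι s
  let ψ := ((DerSch.stalkFunctor X (ι x')).map u).hom
  have hb : Function.Bijective ((DerSch.stalkFunctor _ x').map ((Scheme.Modules.pullback ι).map u)) :=
    (ConcreteCategory.isIso_iff_bijective _).1 inferInstance
  have nat := (ModStalk.pullbackStalkIso ι x').hom.naturality u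
  dsimp only [Functor.comp_obj, Functor.comp_map] at nat
  algebraize [(ι.stalkMap x').hom]
  have hb' : Function.Bijective (ψ.lTensor (↑((f.fiber s).presheaf.stalk x'))) :=
    (FlatFun.Kind.holds_iff_of_equiv .bij _ _
      ((ModStalk.pullbackStalkIso ι x').app F).toLinearEquiv.toAddEquiv
      ((ModStalk.pullbackStalkIso ι x').app G).toLinearEquiv.toAddEquiv
      (fun m => ConcreteCategory.congr_hom nat m)).1 hb
  let J : Ideal (X.presheaf.stalk (ι x')) :=
    Ideal.map (f.stalkMap (ι x')).hom (IsLocalRing.maximalIdeal (S.presheaf.stalk (f (ι x'))))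
  have hJle : J ≤ IsLocalRing.maximalIdeal _ := Ideal.map_le_iff_le_comap.2 fun a ha => map_nonunit _ a ha
  have : Module.Finite (X.presheaf.stalk (ι x')) ((DerSch.stalkFunctor X (ι x')).obj G) := finite_stalk (H8Coh.FibreFree.isFT_of_isFP G hG) (ι x')
  intro hbad
  refine hbad ⟨(InjFibre.inj_and_coker_flat_iff f hG hF u (ι x') (hfl _)).2 (fun m hm => ?_) |>.1, ?_⟩
  · rw [← mem_ker_tensor J hs hker] at hm ⊢
    exact hb'.1 ((LinearMap.lTensor_tmul _ ψ _ m).trans (hm.trans (map_zero (ψ.lTensor _)).symm))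
  · refine (LinearMap.range_eq_top (f := ψ)).1 (top_le_iff.1 ?_)
    refine Submodule.le_of_le_smul_of_le_jacobson_bot Module.Finite.fg_top
      (hJle.trans (IsLocalRing.maximalIdeal_le_jacobson _)) fun n _ => ?_
    obtain ⟨z, hz⟩ := hb'.2 ((1 : _) ⊗ₜ n)
    obtain ⟨m, rfl⟩ : ∃ m, (1 : ↑((f.fiber s).presheaf.stalk x')) ⊗ₜ m = z := by
      clear hz
      induction z using TensorProduct.induction_on with
      | zero => exact ⟨0, TensorProduct.tmul_zero _ _⟩
      | add a b ha hb => obtain ⟨m, rfl⟩ := ha; obtain ⟨m', rfl⟩ := hb; exact ⟨m + m', TensorProduct.tmul_add _ _ _⟩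
      | tmul a m =>
        obtain ⟨b, rfl⟩ := hs a
        exact ⟨b • m, by rw [TensorProduct.tmul_smul, TensorProduct.smul_tmul', Algebra.smul_def, mul_one]; rfl⟩
    rw [LinearMap.lTensor_tmul] at hz
    have : n - ψ m ∈ (J • (⊤ : Submodule (X.presheaf.stalk (ι x')) ((DerSch.stalkFunctor X (ι x')).obj G))) := by
      rw [← mem_ker_tensor J hs hker, TensorProduct.tmul_sub, hz, sub_self]
    exact (sub_add_cancel n (ψ m)) ▸ Submodule.add_mem _ (Submodule.mem_sup_right this)
      (Submodule.mem_sup_left ⟨m, rfl⟩)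

/-- The subfunctor making `u` an isomorphism is an open subscheme. -/
theorem exists_open (f : X ⟶ S) [IsProper f] [LocallyOfFinitePresentation f] [Coh.IsQCoh F] [Coh.IsQCoh G]
    (hF : CohB1.IsFP F) (hG : CohB1.IsFP G) (hfl : FlatMod.IsFlatOver f G) :
    ∃ U : S.Opens, QuasiCompact U.ι ∧
      ∀ (T : Scheme.{u}) (t : T ⟶ S),
        IsIso ((Scheme.Modules.pullback (pullback.fst f t)).map u) ↔ Set.range t.base ⊆ (U : Set S) := by
  obtain ⟨hcl, hcons⟩ := bad_props u f hF hG hfl
  let U : S.Opens := ⟨(f '' bad u)ᶜ, (f.isClosedMap _ hcl).isOpen_compl⟩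
  refine ⟨U, quasiCompact_ι (by rw [show ((U : Set S))ᶜ = f '' bad u from compl_compl _]; exact f.isLocallyConstructible_image hcons),
    fun T t => ⟨fun h => ?_, fun h => isIso_pullback_of_disjoint u _ fun y hy => h ⟨pullback.snd f t y, rfl⟩
      ⟨_, hy, by
        show f (pullback.fst f t y) = t (pullback.snd f t y)
        rw [← Scheme.Hom.comp_apply, ← Scheme.Hom.comp_apply, pullback.condition]⟩⟩⟩
  rintro _ ⟨t₀, rfl⟩ ⟨x, hx, hxt⟩
  replace hxt : f x = t t₀ := hxt
  let Ts : Over S := Over.mk (S.fromSpecResidueField (t t₀))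
  let Tt : Over S := Over.mk (T.fromSpecResidueField t₀ ≫ t)
  let g : Tt ⟶ Ts := Over.homMk (Spec.map (t.residueFieldMap t₀)) (by simp [Tt, Ts])
  let g' : Tt ⟶ Over.mk t := Over.homMk (T.fromSpecResidueField t₀) rfl
  have : IsIso ((Scheme.Modules.pullback (pullback.fst f (Over.mk t).hom)).map u) := h
  have h1 : IsIso ((Scheme.Modules.pullback (pullback.fst f Tt.hom)).map u) := FlatFun.isIso_stable f u g'
  have h2 : IsIso ((Scheme.Modules.pullback (pullback.fst f Ts.hom)).map u) :=
    FlatFun.isIso_desc f u fun s => by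
      refine ⟨Tt, g, ?_, ⟨IsLocalRing.closedPoint (T.residueField t₀), Subsingleton.elim (α := PrimeSpectrum _) _ _⟩, h1⟩
      show Flat (Spec.map (t.residueFieldMap t₀))
      rw [HasRingHomProperty.Spec_iff (P := @Flat)]
      let _ : Algebra (S.residueField (t t₀)) (T.residueField t₀) := (t.residueFieldMap t₀).hom.toAlgebra
      have : Module.Free (S.residueField (t t₀)) (T.residueField t₀) := Module.Free.of_divisionRing _ _
      exact Module.Flat.of_free (R := S.residueField (t t₀)) (M := T.residueField t₀)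
  have : IsIso ((Scheme.Modules.pullback (f.fiberι (t t₀))).map u) := h2
  obtain ⟨x', rfl⟩ : x ∈ Set.range (f.fiberι (t t₀)) := by rw [Scheme.Hom.range_fiberι]; exact hxt
  exact notMem_bad_of_fibre u f hF hG hfl _ x' hx

end Groth.Agent.FlatMor12.IsoLocusMod
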