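import Groth.Agent.FlatMorWeight.Nhds
import Mathlib.AlgebraicGeometry.ZariskisMainTheorem

/-! Étale neighbourhood separating finitely many quasi-finite points of one fibre. -/

universe u

set_option autoImplicit false
set_option backward.isDefEq.respectTransparency false

open CategoryTheory CategoryTheory.Limits AlgebraicGeometry TopologicalSpace
open Groth.Agent.FlatMorWeight

namespace Groth.Agent.FlatMor12

/-- A finite open with a single geometric point in a fibre has purely inseparable residue field. -/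
theorem isPurelyInseparable_of_isSingle {P V : Scheme.{u}} (π : P ⟶ V) {Ω : Type u} [Field Ω] [IsAlgClosed Ω]
    {U : P.Opens} {z : Spec (CommRingCat.of Ω) ⟶ P} (h : IsSingle π U z) :
    letI := (π.residueFieldMap (pt z)).hom.toAlgebra
    IsPurelyInseparable (V.residueField (π (pt z))) (P.residueField (pt z)) := by
  have hfin : IsFinite (U.ι ≫ π) := h.1
  obtain ⟨a, ha⟩ : ∃ a : U.toScheme, U.ι a = pt z := ⟨⟨pt z, h.2.1⟩, rfl⟩
  have hπa : (U.ι ≫ π) a = pt (z ≫ π) := by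
    rw [Scheme.Hom.comp_apply, ha, pt_comp]
  obtain ⟨-, hcard, hpos⟩ := card_GP_at (U.ι ≫ π) (z ≫ π) a hπa
  let _ := ((U.ι ≫ π).residueFieldMap a).hom.toAlgebra
  have h1 : Nat.card {w : Spec (CommRingCat.of Ω) ⟶ U.toScheme // w ≫ U.ι ≫ π = z ≫ π ∧ pt w = a} = 1 := by
    refine Nat.card_eq_one_iff_unique.2 ⟨⟨fun w w' => Subtype.ext ?_⟩, (Nat.card_pos_iff.1 hpos).1⟩
    rw [← cancel_mono U.ι]
    have key : ∀ v : {w : Spec (CommRingCat.of Ω) ⟶ U.toScheme // w ≫ U.ι ≫ π = z ≫ π ∧ pt w = a},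
        v.1 ≫ U.ι = z := fun v => by
      refine h.2.2 _ (by show (v.1 ≫ U.ι) ≫ π = _; rw [Category.assoc]; exact v.2.1) ?_
      rw [pt_comp, v.2.2, ha]; exact h.2.1
    rw [key w, key w']
  have hpi : IsPurelyInseparable (V.residueField ((U.ι ≫ π) a)) (U.toScheme.residueField a) :=
    (isPurelyInseparable_iff_finSepDegree_eq_one _ _).2 (hcard.symm.trans h1)
  clear hcard
  suffices ∀ (b : P) (hb : U.ι a = b), letI := (π.residueFieldMap b).hom.toAlgebra
      IsPurelyInseparable (V.residueField (π b)) (P.residueField b) from this _ ha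
  rintro b rfl
  let _ := (π.residueFieldMap (U.ι a)).hom.toAlgebra
  let _ : Algebra (V.residueField (π (U.ι a))) (U.toScheme.residueField a) :=
    ((U.ι ≫ π).residueFieldMap a).hom.toAlgebra
  let e : P.residueField (U.ι a) ≃ₐ[V.residueField (π (U.ι a))] U.toScheme.residueField a :=
    { (asIso (U.ι.residueFieldMap a)).commRingCatIsoToRingEquiv with
      commutes' := fun r => by
        show (π.residueFieldMap (U.ι a) ≫ U.ι.residueFieldMap a) r = (U.ι ≫ π).residueFieldMap a r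
        rw [← Scheme.residueFieldMap_comp]
        rfl }
  exact @AlgEquiv.isPurelyInseparable _ _ _ _ _ _ _ _ e.symm hpi

theorem isPurelyInseparable_of_isSingle' {P V : Scheme.{u}} (π : P ⟶ V) {Ω : Type u} [Field Ω] [IsAlgClosed Ω]
    {U : P.Opens} {z : Spec (CommRingCat.of Ω) ⟶ P} (h : IsSingle π U z) (b : P) (hb : pt z = b) :
    letI := (π.residueFieldMap b).hom.toAlgebra
    IsPurelyInseparable (V.residueField (π b)) (P.residueField b) := by
  subst hb
  exact isPurelyInseparable_of_isSingle π h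

/-- A finite open of a separated scheme is closed. -/
theorem isClopen_of_isFinite {P V : Scheme.{u}} (π : P ⟶ V) [IsSeparated π] (U : P.Opens)
    [IsFinite (U.ι ≫ π)] : IsClopen (U : Set P) := by
  have : IsProper U.ι := IsProper.of_comp U.ι π
  refine ⟨?_, U.2⟩
  rw [← Scheme.Opens.range_ι U]
  exact U.ι.isClosedMap.isClosed_range

theorem isSingle_image {P P' V : Scheme.{u}} (π : P ⟶ V) (μ : P' ⟶ P) [IsOpenImmersion μ] {π' : P' ⟶ V}
    (hμ : μ ≫ π = π') {Ω : Type u} [Field Ω] {U : P'.Opens} {z : Spec (CommRingCat.of Ω) ⟶ P'}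
    (h : IsSingle π' U z) : IsSingle π (μ ''ᵁ U) (z ≫ μ) := by
  subst hμ
  refine ⟨?_, ⟨pt z, h.2.1, (pt_comp z μ).symm⟩, fun w hw hwU => ?_⟩
  · have := h.1
    have e : (μ ''ᵁ U).ι ≫ π = (μ.isoImage U).inv ≫ U.ι ≫ μ ≫ π := by
      simp only [← μ.isoImage_inv_ι U, Category.assoc]
    rw [e]
    infer_instance
  · obtain ⟨a, ha, hae⟩ := hwU
    let w' := IsOpenImmersion.lift μ w (by
      rintro _ ⟨q, rfl⟩; rw [eq_pt]; exact ⟨a, hae⟩)
    have hw' : w' ≫ μ = w := IsOpenImmersion.lift_fac _ _ _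
    have e1 : pt w' = a := μ.isOpenEmbedding.injective (by rw [← pt_comp, hw']; exact hae.symm)
    rw [← hw', h.2.2 w' (show w' ≫ μ ≫ π = z ≫ μ ≫ π by
      rw [reassoc_of% hw', show w ≫ π = _ from hw, Category.assoc]) (e1.symm ▸ ha)]

theorem exists_etale_separating {X S : Scheme.{u}} (f : X ⟶ S) [LocallyOfFiniteType f] [IsSeparated f] (s : S)
    {ι : Type} [Finite ι] (x : ι → ↑X) (hs : ∀ i, f (x i) = s) (hx : ∀ i, f.QuasiFiniteAt (x i)) :
    ∃ (U : Scheme.{u}) (g : U ⟶ S) (u : U), Etale g ∧ g u = s ∧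
      ∃ (J : ι → Type) (_ : ∀ i, Finite (J i)) (V : ∀ i, J i → (pullback f g).Opens) (v : ∀ i, J i → ↑(pullback f g)),
        (∀ i j, IsClopen ((V i j : Set ↑(pullback f g)))) ∧
        (∀ i j i' j', x i ≠ x i' ∨ (i = i' ∧ ¬ HEq j j') →
          Disjoint (V i j : Set ↑(pullback f g)) (V i' j')) ∧
        (∀ i j, v i j ∈ V i j ∧ IsFinite ((V i j).ι ≫ pullback.snd f g) ∧ pullback.snd f g (v i j) = u ∧
          (∀ w : ↑(pullback f g), w ∈ V i j → pullback.snd f g w = u → w = v i j) ∧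
          (letI := ((pullback.snd f g).residueFieldMap (v i j)).hom.toAlgebra
           IsPurelyInseparable ↑(U.residueField (pullback.snd f g (v i j))) ↑((pullback f g).residueField (v i j))) ∧
          pullback.fst f g (v i j) = x i) ∧
        (∀ (w : ↑(pullback f g)) (i : ι), pullback.snd f g w = u → pullback.fst f g w = x i → ∃ j, w ∈ V i j) := by
  classical
  let W : X.Opens := f.quasiFiniteLocus
  let f' := W.ι ≫ f
  obtain ⟨yb, hyb⟩ := exists_geomPt s
  let Ω := AlgebraicClosure (S.residueField s)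
  let Z : ι → Set (Spec (CommRingCat.of Ω) ⟶ W.toScheme) := fun i => {z | z ≫ f' = yb ∧ pt z = ⟨x i, hx i⟩}
  have hZ : ∀ i, (Z i).Finite := fun i => Set.finite_coe_iff.1
    (card_GP_at f' yb ⟨x i, hx i⟩ (by rw [hyb]; exact hs i)).1
  obtain ⟨V, g, vb, U, hg, hvb, hU⟩ := exists_pieces f' (yb := yb)
    (Set.finite_iUnion hZ) (fun z hz => (Set.mem_iUnion.1 hz).choose_spec.1)
  have : Finite ↥(⋃ i, Z i) := (Set.finite_iUnion hZ).to_subtype
  have := Fintype.ofFinite ↥(⋃ i, Z i)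
  choose zt hzt hzt1 hzt2 using fun z : ↥(⋃ i, Z i) => isSingle_of_isPiece (hU z.1 z.2)
  have : IsSeparated ((⊤ : (pullback f' g).Opens).ι ≫ pullback.snd f' g) := inferInstance
  obtain ⟨N, hN, -, hdisj⟩ := exists_disjoint_nhds (pullback.snd f' g) ⊤ Finset.univ
    (fun z : ↥(⋃ i, Z i) => U z.1) zt vb (fun z _ => hzt2 z) (fun z _ => hzt z) (fun _ _ => trivial)
    (fun a _ b _ e => Subtype.ext (by rw [← hzt1 a, e, hzt1 b]))
  -- restrict to `N`
  let g' := N.ι ≫ g
  have hr : Set.range vb ⊆ Set.range N.ι := by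
    rintro _ ⟨q, rfl⟩; rw [Scheme.Opens.range_ι, eq_pt]; exact hN
  let vb' := IsOpenImmersion.lift N.ι vb hr
  have hvb' : vb' ≫ N.ι = vb := IsOpenImmersion.lift_fac _ _ _
  let m : pullback f' g' ⟶ pullback f' g :=
    pullback.lift (pullback.fst _ _) (pullback.snd _ _ ≫ N.ι) (by rw [pullback.condition, Category.assoc])
  have hpiece : ∀ z ∈ ⋃ i, Z i, IsPiece f' g' (m ⁻¹ᵁ U z) z vb' := fun z hz => by
    obtain ⟨m', h1, h2, hp⟩ := (hU z hz).baseChange g' N.ι rfl vb' hvb'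
    have : m = m' := by refine pullback.hom_ext ?_ ?_ <;> simp [m, h1, h2]
    rw [this]; exact hp
  choose z' hz' hz'1 hz'2 using fun z : ↥(⋃ i, Z i) => isSingle_of_isPiece (hpiece z.1 z.2)
  let μ : pullback f' g' ⟶ pullback f g' :=
    pullback.map f' g' f g' W.ι (𝟙 _) (𝟙 _) (Category.comp_id _) (by simp)
  have hμ1 : μ ≫ pullback.fst f g' = pullback.fst f' g' ≫ W.ι := pullback.lift_fst _ _ _
  have hμ2 : μ ≫ pullback.snd f g' = pullback.snd f' g' := by
    rw [pullback.lift_snd, Category.comp_id]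
  have hsnd : ∀ z : ↥(⋃ i, Z i), pullback.snd f g' (μ (pt (z' z))) = pt vb' := fun z => by
    rw [← Scheme.Hom.comp_apply, hμ2, ← pt_comp, hz'2 z]
  let J : ι → Type := fun i => Fin (hZ i).toFinset.card
  let ζ : ∀ i, J i → ↥(⋃ i, Z i) := fun i j => ⟨((hZ i).toFinset.equivFin.symm j).1,
    Set.mem_iUnion.2 ⟨i, (hZ i).mem_toFinset.1 ((hZ i).toFinset.equivFin.symm j).2⟩⟩
  have hζ : ∀ i j, (ζ i j).1 ∈ Z i := fun i j => (hZ i).mem_toFinset.1 ((hZ i).toFinset.equivFin.symm j).2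
  have hsingle : ∀ i j, IsSingle (pullback.snd f g') (μ ''ᵁ (m ⁻¹ᵁ U (ζ i j).1)) (z' (ζ i j) ≫ μ) :=
    fun i j => isSingle_image _ μ hμ2 (hz' (ζ i j))
  refine ⟨N.toScheme, g', pt vb', inferInstance, ?_, J, fun i => inferInstanceAs (Finite (Fin _)),
    fun i j => μ ''ᵁ (m ⁻¹ᵁ U (ζ i j).1), fun i j => μ (pt (z' (ζ i j))), ?_, ?_, ?_, ?_⟩
  · rw [← pt_comp, reassoc_of% hvb', hvb, hyb]
  · intro i j
    have := (hsingle i j).1
    exact isClopen_of_isFinite (pullback.snd f g') _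
  · intro i j i' j' hne
    refine Set.disjoint_left.2 ?_
    rintro _ ⟨a, ha, rfl⟩ ⟨b, hb, hab⟩
    obtain rfl := μ.isOpenEmbedding.injective hab
    refine hdisj (ζ i j) (Finset.mem_univ _) (ζ i' j') (Finset.mem_univ _) (fun e => ?_) (m b) ha ?_ hb
    · rcases hne with h | ⟨rfl, h⟩
      · refine h ?_
        have e1 := (hζ i j).2
        rw [e, (hζ i' j').2] at e1
        exact congrArg W.ι e1.symm
      · exact h (heq_of_eq ((hZ i).toFinset.equivFin.symm.injective (Subtype.ext (congrArg Subtype.val e : (ζ i j).1 = (ζ i j').1))))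
    · rw [← Scheme.Hom.comp_apply, pullback.lift_snd, Scheme.Hom.comp_apply]
      exact (pullback.snd f' g' b).2
  · intro i j
    have hs' := hz' (ζ i j)
    have hfinV := (hsingle i j).1
    have hmem : μ (pt (z' (ζ i j))) ∈ μ ''ᵁ (m ⁻¹ᵁ U (ζ i j).1) := ⟨_, hs'.2.1, rfl⟩
    refine ⟨hmem, hfinV, hsnd (ζ i j), ?_, ?_, ?_⟩
    · rintro _ ⟨a, ha, rfl⟩ hau
      refine congrArg μ (mem_of_fibre (pullback.snd f' g') hs' ha ?_)
      rw [← pt_comp, hz'2 (ζ i j)]
      refine Eq.trans ?_ hau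
      show _ = (μ ≫ pullback.snd f g') a
      rw [hμ2]
    · exact isPurelyInseparable_of_isSingle' (pullback.snd f g') (hsingle i j) _ (pt_comp _ _)
    · rw [← Scheme.Hom.comp_apply, hμ1, Scheme.Hom.comp_apply, ← pt_comp, hz'1 (ζ i j), (hζ i j).2]
      rfl
  · intro w i hwu hwx
    obtain ⟨w₁, rfl⟩ : w ∈ Set.range μ := by
      rw [Scheme.Pullback.range_map]
      refine ⟨⟨⟨x i, hx i⟩, ?_⟩, ⟨_, rfl⟩⟩
      show x i = _
      exact hwx.symm
    have hwu' : pullback.snd f' g' w₁ = pt vb' := by rw [← hwu, ← Scheme.Hom.comp_apply μ, hμ2]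
    obtain ⟨z, hz, hzw⟩ := exists_GP_at (pullback.snd f' g') vb' w₁ hwu'
    let z₀ := z ≫ pullback.fst f' g'
    have hz₀ : z₀ ∈ Z i := by
      refine ⟨?_, W.ι.isOpenEmbedding.injective ?_⟩
      · show (z ≫ _) ≫ f' = yb
        rw [Category.assoc, pullback.condition, ← Category.assoc, show z ≫ _ = vb' from hz,
          reassoc_of% hvb', hvb]
      · rw [pt_comp, hzw]
        rw [← Scheme.Hom.comp_apply μ, hμ1, Scheme.Hom.comp_apply] at hwx
        exact hwx
    obtain ⟨j, hj⟩ : ∃ j : J i, (ζ i j).1 = z₀ :=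
      ⟨(hZ i).toFinset.equivFin ⟨z₀, (hZ i).mem_toFinset.2 hz₀⟩, by simp [ζ]⟩
    refine ⟨j, w₁, ?_, rfl⟩
    have he : z = z' (ζ i j) := pullback.hom_ext (by rw [hz'1 (ζ i j), hj]) (by
      rw [hz'2 (ζ i j)]; exact hz)
    rw [← hzw, he]
    exact (hz' (ζ i j)).2.1

end Groth.Agent.FlatMor12
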