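import Groth.Agent.MorProj.VeryAmple
import Groth.Agent.Props12.AmpleExternal
import Groth.Agent.CAlgSmall.ProjMore
import Groth.Agent.AmpleLib.Compose

/-! Immersions into projective space over a base with an ample sheaf. -/

set_option autoImplicit false
set_option backward.isDefEq.respectTransparency false
universe u

open CategoryTheory CategoryTheory.Limits AlgebraicGeometry
open Groth.Agent.AmpleLib

namespace Groth.Agent.FlatMor12.ProjectiveAmple

variable {X S : Scheme.{u}}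

theorem compactSpace_of_ample (h : ∃ N : S.Modules, CohB1.IsAmple N) : CompactSpace S := by
  obtain ⟨N, hN⟩ := h
  exact (isAmple_iff_affGlocus.1 hN).2.1

theorem quasiSeparatedSpace_of_ample (h : ∃ N : S.Modules, CohB1.IsAmple N) : QuasiSeparatedSpace S := by
  obtain ⟨N, hN⟩ := h
  obtain ⟨hNi, hc, ha⟩ := isAmple_iff_affGlocus.1 hN
  exact quasiSeparatedSpace_of_affGlocus hNi ha

theorem exists_isAmple_of_immersion (hS : ∃ N : S.Modules, CohB1.IsAmple N) {n : ℕ}
    (i : X ⟶ CohB1.ProjSpaceOver n S) [IsImmersion i] [QuasiCompact i] :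
    ∃ L : X.Modules, CohB1.IsAmple L := by
  obtain ⟨N, hN⟩ := hS
  let Z := Spec (CommRingCat.of (ULift.{u} ℤ))
  have hP := Props12.AmpleExternal.isAmple_externalTensor (CohB1.ProjSpace.toSpec n (ULift.{u} ℤ))
    (specULiftZIsTerminal.from S) _ N (MorProj.isAmple_twistProjSpace n) hN
  have : CompactSpace (CohB1.ProjSpaceOver n S) := (isAmple_iff_affGlocus.1 hP).2.1
  have : CompactSpace X := QuasiCompact.compactSpace_of_compactSpace i
  exact ⟨_, isAmple_pullback_of_isEmbedding i i.isEmbedding hP⟩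

theorem exists_immersion_of_ample (hS : ∃ N : S.Modules, CohB1.IsAmple N) (f : X ⟶ S)
    [LocallyOfFiniteType f] [QuasiCompact f] (hX : ∃ L : X.Modules, CohB1.IsAmple L) :
    ∃ (n : ℕ) (i : X ⟶ CohB1.ProjSpaceOver n S), IsImmersion i ∧ QuasiCompact i ∧
      i ≫ CohB1.ProjSpaceOver.toBase n S = f := by
  obtain ⟨L, hL⟩ := hX
  obtain ⟨n₀, h⟩ := MorProj.eventually_isRelVeryAmplePn_pow f hL
  obtain ⟨n, i, hi, hif, -⟩ := h n₀ le_rfl
  have : QuasiCompact (i ≫ CohB1.ProjSpaceOver.toBase n S) := by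
    rw [show i ≫ CohB1.ProjSpaceOver.toBase n S = f from hif]; infer_instance
  have := CAlgSmall.ProjMore.isSeparated_toBase n S
  exact ⟨n, i, hi, QuasiCompact.of_comp i (CohB1.ProjSpaceOver.toBase n S), hif⟩

theorem exists_isRelAmple_of_isAmple (f : X ⟶ S) [QuasiCompact f] (h : ∃ L : X.Modules, CohB1.IsAmple L) :
    ∃ L : X.Modules, RelAmple.IsRelAmple f L := by
  obtain ⟨L, hL⟩ := h
  refine ⟨L, ‹_›, fun V => isAmple_of_iso (restrictIsoPullback (f ⁻¹ᵁ V.1).ι L).symm ?_⟩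
  have : CompactSpace (f ⁻¹ᵁ V.1 : Scheme.{u}) :=
    isCompact_iff_compactSpace.1 (f.isCompact_preimage V.2.isCompact)
  exact isAmple_pullback_of_isEmbedding _ (f ⁻¹ᵁ V.1).ι.isEmbedding hL

theorem exists_isAmple_of_isRelAmple (f : X ⟶ S) (hS : ∃ N : S.Modules, CohB1.IsAmple N)
    (h : ∃ L : X.Modules, RelAmple.IsRelAmple f L) : ∃ L : X.Modules, CohB1.IsAmple L := by
  obtain ⟨N, hN⟩ := hS
  obtain ⟨L, hL⟩ := h
  obtain ⟨m, hm⟩ := eventually_isAmple_tensor_pullback f hN hL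
  exact ⟨_, hm m le_rfl⟩

end Groth.Agent.FlatMor12.ProjectiveAmple
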