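import Groth.Agent.FlatMor12.HilbBC
import Mathlib.AlgebraicGeometry.ZariskisMainTheorem

/-!
# The Hilbert functor of an open subscheme
-/

set_option autoImplicit false
set_option backward.isDefEq.respectTransparency false

universe u

open CategoryTheory CategoryTheory.Limits AlgebraicGeometry

namespace Groth.Agent.FlatMor12.HilbOpen

section

variable {A B : Scheme.{u}} (m : A ⟶ B) [IsOpenImmersion m] (I : B.IdealSheafData)
  (hI : (I.support : Set B) ⊆ Set.range m)

include hI in
theorem isIso_snd : IsIso (pullback.snd m I.subschemeι) := by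
  have : Epi (pullback.snd m I.subschemeι).base := by
    rw [TopCat.epi_iff_surjective]
    intro z
    have hz : I.subschemeι z ∈ Set.range m := hI (by rw [← I.range_subschemeι]; exact ⟨z, rfl⟩)
    have : z ∈ Set.range (pullback.snd m I.subschemeι) := by
      rw [Scheme.Pullback.range_snd]; exact hz
    exact this
  exact IsOpenImmersion.isIso _

include hI in
/-- A closed subscheme inside an open is recovered from its restriction. -/
theorem ker_comap_comp : ((I.comap m).subschemeι ≫ m).ker = I := by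
  have := isIso_snd m I hI
  rw [← Scheme.IdealSheafData.comapIso_hom_fst, Category.assoc, pullback.condition,
    Scheme.Hom.ker_comp_of_isIso, Scheme.Hom.ker_comp_of_isIso, I.ker_subschemeι]

include hI in
theorem prop_comap (P : MorphismProperty Scheme.{u}) [P.RespectsIso] {T : Scheme.{u}} (q : B ⟶ T)
    (h : P (I.subschemeι ≫ q)) : P ((I.comap m).subschemeι ≫ m ≫ q) := by
  have := isIso_snd m I hI
  rw [← Scheme.IdealSheafData.comapIso_hom_fst, Category.assoc, ← Category.assoc (pullback.fst _ _),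
    pullback.condition, Category.assoc, ← Category.assoc]
  exact (MorphismProperty.cancel_left_of_respectsIso P _ _).2 h

end

variable {X S : Scheme.{u}} (f : X ⟶ S)

theorem isPullback_XTmap {T T' : Over S} (g : T' ⟶ T) :
    IsPullback (PicF.XTmap f g) (PicF.XTproj f T') (PicF.XTproj f T) g.left := by
  refine IsPullback.of_right (h₁₂ := pullback.fst f T.hom) (h₂₂ := T.hom) (v₁₃ := f) ?_ (by simp [PicF.XTmap])
    (IsPullback.of_hasPullback f T.hom)
  have h1 : PicF.XTmap f g ≫ pullback.fst f T.hom = pullback.fst f T'.hom := by simp [PicF.XTmap]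
  rw [h1, Over.w g]
  exact IsPullback.of_hasPullback f T'.hom

theorem prop_hilbPull (P : MorphismProperty Scheme.{u}) [P.IsStableUnderBaseChange] {T T' : Over S}
    (g : T' ⟶ T) (I : (PicF.XT f T).IdealSheafData) (h : P (I.subschemeι ≫ PicF.XTproj f T)) :
    P ((FGA.hilbPull f g I).subschemeι ≫ PicF.XTproj f T') := by
  have hpb := (IsPullback.of_hasPullback (PicF.XTmap f g) I.subschemeι).flip.paste_vert (isPullback_XTmap f g)
  rw [HilbBC.hilbPull_eq_comap, ← Scheme.IdealSheafData.comapIso_hom_fst, Category.assoc]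
  exact (MorphismProperty.cancel_left_of_respectsIso P _ _).2
    (MorphismProperty.of_isPullback hpb h)

variable {U : Scheme.{u}} (j : U ⟶ X)

/-- The map `U_T → X_T`. -/
noncomputable abbrev incl (T : Over S) : PicF.XT (j ≫ f) T ⟶ PicF.XT f T :=
  pullback.map (j ≫ f) T.hom f T.hom j (𝟙 T.left) (𝟙 S) (Category.comp_id _)
    ((Category.comp_id _).trans (Category.id_comp _).symm)

theorem incl_snd (T : Over S) : incl f j T ≫ PicF.XTproj f T = PicF.XTproj (j ≫ f) T := by
  simp

theorem range_incl (T : Over S) : Set.range (incl f j T) = pullback.fst f T.hom ⁻¹' Set.range j := by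
  rw [Scheme.Pullback.range_map]
  simp

theorem exists_open_represented [IsSeparated f] [IsOpenImmersion j] (H : Over S) (Z : FGA.HilbSet f H)
    (hH : FGA.HilbRepresentedBy f H Z) :
    ∃ (H₀ : H.left.Opens) (Z₀ : FGA.HilbSet (j ≫ f) (Over.mk (H₀.ι ≫ H.hom))),
      Z₀.1 = Z.1.comap (pullback.map (j ≫ f) (H₀.ι ≫ H.hom) f H.hom j H₀.ι (𝟙 S)
        (Category.comp_id _) (Category.comp_id _)) ∧
      FGA.HilbRepresentedBy (j ≫ f) (Over.mk (H₀.ι ≫ H.hom)) Z₀ := by
  let π := Z.1.subschemeι ≫ PicF.XTproj f H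
  have hπ : IsProper π := Z.2.1
  let bad : Set Z.1.subscheme := {z | pullback.fst f H.hom (Z.1.subschemeι z) ∉ Set.range j}
  have hbad : IsClosed bad :=
    (IsOpenImmersion.isOpen_range j).isClosed_compl.preimage
      ((pullback.fst f H.hom).continuous.comp Z.1.subschemeι.continuous)
  let H₀ : H.left.Opens := ⟨(π '' bad)ᶜ, (π.isClosedMap _ hbad).isOpen_compl⟩
  let HO : Over S := Over.mk (H₀.ι ≫ H.hom)
  let ι₀ : HO ⟶ H := Over.homMk H₀.ι
  let m := incl f j HO
  let Zr := FGA.hilbPull f ι₀ Z.1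
  have hsup : (Zr.support : Set (PicF.XT f HO)) ⊆ Set.range m := by
    show ((FGA.hilbPull f ι₀ Z.1).support : Set (PicF.XT f HO)) ⊆ Set.range (incl f j HO)
    rw [range_incl, HilbBC.hilbPull_eq_comap, Scheme.IdealSheafData.support_comap]
    intro x hx
    have hx' : PicF.XTmap f ι₀ x ∈ (Z.1.support : Set (PicF.XT f H)) := hx
    rw [← Z.1.range_subschemeι] at hx'
    obtain ⟨z, hz⟩ := hx'
    by_contra hne
    have hzb : z ∈ bad := by
      show pullback.fst f H.hom (Z.1.subschemeι z) ∉ _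
      rw [hz, ← Scheme.Hom.comp_apply, show PicF.XTmap f ι₀ ≫ pullback.fst f H.hom = pullback.fst f HO.hom by
        simp [PicF.XTmap]]
      exact hne
    have h0 : π z ∈ (H₀ : Set H.left) := by
      have : π z = H₀.ι (PicF.XTproj f HO x) := by
        rw [Scheme.Hom.comp_apply, hz, ← Scheme.Hom.comp_apply,
          show PicF.XTmap f ι₀ ≫ PicF.XTproj f H = PicF.XTproj f HO ≫ ι₀.left from (isPullback_XTmap f ι₀).w]
        exact Scheme.Hom.comp_apply _ _ _
      rw [this, ← H₀.range_ι]
      exact ⟨_, rfl⟩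
    exact h0 ⟨z, hzb, rfl⟩
  let Z₀ : FGA.HilbSet (j ≫ f) HO := ⟨Zr.comap m,
    by rw [← incl_snd]; exact prop_comap m Zr hsup @IsProper _ (prop_hilbPull f @IsProper ι₀ Z.1 Z.2.1),
    by rw [← incl_snd]; exact prop_comap m Zr hsup @Flat _ (prop_hilbPull f @Flat ι₀ Z.1 Z.2.2)⟩
  refine ⟨H₀, Z₀, ?_, ?_, fun T _ Y₀ => ?_⟩
  · show Zr.comap m = _
    rw [show Zr = Z.1.comap (PicF.XTmap f ι₀) from HilbBC.hilbPull_eq_comap f ι₀ Z.1,
      ← Scheme.IdealSheafData.comap_comp]
    congr 1
    refine pullback.hom_ext ?_ ?_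
    · rw [Category.assoc]
      simp only [PicF.XTmap, m, incl, HO, Over.mk_hom, Over.mk_left]
      erw [pullback.lift_fst, pullback.lift_fst]
      simp
    · rw [Category.assoc]
      simp only [PicF.XTmap, m, incl, HO, ι₀, Over.mk_hom, Over.mk_left]
      erw [pullback.lift_snd, pullback.lift_snd]
      simp
  · have := hH.1
    exact isLocallyNoetherian_of_isOpenImmersion H₀.ι
  let mT := incl f j T
  have hcl : IsClosedImmersion (Y₀.1.subschemeι ≫ mT) := by
    have h1 : IsProper ((Y₀.1.subschemeι ≫ mT) ≫ pullback.snd f T.hom) := by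
      rw [Category.assoc, incl_snd]
      exact Y₀.2.1
    exact (IsClosedImmersion.iff_isProper_and_mono _).2
      ⟨IsProper.of_comp _ (pullback.snd f T.hom), inferInstance⟩
  let i := Y₀.1.subschemeι ≫ mT
  have hYsup : (i.ker.support : Set (PicF.XT f T)) ⊆ Set.range mT := by
    rw [Scheme.Hom.support_ker, i.isClosedEmbedding.isClosed_range.closure_eq]
    rintro _ ⟨z, rfl⟩
    exact ⟨Y₀.1.subschemeι z, rfl⟩
  have hYc : i.ker.comap mT = Y₀.1 := by
    have hp : IsPullback Y₀.1.subschemeι (𝟙 _) mT i :=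
      ⟨⟨by simp [i]⟩, ⟨PullbackCone.IsLimit.mk _ (fun s => s.snd) (fun s => by
        rw [← cancel_mono mT, Category.assoc]
        exact s.condition.symm) (fun s => by simp) fun s l h1 h2 => by simpa using h2⟩⟩
    refine Eq.trans ?_ (Scheme.IdealSheafData.ker_subschemeι Y₀.1)
    conv_rhs => rw [← hp.isoPullback_hom_fst, Scheme.Hom.ker_comp_of_isIso,
      Scheme.IdealSheafData.ker_fst_of_isClosedImmersion]
  have hiT : i ≫ PicF.XTproj f T = Y₀.1.subschemeι ≫ PicF.XTproj (j ≫ f) T := by
    rw [Category.assoc, incl_snd]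
  let Y : FGA.HilbSet f T := ⟨i.ker, by
      rw [← (MorphismProperty.cancel_left_of_respectsIso @IsProper i.toImage _), ← Category.assoc]
      show IsProper ((i.toImage ≫ i.imageι) ≫ _)
      rw [Scheme.Hom.toImage_imageι, hiT]
      exact Y₀.2.1, by
      rw [← (MorphismProperty.cancel_left_of_respectsIso @Flat i.toImage _), ← Category.assoc]
      show Flat ((i.toImage ≫ i.imageι) ≫ _)
      rw [Scheme.Hom.toImage_imageι, hiT]
      exact Y₀.2.2⟩
  obtain ⟨g, hg, huniq⟩ := hH.2 T Y
  have hgH : Set.range g.left ⊆ Set.range H₀.ι := by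
    rw [H₀.range_ι]
    rintro _ ⟨t, rfl⟩ ⟨z, hz, hzt⟩
    obtain ⟨w, hw1, -⟩ := Scheme.Pullback.exists_preimage_pullback (f := PicF.XTproj f H) (g := g.left)
      (Z.1.subschemeι z) t ((Scheme.Hom.comp_apply _ _ z).symm.trans hzt)
    let x := (isPullback_XTmap f g).isoPullback.inv w
    have hx1 : PicF.XTmap f g x = Z.1.subschemeι z := by
      rw [← hw1, ← (isPullback_XTmap f g).isoPullback_inv_fst, Scheme.Hom.comp_apply]
    have hxY : x ∈ (i.ker.support : Set (PicF.XT f T)) := by
      rw [← show FGA.hilbPull f g Z.1 = i.ker from hg, HilbBC.hilbPull_eq_comap, Scheme.IdealSheafData.support_comap]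
      show PicF.XTmap f g x ∈ (Z.1.support : Set (PicF.XT f H))
      rw [hx1, ← Z.1.range_subschemeι]
      exact ⟨z, rfl⟩
    have := hYsup hxY
    rw [range_incl] at this
    refine hz ?_
    rw [← hx1, ← Scheme.Hom.comp_apply, show PicF.XTmap f g ≫ pullback.fst f H.hom = pullback.fst f T.hom by
      simp [PicF.XTmap]]
    exact this
  have key : ∀ g₀ : T ⟶ HO, FGA.hilbPull (j ≫ f) g₀ Z₀.1 = (FGA.hilbPull f (g₀ ≫ ι₀) Z.1).comap mT := fun g₀ => by
    rw [HilbBC.hilbPull_eq_comap, HilbBC.hilbPull_eq_comap]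
    show ((FGA.hilbPull f ι₀ Z.1).comap m).comap _ = _
    rw [HilbBC.hilbPull_eq_comap, ← Scheme.IdealSheafData.comap_comp, ← Scheme.IdealSheafData.comap_comp,
      ← Scheme.IdealSheafData.comap_comp]
    congr 1
    exact pullback.hom_ext (by simp [PicF.XTmap, m, mT]) (by simp [PicF.XTmap, m, mT])
  let g₀ : T ⟶ HO := Over.homMk (IsOpenImmersion.lift H₀.ι g.left hgH) (by
    show IsOpenImmersion.lift H₀.ι g.left hgH ≫ H₀.ι ≫ H.hom = T.hom
    rw [IsOpenImmersion.lift_fac_assoc]
    exact Over.w g)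
  have hg₀ : g₀ ≫ ι₀ = g := Over.OverMorphism.ext (IsOpenImmersion.lift_fac _ _ _)
  refine ⟨g₀, ?_, fun g₁ hg₁ => ?_⟩
  · show _ = Y₀.1
    rw [key, hg₀, hg, hYc]
  · have hs : ((FGA.hilbPull f (g₁ ≫ ι₀) Z.1).support : Set (PicF.XT f T)) ⊆ Set.range mT := by
      intro x hx
      have h1 : PicF.XTmap f g₁ x ∈ (Zr.support : Set (PicF.XT f HO)) := by
        show PicF.XTmap f g₁ x ∈ ((FGA.hilbPull f ι₀ Z.1).support : Set (PicF.XT f HO))
        rw [HilbBC.hilbPull_eq_comap, Scheme.IdealSheafData.support_comap]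
        rw [HilbBC.hilbPull_eq_comap, Scheme.IdealSheafData.support_comap] at hx
        show PicF.XTmap f ι₀ (PicF.XTmap f g₁ x) ∈ (Z.1.support : Set (PicF.XT f H))
        rw [← Scheme.Hom.comp_apply, show PicF.XTmap f g₁ ≫ PicF.XTmap f ι₀ = PicF.XTmap f (g₁ ≫ ι₀) from
          pullback.hom_ext (by simp [PicF.XTmap]) (by simp [PicF.XTmap])]
        exact hx
      have h2 := hsup h1
      rw [range_incl] at h2 ⊢
      show pullback.fst f T.hom x ∈ Set.range j
      rw [← show PicF.XTmap f g₁ ≫ pullback.fst f HO.hom = pullback.fst f T.hom from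
        (pullback.lift_fst _ _ _).trans (Category.comp_id _), Scheme.Hom.comp_apply]
      exact h2
    have he := huniq (g₁ ≫ ι₀) (by
      show _ = i.ker
      rw [← ker_comap_comp mT _ hs, show (FGA.hilbPull f (g₁ ≫ ι₀) Z.1).comap mT = Y₀.1 from (key g₁).symm.trans hg₁])
    refine Over.OverMorphism.ext ?_
    rw [← cancel_mono H₀.ι]
    exact (congrArg (fun k : T ⟶ H => k.left) he).trans (IsOpenImmersion.lift_fac _ _ _).symm

end Groth.Agent.FlatMor12.HilbOpen
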