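import Groth.Prelude.Def_BlowUp2
import Groth.Agent.ProjLib.BlowUpBasics

/-! Blow-up in two disjoint centres is the fibre product of the blow-ups. -/

set_option autoImplicit false
set_option backward.isDefEq.respectTransparency false

universe u

namespace Groth.Agent.FlatMor12.BlowUpDisjoint

open AlgebraicGeometry CategoryTheory Limits TopologicalSpace

variable {X Y : Scheme.{u}}

theorem comap_nonzero_divisor {R S : Type*} [CommRing R] [CommRing S] [Algebra R S]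
    (M : Submonoid R) [IsLocalization M S] {r : R} (hr : r ∈ nonZeroDivisors R) :
    algebraMap R S r ∈ nonZeroDivisors S := by
  rw [mem_nonZeroDivisors_iff_right]
  intro z hz
  obtain ⟨a, c, rfl⟩ := IsLocalization.exists_mk'_eq M z
  rw [mul_comm, IsLocalization.mul_mk'_eq_mk'_of_mul, IsLocalization.mk'_eq_zero_iff] at hz
  obtain ⟨d, hd⟩ := hz
  rw [IsLocalization.mk'_eq_zero_iff]
  refine ⟨d, mem_nonZeroDivisors_iff_right.1 hr _ ?_⟩
  linear_combination hd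

theorem span_transport {R S : Type*} [CommRing R] [CommRing S] (e : R ≃+* S) (I : Ideal S) {f : S}
    (hf : f ∈ nonZeroDivisors S) (hI : I = Ideal.span {f}) :
    e.symm f ∈ nonZeroDivisors R ∧ I.comap e.toRingHom = Ideal.span {e.symm f} := by
  constructor
  · rw [mem_nonZeroDivisors_iff_right]
    intro x hx
    refine e.injective ((mem_nonZeroDivisors_iff_right.1 hf _ ?_).trans (map_zero e).symm)
    simpa using congrArg e hx
  · subst hI
    ext x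
    simp only [Ideal.mem_comap, Ideal.mem_span_singleton, RingEquiv.toRingHom_eq_coe, RingHom.coe_coe]
    rw [← map_dvd_iff e.symm, RingEquiv.symm_apply_apply]

/-- Effective Cartier ideals pull back along open immersions. -/
theorem isEffCartierIdeal_comap (I : X.IdealSheafData) (hI : BlowUp.IsEffCartierIdeal I) (j : Y ⟶ X)
    [IsOpenImmersion j] : BlowUp.IsEffCartierIdeal (I.comap j) := by
  intro y
  obtain ⟨U, hyU, f, hf, hU⟩ := hI (j y)
  obtain ⟨g, hg, hyg⟩ := U.2.exists_basicOpen_le (V := j.opensRange) ⟨j y, y, rfl⟩ hyU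
  let D := X.affineBasicOpen (U := U) g
  have hV : IsAffineOpen (j ⁻¹ᵁ D.1) := D.2.preimage_of_isOpenImmersion j hg
  have hD : I.ideal D = Ideal.span {X.presheaf.map (homOfLE (X.basicOpen_le g)).op f} := by
    rw [← I.map_ideal_basicOpen U g, hU, Ideal.map_span, Set.image_singleton]
  have := U.2.isLocalization_basicOpen g
  have hfD : X.presheaf.map (homOfLE (X.basicOpen_le g)).op f ∈ nonZeroDivisors Γ(X, D.1) :=
    comap_nonzero_divisor (Submonoid.powers g) (S := Γ(X, X.basicOpen g)) hf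
  have key : ∀ E : X.affineOpens, E = D →
      ∃ a ∈ nonZeroDivisors Γ(X, E.1), I.ideal E = Ideal.span {a} := by
    rintro E rfl
    exact ⟨_, hfD, hD⟩
  obtain ⟨a, ha, haI⟩ := key ⟨j ''ᵁ (j ⁻¹ᵁ D.1), hV.image_of_isOpenImmersion j⟩ (Subtype.ext (by
    show j ''ᵁ (j ⁻¹ᵁ D.1) = D.1
    rw [Scheme.Hom.image_preimage_eq_opensRange_inf]
    exact inf_eq_right.2 hg))
  refine ⟨⟨_, hV⟩, hyg, ?_⟩
  rw [Scheme.IdealSheafData.ideal_comap_of_isOpenImmersion]
  obtain ⟨h1, h2⟩ := span_transport (j.appIso (j ⁻¹ᵁ D.1)).symm.commRingCatIsoToRingEquiv _ ha haI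
  exact ⟨_, h1, h2⟩

/-- Being effective Cartier is local. -/
theorem isEffCartierIdeal_of_cover (I : X.IdealSheafData)
    (h : ∀ x : X, ∃ (Z : Scheme.{u}) (j : Z ⟶ X), IsOpenImmersion j ∧ x ∈ Set.range j ∧
      BlowUp.IsEffCartierIdeal (I.comap j)) : BlowUp.IsEffCartierIdeal I := by
  intro x
  obtain ⟨Z, j, _, ⟨z, rfl⟩, hj⟩ := h x
  obtain ⟨V, hzV, f, hf, hV⟩ := hj z
  rw [Scheme.IdealSheafData.ideal_comap_of_isOpenImmersion] at hV
  let e := (j.appIso V).symm.commRingCatIsoToRingEquiv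
  obtain ⟨h1, h2⟩ := span_transport e.symm _ hf hV
  refine ⟨⟨j ''ᵁ V, V.2.image_of_isOpenImmersion j⟩, ⟨z, hzV, rfl⟩, _, h1, ?_⟩
  refine Eq.trans ?_ h2
  rw [Ideal.comap_comap]
  refine (Ideal.comap_id _).symm.trans (congrArg (fun φ => Ideal.comap φ _) ?_)
  ext a
  exact (e.apply_symm_apply a).symm

variable (I₁ I₂ : X.IdealSheafData)

theorem comap_inf_of_disjoint (W : X.Opens) (hW : Disjoint (W : Set X) (I₂.support : Set X)) :
    (I₁ ⊓ I₂).comap W.ι = I₁.comap W.ι := by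
  have h2 : I₂.comap W.ι = ⊤ :=
    ProjLib.comap_eq_top_of_disjoint I₂ W.ι (by rwa [Scheme.Opens.range_ι])
  refine Scheme.IdealSheafData.ext (funext fun V => ?_)
  have h := congrArg (fun J => J.ideal V) h2
  simp only [Scheme.IdealSheafData.ideal_comap_of_isOpenImmersion,
    Scheme.IdealSheafData.ideal_top, Pi.top_apply] at h
  simp only [Scheme.IdealSheafData.ideal_comap_of_isOpenImmersion, Scheme.IdealSheafData.ideal_inf,
    Pi.inf_apply, Ideal.comap_inf, h, inf_top_eq]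

variable {I₁ I₂}

/-- The inverse image of the intersection of two disjoint centres is effective Cartier iff both are. -/
theorem isEffCartier_inf_iff (hd : I₁ ⊔ I₂ = ⊤) (g : Y ⟶ X) :
    BlowUp.IsEffCartierIdeal ((I₁ ⊓ I₂).comap g) ↔
      BlowUp.IsEffCartierIdeal (I₁.comap g) ∧ BlowUp.IsEffCartierIdeal (I₂.comap g) := by
  have hW : ∀ x : X, x ∉ (I₁.support : Set X) ∨ x ∉ (I₂.support : Set X) := by
    intro x
    by_contra hx
    rw [not_or, not_not, not_not] at hx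
    have : x ∈ ((I₁ ⊔ I₂).support : Set X) := by
      simpa [Scheme.IdealSheafData.support_sup] using hx
    simp [hd] at this
  let W₁ : X.Opens := ⟨(I₁.support : Set X)ᶜ, I₁.support.isClosed.isOpen_compl⟩
  let W₂ : X.Opens := ⟨(I₂.support : Set X)ᶜ, I₂.support.isClosed.isOpen_compl⟩
  have key : ∀ (A B : X.IdealSheafData) (W : X.Opens), Disjoint (W : Set X) (B.support : Set X) →
      (A ⊓ B).comap ((g ⁻¹ᵁ W).ι ≫ g) = A.comap ((g ⁻¹ᵁ W).ι ≫ g) ∧
        B.comap ((g ⁻¹ᵁ W).ι ≫ g) = ⊤ := by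
    intro A B W hd'
    refine ⟨?_, ProjLib.comap_eq_top_of_disjoint B _ (hd'.mono_left ?_)⟩
    · rw [← morphismRestrict_ι, Scheme.IdealSheafData.comap_comp,
        comap_inf_of_disjoint A B W hd', ← Scheme.IdealSheafData.comap_comp]
    · rintro _ ⟨w, rfl⟩
      exact w.2
  have hd₂ : Disjoint (W₂ : Set X) (I₂.support : Set X) := Set.disjoint_left.2 fun _ h => h
  have hd₁ : Disjoint (W₁ : Set X) (I₁.support : Set X) := Set.disjoint_left.2 fun _ h => h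
  constructor
  · intro h
    constructor
    · refine isEffCartierIdeal_of_cover _ fun y => ?_
      rcases hW (g y) with h' | h'
      · refine ⟨_, (g ⁻¹ᵁ W₁).ι, inferInstance, ⟨⟨y, h'⟩, rfl⟩, ?_⟩
        rw [← Scheme.IdealSheafData.comap_comp, (key I₂ I₁ W₁ hd₁).2]
        exact ProjLib.isEffCartierIdeal_top
      · refine ⟨_, (g ⁻¹ᵁ W₂).ι, inferInstance, ⟨⟨y, h'⟩, rfl⟩, ?_⟩
        rw [← Scheme.IdealSheafData.comap_comp, ← (key I₁ I₂ W₂ hd₂).1, Scheme.IdealSheafData.comap_comp]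
        exact isEffCartierIdeal_comap _ h _
    · refine isEffCartierIdeal_of_cover _ fun y => ?_
      rcases hW (g y) with h' | h'
      · refine ⟨_, (g ⁻¹ᵁ W₁).ι, inferInstance, ⟨⟨y, h'⟩, rfl⟩, ?_⟩
        rw [← Scheme.IdealSheafData.comap_comp, ← (key I₂ I₁ W₁ hd₁).1, inf_comm,
          Scheme.IdealSheafData.comap_comp]
        exact isEffCartierIdeal_comap _ h _
      · refine ⟨_, (g ⁻¹ᵁ W₂).ι, inferInstance, ⟨⟨y, h'⟩, rfl⟩, ?_⟩
        rw [← Scheme.IdealSheafData.comap_comp, (key I₁ I₂ W₂ hd₂).2]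
        exact ProjLib.isEffCartierIdeal_top
  · rintro ⟨h1, h2⟩
    refine isEffCartierIdeal_of_cover _ fun y => ?_
    rcases hW (g y) with h' | h'
    · refine ⟨_, (g ⁻¹ᵁ W₁).ι, inferInstance, ⟨⟨y, h'⟩, rfl⟩, ?_⟩
      rw [← Scheme.IdealSheafData.comap_comp, inf_comm, (key I₂ I₁ W₁ hd₁).1,
        Scheme.IdealSheafData.comap_comp]
      exact isEffCartierIdeal_comap _ h2 _
    · refine ⟨_, (g ⁻¹ᵁ W₂).ι, inferInstance, ⟨⟨y, h'⟩, rfl⟩, ?_⟩
      rw [← Scheme.IdealSheafData.comap_comp, (key I₁ I₂ W₂ hd₂).1,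
        Scheme.IdealSheafData.comap_comp]
      exact isEffCartierIdeal_comap _ h1 _

/-- The pullback of the ideal to the fibre product of two blow-ups with disjoint centres. -/
theorem isEffCartier_fst {B₁ B₂ : Scheme.{u}} (σ₁ : B₁ ⟶ X) (σ₂ : B₂ ⟶ X)
    (hd : I₁ ⊔ I₂ = ⊤) (h₁ : BlowUp.IsBlowUp σ₁ I₁) (h₂ : BlowUp.IsBlowUp σ₂ I₂) :
    BlowUp.IsEffCartierIdeal (I₁.comap (pullback.fst σ₁ σ₂ ≫ σ₁)) := by
  refine isEffCartierIdeal_of_cover _ fun z => ?_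
  by_cases hz : σ₁ (pullback.fst σ₁ σ₂ z) ∈ (I₁.support : Set X)
  · let W : X.Opens := ⟨(I₂.support : Set X)ᶜ, I₂.support.isClosed.isOpen_compl⟩
    have hzW : σ₁ (pullback.fst σ₁ σ₂ z) ∈ W := fun h' => by
      have : σ₁ (pullback.fst σ₁ σ₂ z) ∈ ((I₁ ⊔ I₂).support : Set X) := by
        simpa [Scheme.IdealSheafData.support_sup] using ⟨hz, h'⟩
      simp [hd] at this
    have := ProjLib.isIso_morphismRestrict h₂ W (Set.disjoint_left.2 fun _ h h' => h' h)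
    let q := pullback.fst (C := Scheme.{u}) σ₁ σ₂
    -- `q` is an isomorphism over `W`
    have hq : IsIso (q ∣_ (σ₁ ⁻¹ᵁ W)) := by
      have hsq : IsPullback (q ∣_ (σ₁ ⁻¹ᵁ W))
          ((pullback.snd σ₁ σ₂).resLE (σ₂ ⁻¹ᵁ W) (q ⁻¹ᵁ σ₁ ⁻¹ᵁ W)
            (by rw [← Scheme.Hom.comp_preimage, ← Scheme.Hom.comp_preimage, pullback.condition]))
          (σ₁ ∣_ W) (σ₂ ∣_ W) := by
        refine IsPullback.of_right (h₁₂ := (σ₂ ⁻¹ᵁ W).ι) ?_ ?_
          (isPullback_morphismRestrict σ₂ W).flip |>.flip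
        · rw [Scheme.Hom.resLE_comp_ι, morphismRestrict_ι]
          exact (isPullback_morphismRestrict q _).flip.paste_horiz (IsPullback.of_hasPullback σ₁ σ₂).flip
        · rw [← cancel_mono W.ι]
          simp [q, pullback.condition]
      exact hsq.isIso_fst_of_isIso
    refine ⟨_, (q ⁻¹ᵁ σ₁ ⁻¹ᵁ W).ι, inferInstance, ⟨⟨z, hzW⟩, rfl⟩, ?_⟩
    rw [← Scheme.IdealSheafData.comap_comp]
    have : (q ⁻¹ᵁ σ₁ ⁻¹ᵁ W).ι ≫ q = q ∣_ (σ₁ ⁻¹ᵁ W) ≫ (σ₁ ⁻¹ᵁ W).ι := (morphismRestrict_ι q _).symm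
    rw [reassoc_of% this, ← Category.assoc, Scheme.IdealSheafData.comap_comp]
    exact isEffCartierIdeal_comap _ h₁.1 _
  · let W : X.Opens := ⟨(I₁.support : Set X)ᶜ, I₁.support.isClosed.isOpen_compl⟩
    refine ⟨_, ((pullback.fst σ₁ σ₂ ≫ σ₁) ⁻¹ᵁ W).ι, inferInstance, ⟨⟨z, hz⟩, rfl⟩, ?_⟩
    rw [← Scheme.IdealSheafData.comap_comp, ProjLib.comap_eq_top_of_disjoint I₁ _ ?_]
    · exact ProjLib.isEffCartierIdeal_top
    · rw [Set.disjoint_left]
      rintro _ ⟨w, rfl⟩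
      exact w.2

/-- The blow-up in two disjoint centres is the fibre product of the blow-ups. -/
theorem exists_iso {B B₁ B₂ : Scheme.{u}} (hd : I₁ ⊔ I₂ = ⊤) (σ : B ⟶ X)
    (hσ : BlowUp.IsBlowUp σ (I₁ ⊓ I₂)) (σ₁ : B₁ ⟶ X) (hσ₁ : BlowUp.IsBlowUp σ₁ I₁) (σ₂ : B₂ ⟶ X)
    (hσ₂ : BlowUp.IsBlowUp σ₂ I₂) :
    ∃ ι : B ⟶ pullback σ₁ σ₂, IsIso ι ∧ ι ≫ pullback.fst σ₁ σ₂ ≫ σ₁ = σ := by
  obtain ⟨hc₁, hc₂⟩ := (isEffCartier_inf_iff hd σ).1 hσ.1
  obtain ⟨a₁, ha₁, -⟩ := hσ₁.2 B σ hc₁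
  obtain ⟨a₂, ha₂, -⟩ := hσ₂.2 B σ hc₂
  let p := pullback.fst σ₁ σ₂ ≫ σ₁
  have hp1 : BlowUp.IsEffCartierIdeal (I₁.comap p) := isEffCartier_fst σ₁ σ₂ hd hσ₁ hσ₂
  have hp2 : BlowUp.IsEffCartierIdeal (I₂.comap p) := by
    have h := isEffCartier_fst σ₂ σ₁ (by rw [sup_comm]; exact hd) hσ₂ hσ₁
    have := isEffCartierIdeal_comap _ h (pullbackSymmetry σ₁ σ₂).hom
    rwa [← Scheme.IdealSheafData.comap_comp, pullbackSymmetry_hom_comp_fst_assoc,
      ← pullback.condition] at this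
  obtain ⟨b, hb, -⟩ := hσ.2 _ p ((isEffCartier_inf_iff hd p).2 ⟨hp1, hp2⟩)
  let ι := pullback.lift a₁ a₂ (ha₁.trans ha₂.symm)
  have hι : ι ≫ p = σ := by rw [← Category.assoc, pullback.lift_fst]; exact ha₁
  refine ⟨ι, ⟨b, ?_, ?_⟩, hι⟩
  · obtain ⟨u, -, hu⟩ := hσ.2 B σ hσ.1
    exact (hu _ (by dsimp only; rw [Category.assoc, hb, hι])).trans (hu _ (Category.id_comp σ)).symm
  · have hbι : (b ≫ ι) ≫ p = p := by rw [Category.assoc, hι, hb]
    refine pullback.hom_ext ?_ ?_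
    · obtain ⟨u, -, hu⟩ := hσ₁.2 _ p hp1
      rw [Category.id_comp]
      exact (hu _ (by dsimp only; rw [Category.assoc]; exact hbι)).trans (hu _ rfl).symm
    · obtain ⟨u, -, hu⟩ := hσ₂.2 _ p hp2
      rw [Category.id_comp]
      exact (hu _ (by dsimp only; rw [Category.assoc, ← pullback.condition]; exact hbι)).trans
        (hu _ pullback.condition.symm).symm

end Groth.Agent.FlatMor12.BlowUpDisjoint
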