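import Groth.Agent.AmpleLib.Ample
import Groth.Agent.BlowUpLib.Proper
import Groth.Agent.FlatMor12.IdealModGen
import Groth.Agent.QuasiAffLib.Basic
import Groth.Prelude.Def_MoreMor

/-!
# Ample families of invertible modules
-/

set_option autoImplicit false
set_option linter.unusedSectionVars false
set_option backward.isDefEq.respectTransparency.types false
set_option maxHeartbeats 1000000

universe u

open CategoryTheory CategoryTheory.Limits AlgebraicGeometry Opposite TopologicalSpace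
open Groth.Agent.Coherent Groth.Agent.PicLib Groth.Agent.AmpleLib

namespace Groth.Agent.FlatMor12.AmpleFamily

variable {X : Scheme.{u}} {L M : X.Modules}

/-- `A` is the locus of a global section of some invertible module. -/
def IsLocus (A : X.Opens) : Prop :=
  ∃ (N : X.Modules) (u : Γ(N, ⊤)), PicF.IsInvertible N ∧ glocus N u = A

theorem hasAmpleFamily_of [CompactSpace X]
    (h : ∀ x : X, ∃ A : X.Opens, IsLocus A ∧ x ∈ A ∧ IsAffineOpen A) : MoreMor.HasAmpleFamily X := by
  refine ⟨inferInstance, fun x => ?_⟩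
  obtain ⟨A, ⟨N, u, hN, rfl⟩, hx, hA⟩ := h x
  have e : CohB1.genLocus (CohB1.tensorPow N 1) (unitDesc _ (powSec u 1)) = glocus N u := glocus_powSec hN u 0
  exact ⟨N, 1, _, hN, le_rfl, e.ge hx, e.symm ▸ hA⟩

theorem exists_locus (h : MoreMor.HasAmpleFamily X) (x : X) :
    ∃ A : X.Opens, IsLocus A ∧ x ∈ A ∧ IsAffineOpen A := by
  obtain ⟨L, n, s, hL, -, hx, hA⟩ := h.2 x
  exact ⟨_, ⟨_, _, isInvertible_tensorPow hL n, (genLocus_eq_glocus s).symm⟩, hx, hA⟩

theorem quasiSeparatedSpace (h : MoreMor.HasAmpleFamily X) : QuasiSeparatedSpace X := by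
  have := h.1
  rw [quasiSeparatedSpace_iff_forall_affineOpens]
  intro A B
  choose W hW hxW hWaff using exists_locus h
  obtain ⟨t, ht⟩ := isCompact_univ.elim_finite_subcover (fun x => (W x : Set X))
    (fun x => (W x).2) fun x _ => Set.mem_iUnion.2 ⟨x, hxW x⟩
  have heq : (A.1 ∩ B.1 : Set X) = ⋃ x ∈ t, ((W x ⊓ A.1 : X.Opens) : Set X) ∩ (W x ⊓ B.1 : X.Opens) := by
    ext z
    simp only [Set.mem_iUnion, Set.mem_inter_iff]
    constructor
    · intro hz
      obtain ⟨x, hx, hzx⟩ := Set.mem_iUnion₂.1 (ht (Set.mem_univ z))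
      exact ⟨x, hx, ⟨hzx, hz.1⟩, hzx, hz.2⟩
    · rintro ⟨x, _, h1, h2⟩
      exact ⟨h1.2, h2.2⟩
  rw [heq]
  refine t.isCompact_biUnion fun x _ => ?_
  obtain ⟨N, u, hN, hu⟩ := hW x
  exact (hWaff x).isQuasiSeparated _ _ Set.inter_subset_left (W x ⊓ A.1).2
    (hu ▸ isAffineOpen_glocus_inf hN u A.2).isCompact Set.inter_subset_left
    (W x ⊓ B.1).2 (hu ▸ isAffineOpen_glocus_inf hN u B.2).isCompact

/-- A tensor product with a generator generates only if the first factor does. -/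
theorem isGen_of_tmul {U : X.Opens} {a : Γ(L, U)} {b : Γ(M, U)}
    (hab : IsGen (CohB1.tensorMod L M) U (tmul a b)) (hb : IsGen M U b) : IsGen L U a := by
  intro V h
  have key : (fun r : Γ(X, V) => r • resM _ h (tmul a b)) =
      (fun m : Γ(L, V) => tmul m (resM M h b)) ∘ fun r : Γ(X, V) => r • resM L h a := by
    funext r
    simp only [Function.comp_apply]
    rw [resM_tmul, tmul_smul_left]
  have h1 := hab V h
  rw [key] at h1
  exact ((bijective_tmul_gen (M := L) hb V h).of_comp_iff' _).1 h1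

/-- The locus, inside the nonvanishing locus of a section, of a section given there only. -/
theorem isLocus_of_local [CompactSpace X] [QuasiSeparatedSpace X] (hL : PicF.IsInvertible L)
    (hM : PicF.IsInvertible M) (σ : Γ(M, ⊤)) {V : X.Opens} (hV : glocus M σ = V) (s : Γ(L, V))
    {A : X.Opens} (hAV : A ≤ V) (hgen : IsGen L A (resM L hAV s))
    (hmax : ∀ (W : X.Opens) (h : W ≤ V), IsGen L W (resM L h s) → W ≤ A) : IsLocus A := by
  subst hV
  have : Coh.IsQCoh L := isQCoh_of_isInvertible hL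
  obtain ⟨n, t, ht⟩ := exists_extend L σ hM s
  have hP := isInvertible_tensorPow hM n
  have hLP := isInvertible_tensorMod hL hP
  refine ⟨_, tmul t σ, isInvertible_tensorMod hLP hM, ?_⟩
  rw [glocus_tmul hLP hM]
  have hres : ∀ (W : X.Opens) (h : W ≤ glocus M σ),
      resM _ (le_top : W ≤ ⊤) t = tmul (resM L h s) (powSec (resM M (le_top : W ≤ ⊤) σ) n) := by
    intro W h
    rw [← resM_resM _ (le_top : glocus M σ ≤ ⊤) h t, ht, resM_tmul, resM_powSec, resM_resM]
  have hσ : ∀ (W : X.Opens) (h : W ≤ glocus M σ), IsGen _ W (powSec (resM M (le_top : W ≤ ⊤) σ) n) := by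
    intro W h
    refine isGen_powSec ?_ n
    have := (isGen_glocus σ).restrict h
    rwa [resM_resM] at this
  refine le_antisymm (hmax _ inf_le_right ?_) (le_inf ?_ hAV)
  · have h1 := (isGen_glocus t).restrict (inf_le_left : glocus _ t ⊓ glocus M σ ≤ glocus _ t)
    rw [resM_resM, hres _ inf_le_right] at h1
    exact isGen_of_tmul h1 (hσ _ inf_le_right)
  · rw [le_glocus_iff, hres A hAV]
    exact isGen_tmul hgen (hσ A hAV)

/-- A function on the nonvanishing locus of a section. -/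
theorem isLocus_basicOpen [CompactSpace X] [QuasiSeparatedSpace X]
    (hM : PicF.IsInvertible M) (σ : Γ(M, ⊤)) {V : X.Opens} (hV : glocus M σ = V) (r : Γ(X, V)) :
    IsLocus (X.basicOpen r) := by
  have hsm : ∀ (W : X.Opens) (h : W ≤ V),
      resM (Coh.structureModule X) h (r • oneSec V) = res h r • oneSec W := fun W h => by
    rw [resM_smul, resM_oneSec]
  refine isLocus_of_local (isInvertible_structureModule (X := X)) hM σ hV (r • oneSec V)
    (X.basicOpen_le r) ?_ fun W h hg => ?_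
  · rw [hsm]
    exact (isGen_smul_iff (RingedSpace.isUnit_res_basicOpen _ r)).2 (isGen_oneSec _)
  · rw [hsm] at hg
    have hu := (isGen_oneSec W).isUnit_coef hg
    rw [(isGen_oneSec W).coef_eq le_rfl (show res h r • resM _ le_rfl (oneSec W) = _ by rw [resM_self])] at hu
    exact BlowUpLib.le_basicOpen_of_isUnit h r hu

section BlowUp

variable {X' : Scheme.{u}} {b : X' ⟶ X} {I : X.IdealSheafData}

/-- On a blow-up, the locus where a given element of the centre generates is affine. -/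
theorem isAffineOpen_locus (hb : BlowUp.IsBlowUp b I) (U : X.affineOpens) {a : Γ(X, U.1)}
    (ha : a ∈ I.ideal U) : IsAffineOpen (BlowUpLib.locus I b U a) := by
  let i : BlowUpLib.Idx I := ⟨U, ⟨a, ha⟩⟩
  obtain ⟨e, he⟩ := BlowUpLib.exists_iso_of_isBlowUp hb (BlowUpLib.isBlowUp_blowUpMap (I := I))
  have h1 : BlowUpLib.locus I (BlowUpLib.blowUpMap I) U a = (BlowUpLib.chartι i).opensRange := by
    refine Opens.ext (Set.ext fun z => ?_)
    obtain ⟨j, w, rfl⟩ := BlowUpLib.exists_chartι z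
    show w ∈ BlowUpLib.chartι j ⁻¹ᵁ BlowUpLib.locus I (BlowUpLib.blowUpMap I) U a ↔
      w ∈ BlowUpLib.chartι j ⁻¹ᵁ (BlowUpLib.chartι i).opensRange
    rw [BlowUpLib.chartι_preimage_opensRange, BlowUpLib.preimage_locus ha _ BlowUpLib.good_blowUpMap _
      (by rw [BlowUpLib.chartι_cm]; exact BlowUpLib.good_cm j), BlowUpLib.chartι_cm]
  have h2 : IsAffineOpen (BlowUpLib.locus I (BlowUpLib.blowUpMap I) U a) :=
    h1 ▸ isAffineOpen_opensRange (BlowUpLib.chartι i)
  have h3 := h2.preimage e.hom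
  rwa [BlowUpLib.preimage_locus ha _ BlowUpLib.good_blowUpMap e.hom (he.symm ▸ hb.1), he] at h3

theorem exists_section_locus (hb : BlowUp.IsBlowUp b I) (U : X.affineOpens) {a : Γ(X, U.1)}
    (ha : a ∈ I.ideal U) :
    ∃ k : Γ(ClSub.idealMod (I.comap b), b ⁻¹ᵁ U.1),
      IsGen _ (BlowUpLib.locus I b U a) (resM _ (BlowUpLib.locus_le b U a) k) ∧
      ∀ (W : X'.Opens) (h : W ≤ b ⁻¹ᵁ U.1), IsGen _ W (resM _ h k) → W ≤ BlowUpLib.locus I b U a := by
  let E := I.comap b
  let f : Γ(X', b ⁻¹ᵁ U.1) := b.app U.1 a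
  have hker : ∀ (V : X'.affineOpens) (e : V.1 ≤ b ⁻¹ᵁ U.1), E.subschemeι.app V.1 (res e f) = 0 := by
    intro V e
    refine RingHom.mem_ker.1 ((E.ker_subschemeι_app V).symm ▸ ?_)
    exact ProjLib.map_ideal_le_comap_ideal I b U V e (Ideal.mem_map_of_mem _ ha)
  obtain ⟨k, hk⟩ : ∃ k, (ClSub.idealModι E).app (b ⁻¹ᵁ U.1) k = f := by
    refine (mem_range_idealModι E _ f).2 (E.subscheme.IsSheaf.section_ext fun w hw => ?_)
    obtain ⟨_, ⟨V, hV, rfl⟩, hwV, hVU⟩ :=
      X'.isBasis_affineOpens.exists_subset_of_mem_open (show E.subschemeι w ∈ b ⁻¹ᵁ U.1 from hw)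
        (b ⁻¹ᵁ U.1).isOpen
    refine ⟨E.subschemeι ⁻¹ᵁ V, E.subschemeι.preimage_mono hVU, hwV, ?_⟩
    rw [map_zero, ← hker ⟨V, hV⟩ hVU]
    exact (ConcreteCategory.congr_hom (E.subschemeι.naturality (homOfLE hVU).op) f).symm
  have hgenV : ∀ (V : X'.affineOpens) (e : V.1 ≤ b ⁻¹ᵁ U.1),
      (ClSub.idealModι E).app V.1 (resM _ e k) = (b.appLE U.1 V.1 e).hom a := by
    intro V e
    rw [app_resM, hk]
    rfl
  refine ⟨k, ?_, fun W h hg y hy => ?_⟩
  · refine isGen_of_cover (fun V : {V : X'.affineOpens // BlowUpLib.Generates I b U a V} => V.1.1)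
      (fun V => le_iSup (fun V : {V : X'.affineOpens // BlowUpLib.Generates I b U a V} => V.1.1) V)
      le_rfl fun V => ?_
    obtain ⟨⟨V, hV⟩, e, he⟩ := V
    rw [resM_resM]
    refine IdealModGen.bijective_smul_of_affine_gen E hV (hgenV ⟨V, hV⟩ e) ?_ he
    exact (isRegular_iff_mem_nonZeroDivisors.2 (BlowUpLib.mem_nonZeroDivisors_of_eff hb.1 he)).left
  · obtain ⟨_, ⟨V, hV, rfl⟩, hyV, hVW⟩ :=
      X'.isBasis_affineOpens.exists_subset_of_mem_open (show y ∈ W from hy) W.isOpen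
    have e : V ≤ b ⁻¹ᵁ U.1 := le_trans hVW h
    refine BlowUpLib.mem_locus.2 ⟨⟨V, hV⟩, hyV, e, le_antisymm (fun g hg' => ?_) ?_⟩
    · obtain ⟨k', hk'⟩ := (mem_range_idealModι E V g).2
        (RingHom.mem_ker.1 ((E.ker_subschemeι_app ⟨V, hV⟩).symm ▸ hg'))
      obtain ⟨r, hr⟩ := (hg V hVW).2 k'
      refine Ideal.mem_span_singleton'.2 ⟨r, ?_⟩
      have h4 := congrArg ((ClSub.idealModι E).app V) hr
      simp only [resM_resM] at h4
      rw [Scheme.Modules.Hom.app_smul, hgenV ⟨V, hV⟩ e, hk'] at h4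
      exact h4
    · rw [Ideal.span_singleton_le_iff_mem]
      exact ProjLib.map_ideal_le_comap_ideal I b U ⟨V, hV⟩ e (Ideal.mem_map_of_mem _ ha)

/-- The locus where an element of the centre generates is the locus of a global section, provided the preimage of
its affine open is one. -/
theorem isLocus_locus [CompactSpace X'] [QuasiSeparatedSpace X'] (hb : BlowUp.IsBlowUp b I)
    (U : X.affineOpens) {a : Γ(X, U.1)} (ha : a ∈ I.ideal U) (hU : IsLocus (b ⁻¹ᵁ U.1)) :
    IsLocus (BlowUpLib.locus I b U a) := by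
  obtain ⟨M, σ, hM, hσ⟩ := hU
  obtain ⟨k, hk1, hk2⟩ := exists_section_locus hb U ha
  exact isLocus_of_local (IdealModGen.isInvertible_idealMod _ hb.1) hM σ hσ k (BlowUpLib.locus_le b U a) hk1 hk2

/-- A blow-up has an ample family if the preimages of the opens of some affine cover are loci of sections. -/
theorem hasAmpleFamily_of_blowUp [CompactSpace X'] [QuasiSeparatedSpace X'] (hb : BlowUp.IsBlowUp b I)
    (h : ∀ x : X, ∃ U : X.affineOpens, x ∈ U.1 ∧ IsLocus (b ⁻¹ᵁ U.1)) : MoreMor.HasAmpleFamily X' := by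
  refine hasAmpleFamily_of fun y => ?_
  obtain ⟨U, hyU, hU⟩ := h (b y)
  obtain ⟨a, ha, hy⟩ := BlowUpLib.exists_mem_locus b hb.1 U hyU (I.ideal U : Set _) (Ideal.span_eq _)
  exact ⟨_, isLocus_locus hb U ha hU, hy, isAffineOpen_locus hb U ha⟩

end BlowUp

/-- Pullback along a quasi-affine morphism. -/
theorem hasAmpleFamily_of_isQuasiAffine {Y : Scheme.{u}} (f : X ⟶ Y) (hf : Mor2.IsQuasiAffine f)
    [QuasiSeparated f] (hY : MoreMor.HasAmpleFamily Y) : MoreMor.HasAmpleFamily X := by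
  have := hf.1
  have := hY.1
  have := quasiSeparatedSpace hY
  have : CompactSpace X := QuasiCompact.compactSpace_of_compactSpace f
  have : QuasiSeparatedSpace X := quasiSeparatedSpace_of_quasiSeparated f
  refine hasAmpleFamily_of fun x => ?_
  obtain ⟨A, ⟨N, a, hN, ha⟩, hx, hA⟩ := exists_locus hY (f x)
  have := hf.2 A hA
  obtain ⟨r, hr, hxr⟩ := QuasiAffLib.exists_affine_basicOpen (f ⁻¹ᵁ A) (show x ∈ f ⁻¹ᵁ A from hx)
  refine ⟨_, isLocus_basicOpen (PicLoc.isInvertible_pullback f hN) (pullSec f a) ?_ r, hxr, hr⟩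
  rw [← ha]
  exact glocus_pullSec f hN a

end Groth.Agent.FlatMor12.AmpleFamily
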