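import Groth.Agent.SmoothLib.Quotient
import Groth.Agent.FlatMorSlice.Bridge
import Groth.Agent.FlatMorSlice.Slice
import Groth.Agent.VarietyLib.SmoothStalk
import Groth.Agent.CAlgH3.RegularLocal
import Mathlib.RingTheory.Smooth.StandardSmoothOfFree

/-! A function with nonzero differential cuts out a smooth divisor. -/

universe u

set_option autoImplicit false
set_option backward.isDefEq.respectTransparency false

open TensorProduct KaehlerDifferential

namespace Groth.Agent.FlatMor12

open Groth.Agent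

attribute [local instance] Algebra.TensorProduct.rightAlgebra

theorem smooth_fibre_domain {A B : Type u} [CommRing A] [CommRing B] [Algebra A B] [Algebra.Smooth A B]
    (q : Ideal B) [q.IsPrime] :
    ∃ (R : Type u) (_ : CommRing R) (_ : IsDomain R) (ψ : B →+* R), FlatMorSlice.FibPres A q ψ := by
  let p := q.comap (algebraMap A B)
  have : q.LiesOver p := ⟨rfl⟩
  let Q := PrimeSpectrum.primesOverOrderIsoFiber A B p ⟨q, inferInstance, inferInstance⟩
  have hQ : Q.asIdeal.comap (Algebra.TensorProduct.includeRight : B →ₐ[A] p.Fiber B).toRingHom = q := by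
    have := PrimeSpectrum.coe_primesOverOrderIsoFiber_symm_apply (S := B) p Q
    rw [show (PrimeSpectrum.primesOverOrderIsoFiber A B p).symm Q = ⟨q, inferInstance, inferInstance⟩ from
      OrderIso.symm_apply_apply _ _] at this
    exact this.symm
  let R := Localization.AtPrime Q.asIdeal
  have : IsRegularLocalRing R := VarietyLib.isRegularLocalRing_of_smooth p.ResidueField _ Q.asIdeal
  let ι : B →+* p.Fiber B := (Algebra.TensorProduct.includeRight : B →ₐ[A] p.Fiber B).toRingHom
  have hunit : ∀ c, c ∉ q → IsUnit (algebraMap _ R (ι c)) := fun c hc =>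
    IsLocalization.map_units R (⟨ι c, fun h => hc (hQ ▸ h)⟩ : Q.asIdeal.primeCompl)
  have hlift : ∀ z : p.Fiber B, ∃ b t, t ∉ q ∧ z * ι t = ι b := fun z => by
    obtain ⟨r, hr, b, hb⟩ := Ideal.Fiber.exists_smul_eq_one_tmul p z
    refine ⟨b, algebraMap A B r, hr, ?_⟩
    show z * ι (algebraMap A B r) = (1 : p.ResidueField) ⊗ₜ[A] b
    rw [show ι (algebraMap A B r) = algebraMap A (p.Fiber B) r from
      (Algebra.TensorProduct.includeRight : B →ₐ[A] p.Fiber B).commutes r, mul_comm, ← Algebra.smul_def, hb]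
  refine ⟨R, inferInstance, CAlgH3.isDomain_of_isRegularLocalRing R, (algebraMap _ R).comp ι,
    ⟨fun c hc => hunit c hc, fun r => ?_, fun b hb => ?_, ?_⟩⟩
  · obtain ⟨⟨z, s⟩, hzs⟩ := IsLocalization.surj Q.asIdeal.primeCompl r
    obtain ⟨b₁, t₁, ht₁, e₁⟩ := hlift z
    obtain ⟨b₂, t₂, ht₂, e₂⟩ := hlift s.1
    have hb₂ : b₂ ∉ q := fun h => by
      rw [← hQ] at h
      have h' : s.1 * ι t₂ ∈ Q.asIdeal := by rw [e₂]; exact h
      rcases Q.isPrime.mem_or_mem h' with h'' | h''
      · exact s.2 h''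
      · exact ht₂ (hQ ▸ h'')
    refine ⟨b₁ * t₂, t₁ * b₂, fun h => ((Ideal.IsPrime.mem_or_mem ‹_› h).elim ht₁ hb₂), ?_⟩
    simp only [RingHom.comp_apply, map_mul]
    rw [← e₁, ← e₂, map_mul, map_mul, ← hzs]
    ring
  · rw [RingHom.comp_apply, IsLocalization.map_eq_zero_iff Q.asIdeal.primeCompl] at hb
    obtain ⟨s, hs⟩ := hb
    obtain ⟨b₂, t₂, ht₂, e₂⟩ := hlift s.1
    have h0 : ι (b₂ * b) = 0 := by
      rw [map_mul, ← e₂, mul_right_comm, hs, zero_mul]
    have hb₂ : b₂ ∉ q := fun h => by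
      rw [← hQ] at h
      have h' : s.1 * ι t₂ ∈ Q.asIdeal := by rw [e₂]; exact h
      rcases Q.isPrime.mem_or_mem h' with h'' | h''
      · exact s.2 h''
      · exact ht₂ (hQ ▸ h'')
    obtain ⟨t, ht, htm⟩ := FlatMorSlice.exists_smul_mem_of_fiber_eq_zero p (x := b₂ * b) h0
    refine ⟨algebraMap A B t * b₂, fun h => (Ideal.IsPrime.mem_or_mem ‹_› h).elim ht hb₂, ?_⟩
    rw [mul_assoc, ← Algebra.smul_def]
    exact htm
  · refine Ideal.map_le_iff_le_comap.2 fun a ha => ?_
    rw [Ideal.mem_comap, RingHom.mem_ker, RingHom.comp_apply,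
      show ι (algebraMap A B a) = algebraMap A (p.Fiber B) a from
        (Algebra.TensorProduct.includeRight : B →ₐ[A] p.Fiber B).commutes a,
      IsScalarTower.algebraMap_apply A p.ResidueField (p.Fiber B),
      Ideal.algebraMap_residueField_eq_zero.2 ha, map_zero, map_zero]

theorem d_eq_zero_of_mem_map {A B : Type u} [CommRing A] [CommRing B] [Algebra A B]
    (q : Ideal B) [q.IsPrime] {y : B} (hy : y ∈ (q.comap (algebraMap A B)).map (algebraMap A B)) :
    (1 : q.ResidueField) ⊗ₜ[B] D A B y = 0 := by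
  rw [Ideal.map, Ideal.span] at hy
  induction hy using Submodule.span_induction with
  | mem y hy => obtain ⟨a, -, rfl⟩ := hy; rw [Derivation.map_algebraMap, tmul_zero]
  | zero => rw [map_zero, tmul_zero]
  | add y z _ _ hy hz => rw [map_add, tmul_add, hy, hz, add_zero]
  | smul c y hy' hy =>
    have hyq : y ∈ q := (Ideal.map_comap_le : (q.comap (algebraMap A B)).map (algebraMap A B) ≤ q) hy'
    rw [smul_eq_mul, Derivation.leibniz, tmul_add, tmul_smul, hy, smul_zero, zero_add, ← smul_tmul,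
      Algebra.smul_def, Ideal.algebraMap_residueField_eq_zero.2 hyq, zero_mul, zero_tmul]

theorem linearIndependent_singleton_finset {K M B : Type u} [Field K] [AddCommGroup M] [Module K M]
    (b : B) (v : B → M) (hv : v b ≠ 0) :
    LinearIndependent K (fun g : ↥({b} : Finset B) => v (g : B)) := by
  have : Unique ↥({b} : Finset B) := ⟨⟨⟨b, Finset.mem_singleton_self b⟩⟩,
    fun x => Subtype.ext (Finset.mem_singleton.1 x.2)⟩
  exact linearIndependent_unique_iff.2 (by rwa [show ((default : ↥({b} : Finset B)) : B) = b from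
    Finset.mem_singleton.1 (default : ↥({b} : Finset B)).2])

theorem isSmoothAt_quotient_singleton {A B : Type u} [CommRing A] [CommRing B] [Algebra A B]
    [Algebra.Smooth A B] (q : Ideal B) [q.IsPrime] (b : B) (P : Ideal (B ⧸ Ideal.span {b})) [P.IsPrime]
    (hPq : q = P.comap (Ideal.Quotient.mk _)) (hd : (1 : q.ResidueField) ⊗ₜ[B] D A B b ≠ 0) :
    Algebra.IsSmoothAt A P := by
  have : Algebra.IsSmoothAt A q :=
    inferInstanceAs (Algebra.FormallySmooth A (Localization.AtPrime q))
  refine (SmoothLib.isSmoothAt_quotient_iff (Ideal.span {b}) ⟨{b}, by rw [Finset.coe_singleton]⟩ P q hPq).2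
    ⟨{b}, by simp, by simp [Ideal.map_span], ?_⟩
  exact linearIndependent_singleton_finset b (fun g => (1 : q.ResidueField) ⊗ₜ[B] D A B g) hd

theorem exists_smooth_cut {A B : Type u} [CommRing A] [CommRing B] [Algebra A B] [Algebra.Smooth A B]
    (q : Ideal B) [q.IsPrime] (b : B) (hb : b ∈ q) (hd : (1 : q.ResidueField) ⊗ₜ[B] D A B b ≠ 0) :
    ∃ c ∉ q, ∀ (L : Type u) [CommRing L] [Algebra A L] [Algebra B L] [IsScalarTower A B L]
      [IsLocalization.Away c L], algebraMap B L b ∈ nonZeroDivisors L ∧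
        Algebra.Smooth A (L ⧸ Ideal.span {algebraMap B L b}) := by
  classical
  obtain ⟨R, _, _, ψ, hψ⟩ := smooth_fibre_domain (A := A) q
  have hψb : ψ b ≠ 0 := fun h => by
    obtain ⟨c, hc, hcb⟩ := hψ.ker b h
    have h1 := d_eq_zero_of_mem_map q hcb
    rw [Derivation.leibniz, tmul_add, tmul_smul, tmul_smul, smul_tmul', smul_tmul',
      Algebra.smul_def b, Ideal.algebraMap_residueField_eq_zero.2 hb, zero_mul, zero_tmul, add_zero,
      Algebra.smul_def, mul_one] at h1
    have hu : algebraMap B q.ResidueField c ≠ 0 := fun h0 => hc (Ideal.algebraMap_residueField_eq_zero.1 h0)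
    rw [← mul_one (algebraMap B q.ResidueField c), ← smul_eq_mul, ← smul_tmul'] at h1
    exact hd ((smul_eq_zero_iff_right hu).1 h1)
  have hreg : FlatMorSlice.FibReg A q [b] := by
    intro i hi y ⟨c, hc, hcy⟩
    obtain rfl : i = 0 := by simpa using hi
    simp only [List.getElem_cons_zero, List.take_zero, Ideal.ofList_nil, sup_bot_eq] at hcy ⊢
    have h0 : ψ (c * (b * y)) = 0 := hψ.le_ker hcy
    rw [map_mul, (hψ.unit c hc).mul_right_eq_zero, map_mul] at h0
    exact hψ.ker y ((mul_eq_zero.1 h0).resolve_left hψb)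
  have hflat : Module.Flat A (LocalizedModule q.primeCompl B) := Module.Flat.trans A B _
  obtain ⟨c₁, hc₁, h₁, -⟩ := FlatMorSlice.exists_regular_sequence ⟨q, inferInstance⟩ hflat [b] hreg
  let I : Ideal B := Ideal.span {b}
  have hIq : I ≤ q := (Ideal.span_singleton_le_iff_mem q).2 hb
  let P : Ideal (B ⧸ I) := q.map (Ideal.Quotient.mk I)
  have : P.IsPrime := Ideal.map_isPrime_of_surjective Ideal.Quotient.mk_surjective (by rwa [Ideal.mk_ker])
  have hPq : q = P.comap (Ideal.Quotient.mk I) := by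
    rw [Ideal.comap_map_of_surjective _ Ideal.Quotient.mk_surjective, ← RingHom.ker_eq_comap_bot,
      Ideal.mk_ker, sup_eq_left.2 hIq]
  have hsm : Algebra.IsSmoothAt A P := isSmoothAt_quotient_singleton q b P hPq hd
  have : Algebra.FinitePresentation A (B ⧸ I) :=
    Algebra.FinitePresentation.quotient ⟨{b}, by rw [Finset.coe_singleton]⟩
  obtain ⟨fb, hfb, hfs⟩ := Algebra.IsSmoothAt.exists_notMem_smooth A P
  obtain ⟨f, rfl⟩ := Ideal.Quotient.mk_surjective fb
  have hfq : f ∉ q := fun h => hfb (Ideal.mem_map_of_mem _ h)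
  refine ⟨c₁ * f, q.primeCompl.mul_mem hc₁ hfq, fun L _ _ _ _ _ => ⟨?_, ?_⟩⟩
  · refine mem_nonZeroDivisors_iff_right.2 fun z hz => ?_
    obtain ⟨⟨x, t⟩, hx⟩ := IsLocalization.surj (Submonoid.powers (c₁ * f)) z
    have h0 : algebraMap B L (b * x) = 0 := by
      rw [map_mul, ← hx, ← mul_assoc, mul_comm _ z, hz, zero_mul]
    obtain ⟨m, hm⟩ := (IsLocalization.map_eq_zero_iff (Submonoid.powers (c₁ * f)) L _).1 h0
    obtain ⟨k, hk⟩ := h₁ 0 (by simp) (m.1 * x) (by simp [mul_left_comm b m.1 x, hm])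
    simp only [List.take_zero, Ideal.ofList_nil, Ideal.mem_bot] at hk
    have hu : IsUnit (algebraMap B L (c₁ ^ k * m.1)) := by
      rw [map_mul, map_pow]
      exact ((isUnit_of_dvd_unit (map_dvd _ (dvd_mul_right c₁ f))
        (IsLocalization.Away.algebraMap_isUnit (S := L) (c₁ * f))).pow k).mul (IsLocalization.map_units L m)
    have := congrArg (algebraMap B L) hk
    rw [← mul_assoc, map_mul, map_zero, hu.mul_right_eq_zero, ← hx] at this
    exact (IsLocalization.map_units L t).mul_left_eq_zero.1 this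
  · let J := Ideal.span {algebraMap B L b}
    have hJ : J = I.map (algebraMap B L) := by rw [Ideal.map_span, Set.image_singleton]
    let π : B ⧸ I →+* L ⧸ J := Ideal.quotientMap J (algebraMap B L) (Ideal.map_le_iff_le_comap.1 hJ.ge)
    let _ : Algebra (B ⧸ I) (L ⧸ J) := π.toAlgebra
    have : IsScalarTower A (B ⧸ I) (L ⧸ J) := .of_algebraMap_eq fun a => by
      show Ideal.Quotient.mk J (algebraMap A L a) = Ideal.Quotient.mk J (algebraMap B L (algebraMap A B a))
      rw [← IsScalarTower.algebraMap_apply]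
    let d := Ideal.Quotient.mk I (c₁ * f)
    have : IsLocalization.Away d (L ⧸ J) := by
      refine ⟨fun y => ?_, fun z => ?_, fun {a b'} e => ?_⟩
      · obtain ⟨_, n, rfl⟩ := y
        rw [map_pow]
        exact ((IsLocalization.Away.algebraMap_isUnit (S := L) (c₁ * f)).map (Ideal.Quotient.mk J)).pow n
      · obtain ⟨l, rfl⟩ := Ideal.Quotient.mk_surjective z
        obtain ⟨⟨x, ⟨_, n, rfl⟩⟩, hx⟩ := IsLocalization.surj (Submonoid.powers (c₁ * f)) l
        refine ⟨⟨Ideal.Quotient.mk I x, ⟨d ^ n, n, rfl⟩⟩, ?_⟩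
        show Ideal.Quotient.mk J l * π (d ^ n) = Ideal.Quotient.mk J (algebraMap B L x)
        rw [← hx, ← map_pow]
        exact (map_mul (Ideal.Quotient.mk J) _ _).symm
      · obtain ⟨a, rfl⟩ := Ideal.Quotient.mk_surjective a
        obtain ⟨b', rfl⟩ := Ideal.Quotient.mk_surjective b'
        have e' : algebraMap B L (a - b') ∈ I.map (algebraMap B L) := by
          rw [← hJ, map_sub]; exact Ideal.Quotient.eq.1 e
        rw [IsLocalization.algebraMap_mem_map_algebraMap_iff (Submonoid.powers (c₁ * f))] at e'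
        obtain ⟨_, ⟨n, rfl⟩, hmx⟩ := e'
        refine ⟨⟨d ^ n, n, rfl⟩, ?_⟩
        show d ^ n * Ideal.Quotient.mk I a = d ^ n * Ideal.Quotient.mk I b'
        rw [← map_pow, ← map_mul, ← map_mul, Ideal.Quotient.eq, ← mul_sub]
        exact hmx
    have h1 : Algebra.Smooth A (Localization.Away d) := by
      have hsub : (PrimeSpectrum.basicOpen d : Set (PrimeSpectrum (B ⧸ I))) ⊆ Algebra.smoothLocus A (B ⧸ I) := by
        refine subset_trans (fun P' hP' => ?_) (Algebra.basicOpen_subset_smoothLocus_iff_smooth.2 hfs)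
        intro h; apply hP'
        show d ∈ P'.asIdeal
        simp only [d, map_mul]
        exact P'.asIdeal.mul_mem_left _ h
      exact Algebra.basicOpen_subset_smoothLocus_iff_smooth.1 hsub
    exact Algebra.Smooth.of_equiv
      ((IsLocalization.algEquiv (Submonoid.powers d) (Localization.Away d) (L ⧸ J)).restrictScalars A)

end Groth.Agent.FlatMor12
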