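import Groth.Prelude.Def_Omega3
import Groth.Agent.Thick15.Stalk
import Groth.Agent.FlatMorGeom.FormallyEtaleHom
import Groth.Agent.OmegaLib.ConormalStalk
import Groth.Agent.ModStalk.Pullback
import Groth.Agent.ModStalk.Exact

/-!
# Formally étale morphisms are their own universal first order thickening
-/

set_option autoImplicit false
set_option backward.isDefEq.respectTransparency.types false
universe u

open CategoryTheory Limits AlgebraicGeometry TensorProduct

namespace Groth.Agent.FlatMor12

variable {X X' S : Scheme.{u}}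

theorem isFirstOrderThickening_id (X : Scheme.{u}) : MoreMor.IsFirstOrderThickening (𝟙 X) := by
  refine ⟨⟨inferInstance, inferInstance⟩, ?_⟩
  rw [Scheme.Hom.ker_eq_bot_of_isIso, ← le_bot_iff]
  intro U
  simp

theorem stalk_idealMod_subsingleton_iff (i : X ⟶ X') [IsClosedImmersion i] (z : X) :
    Subsingleton ((DerSch.stalkFunctor X' (i z)).obj (ClSub.idealMod i.ker)) ↔
      Function.Injective (i.stalkMap z) := by
  obtain ⟨ι, hι, hg⟩ := OmegaLib.exists_idealStalkMap i.ker (i z)
  have hmem := OmegaLib.mem_range_idealStalkMap i z hg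
  constructor
  · intro h
    refine (injective_iff_map_eq_zero' (i.stalkMap z).hom).2 fun a => ⟨fun ha => ?_, fun ha => by rw [ha, map_zero]⟩
    obtain ⟨m, rfl⟩ := (hmem a).2 ha
    rw [Subsingleton.elim m 0, map_zero]
  · intro h
    refine ⟨fun a b => hι ?_⟩
    have key : ∀ m, ι m = 0 := fun m => h (((hmem _).1 ⟨m, rfl⟩).trans (map_zero (i.stalkMap z).hom).symm)
    rw [key, key]

theorem isZero_conormal_of_isIso (i : X ⟶ X') [IsIso i] : IsZero (Omega.conormal i) := by
  refine ModStalk.isZero_of_stalks fun z => ?_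
  haveI := (stalk_idealMod_subsingleton_iff i z).2 (ConcreteCategory.bijective_of_isIso (i.stalkMap z)).1
  refine IsZero.of_iso ?_ ((ModStalk.pullbackStalkIso i z).app (ClSub.idealMod i.ker))
  exact Functor.map_isZero (ModuleCat.extendScalars (i.stalkMap z).hom) (ModuleCat.isZero_of_subsingleton ((DerSch.stalkFunctor _ (i z)).obj (ClSub.idealMod i.ker)))

theorem isIso_of_isZero_conormal (i : X ⟶ X') (hi : MoreMor.IsFirstOrderThickening i)
    (h0 : IsZero (Omega.conormal i)) : IsIso i := by
  haveI := hi.1.1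
  haveI := hi.1.2
  have hinj : ∀ z : X, Function.Injective (i.stalkMap z) := by
    intro z
    rw [← stalk_idealMod_subsingleton_iff]
    obtain ⟨ι, hι, hg⟩ := OmegaLib.exists_idealStalkMap i.ker (i z)
    have hmem := OmegaLib.mem_range_idealStalkMap i z hg
    have hK := Thick15.ker_stalkMap_sq hi z
    let M := (DerSch.stalkFunctor X' (i z)).obj (ClSub.idealMod i.ker)
    have hz : IsZero ((ModuleCat.extendScalars (i.stalkMap z).hom).obj M) :=
      (Functor.map_isZero (DerSch.stalkFunctor X z) h0).of_iso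
        ((ModStalk.pullbackStalkIso i z).app (ClSub.idealMod i.ker)).symm
    algebraize [(i.stalkMap z).hom]
    have hT : Subsingleton (TensorProduct (X'.presheaf.stalk (i z)) (X.presheaf.stalk z) M) :=
      ModuleCat.subsingleton_of_isZero hz
    let φ := Algebra.ofId (X'.presheaf.stalk (i z)) (X.presheaf.stalk z)
    let K := RingHom.ker φ.toRingHom
    have hs : Function.Surjective φ := i.stalkMap_surjective z
    let e := ((Ideal.quotientKerAlgEquivOfSurjective hs).toLinearEquiv.rTensor M).symm.trans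
      (TensorProduct.quotTensorEquivQuotSMul M K)
    haveI := e.symm.injective.subsingleton
    have htop : (K • ⊤ : Submodule (X'.presheaf.stalk (i z)) M) = ⊤ := Submodule.Quotient.subsingleton_iff.1 this
    have hbot : (K • ⊤ : Submodule (X'.presheaf.stalk (i z)) M) = ⊥ := by
      refine le_bot_iff.1 (Submodule.smul_le.2 fun a ha m _ => ?_)
      rw [Submodule.mem_bot]
      apply hι
      rw [map_smul, map_zero]
      have : a * ι m ∈ RingHom.ker (i.stalkMap z).hom ^ 2 := by
        rw [pow_two]
        exact Ideal.mul_mem_mul ha ((hmem _).1 ⟨m, rfl⟩)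
      rw [hK] at this
      exact Ideal.mem_bot.1 this
    exact ⟨fun a b => by
      have key : ∀ m : M, m = 0 := fun m => (Submodule.mem_bot _).1 (hbot ▸ htop.symm ▸ Submodule.mem_top)
      rw [key a, key b]⟩
  haveI : ∀ z : X, IsIso (i.stalkMap z) := fun z =>
    (ConcreteCategory.isIso_iff_bijective _).2 ⟨hinj z, i.stalkMap_surjective z⟩
  refine (isIso_iff_isIso_stalkMap i).2 ⟨?_, inferInstance⟩
  exact (TopCat.isIso_iff_isHomeomorph _).2 (isHomeomorph_iff_isEmbedding_surjective.2
    ⟨i.isClosedEmbedding.isEmbedding, i.surjective⟩)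

theorem isUnivThickening_id_of_isFormallyEtaleHom (f : X ⟶ S) (hf : MoreMor.IsFormallyEtaleHom f) :
    OmegaSh.IsUnivThickening f (𝟙 X) f := by
  refine ⟨isFirstOrderThickening_id X, Category.id_comp f, fun T T' t b a ht w => ?_⟩
  simpa only [Category.comp_id] using FlatMorGeom.existsUnique_lift hf t ht a b w

theorem isFormallyEtaleHom_of_isUnivThickening_id (f : X ⟶ S) (hu : OmegaSh.IsUnivThickening f (𝟙 X) f) :
    MoreMor.IsFormallyEtaleHom f := by
  intro A _ I hI a b w
  have hnil : I ≤ nilradical A := fun x hx => ⟨2, Ideal.mem_bot.1 (hI ▸ Ideal.pow_mem_pow hx 2)⟩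
  have ht : MoreMor.IsFirstOrderThickening (Spec.map (CommRingCat.ofHom (Ideal.Quotient.mk I))) := by
    refine ⟨⟨IsClosedImmersion.spec_of_surjective _ Ideal.Quotient.mk_surjective, ⟨?_⟩⟩, ?_⟩
    · show Function.Surjective (PrimeSpectrum.comap (Ideal.Quotient.mk I))
      rw [← Set.range_eq_univ, range_comap_of_surjective _ _ Ideal.Quotient.mk_surjective,
        PrimeSpectrum.zeroLocus_eq_univ_iff, Ideal.mk_ker]
      exact hnil
    · exact FlatMorGeom.ker_SpecMap_sq _ (by simpa [CommRingCat.hom_ofHom] using hI)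
  simpa only [Category.comp_id] using hu.2.2 _ _ _ b a ht w

theorem formallyUnramified_of_isFormallyEtaleHom (f : X ⟶ S) (hf : MoreMor.IsFormallyEtaleHom f) :
    FormallyUnramified f := by
  rw [HasRingHomProperty.iff_appLE (P := @FormallyUnramified)]
  intro U V e
  have := FlatMorGeom.formallyEtale_appLE_of_isFormallyEtaleHom hf V.2 U.2 e
  algebraize [(f.appLE U.1 V.1 e).hom]
  exact RingHom.formallyUnramified_algebraMap.2 inferInstance

theorem isFormallyEtaleHom_iff_isZero_conormal {f : X ⟶ S} {i : X ⟶ X'} {h' : X' ⟶ S}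
    (hu : OmegaSh.IsUnivThickening f i h') :
    MoreMor.IsFormallyEtaleHom f ↔ IsZero (Omega.conormal i) := by
  constructor
  · intro hf
    obtain ⟨φ, hφ, -⟩ := Thick15.exists_iso hu (isUnivThickening_id_of_isFormallyEtaleHom f hf)
    have : i = φ.inv := by rw [← cancel_mono φ.hom, hφ, Iso.inv_hom_id]
    haveI : IsIso i := this ▸ inferInstance
    exact isZero_conormal_of_isIso i
  · intro h0
    haveI := isIso_of_isZero_conormal i hu.1 h0
    have h' : h' = inv i ≫ f := by rw [← hu.2.1, IsIso.inv_hom_id_assoc]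
    refine isFormallyEtaleHom_of_isUnivThickening_id f ⟨isFirstOrderThickening_id X, Category.id_comp f, ?_⟩
    intro T T' t b a ht w
    obtain ⟨g, ⟨g1, g2⟩, gu⟩ := hu.2.2 T T' t b a ht w
    refine ⟨g ≫ inv i, ⟨by rw [reassoc_of% g1, IsIso.hom_inv_id, Category.comp_id], by rw [Category.assoc, ← h', g2]⟩,
      fun g' ⟨k1, k2⟩ => ?_⟩
    rw [IsIso.eq_comp_inv]
    refine gu _ ⟨by rw [reassoc_of% k1], by rw [Category.assoc, hu.2.1, k2]⟩

end Groth.Agent.FlatMor12
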