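import Groth.Agent.Coherent.Existence.HomAffine
import Groth.Agent.EGA43.QcohFP

/-! The internal Hom out of a finitely presented quasi-coherent module is quasi-coherent. -/

set_option autoImplicit false
set_option backward.isDefEq.respectTransparency false

universe u

open CategoryTheory CategoryTheory.Limits AlgebraicGeometry Opposite TopologicalSpace
open Groth.Agent.Coherent Groth.Agent.PicLib Groth.Agent.AmpleLib Groth.Agent.Coherent.Existence

namespace Groth.Agent.FlatMor12

variable {X : Scheme.{u}}

theorem isQCoh_internalHom_of_isFP {F N : X.Modules} [Coh.IsQCoh F] (hF : CohB1.IsFP F) [Coh.IsQCoh N] :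
    Coh.IsQCoh (internalHom F N) := by
  refine (isQCoh_iff_localizesOn _).2 fun U hU => ?_
  have := Groth.Agent.EGA43.QcohFP.finitePresentation_sections F hF hU
  obtain ⟨r, e, he⟩ := (inferInstance : Module.Finite Γ(X, U) Γ(F, U)).exists_fin
  refine ⟨fun f s => ?_, fun f t ht => ?_⟩
  · -- clear the denominators of the images of the generators
    let Lf := evLin s
    choose n y hy using fun i : Fin r =>
      qcoh_exists_pow_smul hU N f (Lf (resM F (X.basicOpen_le f) (e i)))
    let K := Finset.univ.sup n
    let y' : Fin r → Γ(N, U) := fun i => f ^ (K - n i) • y i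
    have hy' : ∀ i, resM N (X.basicOpen_le f) (y' i) =
        rmap (X.basicOpen_le f) (f ^ K) • Lf (resM F (X.basicOpen_le f) (e i)) := fun i => by
      rw [resM_smul, hy, ← mul_smul]
      refine congrArg (· • _) ?_
      show rmap _ _ * rmap _ _ = _
      rw [← map_mul, ← pow_add, Nat.sub_add_cancel (Finset.le_sup (Finset.mem_univ i))]
    obtain ⟨T, hT⟩ : (LinearMap.ker (Fintype.linearCombination Γ(X, U) e)).FG :=
      Module.FinitePresentation.fg_ker _ (LinearMap.range_eq_top.1 (by rw [Fintype.range_linearCombination]; exact he))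
    have hrel : ∀ c ∈ T, ∃ m : ℕ, f ^ m • (Fintype.linearCombination Γ(X, U) y') c = 0 := fun c hc => by
      refine qcoh_exists_pow_smul_eq_zero hU N f _ ?_
      have hc' : ∑ i, c i • e i = 0 := by
        have := LinearMap.mem_ker.1 (hT.le (Submodule.subset_span hc))
        rwa [Fintype.linearCombination_apply] at this
      rw [Fintype.linearCombination_apply, map_sum]
      have h := congrArg Lf (congrArg (resM F (X.basicOpen_le f)) hc')
      rw [map_sum, map_sum, map_zero, map_zero] at h
      refine (Finset.sum_congr rfl fun i _ => ?_).trans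
        ((Finset.smul_sum (r := rmap (X.basicOpen_le f) (f ^ K))).symm.trans
          ((congrArg (rmap (X.basicOpen_le f) (f ^ K) • ·) h).trans (smul_zero _)))
      rw [resM_smul, hy', resM_smul, map_smul, smul_comm]
    choose m hm using hrel
    let m₀ := T.attach.sup fun c => m c.1 c.2
    let g := (f ^ m₀) • Fintype.linearCombination Γ(X, U) y'
    have hsurj : LinearMap.range (Fintype.linearCombination Γ(X, U) e) = ⊤ := by
      rw [Fintype.range_linearCombination]; exact he
    have hker : LinearMap.ker (Fintype.linearCombination Γ(X, U) e) ≤ LinearMap.ker g := by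
      rw [← hT, Submodule.span_le]
      intro c hc
      refine LinearMap.mem_ker.2 ?_
      show f ^ m₀ • (Fintype.linearCombination Γ(X, U) y') c = 0
      have hd : m c hc ≤ m₀ := Finset.le_sup (f := fun c => m c.1 c.2) (Finset.mem_attach T ⟨c, hc⟩)
      rw [← Nat.sub_add_cancel hd, pow_add, mul_smul, hm c hc, smul_zero]
    let L : Γ(F, U) →ₗ[Γ(X, U)] Γ(N, U) :=
      (Submodule.liftQ _ g hker).comp ((Fintype.linearCombination Γ(X, U) e).quotKerEquivOfSurjective
        (LinearMap.range_eq_top.1 hsurj)).symm.toLinearMap
    have hL : ∀ i, L (e i) = f ^ m₀ • y' i := fun i => by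
      classical
      have h1 : (Fintype.linearCombination Γ(X, U) e).quotKerEquivOfSurjective
          (LinearMap.range_eq_top.1 hsurj) (Submodule.Quotient.mk (Pi.single i 1)) = e i := by
        simp
      show Submodule.liftQ _ g hker (((Fintype.linearCombination Γ(X, U) e).quotKerEquivOfSurjective
        (LinearMap.range_eq_top.1 hsurj)).symm (e i)) = _
      rw [← h1, LinearEquiv.symm_apply_apply]
      simp [g]
    refine ⟨m₀ + K, (secLinEquiv hU).symm L, ?_⟩
    refine locHom_ext_affine (hU.basicOpen f) fun b => ?_
    have hb : b ∈ Submodule.span Γ(X, X.basicOpen f)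
        (Set.range fun i => resM F (X.basicOpen_le f) (e i)) := by
      obtain ⟨k, b', hb'⟩ := qcoh_exists_pow_smul hU F f b
      obtain ⟨c, hc⟩ := (Submodule.mem_span_range_iff_exists_fun _).1 (he.ge (Submodule.mem_top (x := b')))
      have hu : IsUnit (rmap (X.basicOpen_le f) (f ^ k)) := by
        rw [map_pow]; exact (isUnit_rmap f le_rfl).pow k
      refine (Submodule.smul_mem_iff_of_isUnit _ hu).1 ?_
      rw [← hb', ← hc, map_sum]
      exact Submodule.sum_mem _ fun i _ => by
        rw [resM_smul]
        exact Submodule.smul_mem _ _ (Submodule.subset_span ⟨i, rfl⟩)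
    show evLin (resM (internalHom F N) (X.basicOpen_le f) ((secLinEquiv hU).symm L)) b =
      evLin (rmap (X.basicOpen_le f) (f ^ (m₀ + K)) • s) b
    induction hb using Submodule.span_induction with
    | mem x hx =>
      obtain ⟨i, rfl⟩ := hx
      rw [evLin_res]
      show resM N _ (secLinEquiv hU ((secLinEquiv hU).symm L) (e i)) = _
      rw [LinearEquiv.apply_symm_apply, hL, resM_smul, hy', ← mul_smul, ← map_mul, ← pow_add]
      show _ = ev (rmap (X.basicOpen_le f) (f ^ (m₀ + K)) • secHom s) _ le_rfl _
      rw [ev_smul]
      exact congrArg (· • Lf (resM F (X.basicOpen_le f) (e i)))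
        (ConcreteCategory.congr_hom (X.presheaf.map_id (op (X.basicOpen f))) _).symm
    | zero => rw [map_zero, map_zero]
    | add x y _ _ hx hy => rw [map_add, map_add, hx, hy]
    | smul c x _ hx => rw [map_smul, map_smul, hx]
  · have h0 : ∀ i, resM N (X.basicOpen_le f) (evLin t (e i)) = 0 := fun i => by
      rw [← evLin_res, ht]
      rfl
    choose m hm using fun i => qcoh_exists_pow_smul_eq_zero hU N f _ (h0 i)
    refine ⟨Finset.univ.sup m, (secLinEquiv hU).injective ?_⟩
    rw [map_zero, map_smul]
    refine LinearMap.ext_on he fun x hx => ?_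
    obtain ⟨i, rfl⟩ := hx
    show f ^ Finset.univ.sup m • evLin t (e i) = 0
    rw [← Nat.sub_add_cancel (Finset.le_sup (f := m) (Finset.mem_univ i)), pow_add, mul_smul, hm,
      smul_zero]

end Groth.Agent.FlatMor12
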