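import Groth.Agent.FlatMor12.FlatteningIdeal
import Groth.Agent.EGA43.FlatDescent.Model
import Groth.Agent.CAlgH3.FlatDescent
import Groth.Agent.FlatCx12.DevissageBC

/-!
# Universality of the flattening ideal
-/

set_option autoImplicit false
set_option backward.isDefEq.respectTransparency false
set_option linter.style.haveILetI false

universe u

open TensorProduct IsLocalRing Function

namespace Groth.Agent.FlatMor12.FlatteningUniversal

open EGA43 FlatteningIdeal

attribute [local instance] FlatDescent.bcModule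

variable {R : Type u} [CommRing R] {S : Type u} [CommRing S] [Algebra R S]
  {M : Type u} [AddCommGroup M] [Module S M] [Module R M] [IsScalarTower R S M]

/-- Flatness modulo `J` at `q` gives flatness at the points over `q` of base changes killing `J`. -/
theorem flatAt_of_quotFlat {J : Ideal R} (q : Ideal S) [q.IsPrime]
    (h : FlatCrit.QuotFlat R (LocalizedModule q.primeCompl M) J) (A : Type u) [CommRing A] [Algebra R A]
    (hJ : J ≤ RingHom.ker (algebraMap R A)) (Q : Ideal (A ⊗[R] S)) [Q.IsPrime]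
    (hQ : Q.comap (Algebra.TensorProduct.includeRight : S →ₐ[R] A ⊗[R] S).toRingHom ≤ q) :
    FlatDescent.FlatAt R S M A Q := by
  refine FlatDescent.flatAt_of_act fun X Y _ _ _ _ _ _ _ _ i hi x hx => ?_
  let g := LocalizedModule.mkLinearMap q.primeCompl M
  let iR := i.restrictScalars R
  have hinj : Injective (iR.lTensor (LocalizedModule q.primeCompl M)) :=
    (LinearMap.lTensor_inj_iff_rTensor_inj _ _).2 (h iR (fun r hr b => by
      rw [← algebraMap_smul A r b, RingHom.mem_ker.1 (hJ hr), zero_smul]) hi)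
  let gX := TensorProduct.AlgebraTensorModule.rTensor R X g
  have hgx : gX x = 0 := by
    refine hinj ?_
    rw [map_zero]
    show iR.lTensor _ ((g.restrictScalars R).rTensor X x) = 0
    rw [← LinearMap.comp_apply, LinearMap.lTensor_comp_rTensor, ← LinearMap.rTensor_comp_lTensor,
      LinearMap.comp_apply, hx, map_zero]
  obtain ⟨s, hs⟩ := (IsLocalizedModule.eq_zero_iff q.primeCompl gX).1 hgx
  refine ⟨(1 : A) ⊗ₜ[R] (s : S), fun hmem => s.2 (hQ hmem), ?_⟩
  refine Eq.trans ?_ hs
  have key : ∀ z : M ⊗[R] X, FlatDescent.act R S M A X ((1 : A) ⊗ₜ[R] (s : S)) z = (s : S) • z := fun z => by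
    induction z using TensorProduct.induction_on with
    | zero => simp
    | add u v hu hv => rw [map_add, hu, hv, smul_add]
    | tmul m y => rw [FlatDescent.act_tmul, one_smul, TensorProduct.smul_tmul']
  exact key x

variable {R' S' M' : Type u} [CommRing R'] [CommRing S'] [Algebra R R'] [Algebra S S'] [Algebra R' S']
  [Algebra R S'] [IsScalarTower R S S'] [IsScalarTower R R' S'] [Algebra.IsPushout R S R' S']
  [AddCommGroup M'] [Module S' M'] [Module R' M'] [IsScalarTower R' S' M'] [Module S M'] [IsScalarTower S S' M']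
  (f : M →ₗ[S] M') (hf : IsBaseChange S' f)

include hf in
/-- Flatness of a base change, read on `R' ⊗ S`. -/
theorem exists_transport : ∃ ψ : R' ⊗[R] S ≃ₐ[R'] S', (∀ a p, ψ (a ⊗ₜ p) = a • algebraMap S S' p) ∧
    ∀ (q' : Ideal S') [q'.IsPrime],
      FlatCA.FlatAt R' q' M' ↔ FlatDescent.FlatAt R S M R' (q'.comap ψ.toRingEquiv.toRingHom) := by
  have : Algebra.IsPushout R R' S S' := Algebra.IsPushout.symm inferInstance
  let _ : Module R M' := Module.compHom M' (algebraMap R S')
  have : IsScalarTower R S' M' := IsScalarTower.of_algebraMap_smul fun _ _ => rfl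
  have : IsScalarTower R R' M' := IsScalarTower.of_algebraMap_smul fun r x => by
    rw [← algebraMap_smul S' (algebraMap R R' r) x, ← IsScalarTower.algebraMap_apply]
    exact algebraMap_smul S' r x
  have : IsScalarTower R S M' := IsScalarTower.of_algebraMap_smul fun r x => by
    rw [← algebraMap_smul S' (algebraMap R S r) x, ← IsScalarTower.algebraMap_apply]
    exact algebraMap_smul S' r x
  have hb : IsBaseChange R' (f.restrictScalars R) := FlatCx12.DevissageBC.isBaseChange_bc f hf
  let ψ := Algebra.IsPushout.equiv R R' S S'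
  have hψ : ∀ a p, ψ (a ⊗ₜ p) = a • algebraMap S S' p := fun a p => by
    rw [Algebra.IsPushout.equiv_tmul, Algebra.smul_def]
  refine ⟨ψ, hψ, fun q' _ => ?_⟩
  have he : ∀ (t : R' ⊗[R] S) (x : R' ⊗[R] M), hb.equiv (t • x) = ψ t • hb.equiv x :=
    FlatDescent.map_smul_of_tmul ψ.toRingEquiv.toRingHom hb.equiv.toLinearMap.toAddMonoidHom fun a p c m => by
      show hb.equiv _ = ψ (a ⊗ₜ p) • hb.equiv (c ⊗ₜ m)
      rw [FlatDescent.bc_smul_tmul, IsBaseChange.equiv_tmul, IsBaseChange.equiv_tmul, hψ, mul_smul]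
      show a • c • f (p • m) = (a • algebraMap S S' p) • c • f m
      rw [map_smul f, smul_assoc, ← algebraMap_smul S' p (f m), smul_comm c (algebraMap S S' p)]
  exact (FlatDescent.flat_localized_iff ψ.toRingEquiv.toRingHom ψ.surjective hb.equiv he q').symm

variable [IsLocalRing R] [IsLocalRing R'] [IsLocalHom (algebraMap R R')]

include hf in
/-- If the ideal dies in `R'`, the base change is flat over the closed point. -/
theorem flatAt_of_le_ker {I : Ideal R} (hI : Good R S M I) (hle : I ≤ RingHom.ker (algebraMap R R'))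
    (q' : Ideal S') [q'.IsPrime] (hq' : q'.comap (algebraMap R' S') = maximalIdeal R') :
    FlatCA.FlatAt R' q' M' := by
  obtain ⟨ψ, hψ, htr⟩ := exists_transport (R := R) (R' := R') f hf
  rw [htr]
  refine flatAt_of_quotFlat (q'.comap (algebraMap S S')) (hI _ ?_) R' hle _ (fun s hs => ?_)
  · rw [Ideal.comap_comap, ← IsScalarTower.algebraMap_eq, IsScalarTower.algebraMap_eq R R' S',
      ← Ideal.comap_comap, hq']
    ext r
    exact map_mem_nonunits_iff (algebraMap R R') r
  · have : ψ ((1 : R') ⊗ₜ[R] s) ∈ q' := hs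
    rwa [hψ, one_smul] at this

variable [IsNoetherianRing S] [Module.Finite S M]

omit S' M' in
/-- Flatness of `R' ⊗ M` over the closed point makes the kernel of `R → R'/𝔪'ⁿ` good. -/
theorem good_of_flatAt_tensor (h : ∀ (Q : Ideal (R' ⊗[R] S)) [Q.IsPrime],
    Q.comap (Algebra.TensorProduct.includeLeft : R' →ₐ[R] R' ⊗[R] S).toRingHom = maximalIdeal R' →
    FlatDescent.FlatAt R S M R' Q) (n : ℕ) :
    Good R S M (RingHom.ker (algebraMap R (R' ⧸ maximalIdeal R' ^ (n + 1)))) := by
  let A' := R' ⧸ maximalIdeal R' ^ (n + 1)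
  let φ : R' →ₐ[R] A' := IsScalarTower.toAlgHom R R' A'
  have hflat : Module.Flat A' (A' ⊗[R] M) := by
    refine FlatDescent.flat_of_forall_flatAt (P := S) fun Q _ => ?_
    have hP : (Q.comap (Algebra.TensorProduct.map φ (AlgHom.id R S))).IsPrime := inferInstance
    refine FlatDescent.FlatAt.of_hom φ ?_
    let P := Q.comap (Algebra.TensorProduct.map φ (AlgHom.id R S))
    refine h P (le_antisymm (le_maximalIdeal (inferInstance : (P.comap (Algebra.TensorProduct.includeLeft : R' →ₐ[R] R' ⊗[R] S).toRingHom).IsPrime).ne_top) fun a ha => ?_)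
    refine (inferInstance : (P.comap (Algebra.TensorProduct.includeLeft : R' →ₐ[R] R' ⊗[R] S).toRingHom).IsPrime).mem_of_pow_mem (n + 1) ?_
    show Algebra.TensorProduct.map φ (AlgHom.id R S) ((a ^ (n + 1)) ⊗ₜ[R] (1 : S)) ∈ Q
    rw [Algebra.TensorProduct.map_tmul, show φ (a ^ (n + 1)) = 0 from
      Ideal.Quotient.eq_zero_iff_mem.2 (Ideal.pow_mem_pow ha _), TensorProduct.zero_tmul]
    exact Q.zero_mem
  let J := RingHom.ker (algebraMap R A')
  let A := R ⧸ J
  have hne : J ≠ ⊤ := by
    have : Nontrivial A' := Ideal.Quotient.nontrivial_iff.2 fun e => (maximalIdeal.isMaximal R').ne_top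
      (top_le_iff.1 (e ▸ Ideal.pow_le_self (Nat.succ_ne_zero n)))
    exact RingHom.ker_ne_top _
  have : Nontrivial A := Ideal.Quotient.nontrivial_iff.2 hne
  have : IsLocalRing A := .of_surjective' (Ideal.Quotient.mk J) Ideal.Quotient.mk_surjective
  let _ : Algebra A A' := (RingHom.kerLift (algebraMap R A')).toAlgebra
  have : IsScalarTower R A A' := IsScalarTower.of_algebraMap_eq fun r => rfl
  have hnil : IsNilpotent (maximalIdeal A) := by
    refine ⟨n + 1, ?_⟩
    rw [← IsLocalRing.map_maximalIdeal_of_surjective (Ideal.Quotient.mk J) Ideal.Quotient.mk_surjective,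
      ← Ideal.map_pow, Ideal.zero_eq_bot, Ideal.map_eq_bot_iff_le_ker, Ideal.mk_ker]
    intro r hr
    show algebraMap R A' r = 0
    rw [IsScalarTower.algebraMap_apply R R' A']
    refine Ideal.Quotient.eq_zero_iff_mem.2 ?_
    have h1 : (maximalIdeal R).map (algebraMap R R') ≤ maximalIdeal R' :=
      Ideal.map_le_iff_le_comap.2 fun x hx => map_nonunit _ x hx
    exact Ideal.pow_right_mono h1 _ (Ideal.map_pow (algebraMap R R') (maximalIdeal R) (n + 1) ▸ Ideal.mem_map_of_mem _ hr)
  have hA : Module.Flat A' (A' ⊗[A] (A ⊗[R] M)) :=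
    Module.Flat.of_linearEquiv (AlgebraTensorModule.cancelBaseChange R A A' A' M)
  have hd := CAlgH3.flat_descent_of_isNilpotent hnil (RingHom.kerLift_injective _) (A ⊗[R] M)
  intro q _ hq
  have hb := IsLocalizedModule.isBaseChange q.primeCompl (Localization.AtPrime q)
    (LocalizedModule.mkLinearMap q.primeCompl M)
  exact ((FlatCrit.quotFlat_of_flat J hd).baseChange (S := S) (Localization.AtPrime q)).of_linearEquiv
    (hb.equiv.restrictScalars R)

variable [IsNoetherianRing R']

include hf in
/-- Flatness of the base change over the closed point makes the kernel of `R → R'/𝔪'ⁿ` good. -/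
theorem good_of_flatAt (h : ∀ (q' : Ideal S') [q'.IsPrime], q'.comap (algebraMap R' S') = maximalIdeal R' →
    FlatCA.FlatAt R' q' M') (n : ℕ) :
    Good R S M (RingHom.ker (algebraMap R (R' ⧸ maximalIdeal R' ^ (n + 1)))) := by
  obtain ⟨ψ, hψ, htr⟩ := exists_transport (R := R) (R' := R') f hf
  refine good_of_flatAt_tensor (fun Q _ hQ => ?_) n
  let q' : Ideal S' := Q.comap ψ.symm.toRingEquiv.toRingHom
  have hq'Q : q'.comap ψ.toRingEquiv.toRingHom = Q := by
    ext z
    show ψ.symm (ψ z) ∈ Q ↔ _
    rw [ψ.symm_apply_apply]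
  have hq'm : q'.comap (algebraMap R' S') = maximalIdeal R' := by
    refine Eq.trans ?_ hQ
    ext a
    show ψ.symm (algebraMap R' S' a) ∈ Q ↔ _
    rw [ψ.symm.commutes]
    rfl
  have := (htr q').1 (h q' hq'm)
  convert this using 1
  exact hq'Q.symm

include hf in
theorem flatAt_iff_le_ker {I : Ideal R} (hI : Good R S M I) (hmin : ∀ J, Good R S M J → I ≤ J) :
    (∀ (q' : Ideal S') [q'.IsPrime], q'.comap (algebraMap R' S') = maximalIdeal R' → FlatCA.FlatAt R' q' M') ↔
      I ≤ RingHom.ker (algebraMap R R') := by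
  refine ⟨fun h r hr => ?_, fun h q' _ hq' => flatAt_of_le_ker (R := R) (R' := R') f hf hI h q' hq'⟩
  have hmem : ∀ n : ℕ, algebraMap R R' r ∈ maximalIdeal R' ^ n := by
    intro n
    have := hmin _ (good_of_flatAt (R := R) (R' := R') f hf h n) hr
    rw [RingHom.mem_ker, IsScalarTower.algebraMap_apply R R' (R' ⧸ maximalIdeal R' ^ (n + 1))] at this
    exact Ideal.pow_le_pow_right (Nat.le_succ n) (Ideal.Quotient.eq_zero_iff_mem.1 this)
  have hbot := Ideal.iInf_pow_eq_bot_of_isLocalRing (maximalIdeal R') (maximalIdeal.isMaximal R').ne_top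
  exact Ideal.mem_bot.1 (hbot ▸ Ideal.mem_iInf.2 hmem)

end Groth.Agent.FlatMor12.FlatteningUniversal
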