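import Groth.Agent.EGA43.FlatDescent.BC
import Mathlib.RingTheory.Localization.BaseChange

/-!
# Flatness of base changes of a localized module
-/

set_option autoImplicit false
set_option backward.isDefEq.respectTransparency false
set_option linter.unusedSectionVars false

universe u

open TensorProduct Function

namespace Groth.Agent.FlatMor12.LocTransfer

open EGA43

attribute [local instance] FlatDescent.bcModule

variable {R₀ R : Type u} [CommRing R₀] [CommRing R] [Algebra R₀ R]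
  {P₀ S : Type u} [CommRing P₀] [Algebra R₀ P₀] [CommRing S] [Algebra R S] [Algebra R₀ S]
  [IsScalarTower R₀ R S]
  {M₀ M : Type u} [AddCommGroup M₀] [Module P₀ M₀] [Module R₀ M₀] [IsScalarTower R₀ P₀ M₀]
  [AddCommGroup M] [Module S M] [Module R M] [IsScalarTower R S M]

/-- `E : R ⊗ M₀ → M` is a localisation along `Ψ : R ⊗ P₀ → S`. -/
structure IsLocAlong (Ψ : R ⊗[R₀] P₀ →ₐ[R] S) (E : R ⊗[R₀] M₀ →ₗ[R] M) : Prop where
  map_smul : ∀ t x, E (t • x) = Ψ t • E x
  den : ∀ s, ∃ p u, IsUnit (Ψ u) ∧ Ψ u * s = Ψ p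
  surj : ∀ n, ∃ u x, IsUnit (Ψ u) ∧ Ψ u • n = E x
  ker : ∀ x, E x = 0 → ∃ u, IsUnit (Ψ u) ∧ u • x = 0

variable (Ψ : R ⊗[R₀] P₀ →ₐ[R] S) (E : R ⊗[R₀] M₀ →ₗ[R] M)

section

variable (A : Type u) [CommRing A] [Algebra R A] [Algebra R₀ A] [IsScalarTower R₀ R A]

/-- The comparison map `A ⊗_{R₀} P₀ → A ⊗_R S`. -/
noncomputable def theta : A ⊗[R₀] P₀ →ₐ[R₀] A ⊗[R] S :=
  Algebra.TensorProduct.lift (Algebra.TensorProduct.includeLeft : A →ₐ[R₀] A ⊗[R] S)
    (((Algebra.TensorProduct.includeRight : S →ₐ[R] A ⊗[R] S).comp Ψ).restrictScalars R₀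
      |>.comp (Algebra.TensorProduct.includeRight : P₀ →ₐ[R₀] R ⊗[R₀] P₀))
    fun _ _ => Commute.all _ _

theorem theta_tmul (a : A) (p : P₀) : theta Ψ A (a ⊗ₜ p) = a ⊗ₜ[R] Ψ (1 ⊗ₜ p) := by
  simp [theta]

/-- The map `R ⊗ P₀ → A ⊗ P₀`. -/
noncomputable def ofBase : R ⊗[R₀] P₀ →ₐ[R₀] A ⊗[R₀] P₀ :=
  Algebra.TensorProduct.map (IsScalarTower.toAlgHom R₀ R A) (AlgHom.id R₀ P₀)

theorem theta_ofBase (u : R ⊗[R₀] P₀) : theta Ψ A (ofBase A u) = (1 : A) ⊗ₜ[R] Ψ u := by
  induction u using TensorProduct.induction_on with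
  | zero => simp
  | add u v hu hv => simp only [map_add, hu, hv, tmul_add]
  | tmul r p =>
    have h : r ⊗ₜ[R₀] p = r • ((1 : R) ⊗ₜ[R₀] p) := by rw [TensorProduct.smul_tmul', smul_eq_mul, mul_one]
    rw [show ofBase A (r ⊗ₜ[R₀] p) = algebraMap R A r ⊗ₜ[R₀] p from rfl, theta_tmul, h, map_smul,
      tmul_smul, TensorProduct.smul_tmul', Algebra.smul_def, mul_one]

variable {Ψ E}

theorem theta_den (h : IsLocAlong Ψ E) (t : A ⊗[R] S) :
    ∃ t₀ u, IsUnit (Ψ u) ∧ theta Ψ A t₀ = ((1 : A) ⊗ₜ[R] Ψ u) * t := by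
  induction t using TensorProduct.induction_on with
  | zero => exact ⟨0, 1, by simp, by simp⟩
  | tmul a s =>
    obtain ⟨p, u, hu, hp⟩ := h.den s
    refine ⟨(a ⊗ₜ (1 : P₀)) * ofBase A p, u, hu, ?_⟩
    rw [map_mul, theta_ofBase, theta_tmul, ← hp,
      show (1 : R) ⊗ₜ[R₀] (1 : P₀) = 1 from rfl, map_one, Algebra.TensorProduct.tmul_mul_tmul,
      Algebra.TensorProduct.tmul_mul_tmul, mul_one, one_mul, one_mul]
  | add t t' ht ht' =>
    obtain ⟨t₀, u, hu, h₁⟩ := ht
    obtain ⟨t₀', u', hu', h₂⟩ := ht'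
    refine ⟨ofBase A u' * t₀ + ofBase A u * t₀', u * u', by rw [map_mul]; exact hu.mul hu', ?_⟩
    rw [map_add, map_mul, map_mul, theta_ofBase, theta_ofBase, h₁, h₂, map_mul,
      show (1 : A) ⊗ₜ[R] (Ψ u * Ψ u') = ((1 : A) ⊗ₜ Ψ u) * ((1 : A) ⊗ₜ Ψ u') by
        rw [Algebra.TensorProduct.tmul_mul_tmul, one_mul]]
    ring

theorem unit_notMem {u : R ⊗[R₀] P₀} (hu : IsUnit (Ψ u)) (Q : Ideal (A ⊗[R] S)) [Q.IsPrime] :
    (1 : A) ⊗ₜ[R] Ψ u ∉ Q := fun h =>
  ‹Q.IsPrime›.ne_top (Q.eq_top_of_isUnit_mem h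
    (hu.map (Algebra.TensorProduct.includeRight : S →ₐ[R] A ⊗[R] S)))

end

variable {Ψ E} {A : Type u} [CommRing A] [Algebra R A] [Algebra R₀ A] [IsScalarTower R₀ R A]
  {X : Type u} [AddCommGroup X] [Module R₀ X] [Module R X] [IsScalarTower R₀ R X] [Module A X]
  [IsScalarTower R₀ A X] [IsScalarTower R A X]

variable (E X) in
/-- The localisation map `M₀ ⊗ X → M ⊗ X`. -/
noncomputable def iota : M₀ ⊗[R₀] X →+ M ⊗[R] X :=
  (E.rTensor X).toAddMonoidHom.comp (FlatDescent.cancel R₀ M₀ R X).symm.toAddMonoidHom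

theorem iota_tmul (m : M₀) (x : X) : iota E X (m ⊗ₜ x) = E (1 ⊗ₜ m) ⊗ₜ[R] x := by
  have : (FlatDescent.cancel R₀ M₀ R X).symm (m ⊗ₜ x) = ((1 : R) ⊗ₜ[R₀] m) ⊗ₜ[R] x := by
    rw [AddEquiv.symm_apply_eq, FlatDescent.cancel_tmul, one_smul]
  simp [iota, this]

theorem iota_act (h : IsLocAlong Ψ E) (t : A ⊗[R₀] P₀) (z : M₀ ⊗[R₀] X) :
    iota E X (FlatDescent.act R₀ P₀ M₀ A X t z) =
      FlatDescent.act R S M A X (theta Ψ A t) (iota E X z) := by
  induction t using TensorProduct.induction_on with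
  | zero => simp
  | add t t' ht ht' => simp only [map_add, LinearMap.add_apply, ht, ht']
  | tmul a p =>
    induction z using TensorProduct.induction_on with
    | zero => simp
    | add z z' hz hz' => simp only [map_add, hz, hz']
    | tmul m x =>
      rw [FlatDescent.act_tmul, iota_tmul, iota_tmul, theta_tmul, FlatDescent.act_tmul, ← h.map_smul,
        FlatDescent.bc_smul_tmul, one_mul]

theorem iota_nat {Y : Type u} [AddCommGroup Y] [Module R₀ Y] [Module R Y] [IsScalarTower R₀ R Y]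
    (i : X →ₗ[R] Y) (z : M₀ ⊗[R₀] X) :
    iota E Y ((i.restrictScalars R₀).lTensor M₀ z) = i.lTensor M (iota E X z) := by
  induction z using TensorProduct.induction_on with
  | zero => simp
  | add z z' hz hz' => simp only [map_add, hz, hz']
  | tmul m x => rw [LinearMap.lTensor_tmul, iota_tmul, iota_tmul, LinearMap.lTensor_tmul]; rfl

variable (A) in
theorem iota_loc (h : IsLocAlong Ψ E) :
    (∀ z : M ⊗[R] X, ∃ u z₀, IsUnit (Ψ u) ∧
      iota E X z₀ = FlatDescent.act R S M A X ((1 : A) ⊗ₜ[R] Ψ u) z) ∧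
    ∀ z₀ : M₀ ⊗[R₀] X, iota E X z₀ = 0 →
      ∃ u, IsUnit (Ψ u) ∧ FlatDescent.act R₀ P₀ M₀ A X (ofBase A u) z₀ = 0 := by
  let _ : Module (R ⊗[R₀] P₀) M := Module.compHom M Ψ.toRingHom
  have : IsScalarTower R (R ⊗[R₀] P₀) M := IsScalarTower.of_algebraMap_smul fun r m => by
    show Ψ (algebraMap R _ r) • m = r • m
    rw [Ψ.commutes, algebraMap_smul]
  let U : Submonoid (R ⊗[R₀] P₀) := (IsUnit.submonoid S).comap Ψ.toMonoidHom
  let E' : R ⊗[R₀] M₀ →ₗ[R ⊗[R₀] P₀] M :=
    { toFun := E, map_add' := map_add E, map_smul' := h.map_smul }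
  have hloc : IsLocalizedModule U E' :=
    { map_units := fun u => by
        obtain ⟨v, hv⟩ := (u.2 : IsUnit (Ψ u.1))
        refine (Module.End.isUnit_iff _).2 ⟨fun m n e => ?_, fun m => ⟨(↑v⁻¹ : S) • m, ?_⟩⟩
        · have e' : (v : S) • m = (v : S) • n :=
            (congrArg (· • m) hv).trans (Eq.trans e (congrArg (· • n) hv).symm)
          simpa [smul_smul] using congrArg ((↑v⁻¹ : S) • ·) e'
        · refine (congrArg (fun c : S => c • ((↑v⁻¹ : S) • m)) hv).symm.trans ?_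
          show (v : S) • ((↑v⁻¹ : S) • m) = m
          rw [smul_smul, Units.mul_inv, one_smul]
      surj := fun n => by
        obtain ⟨u, x, hu, hx⟩ := h.surj n
        exact ⟨(x, ⟨u, hu⟩), hx⟩
      exists_of_eq := fun {x y} e => by
        obtain ⟨u, hu, hu0⟩ := h.ker (x - y) (by rw [map_sub]; exact sub_eq_zero.2 e)
        exact ⟨⟨u, hu⟩, sub_eq_zero.1 (by rw [← hu0, smul_sub]; rfl)⟩ }
  let ιX : (R ⊗[R₀] M₀) ⊗[R] X →ₗ[R ⊗[R₀] P₀] M ⊗[R] X := AlgebraTensorModule.rTensor R X E'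
  have hX : IsLocalizedModule U ιX := inferInstanceAs (IsLocalizedModule U (AlgebraTensorModule.rTensor R X E'))
  have hι : ∀ w, iota E X (FlatDescent.cancel R₀ M₀ R X w) = ιX w := fun w => by
    show E.rTensor X ((FlatDescent.cancel R₀ M₀ R X).symm (FlatDescent.cancel R₀ M₀ R X w)) = _
    rw [AddEquiv.symm_apply_apply]
    rfl
  have hs : ∀ (u : R ⊗[R₀] P₀) (z : M ⊗[R] X),
      FlatDescent.act R S M A X ((1 : A) ⊗ₜ[R] Ψ u) z = u • z := fun u z => by
    induction z using TensorProduct.induction_on with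
    | zero => simp
    | add z z' hz hz' => rw [map_add, hz, hz', smul_add]
    | tmul m x => rw [FlatDescent.act_tmul, one_smul, TensorProduct.smul_tmul']; rfl
  have hb : ∀ (u : R ⊗[R₀] P₀) (z₀ : M₀ ⊗[R₀] X),
      FlatDescent.act R₀ P₀ M₀ A X (ofBase A u) z₀ = FlatDescent.act R₀ P₀ M₀ R X u z₀ := fun u z₀ => by
    induction u using TensorProduct.induction_on with
    | zero => simp
    | add u v hu hv => simp only [map_add, LinearMap.add_apply, hu, hv]
    | tmul r p =>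
      induction z₀ using TensorProduct.induction_on with
      | zero => simp
      | add z z' hz hz' => simp only [map_add, hz, hz']
      | tmul m x =>
        rw [show ofBase A (r ⊗ₜ[R₀] p) = algebraMap R A r ⊗ₜ[R₀] p from rfl, FlatDescent.act_tmul,
          FlatDescent.act_tmul, algebraMap_smul]
  refine ⟨fun z => ?_, fun z₀ hz => ?_⟩
  · obtain ⟨⟨w, u⟩, hw⟩ := IsLocalizedModule.surj U ιX z
    refine ⟨u.1, FlatDescent.cancel R₀ M₀ R X w, u.2, ?_⟩
    rw [hι, hs]
    exact hw.symm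
  · obtain ⟨w, rfl⟩ := (FlatDescent.cancel R₀ M₀ R X).surjective z₀
    rw [hι] at hz
    obtain ⟨u, hu⟩ := (IsLocalizedModule.eq_zero_iff U ιX).1 hz
    refine ⟨u.1, u.2, ?_⟩
    rw [hb, ← FlatDescent.cancel_smul, show u.1 • w = 0 from hu, map_zero]

omit X in
/-- Flatness at a point passes from the model to the localisation. -/
theorem flatAt_of_model (h : IsLocAlong Ψ E) (Q : Ideal (A ⊗[R] S)) [Q.IsPrime]
    [(Q.comap (theta Ψ A)).IsPrime] (hQ : FlatDescent.FlatAt R₀ P₀ M₀ A (Q.comap (theta Ψ A))) :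
    FlatDescent.FlatAt R S M A Q := by
  refine FlatDescent.flatAt_of_act fun X Y _ _ _ _ _ _ _ _ i hi z hz => ?_
  let _ : Module R₀ X := Module.compHom X (algebraMap R₀ R)
  let _ : Module R₀ Y := Module.compHom Y (algebraMap R₀ R)
  have : IsScalarTower R₀ R X := IsScalarTower.of_algebraMap_smul fun _ _ => rfl
  have : IsScalarTower R₀ R Y := IsScalarTower.of_algebraMap_smul fun _ _ => rfl
  have : IsScalarTower R₀ A X := IsScalarTower.of_algebraMap_smul fun r x => by
    rw [IsScalarTower.algebraMap_apply R₀ R A, algebraMap_smul]; rfl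
  have : IsScalarTower R₀ A Y := IsScalarTower.of_algebraMap_smul fun r x => by
    rw [IsScalarTower.algebraMap_apply R₀ R A, algebraMap_smul]; rfl
  obtain ⟨u, z₀, hu, hz₀⟩ := (iota_loc A h).1 z
  have hy : iota E Y ((i.restrictScalars R₀).lTensor M₀ z₀) = 0 := by
    have hnat : ∀ w, (i.restrictScalars R).lTensor M (FlatDescent.act R S M A X ((1 : A) ⊗ₜ[R] Ψ u) w) =
        FlatDescent.act R S M A Y ((1 : A) ⊗ₜ[R] Ψ u) ((i.restrictScalars R).lTensor M w) := fun w => by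
      induction w using TensorProduct.induction_on with
      | zero => simp
      | add w w' hw hw' => simp only [map_add, hw, hw']
      | tmul m x => simp [FlatDescent.act_tmul]
    rw [show i.restrictScalars R₀ = (i.restrictScalars R).restrictScalars R₀ from rfl, iota_nat, hz₀,
      hnat, hz, map_zero]
  obtain ⟨u', hu', hu0⟩ := (iota_loc A h).2 _ hy
  have hnat0 : ∀ (t : A ⊗[R₀] P₀) w, (i.restrictScalars R₀).lTensor M₀ (FlatDescent.act R₀ P₀ M₀ A X t w) =
      FlatDescent.act R₀ P₀ M₀ A Y t ((i.restrictScalars R₀).lTensor M₀ w) := fun t w => by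
    induction t using TensorProduct.induction_on with
    | zero => simp
    | add t t' ht ht' => simp only [map_add, LinearMap.add_apply, ht, ht']
    | tmul a p =>
      induction w using TensorProduct.induction_on with
      | zero => simp
      | add w w' hw hw' => simp only [map_add, hw, hw']
      | tmul m x => simp [FlatDescent.act_tmul]
  obtain ⟨t, ht, htz⟩ := hQ.exists_act_eq_zero i hi
    (FlatDescent.act R₀ P₀ M₀ A X (ofBase A u') z₀) (by rw [hnat0, hu0])
  refine ⟨theta Ψ A t * ((1 : A) ⊗ₜ[R] Ψ u') * ((1 : A) ⊗ₜ[R] Ψ u), ?_, ?_⟩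
  · exact fun hm => (‹Q.IsPrime›.mem_or_mem hm).elim
      (fun hm => (‹Q.IsPrime›.mem_or_mem hm).elim (fun hm => ht hm) (unit_notMem A hu' Q))
      (unit_notMem A hu Q)
  · rw [map_mul, Module.End.mul_apply, ← hz₀, map_mul, Module.End.mul_apply, ← theta_ofBase,
      ← iota_act h, ← iota_act h, htz, map_zero]

omit X in
/-- Flatness at a point passes from the localisation to the model. -/
theorem flatAt_model (h : IsLocAlong Ψ E) (Q : Ideal (A ⊗[R] S)) [Q.IsPrime]
    [(Q.comap (theta Ψ A)).IsPrime] (hQ : FlatDescent.FlatAt R S M A Q) :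
    FlatDescent.FlatAt R₀ P₀ M₀ A (Q.comap (theta Ψ A)) := by
  refine FlatDescent.flatAt_of_act fun X Y _ _ _ _ _ _ _ _ i hi z hz => ?_
  let _ : Module R X := Module.compHom X (algebraMap R A)
  let _ : Module R Y := Module.compHom Y (algebraMap R A)
  have : IsScalarTower R A X := IsScalarTower.of_algebraMap_smul fun _ _ => rfl
  have : IsScalarTower R A Y := IsScalarTower.of_algebraMap_smul fun _ _ => rfl
  have : IsScalarTower R₀ R X := IsScalarTower.of_algebraMap_smul fun r x => by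
    show algebraMap R A (algebraMap R₀ R r) • x = r • x
    rw [← IsScalarTower.algebraMap_apply, algebraMap_smul]
  have : IsScalarTower R₀ R Y := IsScalarTower.of_algebraMap_smul fun r x => by
    show algebraMap R A (algebraMap R₀ R r) • x = r • x
    rw [← IsScalarTower.algebraMap_apply, algebraMap_smul]
  obtain ⟨t, ht, htz⟩ := hQ.exists_act_eq_zero i hi (iota E X z) (by
    rw [← iota_nat, show (i.restrictScalars R).restrictScalars R₀ = i.restrictScalars R₀ from rfl, hz, map_zero])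
  obtain ⟨t₀, u, hu, ht₀⟩ := theta_den A h t
  have h0 : iota E X (FlatDescent.act R₀ P₀ M₀ A X t₀ z) = 0 := by
    rw [iota_act h, ht₀, map_mul, Module.End.mul_apply, htz, map_zero]
  obtain ⟨u', hu', hu0⟩ := (iota_loc A h).2 _ h0
  refine ⟨ofBase A u' * t₀, fun hm => ?_, by rw [map_mul, Module.End.mul_apply, hu0]⟩
  have hm' : theta Ψ A (ofBase A u' * t₀) ∈ Q := hm
  rw [map_mul, theta_ofBase, ht₀] at hm'
  exact (‹Q.IsPrime›.mem_or_mem hm').elim (unit_notMem A hu' Q)
    fun hm => (‹Q.IsPrime›.mem_or_mem hm).elim (unit_notMem A hu Q) ht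

end Groth.Agent.FlatMor12.LocTransfer
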