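import Groth.Agent.FlatMor12.ColimTensor
import Groth.Agent.FlatMor12.LocTransfer
import Groth.Agent.FlatMor12.FlatteningUniversal
import Groth.Agent.EGA43.FlatDescent.Main
import Mathlib.RingTheory.TensorProduct.IsBaseChangePi

/-!
# Flatness over ideals descends to a stage of a colimit
-/

set_option autoImplicit false
set_option backward.isDefEq.respectTransparency false
set_option linter.unusedSectionVars false

universe u

open TensorProduct Function

namespace Groth.Agent.FlatMor12.FlatAtColimit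

open EGA43 LocTransfer

attribute [local instance] FlatDescent.bcModule

variable {R S : Type u} [CommRing R] [CommRing S] [Algebra R S]
  {M : Type u} [AddCommGroup M] [Module S M] [Module R M] [IsScalarTower R S M]

/-- A Noetherian model of a finitely presented module over an essentially finitely presented algebra. -/
theorem exists_model (hS : FlatCA.EssFinitePresentation R S) [Module.FinitePresentation S M] :
    ∃ (R₀ : Subalgebra ℤ R) (_ : IsNoetherianRing R₀) (P₀ M₀ : Type u) (_ : CommRing P₀)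
      (_ : Algebra R₀ P₀) (_ : AddCommGroup M₀) (_ : Module R₀ M₀) (_ : Module P₀ M₀)
      (_ : IsScalarTower R₀ P₀ M₀) (_ : Algebra.FiniteType R₀ P₀) (_ : Module.Finite P₀ M₀)
      (Ψ : R ⊗[R₀] P₀ →ₐ[R] S) (E : R ⊗[R₀] M₀ →ₗ[R] M), IsLocAlong Ψ E := by
  classical
  obtain ⟨S₀, _, _, _, _, T, _, _⟩ := hS
  obtain ⟨k, K, eM, hK⟩ := Module.FinitePresentation.exists_fin S M
  let π : (Fin k → S₀) →ₗ[S₀] (Fin k → S) :=
    LinearMap.pi fun j => Algebra.linearMap S₀ S ∘ₗ LinearMap.proj j
  have : IsLocalizedModule T (Algebra.linearMap S₀ S) := isLocalizedModule_iff_isLocalization.2 inferInstance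
  have hπ : IsLocalizedModule T π := inferInstanceAs
    (IsLocalizedModule T (LinearMap.pi fun j : Fin k => Algebra.linearMap S₀ S ∘ₗ LinearMap.proj j))
  obtain ⟨s, hs⟩ := hK
  choose wt hwt using fun w : s => IsLocalizedModule.surj T π w.1
  let K₀ : Submodule S₀ (Fin k → S₀) := Submodule.span S₀ (Set.range fun w : s => (wt w).1)
  have hloc : K₀.localized' S T π = K := by
    rw [Submodule.localized'_span, ← hs]
    refine le_antisymm (Submodule.span_le.2 ?_) (Submodule.span_le.2 fun w hw => ?_)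
    · rintro _ ⟨_, ⟨w, rfl⟩, rfl⟩
      rw [← hwt w]
      show ((wt w).2 : S₀) • (w.1) ∈ _
      rw [← algebraMap_smul S]
      exact Submodule.smul_mem _ _ (Submodule.subset_span w.2)
    · obtain ⟨v, hv⟩ := IsLocalization.map_units S (wt ⟨w, hw⟩).2
      have he : w = (↑v⁻¹ : S) • π (wt ⟨w, hw⟩).1 := by
        rw [← hwt ⟨w, hw⟩]
        show w = _ • (((wt ⟨w, hw⟩).2 : S₀) • w)
        rw [← algebraMap_smul S ((wt ⟨w, hw⟩).2 : S₀) w, smul_smul, ← hv, Units.inv_mul, one_smul]
      rw [SetLike.mem_coe, he]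
      exact Submodule.smul_mem _ _ (Submodule.subset_span ⟨_, ⟨⟨w, hw⟩, rfl⟩, rfl⟩)
  let N := (Fin k → S₀) ⧸ K₀
  have : Module.FinitePresentation S₀ N :=
    Module.finitePresentation_of_surjective K₀.mkQ K₀.mkQ_surjective
      (by rw [Submodule.ker_mkQ]; exact Submodule.fg_span (Set.finite_range _))
  let _ : Module S₀ M := Module.compHom M (algebraMap S₀ S)
  have : IsScalarTower S₀ S M := IsScalarTower.of_algebraMap_smul fun _ _ => rfl
  have : IsScalarTower R S₀ M := IsScalarTower.of_algebraMap_smul fun r m => by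
    show algebraMap S₀ S (algebraMap R S₀ r) • m = r • m
    rw [← IsScalarTower.algebraMap_apply, algebraMap_smul]
  let e₁ : ((Fin k → S) ⧸ K₀.localized' S T π) ≃ₗ[S] M := (Submodule.quotEquivOfEq _ _ hloc).trans eM.symm
  let E₀ : N →ₗ[S₀] M := (e₁.restrictScalars S₀).toLinearMap ∘ₗ K₀.toLocalizedQuotient' S T π
  have hE₀ : IsLocalizedModule T E₀ :=
    IsLocalizedModule.of_linearEquiv T (K₀.toLocalizedQuotient' S T π) (e₁.restrictScalars S₀)
  obtain ⟨R₀, hR₀, P₀, M₀, _, _, _, _, _, _, _, _, ψ, e, hψ, he⟩ :=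
    FlatDescent.exists_model_of_finitePresentation (A := R) (S := S₀) (N := N)
  refine ⟨R₀, hR₀, P₀, M₀, inferInstance, inferInstance, inferInstance, inferInstance, inferInstance,
    inferInstance, inferInstance, inferInstance, (IsScalarTower.toAlgHom R S₀ S).comp ψ,
    (E₀.restrictScalars R).comp e.toLinearMap, fun t x => ?_, fun s => ?_, fun n => ?_, fun x hx => ?_⟩
  · show E₀ (e (t • x)) = algebraMap S₀ S (ψ t) • E₀ (e x)
    rw [he, map_smul, algebraMap_smul]
  · obtain ⟨⟨p, u⟩, hp⟩ := IsLocalization.surj T s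
    obtain ⟨p, rfl⟩ := hψ p
    obtain ⟨u', hu'⟩ := hψ u
    refine ⟨p, u', ?_, ?_⟩
    · show IsUnit (algebraMap S₀ S (ψ u'))
      rw [hu']
      exact IsLocalization.map_units S u
    · show algebraMap S₀ S (ψ u') * s = algebraMap S₀ S (ψ p)
      rw [hu', mul_comm]
      exact hp
  · obtain ⟨⟨x, u⟩, hx⟩ := IsLocalizedModule.surj T E₀ n
    obtain ⟨u', hu'⟩ := hψ u
    refine ⟨u', e.symm x, ?_, ?_⟩
    · show IsUnit (algebraMap S₀ S (ψ u'))
      rw [hu']
      exact IsLocalization.map_units S u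
    · show algebraMap S₀ S (ψ u') • n = E₀ (e (e.symm x))
      rw [hu', algebraMap_smul, e.apply_symm_apply]
      exact hx
  · obtain ⟨u, hu⟩ := (IsLocalizedModule.eq_zero_iff T E₀).1 (show E₀ (e x) = 0 from hx)
    obtain ⟨u', hu'⟩ := hψ u
    refine ⟨u', ?_, e.injective ?_⟩
    · show IsUnit (algebraMap S₀ S (ψ u'))
      rw [hu']
      exact IsLocalization.map_units S u
    · rw [he, hu', map_zero]
      exact hu

variable {ι : Type u} [Preorder ι] {G : ι → Type u} [∀ i, CommRing (G i)] [∀ i, Algebra R (G i)]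
  (g : ∀ i j, i ≤ j → G i →ₐ[R] G j)
  {A : Type u} [CommRing A] [Algebra R A] [∀ i, Algebra (G i) A] [∀ i, IsScalarTower R (G i) A]
  (hc : FlatCA.IsDirectedColimitRing G (fun i j h => (g i j h).toRingHom) A)

/-- The map of tensor products induced by an algebra map. -/
noncomputable abbrev tmap {B C : Type u} [CommRing B] [CommRing C] [Algebra R B] [Algebra R C]
    (φ : B →ₐ[R] C) : B ⊗[R] S →ₐ[R] C ⊗[R] S :=
  Algebra.TensorProduct.map φ (AlgHom.id R S)

theorem rTensor_eq_tmap {B C : Type u} [CommRing B] [CommRing C] [Algebra R B] [Algebra R C]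
    (φ : B →ₐ[R] C) (z : B ⊗[R] S) : φ.toLinearMap.rTensor S z = tmap φ z := by
  induction z using TensorProduct.induction_on with
  | zero => simp
  | add u v hu hv => simp only [map_add, hu, hv]
  | tmul b s => rfl

variable (Il : ∀ i, Ideal (G i)) (hIl : ∀ i j (h : i ≤ j), (Il i).map (g i j h).toRingHom ≤ Il j)
  (J : Ideal S) (M)

/-- The ideal cutting out the part of the closed set where flatness may fail. -/
noncomputable def badIdeal (i : ι) : Ideal (G i ⊗[R] S) :=
  Ideal.span {c | ∀ (q : Ideal (G i ⊗[R] S)) [q.IsPrime], c ∉ q → FlatDescent.FlatAt R S M (G i) q} ⊔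
    ((Il i).map (Algebra.TensorProduct.includeLeft : G i →ₐ[R] G i ⊗[R] S).toRingHom ⊔
      J.map (Algebra.TensorProduct.includeRight : S →ₐ[R] G i ⊗[R] S).toRingHom)

include hIl in
set_option maxHeartbeats 2000000 in
theorem map_badIdeal {i j : ι} (h : i ≤ j) :
    (badIdeal (R := R) M Il J i).map (tmap (S := S) (g i j h)).toRingHom ≤ badIdeal (R := R) M Il J j := by
  refine Ideal.map_le_iff_le_comap.2 (sup_le (Ideal.span_le.2 ?_) (sup_le ?_ ?_))
  · intro c hc
    refine Ideal.mem_sup_left (Ideal.subset_span ?_)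
    intro q _ hq
    exact FlatDescent.FlatAt.of_hom (g i j h) (hc _ hq)
  · refine Ideal.map_le_iff_le_comap.2 fun a ha => Ideal.mem_sup_right (Ideal.mem_sup_left ?_)
    rw [show (tmap (S := S) (g i j h)).toRingHom ((Algebra.TensorProduct.includeLeft : G i →ₐ[R] G i ⊗[R] S).toRingHom a) =
      (Algebra.TensorProduct.includeLeft : G j →ₐ[R] G j ⊗[R] S).toRingHom ((g i j h).toRingHom a) from rfl]
    exact Ideal.mem_map_of_mem _ (hIl i j h (Ideal.mem_map_of_mem _ ha))
  · refine Ideal.map_le_iff_le_comap.2 fun a ha => Ideal.mem_sup_right (Ideal.mem_sup_right ?_)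
    rw [show (tmap (S := S) (g i j h)).toRingHom ((Algebra.TensorProduct.includeRight : S →ₐ[R] G i ⊗[R] S).toRingHom a) =
      (Algebra.TensorProduct.includeRight : S →ₐ[R] G j ⊗[R] S).toRingHom a from
        congrArg (fun x : G j => x ⊗ₜ[R] a) (map_one (g i j h))]
    exact Ideal.mem_map_of_mem _ ha

include hc hIl in
/-- If flatness holds at all points of the closed set in the colimit, the bad ideal is the unit
ideal at some stage. -/
theorem exists_badIdeal_eq_top (hS : FlatCA.EssFinitePresentation R S) [Module.FinitePresentation S M]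
    (h : ∀ (Q : Ideal (A ⊗[R] S)) [Q.IsPrime],
      (∀ i, (Il i).map (algebraMap (G i) A) ≤
        Q.comap (Algebra.TensorProduct.includeLeft : A →ₐ[R] A ⊗[R] S).toRingHom) →
      J ≤ Q.comap (Algebra.TensorProduct.includeRight : S →ₐ[R] A ⊗[R] S).toRingHom →
      FlatDescent.FlatAt R S M A Q) :
    ∃ i, badIdeal (R := R) M Il J i = ⊤ := by
  have := hc.1
  have := hc.2.1
  let π (i : ι) := tmap (S := S) (IsScalarTower.toAlgHom R (G i) A)
  have hπ : ∀ {i j} (hij : i ≤ j) (z : G i ⊗[R] S), π j (tmap (g i j hij) z) = π i z := fun {i j} hij z => by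
    induction z using TensorProduct.induction_on with
    | zero => simp
    | add u v hu hv => simp only [map_add, hu, hv]
    | tmul b s => simp [π, tmap, ColimTensor.algebraMap_g g hc hij b]
  have hsurj : ∀ x : A ⊗[R] S, ∃ i z, π i z = x := fun x => by
    obtain ⟨i, z, hz⟩ := ColimTensor.exists_stage g hc S x
    exact ⟨i, z, (rTensor_eq_tmap _ z).symm.trans hz⟩
  let U : Ideal (A ⊗[R] S) :=
    { carrier := {x | ∃ i, ∃ y ∈ badIdeal (R := R) M Il J i, π i y = x}
      zero_mem' := hc.2.1.elim fun i => ⟨i, 0, Ideal.zero_mem _, map_zero _⟩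
      add_mem' := by
        rintro _ _ ⟨i, y, hy, rfl⟩ ⟨j, z, hz, rfl⟩
        obtain ⟨k, hik, hjk⟩ := exists_ge_ge i j
        exact ⟨k, _, Ideal.add_mem _ (map_badIdeal M g Il hIl J hik (Ideal.mem_map_of_mem _ hy))
          (map_badIdeal M g Il hIl J hjk (Ideal.mem_map_of_mem _ hz)), (map_add _ _ _).trans (congrArg₂ (· + ·) (hπ hik y) (hπ hjk z))⟩
      smul_mem' := by
        rintro x _ ⟨i, y, hy, rfl⟩
        obtain ⟨j, z, rfl⟩ := hsurj x
        obtain ⟨k, hik, hjk⟩ := exists_ge_ge i j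
        exact ⟨k, _, Ideal.mul_mem_left _ (tmap (g j k hjk) z) (map_badIdeal M g Il hIl J hik (Ideal.mem_map_of_mem _ hy)),
          (map_mul _ _ _).trans (congrArg₂ (· * ·) (hπ hjk z) (hπ hik y))⟩ }
  have htop : U = ⊤ := by
    by_contra hne
    obtain ⟨Q, hQ, hle⟩ := Ideal.exists_le_maximal U hne
    have := hQ.isPrime
    have hQflat := h Q (fun i => Ideal.map_le_iff_le_comap.2 fun a ha => hle ⟨i, a ⊗ₜ 1,
        Ideal.mem_sup_right (Ideal.mem_sup_left (Ideal.mem_map_of_mem _ ha)), by simp [π, tmap]⟩)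
      (fun s hs => hle (hc.2.1.elim fun i => ⟨i, (1 : G i) ⊗ₜ s,
        Ideal.mem_sup_right (Ideal.mem_sup_right (Ideal.mem_map_of_mem _ hs)), by simp [π, tmap]⟩))
    obtain ⟨R₀, _, P₀, M₀, _, _, _, _, _, _, _, _, Ψ, E, hΨE⟩ := exists_model (M := M) hS
    obtain ⟨B, hB, hBq⟩ := FlatDescent.exists_stage_flatAt _ (flatAt_model hΨE Q hQflat)
    have := FlatDescent.isNoetherianRing_of_fg hB
    let σ := Algebra.TensorProduct.map B.val (AlgHom.id R₀ P₀)
    let Q₀ := Q.comap (theta Ψ A)
    obtain ⟨_, ⟨c, rfl⟩, hcq, hcflat⟩ :=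
      PrimeSpectrum.isTopologicalBasis_basic_opens.exists_subset_of_mem_open
        (show PrimeSpectrum.comap σ.toRingHom ⟨Q₀, inferInstance⟩ ∈ {q | FlatDescent.FlatAt R₀ P₀ M₀ B q.asIdeal} from hBq)
        FlatDescent.isOpen_flatAt_of_isNoetherianRing
    have : Algebra.FiniteType R₀ B := B.fg_iff_finiteType.1 hB
    have : Algebra.FinitePresentation R₀ B := Algebra.FinitePresentation.of_finiteType.1 inferInstance
    obtain ⟨i, φ, hφ⟩ := ColimTensor.exists_lift g hc B B.val
    let c' := theta Ψ (G i) (Algebra.TensorProduct.map φ (AlgHom.id R₀ P₀) c)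
    have hc' : π i c' = theta Ψ A (σ c) := by
      show π i (theta Ψ (G i) (Algebra.TensorProduct.map φ (AlgHom.id R₀ P₀) c)) = _
      clear hcq hcflat
      induction c using TensorProduct.induction_on with
      | zero => simp
      | add u v hu hv => simp only [map_add, hu, hv]
      | tmul b p => simp [σ, π, tmap, theta_tmul, hφ]
    refine hcq (hle ⟨i, c', Ideal.mem_sup_left (Ideal.subset_span fun q _ hq => ?_), hc'⟩)
    have : ((q.comap (theta Ψ (G i))).comap (Algebra.TensorProduct.map φ (AlgHom.id R₀ P₀))).IsPrime := Ideal.IsPrime.comap _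
    refine flatAt_of_model hΨE q (FlatDescent.FlatAt.of_hom (q := q.comap (theta Ψ (G i))) φ ?_)
    exact hcflat (a := ⟨(q.comap (theta Ψ (G i))).comap (Algebra.TensorProduct.map φ (AlgHom.id R₀ P₀)), this⟩) hq
  obtain ⟨i, y, hy, h1⟩ : (1 : A ⊗[R] S) ∈ U := htop ▸ Submodule.mem_top
  obtain ⟨j, hij, hj⟩ := ColimTensor.exists_stage_eq_zero g hc S (y - 1)
    ((rTensor_eq_tmap _ _).trans (by rw [map_sub, map_one, sub_eq_zero]; exact h1))
  rw [rTensor_eq_tmap, map_sub, map_one, sub_eq_zero] at hj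
  exact ⟨j, (Ideal.eq_top_iff_one _).2 (hj ▸ map_badIdeal M g Il hIl J hij (Ideal.mem_map_of_mem _ hy))⟩

/-- Primes at which everything in the bad ideal's closed part lies are flat points. -/
theorem flatAt_of_badIdeal_eq_top {i : ι} (h : badIdeal (R := R) M Il J i = ⊤) (q : Ideal (G i ⊗[R] S)) [q.IsPrime]
    (hI : Il i ≤ q.comap (Algebra.TensorProduct.includeLeft : G i →ₐ[R] G i ⊗[R] S).toRingHom)
    (hJ : J ≤ q.comap (Algebra.TensorProduct.includeRight : S →ₐ[R] G i ⊗[R] S).toRingHom) :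
    FlatDescent.FlatAt R S M (G i) q := by
  by_contra hne
  refine ‹q.IsPrime›.ne_top (top_le_iff.1 (h ▸ sup_le (Ideal.span_le.2 fun c hc => ?_)
    (sup_le (Ideal.map_le_iff_le_comap.2 hI) (Ideal.map_le_iff_le_comap.2 hJ))))
  by_contra hcq
  exact hne (hc q hcq)

end Groth.Agent.FlatMor12.FlatAtColimit
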