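import Groth.Agent.FlatMorSlice.Cover
import Mathlib.RingTheory.Etale.QuasiFinite
import Mathlib.AlgebraicGeometry.Morphisms.Etale
import Mathlib.AlgebraicGeometry.Morphisms.Finite
import Mathlib.AlgebraicGeometry.Morphisms.UniversallyOpen

/-! An fppf morphism has, étale locally on the base, a finite locally free slice with a global lift. -/

set_option autoImplicit false
set_option backward.isDefEq.respectTransparency false

universe u

namespace Groth.Agent.FlatMor12

open AlgebraicGeometry CategoryTheory Limits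

theorem exists_etale_finite_slice {S₁ S : Scheme.{u}} (g : S₁ ⟶ S) [Flat g]
    [LocallyOfFinitePresentation g] (s : S) (x : S₁) (hx : g x = s) :
    ∃ (S' V : Scheme.{u}) (e : S' ⟶ S) (π : V ⟶ S'), Etale e ∧ s ∈ Set.range ⇑e ∧ Surjective π ∧
      IsFinite π ∧ Flat π ∧ LocallyOfFinitePresentation π ∧
      ∃ r : V ⟶ S₁, r ≫ g = π ≫ e := by
  obtain ⟨T, rT, _, h₁, h₂, h₃, y, hy⟩ := FlatMorSlice.exists_slice_scheme g x
  let h := rT ≫ g
  have hys : h y = s := hy.trans hx
  obtain ⟨_, ⟨U, (hU : IsAffineOpen U), rfl⟩, hsU, -⟩ := S.isBasis_affineOpens.exists_subset_of_mem_open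
    (Set.mem_univ s) isOpen_univ
  obtain ⟨_, ⟨W, (hW : IsAffineOpen W), rfl⟩, hyW, hWU⟩ := T.isBasis_affineOpens.exists_subset_of_mem_open
    (show y ∈ h ⁻¹ᵁ U by rw [Scheme.Hom.mem_preimage, hys]; exact hsU) (h ⁻¹ᵁ U).isOpen
  let e : W ≤ h ⁻¹ᵁ U := hWU
  let φ := h.appLE U W e
  algebraize [φ.hom]
  let A := Γ(S, U)
  let C := Γ(T, W)
  have : Algebra.FinitePresentation A C :=
    LocallyOfFinitePresentation.finitePresentation_appLE h hU hW e
  have : Module.Flat A C := Flat.flat_appLE h hU hW e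
  have : Algebra.QuasiFinite A C := LocallyQuasiFinite.quasiFinite_appLE hU hW e
  let q := (hW.primeIdealOf ⟨y, hyW⟩).asIdeal
  let p := q.comap (algebraMap A C)
  have : q.LiesOver p := ⟨rfl⟩
  have hp : hU.fromSpec ⟨p, inferInstance⟩ = s := by
    show hU.fromSpec (Spec.map φ (hW.primeIdealOf ⟨y, hyW⟩)) = s
    show (Spec.map φ ≫ hU.fromSpec) (hW.primeIdealOf ⟨y, hyW⟩) = s
    rw [hU.SpecMap_appLE_fromSpec h hW e]
    exact (congrArg h (hW.fromSpec_primeIdealOf ⟨y, hyW⟩)).trans hys
  obtain ⟨R', _, _, hEt, P, _, hP, i, hi, P', _, hP', -, hiP', -, hfin, -⟩ :=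
    Algebra.exists_etale_isIdempotentElem_forall_liesOver_eq p q
  let B := Localization.Away i
  let π : Spec (.of B) ⟶ Spec (.of R') := Spec.map (CommRingCat.ofHom (algebraMap R' B))
  have hπfin : IsFinite π := (IsFinite.SpecMap_iff _).2 (RingHom.finite_algebraMap.2 hfin)
  have : Module.Flat R' B := Module.Flat.trans R' (TensorProduct A R' C) B
  have hπflat : Flat π := (HasRingHomProperty.Spec_iff (P := @Flat)).2
    (RingHom.flat_algebraMap_iff.2 this)
  have : Algebra.FinitePresentation R' B := by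
    have := IsLocalization.Away.finitePresentation i (S := B)
    exact .trans R' (TensorProduct A R' C) _
  have hπfp : LocallyOfFinitePresentation π := (HasRingHomProperty.Spec_iff
    (P := @LocallyOfFinitePresentation)).2 (RingHom.finitePresentation_algebraMap.2 this)
  let O : (Spec (.of R')).Opens := ⟨Set.range π, π.isOpenMap.isOpen_range⟩
  have hOP : (⟨P, inferInstance⟩ : PrimeSpectrum R') ∈ O := by
    have hd : Disjoint (Submonoid.powers i : Set (TensorProduct A R' C)) P' := by
      rw [Set.disjoint_left]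
      rintro _ ⟨k, rfl⟩ hk
      exact hiP' (Ideal.IsPrime.mem_of_pow_mem inferInstance k hk)
    refine ⟨⟨P'.map (algebraMap _ B),
      IsLocalization.isPrime_of_isPrime_disjoint (Submonoid.powers i) _ _ inferInstance hd⟩,
      PrimeSpectrum.ext ?_⟩
    show (P'.map (algebraMap _ B)).comap (algebraMap R' B) = P
    rw [IsScalarTower.algebraMap_eq R' (TensorProduct A R' C) B, ← Ideal.comap_comap,
      ← Ideal.under_def (TensorProduct A R' C),
      IsLocalization.under_map_of_isPrime_disjoint (Submonoid.powers i) _ inferInstance hd]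
    exact hP'.over.symm
  let eS : Spec (.of R') ⟶ S := Spec.map (CommRingCat.ofHom (algebraMap A R')) ≫ hU.fromSpec
  have hEt' : Etale (Spec.map (CommRingCat.ofHom (algebraMap A R'))) :=
    (HasRingHomProperty.Spec_iff (P := @Etale)).2 (RingHom.etale_algebraMap.2 hEt)
  have : Etale eS := MorphismProperty.comp_mem @Etale _ _ hEt' inferInstance
  refine ⟨O, (π ⁻¹ᵁ O).toScheme, O.ι ≫ eS, π ∣_ O, inferInstance, ⟨⟨_, hOP⟩, ?_⟩, ⟨fun o => ?_⟩,
    inferInstance, inferInstance, inferInstance,
      (π ⁻¹ᵁ O).ι ≫ Spec.map (CommRingCat.ofHom ((algebraMap _ B).comp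
        (Algebra.TensorProduct.includeRight (R := A) (A := R') (B := C)).toRingHom)) ≫
        hW.fromSpec ≫ rT, ?_⟩
  · exact (congrArg hU.fromSpec (PrimeSpectrum.ext hP.over.symm :
      (PrimeSpectrum.comap (algebraMap A R') ⟨P, inferInstance⟩ : PrimeSpectrum A) = ⟨p, inferInstance⟩)).trans hp
  · obtain ⟨z, hz⟩ := o.2
    exact ⟨⟨z, show π z ∈ O from ⟨z, rfl⟩⟩, Subtype.ext ((congrArg (fun q : _ ⟶ Spec (.of R') => q _)
      (morphismRestrict_ι π O)).trans hz)⟩
  · simp only [Category.assoc, morphismRestrict_ι_assoc]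
    congr 1
    show Spec.map _ ≫ hW.fromSpec ≫ h = π ≫ eS
    rw [← hU.SpecMap_appLE_fromSpec h hW e, ← Category.assoc, ← Spec.map_comp]
    simp only [π, eS]
    rw [← Category.assoc, ← Spec.map_comp]
    congr 2
    ext a
    show algebraMap _ B ((1 : R') ⊗ₜ[A] algebraMap A C a) = algebraMap R' B (algebraMap A R' a)
    rw [IsScalarTower.algebraMap_apply R' (TensorProduct A R' C) B, Algebra.TensorProduct.algebraMap_apply,
      Algebra.algebraMap_eq_smul_one (R := A) a, Algebra.algebraMap_eq_smul_one (R := A) a,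
      ← TensorProduct.smul_tmul]
    rfl

end Groth.Agent.FlatMor12
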