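import Mathlib

/-! A standard étale algebra is dominated, Zariski locally, by a finite free algebra. -/

set_option backward.isDefEq.respectTransparency false

universe u

namespace Groth.Agent.FlatMor12

open Polynomial

attribute [local instance] Localization.AtPrime.algebraOfLiesOver

/-- A monic polynomial splits over some finite free algebra with injective structure map. -/
theorem exists_splitting_free :
    ∀ (n : ℕ) (A : Type u) [CommRing A] [Nontrivial A] (f : A[X]), f.Monic → f.natDegree = n →
      ∃ (T : Type u) (_ : CommRing T) (_ : Algebra A T) (a : Fin n → T), Module.Free A T ∧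
        Module.Finite A T ∧ Function.Injective (algebraMap A T) ∧
        f.map (algebraMap A T) = ∏ i, (Polynomial.X - C (a i)) := by
  intro n
  induction n with
  | zero =>
    intro A _ _ f hf hn
    exact ⟨A, inferInstance, Algebra.id A, Fin.elim0, inferInstance, inferInstance,
      Function.injective_id, by simp [hf.natDegree_eq_zero.1 hn]⟩
  | succ n ih =>
    intro A _ _ f hf hn
    have := hf.free_adjoinRoot
    have := hf.finite_adjoinRoot
    have hinj : Function.Injective (algebraMap A (AdjoinRoot f)) := by
      refine (injective_iff_map_eq_zero _).2 fun x hx => ?_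
      by_contra h
      exact hf.not_dvd_of_natDegree_lt (C_ne_zero.2 h) (by rw [natDegree_C, hn]; exact n.succ_pos)
        (AdjoinRoot.mk_eq_zero.1 hx)
    have : Nontrivial (AdjoinRoot f) := hinj.nontrivial
    obtain ⟨f₁, hf₁⟩ : (Polynomial.X - C (AdjoinRoot.root f)) ∣ f.map (algebraMap A (AdjoinRoot f)) :=
      dvd_iff_isRoot.2 (AdjoinRoot.isRoot_root f)
    have hf₁m : f₁.Monic :=
      (monic_X_sub_C _).of_mul_monic_left (hf₁ ▸ hf.map _)
    have hf₁n : f₁.natDegree = n := by
      have h := (monic_X_sub_C (AdjoinRoot.root f)).natDegree_mul hf₁m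
      rw [← hf₁, hf.natDegree_map, hn, natDegree_X_sub_C] at h
      omega
    obtain ⟨T, _, _, a, hfree, hfin, hinjT, hT⟩ := ih (AdjoinRoot f) f₁ hf₁m hf₁n
    let : Algebra A T := ((algebraMap (AdjoinRoot f) T).comp (algebraMap A (AdjoinRoot f))).toAlgebra
    have : IsScalarTower A (AdjoinRoot f) T := .of_algebraMap_eq' rfl
    refine ⟨T, inferInstance, inferInstance,
      Fin.cons (algebraMap _ T (AdjoinRoot.root f)) a, Module.Free.trans (R := A) (S := AdjoinRoot f),
      Module.Finite.trans (AdjoinRoot f) T, hinjT.comp hinj, ?_⟩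
    rw [IsScalarTower.algebraMap_eq A (AdjoinRoot f) T, ← Polynomial.map_map, hf₁,
      Polynomial.map_mul, hT, Fin.prod_univ_succ]
    simp

set_option synthInstance.maxHeartbeats 200000 in
/-- Around every prime over `p` of a suitable finite free algebra, there is a map from the standard
étale algebra inducing the given prime `Q`. -/
theorem exists_finite_free_dominating {A : Type u} [CommRing A] (P : StandardEtalePair A)
    (Q : Ideal P.Ring) [Q.IsPrime] :
    ∃ (T : Type u) (_ : CommRing T) (_ : Algebra A T), Module.Free A T ∧ Module.Finite A T ∧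
      Function.Injective (algebraMap A T) ∧
      ∀ (t : Ideal T) [t.IsPrime], t.comap (algebraMap A T) = Q.comap (algebraMap A P.Ring) →
        ∃ w : T, w ∉ t ∧ ∃ σ : P.Ring →ₐ[A] Localization.Away w,
          ∀ t' : Ideal (Localization.Away w), t'.IsPrime →
            t'.comap (algebraMap T (Localization.Away w)) = t → t'.comap σ.toRingHom = Q := by
  let p := Q.comap (algebraMap A P.Ring)
  have : Nontrivial A := by
    have : p.IsPrime := inferInstance
    exact nontrivial_of_ne 0 1 fun h => this.ne_top ((Ideal.eq_top_iff_one _).2 (h ▸ p.zero_mem))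
  obtain ⟨T, _, _, a, hfree, hfin, hinj, hfT⟩ := exists_splitting_free _ A P.f P.monic_f rfl
  refine ⟨T, inferInstance, inferInstance, hfree, hfin, hinj, fun t _ ht => ?_⟩
  have : t.LiesOver p := ⟨ht.symm⟩
  have : Q.LiesOver p := ⟨rfl⟩
  let K := AlgebraicClosure t.ResidueField
  let e : Q.ResidueField →ₐ[p.ResidueField] K := IsAlgClosed.lift
  let φ : P.Ring →ₐ[A] K :=
    (e.restrictScalars A).comp (IsScalarTower.toAlgHom A P.Ring Q.ResidueField)
  have hker : RingHom.ker φ.toRingHom = Q := by
    ext x
    change e (algebraMap P.Ring Q.ResidueField x) = 0 ↔ _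
    rw [map_eq_zero_iff e e.injective, Ideal.algebraMap_residueField_eq_zero]
  have hφ := P.hasMap_X.map φ
  have h0 : ∏ i, (φ P.X - algebraMap T K (a i)) = 0 := by
    have h : aeval (φ P.X) (P.f.map (algebraMap A T)) = 0 := by
      rw [aeval_map_algebraMap]; exact hφ.1
    simpa [hfT, map_prod] using h
  obtain ⟨i, -, hi⟩ := Finset.prod_eq_zero_iff.1 h0
  rw [sub_eq_zero] at hi
  let w := aeval (a i) P.g
  have hw : algebraMap T K w ≠ 0 := by
    rw [← aeval_algebraMap_apply, ← hi]
    exact hφ.2.ne_zero
  have hwt : w ∉ t := fun h => hw (by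
    rw [IsScalarTower.algebraMap_apply T t.ResidueField K,
      Ideal.algebraMap_residueField_eq_zero.2 h, map_zero])
  have hm : P.HasMap (algebraMap T (Localization.Away w) (a i)) := by
    refine ⟨?_, ?_⟩
    · rw [aeval_algebraMap_apply, ← aeval_map_algebraMap T]
      rw [hfT, map_prod, Finset.prod_eq_zero (Finset.mem_univ i) (by simp), map_zero]
    · rw [aeval_algebraMap_apply]
      exact IsLocalization.Away.algebraMap_isUnit w
  refine ⟨w, hwt, P.lift _ hm, fun t' _ ht' => ?_⟩
  let τ : Localization.Away w →ₐ[A] K :=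
    IsLocalization.liftAlgHom (M := Submonoid.powers w) (f := IsScalarTower.toAlgHom A T K) (by
      rintro ⟨_, k, rfl⟩
      change IsUnit (algebraMap T K (w ^ k))
      rw [map_pow]
      exact (isUnit_iff_ne_zero.2 hw).pow k)
  have hτσ : τ.comp (P.lift _ hm) = φ := P.hom_ext (by simp [τ, hi])
  have hτ : RingHom.ker τ.toRingHom = t' := by
    have hτp : (RingHom.ker τ.toRingHom).IsPrime := RingHom.ker_isPrime _
    refine congr($(PrimeSpectrum.localization_comap_injective (R := T) (Localization.Away w)
      (.powers w) (a₁ := ⟨_, hτp⟩) (a₂ := ⟨t', ‹_›⟩) (PrimeSpectrum.ext ?_)).1)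
    refine Eq.trans ?_ ht'.symm
    ext x
    change τ (algebraMap T _ x) = 0 ↔ _
    simp only [τ, IsLocalization.liftAlgHom_apply, IsLocalization.lift_eq]
    change algebraMap T K x = 0 ↔ _
    rw [IsScalarTower.algebraMap_apply T t.ResidueField K,
      map_eq_zero_iff _ (algebraMap t.ResidueField K).injective,
      Ideal.algebraMap_residueField_eq_zero]
  rw [← hτ, RingHom.comap_ker]
  exact (congrArg (fun ψ : P.Ring →ₐ[A] K => RingHom.ker ψ.toRingHom) hτσ).trans hker

end Groth.Agent.FlatMor12
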