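import Groth.Prelude.Def_Flatn
import Mathlib.Algebra.Category.Ring.Constructions
import Mathlib.LinearAlgebra.TensorProduct.Basis
import Mathlib.RingTheory.TensorProduct.Free
import Mathlib.LinearAlgebra.TensorProduct.RightExactness

/-!
# Relative morphisms out of a finite free affine scheme into an affine scheme
-/

set_option autoImplicit false
set_option backward.isDefEq.respectTransparency false
set_option linter.style.haveILetI false

universe u

open CategoryTheory CategoryTheory.Limits AlgebraicGeometry TensorProduct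

namespace Groth.Agent.FlatMor12.MorSFree

section Algebra

variable (R B C : Type u) [CommRing R] [CommRing B] [CommRing C] [Algebra R B] [Algebra R C]
  {ι : Type u} [Fintype ι] (b : ι → B) (φ : ι → B →ₗ[R] R)

/-- The polynomial ring in the coefficients of a map `C → B`. -/
abbrev Coeff (ι : Type u) : Type u := MvPolynomial (C × ι) R

/-- The generic function `C → F ⊗ B`. -/
noncomputable def psi (c : C) : Coeff R C ι ⊗[R] B := ∑ j, MvPolynomial.X (c, j) ⊗ₜ[R] b j

variable {R B} in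
/-- The `k`-th coefficient of an element of `T ⊗ B`. -/
noncomputable def coef (T : Type u) [CommRing T] [Algebra R T] (k : ι) : T ⊗[R] B →ₗ[R] T :=
  (TensorProduct.rid R T).toLinearMap ∘ₗ (φ k).lTensor T

/-- The relations making the generic function an algebra map. -/
noncomputable def relIdeal : Ideal (Coeff R C ι) :=
  Ideal.span ((⋃ p : C × C,
      Set.range (fun k => coef φ _ k (psi R B C b (p.1 + p.2) - (psi R B C b p.1 + psi R B C b p.2))) ∪
        Set.range (fun k => coef φ _ k (psi R B C b (p.1 * p.2) - psi R B C b p.1 * psi R B C b p.2))) ∪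
    (⋃ r : R, Set.range (fun k => coef φ _ k (psi R B C b (algebraMap R C r) - algebraMap R _ r))) ∪
    Set.range (fun p : C × ι => MvPolynomial.X p - coef φ _ p.2 (psi R B C b p.1)))

/-- The coordinate ring of the scheme of algebra maps `C → B`. -/
abbrev HomRing : Type u := Coeff R C ι ⧸ relIdeal R B C b φ

variable {R B C b φ}

omit [Fintype ι] [CommRing C] [Algebra R C] in
theorem coef_tmul {T : Type u} [CommRing T] [Algebra R T] (k : ι) (t : T) (x : B) :
    coef φ T k (t ⊗ₜ x) = φ k x • t := by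
  simp [coef]

omit [Fintype ι] [CommRing C] [Algebra R C] in
theorem coef_map {T T' : Type u} [CommRing T] [Algebra R T] [CommRing T'] [Algebra R T'] (h : T →ₐ[R] T')
    (k : ι) (z : T ⊗[R] B) : coef φ T' k (Algebra.TensorProduct.map h (AlgHom.id R B) z) = h (coef φ T k z) := by
  induction z using TensorProduct.induction_on with
  | zero => simp
  | add x y hx hy => rw [map_add, map_add, map_add, hx, hy, map_add]
  | tmul t x => simp [coef_tmul]

variable (hbφ : ∀ x, ∑ j, φ j x • b j = x)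
include hbφ

omit [CommRing C] [Algebra R C] in
theorem sum_coef {T : Type u} [CommRing T] [Algebra R T] (z : T ⊗[R] B) :
    ∑ k, coef φ T k z ⊗ₜ[R] b k = z := by
  induction z using TensorProduct.induction_on with
  | zero => simp
  | add x y hx hy =>
    conv_rhs => rw [← hx, ← hy, ← Finset.sum_add_distrib]
    exact Finset.sum_congr rfl fun k _ => by rw [map_add, TensorProduct.add_tmul]
  | tmul t x =>
    simp only [coef_tmul, TensorProduct.smul_tmul, ← TensorProduct.tmul_sum, hbφ]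

omit [CommRing C] [Algebra R C] in
theorem map_eq_zero_of_coef {T : Type u} [CommRing T] [Algebra R T] (h : Coeff R C ι →ₐ[R] T)
    (z : Coeff R C ι ⊗[R] B) (hz : ∀ k, h (coef φ _ k z) = 0) :
    Algebra.TensorProduct.map h (AlgHom.id R B) z = 0 := by
  rw [← sum_coef hbφ (Algebra.TensorProduct.map h (AlgHom.id R B) z)]
  exact Finset.sum_eq_zero fun k _ => by rw [coef_map, hz k, TensorProduct.zero_tmul]

variable (R B C b φ) in
/-- The universal algebra map. -/
noncomputable def phi : C →ₐ[R] HomRing R B C b φ ⊗[R] B :=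
  let m := Algebra.TensorProduct.map (Ideal.Quotient.mkₐ R (relIdeal R B C b φ)) (AlgHom.id R B)
  have key : ∀ z, (∀ k, coef φ _ k z ∈ relIdeal R B C b φ) → m z = 0 := fun z hz =>
    map_eq_zero_of_coef hbφ _ z fun k => Ideal.Quotient.eq_zero_iff_mem.2 (hz k)
  have hadd : ∀ x y, m (psi R B C b (x + y)) = m (psi R B C b x) + m (psi R B C b y) := fun x y => by
    rw [← map_add, ← sub_eq_zero, ← map_sub]
    exact key _ fun k => Ideal.subset_span (Or.inl (Or.inl (Set.mem_iUnion.2 ⟨(x, y), Or.inl ⟨k, rfl⟩⟩)))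
  have hmul : ∀ x y, m (psi R B C b (x * y)) = m (psi R B C b x) * m (psi R B C b y) := fun x y => by
    rw [← map_mul, ← sub_eq_zero, ← map_sub]
    exact key _ fun k => Ideal.subset_span (Or.inl (Or.inl (Set.mem_iUnion.2 ⟨(x, y), Or.inr ⟨k, rfl⟩⟩)))
  have halg : ∀ r, m (psi R B C b (algebraMap R C r)) = algebraMap R _ r := fun r => by
    rw [← m.commutes r, ← sub_eq_zero, ← map_sub]
    exact key _ fun k => Ideal.subset_span (Or.inl (Or.inr (Set.mem_iUnion.2 ⟨r, ⟨k, rfl⟩⟩)))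
  { toFun := fun c => m (psi R B C b c)
    map_one' := (congrArg (fun c => m (psi R B C b c)) (map_one (algebraMap R C)).symm).trans ((halg 1).trans (map_one _))
    map_mul' := hmul
    map_zero' := (congrArg (fun c => m (psi R B C b c)) (map_zero (algebraMap R C)).symm).trans ((halg 0).trans (map_zero _))
    map_add' := hadd
    commutes' := halg }

theorem phi_apply (c : C) : phi R B C b φ hbφ c =
    Algebra.TensorProduct.map (Ideal.Quotient.mkₐ R (relIdeal R B C b φ)) (AlgHom.id R B) (psi R B C b c) :=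
  rfl

/-- Universality. -/
theorem bijective_comp_phi (T : Type u) [CommRing T] [Algebra R T] :
    Function.Bijective (fun h : HomRing R B C b φ →ₐ[R] T =>
      (Algebra.TensorProduct.map h (AlgHom.id R B)).comp (phi R B C b φ hbφ)) := by
  have hmk : ∀ (c : C) (k : ι), Ideal.Quotient.mk (relIdeal R B C b φ) (MvPolynomial.X (c, k)) =
      coef φ _ k (phi R B C b φ hbφ c) := fun c k => by
    rw [phi_apply, coef_map, Ideal.Quotient.mkₐ_eq_mk]
    exact (Ideal.Quotient.mk_eq_mk_iff_sub_mem _ _).2 (Ideal.subset_span (Or.inr ⟨(c, k), rfl⟩))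
  refine ⟨fun h₁ h₂ he => ?_, fun g => ?_⟩
  · refine Ideal.Quotient.algHom_ext _ (MvPolynomial.algHom_ext fun p => ?_)
    obtain ⟨c, k⟩ := p
    show h₁ (Ideal.Quotient.mk _ _) = h₂ (Ideal.Quotient.mk _ _)
    rw [hmk, ← coef_map, ← coef_map]
    exact congrArg (coef φ T k) (AlgHom.congr_fun he c)
  · let a : Coeff R C ι →ₐ[R] T := MvPolynomial.aeval fun p => coef φ T p.2 (g p.1)
    have ha : ∀ c, Algebra.TensorProduct.map a (AlgHom.id R B) (psi R B C b c) = g c := fun c => by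
      refine Eq.trans ?_ (sum_coef hbφ (g c))
      simp [psi, a, map_sum]
    have hker : relIdeal R B C b φ ≤ RingHom.ker a.toRingHom := by
      have hz : ∀ z, Algebra.TensorProduct.map a (AlgHom.id R B) z = 0 →
          Set.range (fun k => coef φ _ k z) ⊆ RingHom.ker a.toRingHom := by
        rintro z hz _ ⟨k, rfl⟩
        show a _ = 0
        rw [← coef_map, hz, map_zero]
      refine Ideal.span_le.2 (Set.union_subset (Set.union_subset
        (Set.iUnion_subset fun p => Set.union_subset ?_ ?_) (Set.iUnion_subset fun r => ?_)) ?_)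
      · exact hz _ (by simp [map_sub, map_add, ha])
      · exact hz _ (by simp [map_sub, map_mul, ha])
      · exact hz _ (by rw [map_sub, ha, AlgHom.commutes, AlgHom.commutes, sub_self])
      · rintro _ ⟨⟨c, k⟩, rfl⟩
        show a _ = 0
        rw [map_sub, ← coef_map, ha]
        simp [a]
    refine ⟨Ideal.Quotient.liftₐ _ a hker, AlgHom.ext fun c => ?_⟩
    show Algebra.TensorProduct.map _ _ (phi R B C b φ hbφ c) = g c
    rw [phi_apply, ← ha c]
    simp [psi, map_sum]

end Algebra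

section Scheme

variable {Z X S : Scheme.{u}} [IsAffine Z] [IsAffine X] [IsAffine S] (g : Z ⟶ S) (f : X ⟶ S)
  [Algebra Γ(S, ⊤) Γ(Z, ⊤)] [Algebra Γ(S, ⊤) Γ(X, ⊤)]
  (hg : CommRingCat.ofHom (algebraMap Γ(S, ⊤) Γ(Z, ⊤)) = g.appTop)
  (hf : CommRingCat.ofHom (algebraMap Γ(S, ⊤) Γ(X, ⊤)) = f.appTop)
  {ι : Type u} [Fintype ι] (b : ι → Γ(Z, ⊤)) (φ : ι → Γ(Z, ⊤) →ₗ[Γ(S, ⊤)] Γ(S, ⊤))
  (hbφ : ∀ x, ∑ j, φ j x • b j = x)

/-- The representing scheme. -/
noncomputable def W : Over S :=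
  Over.mk (Spec.map (CommRingCat.ofHom (algebraMap Γ(S, ⊤) (HomRing Γ(S, ⊤) Γ(Z, ⊤) Γ(X, ⊤) b φ))) ≫ S.isoSpec.inv)

include hg in
theorem isPullback_spec (T : Type u) [CommRing T] [Algebra Γ(S, ⊤) T] :
    IsPullback (Spec.map (CommRingCat.ofHom (S := T ⊗[Γ(S, ⊤)] Γ(Z, ⊤)) Algebra.TensorProduct.includeLeftRingHom))
      (Spec.map (CommRingCat.ofHom (S := T ⊗[Γ(S, ⊤)] Γ(Z, ⊤))
        Algebra.TensorProduct.includeRight.toRingHom) ≫ Z.isoSpec.inv)
      (Spec.map (CommRingCat.ofHom (algebraMap Γ(S, ⊤) T)) ≫ S.isoSpec.inv) g := by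
  refine IsPullback.of_iso (isPullback_SpecMap_of_isPushout _ _ _ _ (CommRingCat.isPushout_tensorProduct Γ(S, ⊤) T Γ(Z, ⊤)))
    (Iso.refl _) (Iso.refl _) Z.isoSpec.symm S.isoSpec.symm (by simp) (by simp) (by simp) ?_
  rw [hg]
  exact Scheme.isoSpec_inv_naturality g

/-- The universal morphism. -/
noncomputable def univ : pullback (W (X := X) b φ).hom g ⟶ X :=
  (isPullback_spec g hg (HomRing Γ(S, ⊤) Γ(Z, ⊤) Γ(X, ⊤) b φ)).isoPullback.inv ≫
    Spec.map (CommRingCat.ofHom (phi Γ(S, ⊤) Γ(Z, ⊤) Γ(X, ⊤) b φ hbφ).toRingHom) ≫ X.isoSpec.inv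

include hf in
theorem univ_comp : univ g hg b φ hbφ ≫ f = pullback.snd (W (X := X) b φ).hom g ≫ g := by
  rw [← pullback.condition, univ]
  refine (cancel_epi (isPullback_spec g hg _).isoPullback.hom).1 ?_
  simp only [Category.assoc, Iso.hom_inv_id_assoc, IsPullback.isoPullback_hom_fst_assoc, W, Over.mk_hom,
    ← Scheme.isoSpec_inv_naturality f, ← hf, ← Spec.map_comp_assoc]
  congr 2
  ext r
  exact (phi Γ(S, ⊤) Γ(Z, ⊤) Γ(X, ⊤) b φ hbφ).commutes r

/-- The comparison map. -/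
noncomputable def bh {T : Scheme.{u}} (t : T ⟶ S) (h : T ⟶ (W (X := X) b φ).left) (e : h ≫ (W (X := X) b φ).hom = t) :
    pullback t g ⟶ X :=
  pullback.lift (pullback.fst t g ≫ h) (pullback.snd t g)
    (by rw [Category.assoc, e, pullback.condition]) ≫ univ g hg b φ hbφ

theorem bh_restrict {T T' : Scheme.{u}} (j : T' ⟶ T) (t : T ⟶ S) (h : T ⟶ (W (X := X) b φ).left)
    (e : h ≫ (W (X := X) b φ).hom = t) (t' : T' ⟶ S) (w : j ≫ t = t') :
    pullback.lift (pullback.fst t' g ≫ j) (pullback.snd t' g)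
        (by rw [Category.assoc, w, pullback.condition]) ≫ bh g hg b φ hbφ t h e =
      bh g hg b φ hbφ t' (j ≫ h) (by rw [Category.assoc, e, w]) := by
  rw [bh, bh, ← Category.assoc]
  congr 1
  ext <;> simp

theorem exists_alg (T : CommRingCat.{u}) (t : Spec T ⟶ S) :
    ∃ φ : Γ(S, ⊤) ⟶ T, t = Spec.map φ ≫ S.isoSpec.inv :=
  ⟨Spec.preimage (t ≫ S.isoSpec.hom), by rw [Spec.map_preimage, Category.assoc, Iso.hom_inv_id, Category.comp_id]⟩

include hf in
include hf in
/-- Universality over affine test schemes. -/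
theorem existsUnique_affine_alg (T : Type u) [CommRing T] [Algebra Γ(S, ⊤) T]
    (β : pullback (Spec.map (CommRingCat.ofHom (algebraMap Γ(S, ⊤) T)) ≫ S.isoSpec.inv) g ⟶ X)
    (hβ : β ≫ f = pullback.snd _ g ≫ g) :
    ∃! h : Spec (CommRingCat.of T) ⟶ (W (X := X) b φ).left,
      ∃ e : h ≫ (W (X := X) b φ).hom = Spec.map (CommRingCat.ofHom (algebraMap Γ(S, ⊤) T)) ≫ S.isoSpec.inv,
        bh g hg b φ hbφ _ h e = β := by
  let A := HomRing Γ(S, ⊤) Γ(Z, ⊤) Γ(X, ⊤) b φ
  have hp := isPullback_spec g hg T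
  have hpW := isPullback_spec g hg A
  -- the ring map attached to `β`
  let γ := Spec.preimage (hp.isoPullback.hom ≫ β ≫ X.isoSpec.hom)
  have hγ : Spec.map γ ≫ X.isoSpec.inv = hp.isoPullback.hom ≫ β := by
    rw [Spec.map_preimage]; simp
  have key : CommRingCat.ofHom (algebraMap Γ(S, ⊤) Γ(X, ⊤)) ≫ γ =
      CommRingCat.ofHom (algebraMap Γ(S, ⊤) (T ⊗[Γ(S, ⊤)] Γ(Z, ⊤))) := by
    refine Spec.map_injective ((cancel_mono S.isoSpec.inv).1 ?_)
    rw [Spec.map_comp, Category.assoc, hf, Scheme.isoSpec_inv_naturality, ← Category.assoc, hγ,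
      Category.assoc, hβ, IsPullback.isoPullback_hom_snd_assoc, Category.assoc,
      ← Scheme.isoSpec_inv_naturality, ← hg, ← Spec.map_comp_assoc]
    congr 2
    ext x
    exact (Algebra.TensorProduct.includeRight : Γ(Z, ⊤) →ₐ[Γ(S, ⊤)] T ⊗[Γ(S, ⊤)] Γ(Z, ⊤)).commutes x
  let γ' : Γ(X, ⊤) →ₐ[Γ(S, ⊤)] T ⊗[Γ(S, ⊤)] Γ(Z, ⊤) :=
    { γ.hom with commutes' := fun r => ConcreteCategory.congr_hom key r }
  have eW : ∀ χ : A →ₐ[Γ(S, ⊤)] T, Spec.map (CommRingCat.ofHom χ.toRingHom) ≫ (W (X := X) b φ).hom =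
      Spec.map (CommRingCat.ofHom (algebraMap Γ(S, ⊤) T)) ≫ S.isoSpec.inv := fun χ => by
    show Spec.map _ ≫ Spec.map _ ≫ _ = _
    rw [← Spec.map_comp_assoc]
    congr 2
    ext r
    exact χ.commutes r
  have calc1 : ∀ χ : A →ₐ[Γ(S, ⊤)] T,
      hp.isoPullback.hom ≫ bh g hg b φ hbφ _ (Spec.map (CommRingCat.ofHom χ.toRingHom)) (eW χ) =
        Spec.map (CommRingCat.ofHom ((Algebra.TensorProduct.map χ (AlgHom.id _ _)).comp
          (phi Γ(S, ⊤) Γ(Z, ⊤) Γ(X, ⊤) b φ hbφ)).toRingHom) ≫ X.isoSpec.inv := fun χ => by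
    let L : pullback (Spec.map (CommRingCat.ofHom (algebraMap Γ(S, ⊤) T)) ≫ S.isoSpec.inv) g ⟶
        pullback (W (X := X) b φ).hom g :=
      pullback.lift (pullback.fst _ g ≫ Spec.map (CommRingCat.ofHom χ.toRingHom))
        (pullback.snd _ g) (by rw [Category.assoc, eW χ, pullback.condition])
    have : hp.isoPullback.hom ≫ L =
        Spec.map (CommRingCat.ofHom (Algebra.TensorProduct.map χ (AlgHom.id Γ(S, ⊤) Γ(Z, ⊤))).toRingHom) ≫
          hpW.isoPullback.hom := by
      refine pullback.hom_ext ?_ ?_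
      · simp only [L, Category.assoc, pullback.lift_fst, IsPullback.isoPullback_hom_fst_assoc]
        erw [IsPullback.isoPullback_hom_fst]
        rw [← Spec.map_comp, ← Spec.map_comp]
        congr 1
      · simp only [L, Category.assoc, pullback.lift_snd]
        erw [IsPullback.isoPullback_hom_snd, IsPullback.isoPullback_hom_snd]
        rw [← Spec.map_comp_assoc]
        congr 2
        ext x
        exact ((Algebra.TensorProduct.map_tmul χ (AlgHom.id Γ(S, ⊤) Γ(Z, ⊤)) 1 x).trans (by simp)).symm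
    show hp.isoPullback.hom ≫ L ≫ univ g hg b φ hbφ = _
    rw [← Category.assoc, this, univ, Category.assoc, Iso.hom_inv_id_assoc, ← Spec.map_comp_assoc]
    rfl
  obtain ⟨χ, hχ⟩ := (bijective_comp_phi (C := Γ(X, ⊤)) hbφ T).2 γ'
  dsimp only at hχ
  refine ⟨Spec.map (CommRingCat.ofHom χ.toRingHom), ⟨eW χ, ?_⟩, ?_⟩
  · rw [← cancel_epi hp.isoPullback.hom, calc1 χ, hχ, ← hγ]
    rfl
  · rintro h ⟨e, he⟩
    obtain ⟨η, rfl⟩ : ∃ η, h = Spec.map η := ⟨Spec.preimage h, (Spec.map_preimage h).symm⟩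
    have key' : CommRingCat.ofHom (algebraMap Γ(S, ⊤) A) ≫ η = CommRingCat.ofHom (algebraMap Γ(S, ⊤) T) := by
      refine Spec.map_injective ((cancel_mono S.isoSpec.inv).1 ?_)
      rw [Spec.map_comp, Category.assoc]
      exact e
    let η' : A →ₐ[Γ(S, ⊤)] T := { η.hom with commutes' := fun r => ConcreteCategory.congr_hom key' r }
    have h2 : hp.isoPullback.hom ≫ β = _ := (congrArg (hp.isoPullback.hom ≫ ·) he.symm).trans (calc1 η')
    rw [← hγ, cancel_mono] at h2
    have : η' = χ := (bijective_comp_phi (C := Γ(X, ⊤)) hbφ T).1 (by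
      dsimp only
      rw [hχ]
      exact AlgHom.ext fun c => (ConcreteCategory.congr_hom (Spec.map_injective h2) c).symm)
    exact congrArg (fun a : A →ₐ[Γ(S, ⊤)] T => Spec.map (CommRingCat.ofHom a.toRingHom)) this

include hf in
theorem existsUnique_affine (T : CommRingCat.{u}) (t : Spec T ⟶ S) (β : pullback t g ⟶ X)
    (hβ : β ≫ f = pullback.snd t g ≫ g) :
    ∃! h : Spec T ⟶ (W (X := X) b φ).left, ∃ e : h ≫ (W (X := X) b φ).hom = t, bh g hg b φ hbφ t h e = β := by
  obtain ⟨τ, rfl⟩ := exists_alg T t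
  let _ : Algebra Γ(S, ⊤) T := τ.hom.toAlgebra
  exact existsUnique_affine_alg g f hg hf b φ hbφ T β hβ

include hf in
/-- Universality over arbitrary test schemes. -/
theorem existsUnique_hom {T : Scheme.{u}} (t : T ⟶ S) (β : pullback t g ⟶ X)
    (hβ : β ≫ f = pullback.snd t g ≫ g) :
    ∃! h : T ⟶ (W (X := X) b φ).left, ∃ e : h ≫ (W (X := X) b φ).hom = t, bh g hg b φ hbφ t h e = β := by
  let 𝒰 := T.affineCover
  let j : ∀ (U : Scheme.{u}) (a : U ⟶ T) (t' : U ⟶ S), a ≫ t = t' → (pullback t' g ⟶ pullback t g) :=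
    fun U a t' w => pullback.lift (pullback.fst _ _ ≫ a) (pullback.snd _ _)
      (by rw [Category.assoc, w, pullback.condition])
  have haff : ∀ (i : 𝒰.I₀) {U : Scheme.{u}} [IsAffine U] (a : U ⟶ T),
      ∃! h : U ⟶ (W (X := X) b φ).left, ∃ e : h ≫ (W (X := X) b φ).hom = a ≫ t,
        bh g hg b φ hbφ _ h e = j U a _ rfl ≫ β := by
    intro _ U _ a
    obtain ⟨h₀, ⟨e₀, he₀⟩, hu₀⟩ := existsUnique_affine g f hg hf b φ hbφ Γ(U, ⊤) (U.isoSpec.inv ≫ a ≫ t)
      (j _ (U.isoSpec.inv ≫ a) _ (Category.assoc _ _ _) ≫ β) (by simp [j, hβ])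
    refine ⟨U.isoSpec.hom ≫ h₀, ⟨by rw [Category.assoc, e₀, Iso.hom_inv_id_assoc], ?_⟩, ?_⟩
    · rw [← bh_restrict g hg b φ hbφ U.isoSpec.hom _ h₀ e₀ (a ≫ t) (by simp), he₀]
      refine (Category.assoc _ _ _).symm.trans ?_
      congr 1
      ext <;> simp [j]
    · rintro h ⟨e, he⟩
      rw [← hu₀ (U.isoSpec.inv ≫ h) ⟨by rw [Category.assoc, e], ?_⟩, Iso.hom_inv_id_assoc]
      rw [← bh_restrict g hg b φ hbφ U.isoSpec.inv _ h e _ rfl, he]
      refine (Category.assoc _ _ _).symm.trans ?_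
      congr 1
      ext <;> simp [j]
  choose h hh hu using fun i => haff i (𝒰.f i)
  have hglue : ∀ i k, pullback.fst (𝒰.f i) (𝒰.f k) ≫ h i = pullback.snd (𝒰.f i) (𝒰.f k) ≫ h k := fun i k => by
    refine (pullback (𝒰.f i) (𝒰.f k)).affineCover.hom_ext _ _ fun l => ?_
    let q := (pullback (𝒰.f i) (𝒰.f k)).affineCover.f l
    obtain ⟨hm, -, hmu⟩ := haff i (q ≫ pullback.fst (𝒰.f i) (𝒰.f k) ≫ 𝒰.f i)
    have hres : ∀ (m : 𝒰.I₀) (c : _ ⟶ 𝒰.X m) (_ : c ≫ 𝒰.f m = q ≫ pullback.fst (𝒰.f i) (𝒰.f k) ≫ 𝒰.f i),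
        c ≫ h m = hm := fun m c hc => by
      obtain ⟨e, he⟩ := hh m
      have w : c ≫ 𝒰.f m ≫ t = (q ≫ pullback.fst (𝒰.f i) (𝒰.f k) ≫ 𝒰.f i) ≫ t := by
        rw [← Category.assoc, hc]
      refine hmu _ ⟨by rw [Category.assoc, e, w], ?_⟩
      rw [← bh_restrict g hg b φ hbφ c _ (h m) e _ w, he]
      refine (Category.assoc _ _ _).symm.trans ?_
      congr 1
      ext
      · simp only [j, Category.assoc, pullback.lift_fst, pullback.lift_fst_assoc, hc]
      · simp [j]
    exact ((Category.assoc _ _ _).symm.trans (hres i (q ≫ pullback.fst _ _) (Category.assoc _ _ _))).trans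
      ((hres k (q ≫ pullback.snd _ _) (by rw [Category.assoc, ← pullback.condition])).symm.trans
        (Category.assoc _ _ _))
  refine ⟨𝒰.glueMorphisms h hglue, ⟨?_, ?_⟩, ?_⟩
  · refine 𝒰.hom_ext _ _ fun i => ?_
    rw [Scheme.Cover.ι_glueMorphisms_assoc]
    exact (hh i).1
  · refine (Scheme.Pullback.openCoverOfLeft 𝒰 t g).hom_ext _ _ fun i => ?_
    obtain ⟨e, he⟩ := hh i
    have hw : (Scheme.Pullback.openCoverOfLeft 𝒰 t g).f i = j (𝒰.X i) (𝒰.f i) _ rfl := by
      ext <;> simp [j]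
    rw [hw, bh_restrict g hg b φ hbφ (𝒰.f i) t _ _ _ rfl]
    simp only [Scheme.Cover.ι_glueMorphisms]
    exact he
  · rintro h' ⟨e, he⟩
    refine 𝒰.hom_ext _ _ fun i => ?_
    rw [Scheme.Cover.ι_glueMorphisms]
    refine hu i _ ⟨by rw [Category.assoc, e], ?_⟩
    rw [← bh_restrict g hg b φ hbφ (𝒰.f i) t h' e _ rfl, he]

include hg hf in
/-- The functor of relative morphisms is represented by the affine scheme `W`. -/
noncomputable def representableBy : (Flatn.morS g f).RepresentableBy (W (X := X) b φ) where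
  homEquiv {T} := Equiv.ofBijective
    (fun h => (Over.homMk (bh (X := X) g hg b φ hbφ T.hom h.left (Over.w h))
      (by show bh g hg b φ hbφ T.hom h.left _ ≫ f = pullback.snd T.hom g ≫ g
          rw [bh, Category.assoc, univ_comp g f hg hf b φ hbφ, pullback.lift_snd_assoc]) :
        (Over.map g).obj ((Over.pullback g).obj T) ⟶ Over.mk f))
    ⟨fun h₁ h₂ he => Over.OverMorphism.ext
      ((existsUnique_hom g f hg hf b φ hbφ T.hom (bh g hg b φ hbφ T.hom h₁.left (Over.w h₁))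
        (by rw [bh, Category.assoc, univ_comp g f hg hf b φ hbφ, pullback.lift_snd_assoc])).unique
        ⟨Over.w h₁, rfl⟩ ⟨Over.w h₂, (congrArg CommaMorphism.left he).symm⟩),
    fun β => by
      obtain ⟨h, ⟨e, he⟩, -⟩ := existsUnique_hom g f hg hf b φ hbφ T.hom β.left (Over.w β)
      exact ⟨Over.homMk h e, Over.OverMorphism.ext he⟩⟩
  homEquiv_comp {T T'} ψ h := Over.OverMorphism.ext (by
    show bh (X := X) g hg b φ hbφ T.hom (ψ.left ≫ h.left) (Over.w (ψ ≫ h)) =
      ((Over.pullback g).map ψ).left ≫ bh (X := X) g hg b φ hbφ T'.hom h.left (Over.w h)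
    rw [← bh_restrict g hg b φ hbφ ψ.left T'.hom h.left (Over.w h) T.hom (Over.w ψ)]
    rfl)

omit [IsAffine Z] [IsAffine X] in
theorem isAffine_W : IsAffine (W (X := X) b φ).left := by
  dsimp [W]; infer_instance

end Scheme

end Groth.Agent.FlatMor12.MorSFree
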