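import Groth.Prelude.Def_HTop
import Groth.Agent.FlatMorAIC.Finite

/-! fppf covers are ph covers. -/

set_option autoImplicit false
set_option backward.isDefEq.respectTransparency false

universe w u

namespace Groth.Agent.FlatMor12

open AlgebraicGeometry CategoryTheory CategoryTheory.Limits

/-- An fppf covering of a qcqs scheme is refined by a finite affine cover of a finite surjection. -/
theorem exists_finite_refinement {T : Scheme.{u}} [CompactSpace T] [QuasiSeparatedSpace T]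
    (E : PreZeroHypercover.{w} T)
    (hflat : ∀ i, Flat (E.f i)) (hfp : ∀ i, LocallyOfFinitePresentation (E.f i))
    (hsurj : ∀ t : T, ∃ (i : E.I₀) (x : E.X i), E.f i x = t) :
    ∃ (W : Scheme.{u}) (π : W ⟶ T) (n : ℕ) (O : Fin n → W.Opens), IsFinite π ∧ Surjective π ∧
      (∀ j, IsAffineOpen (O j)) ∧ (∀ y : W, ∃ j, y ∈ O j) ∧
      ∀ j, ∃ (i : E.I₀) (h : (O j).toScheme ⟶ E.X i), h ≫ E.f i = (O j).ι ≫ π := by
  choose i x hx using hsurj
  let g : (∐ fun t : T => E.X (i t)) ⟶ T := Sigma.desc fun t => E.f (i t)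
  have : Flat g :=
    IsZariskiLocalAtSource.sigmaDesc (P := (@Flat : MorphismProperty Scheme.{u})) fun t => hflat _
  have : LocallyOfFinitePresentation g :=
    IsZariskiLocalAtSource.sigmaDesc
      (P := (@LocallyOfFinitePresentation : MorphismProperty Scheme.{u})) fun t => hfp _
  have : Surjective g := ⟨fun t => ⟨Sigma.ι (fun t : T => E.X (i t)) t (x t), by
    rw [← Scheme.Hom.comp_apply, Sigma.ι_desc]; exact hx t⟩⟩
  obtain ⟨W, π, hπs, hπ, -, hW⟩ := FlatMorAIC.exists_finite_lift g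
  have := hπ
  have : CompactSpace W := QuasiCompact.compactSpace_of_compactSpace π
  have key : ∀ y : W, ∃ (O : W.Opens) (t : T) (h : O.toScheme ⟶ E.X (i t)),
      y ∈ O ∧ IsAffineOpen O ∧ h ≫ E.f (i t) = O.ι ≫ π := by
    intro y
    obtain ⟨V, h, hyV, hh⟩ := hW y
    obtain ⟨t, z, hz⟩ := (sigmaOpenCover fun t : T => E.X (i t)).exists_eq (h ⟨y, hyV⟩)
    let ι := Sigma.ι (fun t : T => E.X (i t)) t
    have : IsOpenImmersion ι := (sigmaOpenCover fun t : T => E.X (i t)).map_prop t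
    let V' : W.Opens := V.ι ''ᵁ (h ⁻¹ᵁ ι.opensRange)
    have hy' : y ∈ V' := ⟨⟨y, hyV⟩, ⟨z, hz⟩, rfl⟩
    obtain ⟨_, ⟨O, hO, rfl⟩, hyO, hOV⟩ := W.isBasis_affineOpens.exists_subset_of_mem_open
      (show y ∈ (V' : Set W) from hy') V'.isOpen
    have hOV1 : O ≤ V := fun a ha => by
      obtain ⟨b, -, rfl⟩ := hOV ha
      exact b.2
    have hrange : Set.range (W.homOfLE hOV1 ≫ h) ⊆ Set.range ι := by
      rintro _ ⟨a, rfl⟩
      obtain ⟨b, hb, hba⟩ := hOV a.2
      have : b = W.homOfLE hOV1 a := Subtype.ext (hba.trans (by simp))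
      rw [Scheme.Hom.comp_apply, ← this]
      exact hb
    refine ⟨O, t, IsOpenImmersion.lift ι _ hrange, hyO, hO, ?_⟩
    have h1 : ι ≫ g = E.f (i t) := Sigma.ι_desc _ _
    rw [← h1, IsOpenImmersion.lift_fac_assoc, Category.assoc, hh, Scheme.homOfLE_ι_assoc]
  choose O t h hyO hO hh using key
  obtain ⟨F, hF⟩ := isCompact_univ.elim_finite_subcover (fun y => (O y : Set W))
    (fun y => (O y).isOpen) fun y _ => Set.mem_iUnion.2 ⟨y, hyO y⟩
  refine ⟨W, π, F.card, fun j => O (F.equivFin.symm j).1, hπ, hπs, fun j => hO _, fun y => ?_,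
    fun j => ⟨i (t _), h _, hh _⟩⟩
  obtain ⟨y', hy⟩ := Set.mem_iUnion.1 (hF (Set.mem_univ y))
  obtain ⟨hy', hyy⟩ := Set.mem_iUnion.1 hy
  exact ⟨F.equivFin ⟨y', hy'⟩, by
    show y ∈ O _
    rw [Equiv.symm_apply_apply]; exact hyy⟩

theorem isPhCover_of_fppf {T : Scheme.{u}} (E : PreZeroHypercover.{w} T)
    (hflat : ∀ i, Flat (E.f i)) (hfp : ∀ i, LocallyOfFinitePresentation (E.f i))
    (hsurj : ∀ t : T, ∃ (i : E.I₀) (x : E.X i), E.f i x = t) : HTop.IsPhCover E := by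
  refine ⟨fun i => ?_, fun U => ?_⟩
  · have := hfp i
    infer_instance
  · have : IsAffine (U.1 : Scheme.{u}) := U.2
    let E' : PreZeroHypercover.{w} (U.1 : Scheme.{u}) :=
      { I₀ := E.I₀, X := fun i => (E.f i ⁻¹ᵁ U.1).toScheme, f := fun i => E.f i ∣_ U.1 }
    have h1 : ∀ i, Flat (E'.f i) := fun i => IsZariskiLocalAtTarget.restrict (hflat i) _
    have h2 : ∀ i, LocallyOfFinitePresentation (E'.f i) := fun i =>
      IsZariskiLocalAtTarget.restrict (hfp i) _
    have h3 : ∀ t : (U.1 : Scheme.{u}), ∃ (i : E'.I₀) (x : E'.X i), E'.f i x = t := by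
      intro t
      obtain ⟨i, x, hx⟩ := hsurj t.1
      refine ⟨i, ⟨x, show E.f i x ∈ U.1 by rw [hx]; exact t.2⟩, Subtype.ext ?_⟩
      exact (congr($(morphismRestrict_ι (E.f i) U.1) _)).trans hx
    obtain ⟨W, π, n, O, hπ, hπs, hO, hcov, hfac⟩ := exists_finite_refinement E' h1 h2 h3
    refine ⟨{ I₀ := Fin n, X := fun j => (O j).toScheme, f := fun j => (O j).ι ≫ π },
      ⟨inferInstance, (inferInstance : Finite (Fin n)), fun j => hO j,
        W, π, fun j => (O j).ι, inferInstance, hπs, fun j => inferInstance, fun j => rfl,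
        fun y => ?_⟩, fun j => ?_⟩
    · obtain ⟨j, hj⟩ := hcov y
      exact ⟨j, ⟨y, hj⟩, rfl⟩
    · obtain ⟨i, h, hh⟩ := hfac j
      exact ⟨i, h ≫ (E.f i ⁻¹ᵁ U.1).ι, by
        rw [Category.assoc, ← morphismRestrict_ι, ← Category.assoc]
        exact congrArg (· ≫ U.1.ι) hh⟩

end Groth.Agent.FlatMor12
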