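import Groth.Agent.FlatMor12.DimPieces
import Groth.Agent.VarietyLib.LocalDimPt
import Groth.Agent.CAlgH3.Depth
import Groth.Prelude.Def_MoreMor

/-! Fibre dimension of flat lfp morphisms with Cohen-Macaulay fibres is locally constant. -/

universe u

set_option autoImplicit false
set_option backward.isDefEq.respectTransparency false

open CategoryTheory Limits AlgebraicGeometry

namespace Groth.Agent.FlatMor12

open Groth.Agent DimLib EGA43.FibDepth

variable {X Y : Scheme.{u}} (f : X ⟶ Y) [LocallyOfFinitePresentation f]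

theorem rect_of_cm (x : X) (hcm : MoreMor.IsCMAt f x) (n : ℕ)
    (hn : (n : WithBot ℕ∞) ≤ FlatMor.fibreDimAt f x) :
    RectifiedDepthGE f (Coh.structureModule X) n (f x) (f.asFiber x) := by
  have : LocallyOfFiniteType (f.fiberToSpecResidueField (f x)) :=
    inferInstanceAs (LocallyOfFiniteType (pullback.snd f (Y.fromSpecResidueField (f x))))
  let z := f.asFiber x
  let _ : Algebra (X.presheaf.stalk (f.fiberι (f x) z)) ((f.fiber (f x)).presheaf.stalk z) :=
    ((f.fiberι (f x)).stalkMap z).hom.toAlgebra
  let e1 : ((Scheme.Modules.pullback (f.fiberι (f x))).obj (Coh.structureModule X)).presheaf.stalk z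
      ≃ₗ[(f.fiber (f x)).presheaf.stalk z] TensorProduct (X.presheaf.stalk (f.fiberι (f x) z))
        ((f.fiber (f x)).presheaf.stalk z) ((Coh.structureModule X).presheaf.stalk (f.fiberι (f x) z)) :=
    ((ModStalk.pullbackStalkIso (f.fiberι (f x)) z).app (Coh.structureModule X)).toLinearEquiv
  let e := tensorUnitEquiv e1 (unitStalkEquiv (f.fiberι (f x) z))
  have := isNoetherianRing_fiber_stalk f (f x) z
  rw [RectifiedDepthGE, CAlgH3.depth_congr e,
    topologicalKrullDim_eq_ptDim_of_isGenericPoint (k := Y.residueField (f x))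
      (f.fiberToSpecResidueField (f x)) isGenericPoint_closure]
  refine hn.trans (le_of_eq ?_)
  rw [FlatMor.fibreDimAt, VarietyLib.localDim_eq_stalk_add_ptDim (k := Y.residueField (f x))
    (f.fiberToSpecResidueField (f x)) (f.asFiber x), ← hcm.2.supportDim_eq_depth,
    Module.supportDim_self_eq_ringKrullDim]

theorem exists_fibreDimAt_eq_nat (x : X) : ∃ d : ℕ, FlatMor.fibreDimAt f x = d := by
  have : LocallyOfFiniteType (f.fiberToSpecResidueField (f x)) :=
    inferInstanceAs (LocallyOfFiniteType (pullback.snd f (Y.fromSpecResidueField (f x))))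
  have := isNoetherianRing_fiber_stalk f (f x) (f.asFiber x)
  obtain ⟨m, hm⟩ : ∃ m : ℕ, ringKrullDim ((f.fiber (f x)).presheaf.stalk (f.asFiber x)) = m := by
    have h1 := ringKrullDim_nonneg_of_nontrivial (R := (f.fiber (f x)).presheaf.stalk (f.asFiber x))
    have h2 := ringKrullDim_ne_top (R := (f.fiber (f x)).presheaf.stalk (f.asFiber x))
    induction h : ringKrullDim ((f.fiber (f x)).presheaf.stalk (f.asFiber x)) using WithBot.recBotCoe with
    | bot => rw [h] at h1; exact absurd (le_bot_iff.1 h1) (by simp)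
    | coe a =>
      induction a using ENat.recTopCoe with
      | top => exact absurd h h2
      | coe a => exact ⟨a, rfl⟩
  refine ⟨m + ptDim (k := Y.residueField (f x)) (f.fiberToSpecResidueField (f x)) (f.asFiber x), ?_⟩
  rw [FlatMor.fibreDimAt, VarietyLib.localDim_eq_stalk_add_ptDim (k := Y.residueField (f x))
    (f.fiberToSpecResidueField (f x)) (f.asFiber x), hm, Nat.cast_add]

theorem isLocallyConstant_fibreDimAt [Flat f] (hcm : ∀ x, MoreMor.IsCMAt f x) :
    IsLocallyConstant fun x : X => FlatMor.fibreDimAt f x := by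
  refine (IsLocallyConstant.iff_exists_open _).2 fun x => ?_
  obtain ⟨d, hd⟩ := exists_fibreDimAt_eq_nat f x
  have : LocallyOfFiniteType f := inferInstance
  have hflat : FlatMod.IsFlatOver f (Coh.structureModule X) := fun x =>
    (isFlatOverAt_structureModule f x).2 (Flat.stalkMap f x)
  refine ⟨{x | FlatMor.fibreDimAt f x ≤ (d : WithBot ℕ∞)} ∩
      {x | RectifiedDepthGE f (Coh.structureModule X) d (f x) (f.asFiber x)},
    (FlatMorDim.isOpen_fibreDimAt_le f d).inter (isOpen_loci f _ (isFP_structureModule X) hflat d).1,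
    ⟨hd.le, rect_of_cm f x (hcm x) d hd.ge⟩, fun x' hx' => ?_⟩
  show FlatMor.fibreDimAt f x' = FlatMor.fibreDimAt f x
  rw [hd]
  exact fibreDimAt_eq_of_piece f x' d hx'.1 hx'.2

end Groth.Agent.FlatMor12
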