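import Mathlib

/-! Generic smoothness of the reduction after a finite purely inseparable extension (algebra). -/

set_option autoImplicit false
set_option backward.isDefEq.respectTransparency false

universe u

namespace Groth.Agent.FlatMor12.RedSmooth

open TensorProduct

/-- The reduced quotient. -/
abbrev Red (R : Type u) [CommRing R] : Type u := R ⧸ nilradical R

/-- Descent of smoothness of the reduction along a field extension. -/
theorem smooth_red_descent (k F K : Type u) [Field k] [Field F] [Field K] [Algebra k F] [Algebra k K]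
    [Algebra F K] [IsScalarTower k F K] (A : Type u) [CommRing A] [Algebra k A]
    (hgen : nilradical (K ⊗[k] A) ≤ (nilradical (F ⊗[k] A)).map
      (Algebra.TensorProduct.map (Algebra.ofId F K) (AlgHom.id k A)).toRingHom)
    (hs : Algebra.Smooth K (Red (K ⊗[k] A))) :
    Algebra.Smooth F (Red (F ⊗[k] A)) := by
  let ι : F ⊗[k] A →ₐ[F] K ⊗[k] A :=
    Algebra.TensorProduct.map (Algebra.ofId F K) (AlgHom.id k A)
  let B := Red (F ⊗[k] A)
  let j : F ⊗[k] A →ₐ[F] B := Ideal.Quotient.mkₐ F _
  let i₂ : A →ₐ[k] K ⊗[F] B := (((Algebra.TensorProduct.includeRight (R := F) (A := K) (B := B)).comp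
    j).restrictScalars k).comp (Algebra.TensorProduct.includeRight (R := k) (A := F) (B := A))
  let Φ₀ : K ⊗[k] A →ₐ[K] K ⊗[F] B :=
    Algebra.TensorProduct.lift Algebra.TensorProduct.includeLeft i₂ (fun _ _ => Commute.all _ _)
  have hΦι : ∀ c, Φ₀ (ι c) = (1 : K) ⊗ₜ[F] j c := by
    intro c
    induction c using TensorProduct.induction_on with
    | zero => simp
    | tmul x a =>
      have hx : (x ⊗ₜ[k] a : F ⊗[k] A) = x • ((1 : F) ⊗ₜ[k] a) := by
        rw [smul_tmul', smul_eq_mul, mul_one]
      have h1 : Φ₀ (ι ((1 : F) ⊗ₜ[k] a)) = (1 : K) ⊗ₜ[F] j ((1 : F) ⊗ₜ[k] a) := by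
        simp [Φ₀, ι, i₂]
      rw [hx, map_smul ι, map_smul j, TensorProduct.tmul_smul, ← h1, ← algebraMap_smul K x,
        ← algebraMap_smul K x (Φ₀ _)]
      exact map_smul Φ₀ _ _
    | add x y hx hy => rw [map_add, map_add, hx, hy, map_add, tmul_add]
  have hkill : ∀ a ∈ nilradical (K ⊗[k] A), Φ₀ a = 0 := fun a ha => by
    have hle : (nilradical (F ⊗[k] A)).map ι.toRingHom ≤ RingHom.ker Φ₀.toRingHom := by
      rw [Ideal.map_le_iff_le_comap]
      intro c hc
      show Φ₀ (ι c) = 0
      have : j c = 0 := Ideal.Quotient.eq_zero_iff_mem.2 hc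
      rw [hΦι, this, tmul_zero]
    exact hle (hgen ha)
  let Φ : Red (K ⊗[k] A) →ₐ[K] K ⊗[F] B := Ideal.Quotient.liftₐ _ Φ₀ hkill
  let π : K ⊗[k] A →ₐ[K] Red (K ⊗[k] A) := Ideal.Quotient.mkₐ K _
  let ψ₀ : B →ₐ[F] Red (K ⊗[k] A) :=
    Ideal.Quotient.liftₐ _ ((π.restrictScalars F).comp ι) fun c hc =>
      Ideal.Quotient.eq_zero_iff_mem.2 ((mem_nilradical.1 hc).map ι)
  let Ψ : K ⊗[F] B →ₐ[K] Red (K ⊗[k] A) :=
    Algebra.TensorProduct.lift (Algebra.ofId K _) ψ₀ (fun _ _ => Commute.all _ _)
  have h1 : Φ.comp Ψ = AlgHom.id K _ := by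
    refine Algebra.TensorProduct.ext (AlgHom.ext fun x => by simp [Ψ]) (AlgHom.ext fun b => ?_)
    obtain ⟨c, rfl⟩ := Ideal.Quotient.mk_surjective b
    show Φ (Ψ ((1 : K) ⊗ₜ[F] Ideal.Quotient.mk _ c)) = (1 : K) ⊗ₜ[F] Ideal.Quotient.mk _ c
    simp only [Ψ, Algebra.TensorProduct.lift_tmul, map_one, one_mul, map_mul]
    exact hΦι c
  have h2 : Ψ.comp Φ = AlgHom.id K _ := by
    refine Ideal.Quotient.algHom_ext K (Algebra.TensorProduct.ext (AlgHom.ext fun x => ?_)
      (AlgHom.ext fun a => ?_))
    · show Ψ (Φ₀ (x ⊗ₜ[k] (1 : A))) = π (x ⊗ₜ[k] (1 : A))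
      simp [Φ₀, Ψ]
      rfl
    show Ψ (Φ₀ ((1 : K) ⊗ₜ[k] a)) = π ((1 : K) ⊗ₜ[k] a)
    simp only [Φ₀, Ψ, i₂, Algebra.TensorProduct.lift_tmul, map_one, one_mul, AlgHom.coe_comp,
      Function.comp_apply, AlgHom.restrictScalars_apply, Algebra.TensorProduct.includeRight_apply]
    show π (ι ((1 : F) ⊗ₜ[k] a)) = _
    simp [ι]
  have : Algebra.Smooth K (K ⊗[F] B) := hs.of_equiv (AlgEquiv.ofAlgHom Φ Ψ h1 h2)
  exact Algebra.Smooth.of_smooth_tensorProduct_of_faithfullyFlat K

/-- The reduction's nilradical is defined over a finite subextension. -/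
theorem exists_finite_descent (k : Type u) [Field k] (K : Type u) [Field K] [Algebra k K]
    [Algebra.IsAlgebraic k K]
    (A : Type u) [CommRing A] [Algebra k A] [Algebra.FiniteType k A]
    (hs : Algebra.Smooth K (Red (K ⊗[k] A))) :
    ∃ k' : IntermediateField k K, FiniteDimensional k k' ∧
      Algebra.Smooth k' (Red (↥k' ⊗[k] A)) := by
  classical
  have : IsNoetherianRing (K ⊗[k] A) := Algebra.FiniteType.isNoetherianRing K _
  obtain ⟨G, hG⟩ : (nilradical (K ⊗[k] A)).FG := IsNoetherian.noetherian _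
  obtain ⟨M, hM, hMG⟩ := TensorProduct.exists_finite_submodule_left_of_setFinite
    (G : Set (K ⊗[k] A)) G.finite_toSet
  obtain ⟨g, hg⟩ := Module.Finite.iff_fg.1 hM
  let k' := IntermediateField.adjoin k (g : Set K)
  have hfin : FiniteDimensional k k' :=
    IntermediateField.finiteDimensional_adjoin (fun x _ => Algebra.IsIntegral.isIntegral x)
  refine ⟨k', hfin, smooth_red_descent k k' K A ?_ hs⟩
  have hMk : M ≤ Subalgebra.toSubmodule k'.toSubalgebra := by
    rw [← hg, Submodule.span_le]
    exact IntermediateField.subset_adjoin k _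
  have hι : Function.Injective (Algebra.TensorProduct.map (Algebra.ofId k' K) (AlgHom.id k A)) :=
    Module.Flat.rTensor_preserves_injective_linearMap (M := A) k'.val.toLinearMap
      (Subtype.val_injective)
  have hrange : ∀ z : ↥M ⊗[k] A, M.subtype.rTensor A z ∈
      Set.range (Algebra.TensorProduct.map (Algebra.ofId k' K) (AlgHom.id k A)) := by
    intro z
    induction z using TensorProduct.induction_on with
    | zero => exact ⟨0, by simp⟩
    | tmul m a => exact ⟨(⟨m.1, hMk m.2⟩ : ↥k') ⊗ₜ a, rfl⟩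
    | add x y hx hy =>
      obtain ⟨cx, hcx⟩ := hx
      obtain ⟨cy, hcy⟩ := hy
      exact ⟨cx + cy, by rw [map_add, map_add, hcx, hcy]⟩
  rw [← hG, Ideal.span_le]
  intro b hb
  obtain ⟨z, hz⟩ := hMG hb
  obtain ⟨c, hc⟩ := hrange z
  rw [← hz, ← hc]
  refine Ideal.mem_map_of_mem _ (mem_nilradical.2 ?_)
  obtain ⟨e, he⟩ := mem_nilradical.1 (hG ▸ Ideal.subset_span hb : b ∈ nilradical (K ⊗[k] A))
  exact ⟨e, hι (by rw [map_pow, map_zero, hc, hz, he])⟩

/-- Reduction commutes with localisation away from an element. -/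
theorem nonempty_equiv_red (K S S' : Type u) [CommRing K] [CommRing S] [CommRing S'] [Algebra K S]
    [Algebra K S'] [Algebra S S'] [IsScalarTower K S S'] (t : S) [IsLocalization.Away t S'] :
    Nonempty (Localization.Away (Ideal.Quotient.mk (nilradical S) t) ≃ₐ[K] Red S') := by
  let m : S →ₐ[K] S' := IsScalarTower.toAlgHom K S S'
  let n : Red S →ₐ[K] Red S' := Ideal.Quotient.liftₐ _ ((Ideal.Quotient.mkₐ K _).comp m) fun c hc =>
    Ideal.Quotient.eq_zero_iff_mem.2 ((mem_nilradical.1 hc).map m)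
  let : Algebra (Red S) (Red S') := n.toRingHom.toAlgebra
  have : IsScalarTower K (Red S) (Red S') := .of_algebraMap_eq' n.comp_algebraMap.symm
  set w : Red S := Ideal.Quotient.mk _ t
  have hn : ∀ x : S, algebraMap (Red S) (Red S') (Ideal.Quotient.mk _ x) =
      Ideal.Quotient.mk _ (algebraMap S S' x) := fun x => rfl
  have hloc : IsLocalization.Away w (Red S') := by
    refine ⟨?_, ?_, ?_⟩
    · rintro ⟨_, i, rfl⟩
      show IsUnit (algebraMap (Red S) (Red S') (w ^ i))
      rw [map_pow]
      exact ((IsLocalization.Away.algebraMap_isUnit (S := S') t).map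
        (Ideal.Quotient.mk (nilradical S'))).pow i
    · intro z
      obtain ⟨z, rfl⟩ := Ideal.Quotient.mk_surjective z
      obtain ⟨i, x, hx⟩ := IsLocalization.Away.surj t z
      refine ⟨⟨Ideal.Quotient.mk _ x, ⟨w ^ i, i, rfl⟩⟩, ?_⟩
      show Ideal.Quotient.mk _ z * algebraMap (Red S) (Red S') ((Ideal.Quotient.mk _ t) ^ i) =
        algebraMap (Red S) (Red S') (Ideal.Quotient.mk _ x)
      rw [← map_pow, hn, hn, ← map_mul, map_pow, hx]
    · intro x y hxy
      obtain ⟨x, rfl⟩ := Ideal.Quotient.mk_surjective x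
      obtain ⟨y, rfl⟩ := Ideal.Quotient.mk_surjective y
      have h : algebraMap S S' (x - y) ∈ nilradical S' := by
        rw [← Ideal.Quotient.eq_zero_iff_mem, map_sub, map_sub, sub_eq_zero, ← hn, ← hn]
        exact hxy
      obtain ⟨e, he⟩ := mem_nilradical.1 h
      rw [← map_pow] at he
      obtain ⟨⟨_, i, rfl⟩, hi⟩ := (IsLocalization.map_eq_zero_iff (Submonoid.powers t) _ _).1 he
      refine ⟨⟨w ^ i, i, rfl⟩, ?_⟩
      show w ^ i * Ideal.Quotient.mk _ x = w ^ i * Ideal.Quotient.mk _ y
      rw [← sub_eq_zero, ← mul_sub, ← map_pow, ← map_sub, ← map_mul,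
        Ideal.Quotient.eq_zero_iff_mem, mem_nilradical]
      refine ⟨e + 1, ?_⟩
      have : (t ^ i * (x - y)) ^ (e + 1) = (t ^ i * (x - y) ^ e) * ((t ^ i) ^ e * (x - y)) := by
        rw [mul_pow, pow_succ, pow_succ]; ring
      rw [this, show t ^ i * (x - y) ^ e = 0 from hi, zero_mul]
  exact ⟨(IsLocalization.algEquiv (Submonoid.powers w) (Localization.Away w) (Red S')).restrictScalars K⟩

/-- Over a perfect field the minimal primes of a reduced algebra of finite type are smooth points. -/
theorem mem_smoothLocus_of_minimal (K : Type u) [Field K] [PerfectField K] (R : Type u) [CommRing R]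
    [Algebra K R] [Algebra.FiniteType K R] [IsReduced R] (q : PrimeSpectrum R)
    (hq : q.asIdeal ∈ minimalPrimes R) : q ∈ Algebra.smoothLocus K R := by
  have : Ring.KrullDimLE 0 (Localization.AtPrime q.asIdeal) := .of_isLocalization _ hq _
  let : Field (Localization.AtPrime q.asIdeal) := Ring.KrullDimLE.isField_of_isReduced.toField
  have : Algebra.EssFiniteType K (Localization.AtPrime q.asIdeal) := .comp K R _
  show Algebra.FormallySmooth K (Localization.AtPrime q.asIdeal)
  exact Algebra.FormallySmooth.of_perfectField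

/-- There is a dense basic open over which the reduction of the base change to a perfect purely
inseparable extension is smooth. -/
theorem exists_dense_smooth (k : Type u) [Field k] (K : Type u) [Field K] [Algebra k K] [PerfectField K]
    [IsPurelyInseparable k K]
    (A : Type u) [CommRing A] [Algebra k A] [Algebra.FiniteType k A] :
    ∃ a : A, (∀ p ∈ minimalPrimes A, a ∉ p) ∧
      Algebra.Smooth K (Red (K ⊗[k] Localization.Away a)) := by
  classical
  have : IsNoetherianRing A := Algebra.FiniteType.isNoetherianRing k _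
  have : IsNoetherianRing (K ⊗[k] A) := Algebra.FiniteType.isNoetherianRing K _
  let R := Red (K ⊗[k] A)
  have : IsReduced R := (Ideal.isRadical_iff_quotient_reduced _).1 (by
    intro x hx; obtain ⟨n, hn⟩ := hx; exact mem_nilradical.2 (by
      obtain ⟨m, hm⟩ := mem_nilradical.1 hn; exact ⟨n * m, by rw [pow_mul]; exact hm⟩))
  have : Algebra.FinitePresentation K R := Algebra.FinitePresentation.of_finiteType.1 inferInstance
  let φ : A →+* R := (Ideal.Quotient.mk _).comp
    (Algebra.TensorProduct.includeRight (R := k) (A := K) (B := A)).toRingHom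
  have hφ : IsHomeomorph (PrimeSpectrum.comap φ) := by
    have e : Algebra.TensorProduct.includeRight (R := k) (A := K) (B := A) =
        (Algebra.TensorProduct.comm k A K).toAlgHom.comp
          (IsScalarTower.toAlgHom k A (A ⊗[k] K)) := by ext; simp
    have h1 : IsHomeomorph (PrimeSpectrum.comap
        (Algebra.TensorProduct.includeRight (R := k) (A := K) (B := A)).toRingHom) := by
      rw [e]
      simp only [AlgHom.toRingHom_eq_coe, AlgHom.comp_toRingHom, AlgEquiv.toAlgHom_toRingHom,
        IsScalarTower.coe_toAlgHom, PrimeSpectrum.comap_comp]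
      exact (PrimeSpectrum.isHomeomorph_comap_of_isPurelyInseparable k K A).comp
        (PrimeSpectrum.isHomeomorph_comap_of_bijective (Algebra.TensorProduct.comm k A K).bijective)
    have h2 : IsHomeomorph (PrimeSpectrum.comap (Ideal.Quotient.mk (nilradical (K ⊗[k] A)))) := by
      rw [isHomeomorph_iff_isEmbedding_surjective]
      refine ⟨(PrimeSpectrum.isClosedEmbedding_comap_of_surjective _ _
        Ideal.Quotient.mk_surjective).isEmbedding, fun p => ?_⟩
      rw [← Set.mem_range, range_comap_of_surjective _ _ Ideal.Quotient.mk_surjective, Ideal.mk_ker,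
        PrimeSpectrum.mem_zeroLocus]
      exact nilradical_le_prime p.asIdeal
    rw [PrimeSpectrum.comap_comp]
    exact h1.comp h2
  let C : Set (PrimeSpectrum A) := PrimeSpectrum.comap φ '' (Algebra.smoothLocus K R)ᶜ
  have hC : IsClosed C :=
    hφ.isClosedMap _ Algebra.isOpen_smoothLocus.isClosed_compl
  obtain ⟨I, hI⟩ := (PrimeSpectrum.isClosed_iff_zeroLocus_ideal C).1 hC
  have hIp : ∀ p ∈ minimalPrimes A, ¬ I ≤ p := by
    intro p hp hle
    have := hp.1.1
    have hpC : (⟨p, this⟩ : PrimeSpectrum A) ∈ C := by rw [hI]; exact hle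
    obtain ⟨q, hq, hqp⟩ := hpC
    refine hq (mem_smoothLocus_of_minimal K R q ⟨⟨q.2, bot_le⟩, fun r hr hrq => ?_⟩)
    have hr' := hr.1
    have hle' : PrimeSpectrum.comap φ ⟨r, hr'⟩ ≤ PrimeSpectrum.comap φ q := Ideal.comap_mono hrq
    have heq : (PrimeSpectrum.comap φ ⟨r, hr'⟩).asIdeal = p := by
      have h3 : (PrimeSpectrum.comap φ ⟨r, hr'⟩).asIdeal ≤ p := by
        have := congrArg PrimeSpectrum.asIdeal hqp
        exact le_of_le_of_eq ((PrimeSpectrum.asIdeal_le_asIdeal _ _).2 hle') this
      exact le_antisymm h3 (hp.2 ⟨(PrimeSpectrum.comap φ ⟨r, hr'⟩).2, bot_le⟩ h3)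
    have : (⟨r, hr'⟩ : PrimeSpectrum R) = q :=
      hφ.injective ((PrimeSpectrum.ext heq).trans hqp.symm)
    exact le_of_eq (congrArg PrimeSpectrum.asIdeal this).symm
  obtain ⟨a, haI, ha⟩ : ∃ a ∈ I, ∀ p ∈ minimalPrimes A, a ∉ p := by
    have hfin := minimalPrimes.finite_of_isNoetherianRing A
    by_contra hcon
    push_neg at hcon
    have hsub : (I : Set A) ⊆ ⋃ p ∈ (↑hfin.toFinset : Set (Ideal A)), (p : Set A) := by
      intro x hx
      obtain ⟨p, hp, hxp⟩ := hcon x hx
      exact Set.mem_iUnion₂.2 ⟨p, hfin.mem_toFinset.2 hp, hxp⟩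
    obtain ⟨p, hp, hle⟩ := (Ideal.subset_union_prime ⊥ ⊥
      fun p hp _ _ => ((hfin.mem_toFinset.1 hp).1.1)).1 hsub
    exact hIp p (hfin.mem_toFinset.1 hp) hle
  refine ⟨a, ha, ?_⟩
  let w : R := φ a
  have hw : ↑(PrimeSpectrum.basicOpen w) ⊆ Algebra.smoothLocus K R := by
    intro q hq
    by_contra hqs
    have : PrimeSpectrum.comap φ q ∈ C := ⟨q, hqs, rfl⟩
    rw [hI] at this
    exact hq (this haI)
  have hsm := Algebra.basicOpen_subset_smoothLocus_iff_smooth.1 hw
  let A' := Localization.Away a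
  let R' := Red (K ⊗[k] A')
  let m : K ⊗[k] A →ₐ[K] K ⊗[k] A' :=
    Algebra.TensorProduct.map (AlgHom.id K K) (IsScalarTower.toAlgHom k A A')
  let t : K ⊗[k] A := (1 : K) ⊗ₜ a
  let := m.toRingHom.toAlgebra
  have : IsScalarTower K (K ⊗[k] A) (K ⊗[k] A') := .of_algebraMap_eq' m.comp_algebraMap.symm
  have hloc : IsLocalization.Away t (K ⊗[k] A') := by
    have hpow : Submonoid.powers t = (Submonoid.powers a).map
        (Algebra.TensorProduct.includeRight (R := k) (A := K) (B := A)).toRingHom := by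
      simp [t, Submonoid.map_powers]
    rw [IsLocalization.Away, hpow]
    exact IsLocalization.tensorProduct_tensorProduct_right k K _ A' (by ext; simp [RingHom.algebraMap_toAlgebra, m])
  obtain ⟨e⟩ := nonempty_equiv_red K (K ⊗[k] A) (K ⊗[k] A') t
  exact hsm.of_equiv e

/-- Generic smoothness of the reduction after a finite purely inseparable extension. -/
theorem exists_smooth_red (k : Type u) [Field k]
    (A : Type u) [CommRing A] [Algebra k A] [Algebra.FiniteType k A] :
    ∃ a : A, (∀ p ∈ minimalPrimes A, a ∉ p) ∧ ∃ (k' : Type u) (_ : Field k') (_ : Algebra k k'),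
      Module.Finite k k' ∧ IsPurelyInseparable k k' ∧
        Algebra.Smooth k' (Red (k' ⊗[k] Localization.Away a)) := by
  let K := perfectClosure k (AlgebraicClosure k)
  obtain ⟨a, ha, hs⟩ := exists_dense_smooth k K A
  have : Algebra.FiniteType k (Localization.Away a) :=
    have : Algebra.FinitePresentation A (Localization.Away a) :=
      IsLocalization.Away.finitePresentation a
    .trans ‹_› (inferInstance : Algebra.FiniteType A (Localization.Away a))
  obtain ⟨k', hfin, hs'⟩ := exists_finite_descent k K (Localization.Away a) hs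
  exact ⟨a, ha, k', inferInstance, inferInstance, hfin,
    IsPurelyInseparable.tower_bot k k' K, hs'⟩

end Groth.Agent.FlatMor12.RedSmooth
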