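import Groth.Agent.CohExch.ChartApps
import Groth.Agent.CohExch.Chart0
import Groth.Agent.Coherent.CohBC.PushStructureIso
import Groth.Agent.Coherent.CohBC.HomSheaf
import Groth.Agent.FlatMor12.IsoLocusMod
import Groth.Agent.FlatMor12.FlatFun.GenPts
import Groth.Agent.FlatMor12.FlatFun.GenPtsStage
import Groth.Agent.H8Coh.BCMapSections
import Groth.Agent.PicLib.BasisOn
import Groth.Agent.RelVALib.UPFunctor

/-!
# Modules free on the fibres over a reduced base come from the base
-/

set_option autoImplicit false
set_option backward.isDefEq.respectTransparency false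
set_option maxHeartbeats 1000000

universe u

open CategoryTheory CategoryTheory.Limits AlgebraicGeometry Opposite TopologicalSpace
open Groth.Agent.Coherent Groth.Agent.PicLib Groth.Agent.CAlgH3.LocFreeFactor

namespace Groth.Agent.FlatMor12.FreeFibres

variable {X S : Scheme.{u}}

/-- A free module has as many independent sections as its rank when the functions are scalars. -/
theorem fiberRank_of_free (f : X ⟶ S) (E : X.Modules) (s : S) {r : ℕ}
    (hs : Function.Bijective (algebraMap (S.residueField s) Γ(f.fiber s, ⊤)))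
    (e : (Scheme.Modules.pullback (f.fiberι s)).obj E ≅ FlatMod.freeMod (f.fiber s) r) :
    CohIII.fiberRank f E 0 s = r := by
  let K := S.residueField s
  let F := (Scheme.Modules.pullback (f.fiberι s)).obj E
  let φ := baseHom K (f.fiber s)
  let H : Coh.HH (f.fiber s) F 0 ≃ₗ[K] GA φ F :=
    (HHA (A := K) F 0).trans (secA φ F)
  refine H.finrank_eq.trans ?_
  obtain ⟨e'⟩ := FlatFun.nonempty_pullback_freeMod (⊤ : (f.fiber s).Opens).ι r
  obtain ⟨b⟩ := Props12.exists_basis_sections
    ((Scheme.Modules.restrictFunctorIsoPullback (⊤ : (f.fiber s).Opens).ι).app F ≪≫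
      (Scheme.Modules.pullback (⊤ : (f.fiber s).Opens).ι).mapIso e ≪≫ e') (le_refl (⊤ : (f.fiber s).Opens))
  letI : Module Γ(f.fiber s, ⊤) (GA φ F) := (inferInstance : Module Γ(f.fiber s, ⊤) Γ(F, ⊤))
  let bG : Module.Basis (Fin r) Γ(f.fiber s, ⊤) (GA φ F) := b
  let b' : Module.Basis (Fin r) K (GA φ F) :=
    bG.mapCoeffs (RingEquiv.ofBijective φ hs).symm fun c x => by
      show φ ((RingEquiv.ofBijective φ hs).symm c) • (show Γ(F, ⊤) from x) = c • (show Γ(F, ⊤) from x)
      exact congrArg (· • (show Γ(F, ⊤) from x)) ((RingEquiv.ofBijective φ hs).apply_symm_apply c)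
  rw [Module.finrank_eq_card_basis b', Fintype.card_fin]

/-- A pullback of a finite locally free module has invertible counit when functions descend. -/
theorem isIso_counit_pullback {P T : Scheme.{u}} (π : P ⟶ T) (hπ : ∀ V : T.Opens, Function.Bijective (π.app V))
    {M : T.Modules} (hM : FlatMod.IsFinLocFree M) {G : P.Modules} (e : (Scheme.Modules.pullback π).obj M ≅ G) :
    IsIso ((Scheme.Modules.pullbackPushforwardAdjunction π).counit.app G) := by
  let adj := Scheme.Modules.pullbackPushforwardAdjunction π
  haveI : IsIso (adj.unit.app M) := Scheme.Modules.Hom.isIso_iff_isIso_app.2 fun U =>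
    (ConcreteCategory.isIso_iff_bijective _).2 (bijective_pullSec_of_isFinLocFree (σ := π) hπ hM U)
  haveI : IsIso ((Scheme.Modules.pullback π).map (adj.unit.app M) ≫
      adj.counit.app ((Scheme.Modules.pullback π).obj M)) := by
    have h := adj.left_triangle_components M
    exact (congrArg (fun k => IsIso k) h).mpr inferInstance
  haveI : IsIso (adj.counit.app ((Scheme.Modules.pullback π).obj M)) :=
    IsIso.of_isIso_comp_left ((Scheme.Modules.pullback π).map (adj.unit.app M)) _
  have h := adj.counit.naturality e.hom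
  have : adj.counit.app G = inv ((Scheme.Modules.pushforward π ⋙ Scheme.Modules.pullback π).map e.hom) ≫
      adj.counit.app ((Scheme.Modules.pullback π).obj M) ≫ e.hom := (IsIso.eq_inv_comp _).2 h
  rw [this]
  infer_instance

/-- With an invertible base change map and invertible counit on the fibre, the restricted counit is invertible. -/
theorem isIso_pullback_counit {X' S' : Scheme.{u}} {f : X ⟶ S} {g : S' ⟶ S} {f' : X' ⟶ S'} {g' : X' ⟶ X}
    (w : g' ≫ f = f' ≫ g) (E : X.Modules) [IsIso (CohBC.bc0 f g f' g' w E)]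
    [IsIso ((Scheme.Modules.pullbackPushforwardAdjunction f').counit.app ((Scheme.Modules.pullback g').obj E))] :
    IsIso ((Scheme.Modules.pullback g').map
      ((Scheme.Modules.pullbackPushforwardAdjunction f).counit.app E)) := by
  let N := (Scheme.Modules.pushforward f).obj E
  let φ := (Scheme.Modules.pullbackPushforwardAdjunction f).counit.app E
  let sq := (Scheme.Modules.pullbackComp f' g).app N ≪≫ (Scheme.Modules.pullbackCongr w.symm).app N ≪≫
    ((Scheme.Modules.pullbackComp g' f).app N).symm
  let adj := Scheme.Modules.pullbackPushforwardAdjunction f'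
  have he : (adj.homEquiv _ _) (sq.hom ≫ (Scheme.Modules.pullback g').map φ) = CohBC.bc0 f g f' g' w E := by
    refine RelVALib.hom_ext_pullSec g _ _ fun V _ m => ?_
    rw [show sq.hom = (Scheme.Modules.pullbackComp f' g).hom.app N ≫
      (Scheme.Modules.pullbackCongr w.symm).hom.app N ≫
        (Scheme.Modules.pullbackComp g' f).inv.app N from rfl]
    simp only [Category.assoc]
    exact (H8Coh.adjointBC_app_pullSec f w E m).trans (CohExch.bc0_pullSec w E V m).symm
  have h2 : sq.hom ≫ (Scheme.Modules.pullback g').map φ =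
      (Scheme.Modules.pullback f').map (CohBC.bc0 f g f' g' w E) ≫ adj.counit.app _ := by
    rw [← he]
    exact ((adj.homEquiv_counit _ _ _).symm.trans (Equiv.symm_apply_apply _ _)).symm
  haveI : IsIso (sq.hom ≫ (Scheme.Modules.pullback g').map φ) := by
    rw [h2]
    infer_instance
  exact IsIso.of_isIso_comp_left sq.hom _

/-- Over a reduced base a finite locally free module that is free on every fibre is pulled back from its direct
image, if the functions on `f` are universally those of the base. -/
theorem main (f : X ⟶ S) [Flat f] [IsProper f] [LocallyOfFinitePresentation f] [IsReduced S]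
    (hO : ∀ (T : Scheme.{u}) (g : T ⟶ S) (U : T.Opens), IsIso ((pullback.snd f g).app U))
    (E : X.Modules) (hE : FlatMod.IsFinLocFree E)
    (hfib : ∀ s : S, ∃ r : ℕ, Nonempty ((Scheme.Modules.pullback (f.fiberι s)).obj E ≅ FlatMod.freeMod (f.fiber s) r)) :
    FlatMod.IsFinLocFree ((Scheme.Modules.pushforward f).obj E) ∧
      IsIso ((Scheme.Modules.pullbackPushforwardAdjunction f).counit.app E) := by
  haveI := isQCoh_of_finLocFree hE
  have hfl := CohBC.isFlatOver_of_isFinLocFree f hE
  have hfp := Props12.isFP_of_isFinLocFree E hE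
  choose r hr using hfib
  have hπ : ∀ (s : S) (V : (Spec (S.residueField s)).Opens),
      Function.Bijective ((f.fiberToSpecResidueField s).app V) := fun s V =>
    have := hO _ (S.fromSpecResidueField s) V
    ConcreteCategory.bijective_of_isIso ((pullback.snd f (S.fromSpecResidueField s)).app V)
  have hy : ∀ s : S, Function.Bijective (algebraMap (S.residueField s) Γ(f.fiber s, ⊤)) := fun s => by
    show Function.Bijective ((f.fiberToSpecResidueField s).appTop.hom.comp (Scheme.ΓSpecIso (S.residueField s)).inv.hom)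
    rw [RingHom.coe_comp]
    exact (hπ s ⊤).comp (ConcreteCategory.bijective_of_isIso (Scheme.ΓSpecIso (S.residueField s)).inv)
  -- the rank is locally constant on the base
  have hlc : IsLocallyConstant r := by
    refine (IsLocallyConstant.iff_exists_open _).2 fun s => ?_
    have : Nontrivial Γ(f.fiber s, ⊤) := (hy s).1.nontrivial
    obtain ⟨z⟩ : Nonempty (f.fiber s) := by
      by_contra h
      rw [not_nonempty_iff] at h
      exact not_subsingleton Γ(f.fiber s, ⊤) inferInstance
    obtain ⟨U, n, hxU, ⟨e⟩⟩ := hE (f.fiberι s z)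
    have hn : ∀ (t : S) (x : f.fiber t), f.fiberι t x ∈ U → r t = n := fun t x hx => by
      haveI := EGA43.InjFibre.isQCoh_pullback (f.fiberι t) E
      obtain ⟨V, hV, ⟨e₁⟩⟩ := FlatFun.freeNear_pullback (f.fiberι t) (M := E) (p := n) (y := x) ⟨U, hx, ⟨e⟩⟩
      obtain ⟨V', hV', ⟨e₂⟩⟩ := FlatFun.freeNear_of_free (hr t).some x
      exact (CohBC.finrank_stalk_of_free _ hV' e₂).symm.trans (CohBC.finrank_stalk_of_free _ hV e₁)
    refine ⟨f '' (U : Set X), f.isOpenMap _ U.2, ⟨_, hxU, (f.range_fiberι s).le ⟨z, rfl⟩⟩, ?_⟩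
    rintro _ ⟨x, hx, rfl⟩
    obtain ⟨x', hx'⟩ := (f.range_fiberι (f x)).ge (show f x = f x from rfl)
    rw [hn s z hxU]
    exact hn _ x' (hx'.symm ▸ hx)
  have hrk : IsLocallyConstant (CohIII.fiberRank f E 0) := by
    rwa [show CohIII.fiberRank f E 0 = r from funext fun s => fiberRank_of_free f E s (hy s) (hr s).some]
  have hchart : ∀ y : S, ∃ C : CohExch.Chart f E, y ∈ C.U ∧ C.Flat ((0 : ℕ) : ℤ) := fun y => by
    obtain ⟨C, hC, -⟩ := CohExch.exists_chart hfp hfl (V := ⊤) (s := y) trivial
    exact ⟨C, hC, (C.flat_of_isLocallyConstant hfl 0 hrk).1⟩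
  let N := (Scheme.Modules.pushforward f).obj E
  have hN : FlatMod.IsFinLocFree N := fun y => by
    obtain ⟨C, hC, h0⟩ := hchart y
    exact C.exists_trivial_nhd0 h0 hC
  refine ⟨hN, ?_⟩
  haveI : Coh.IsQCoh N := isQCoh_push f E
  haveI := EGA43.InjFibre.isQCoh_pullback f N
  let φ : (Scheme.Modules.pullback f).obj N ⟶ E := (Scheme.Modules.pullbackPushforwardAdjunction f).counit.app E
  refine FlatFun.Kind.glob_of_stalks .bij φ fun x => not_not.1 ?_
  obtain ⟨s, x', rfl⟩ : ∃ (s : S) (x' : f.fiber s), f.fiberι s x' = x :=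
    ⟨f x, (f.range_fiberι (f x)).ge (show f x = f x from rfl)⟩
  have hsq : IsPullback (f.fiberι s) (f.fiberToSpecResidueField s) f (S.fromSpecResidueField s) :=
    IsPullback.of_hasPullback f (S.fromSpecResidueField s)
  haveI := CohExch.isIso_bc0_of_flat (F := E) hsq fun z => hchart _
  obtain ⟨e₀⟩ := FlatFun.nonempty_pullback_freeMod (f.fiberToSpecResidueField s) (r s)
  haveI := isIso_counit_pullback (f.fiberToSpecResidueField s) (hπ s)
    (FlatFun.isFinLocFree_freeMod (Spec (S.residueField s)) (r s)) (e₀ ≪≫ (hr s).some.symm)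
  haveI := isIso_pullback_counit hsq.w E
  exact IsoLocusMod.notMem_bad_of_fibre φ f
    (Desc19b.ModStFib.isFP_pullback f N (Props12.isFP_of_isFinLocFree N hN)) hfp hfl s x'

end Groth.Agent.FlatMor12.FreeFibres
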