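import Mathlib

/-! Sections on opens whose complement has local rings of depth `≥ 1`, resp. `≥ 2`. -/

set_option autoImplicit false
set_option backward.isDefEq.respectTransparency false

universe u

namespace Groth.Agent.FlatMor12.RegularExtend

open AlgebraicGeometry CategoryTheory Limits TopologicalSpace Opposite Pointwise

theorem ext_of_isSchemeTheoreticallyDominant {W X Y Z : Scheme.{u}} {f g : X ⟶ Y} (s : Y ⟶ Z)
    [IsSeparated s] (h : f ≫ s = g ≫ s) (ι : W ⟶ X) [IsSchemeTheoreticallyDominant ι]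
    (hU : ι ≫ f = ι ≫ g) : f = g := by
  let X' : Over Z := Over.mk (f ≫ s)
  let Y' : Over Z := Over.mk s
  let U' : Over Z := Over.mk (ι ≫ f ≫ s)
  let f' : X' ⟶ Y' := Over.homMk f
  let g' : X' ⟶ Y' := Over.homMk g h.symm
  let ι' : U' ⟶ X' := Over.homMk ι
  have : IsSeparated Y'.hom := ‹_›
  let e := (equalizer.ι f' g').left
  have hcomp : ι' ≫ f' = ι' ≫ g' := by ext1; exact hU
  have he : (equalizer.lift ι' hcomp).left ≫ e = ι := by
    show _ ≫ (equalizer.ι f' g').left = ι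
    rw [← Over.comp_left, equalizer.lift_ι]; rfl
  have hker : e.ker = ⊥ := by
    refine le_bot_iff.1 ?_
    have := Scheme.Hom.le_ker_comp (equalizer.lift ι' hcomp).left e
    rw [he] at this
    exact this.trans (Scheme.Hom.ker_eq_bot ι).le
  have : IsIso e := IsClosedImmersion.isIso_of_ker_eq e (𝟙 _) e (Category.comp_id _)
    (hker.trans (Scheme.Hom.ker_eq_bot _).symm)
  rw [← cancel_epi (equalizer.ι f' g').left]
  exact congr($(equalizer.condition f' g').left)

variable {X : Scheme.{u}} (U : X.Opens)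

/-- Every local ring outside `U` has a regular element in its maximal ideal. -/
def DepthOne : Prop := ∀ z : X, z ∉ U →
  ∃ a ∈ IsLocalRing.maximalIdeal (X.presheaf.stalk z), IsSMulRegular (X.presheaf.stalk z) a

/-- Powers of an element of a minimal prime over `J` are carried into `J` by an element outside it. -/
theorem exists_pow_mul_mem_of_minimal {A : Type u} [CommRing A] {J q : Ideal A}
    (hq : q ∈ J.minimalPrimes) {r : A} (hr : r ∈ q) : ∃ c ∉ q, ∃ n : ℕ, c * r ^ n ∈ J := by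
  haveI := hq.1.1
  let R := Localization.AtPrime q
  have hrad : algebraMap A R r ∈ (J.map (algebraMap A R)).radical := by
    rw [Ideal.radical_eq_sInf, Ideal.mem_sInf]
    rintro P ⟨hP, hPprime⟩
    have hle : P.comap (algebraMap A R) ≤ q := by
      have := IsLocalRing.le_maximalIdeal hPprime.ne_top
      intro x hx
      exact (IsLocalization.AtPrime.to_map_mem_maximal_iff R q x).1 (this hx)
    have := hq.2 ⟨Ideal.IsPrime.comap _, Ideal.map_le_iff_le_comap.1 hP⟩ hle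
    exact this hr
  obtain ⟨n, hn⟩ := hrad
  rw [← map_pow, IsLocalization.algebraMap_mem_map_algebraMap_iff q.primeCompl] at hn
  obtain ⟨c, hc, hcr⟩ := hn
  exact ⟨c, hc, n, hcr⟩

/-- A section vanishing on `U` vanishes. -/
theorem eq_zero_of_depthOne (hZ : DepthOne U) {V : X.Opens} (hV : IsAffineOpen V) (s : Γ(X, V))
    (hs : X.presheaf.map (homOfLE (inf_le_right : U ⊓ V ≤ V)).op s = 0) : s = 0 := by
  refine TopCat.Presheaf.section_ext X.sheaf V s 0 fun x hx => ?_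
  show X.presheaf.germ V x hx s = X.presheaf.germ V x hx 0
  rw [map_zero]
  by_contra hne
  let p := hV.primeIdealOf ⟨x, hx⟩
  let J : Ideal Γ(X, V) := (⊥ : Submodule Γ(X, V) Γ(X, V)).colon {s}
  have hJ : ∀ c, c ∈ J ↔ c * s = 0 := fun c => by
    simp [J, Submodule.mem_colon_singleton]
  have hJp : J ≤ p.asIdeal := fun c hc => by
    by_contra hcp
    refine hne ?_
    letI := TopCat.Presheaf.algebra_section_stalk X.presheaf (⟨x, hx⟩ : V)
    haveI := hV.isLocalization_stalk ⟨x, hx⟩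
    exact (IsLocalization.map_eq_zero_iff p.asIdeal.primeCompl (X.presheaf.stalk x) s).2
      ⟨⟨c, hcp⟩, (hJ c).1 hc⟩
  obtain ⟨q, hq, hqp⟩ := Ideal.exists_minimalPrimes_le hJp
  haveI := hq.1.1
  let y : PrimeSpectrum Γ(X, V) := ⟨q, hq.1.1⟩
  have hzV : hV.fromSpec y ∈ V := by
    have : hV.fromSpec y ∈ Set.range hV.fromSpec := ⟨y, rfl⟩
    rwa [hV.range_fromSpec] at this
  let z := hV.fromSpec y
  letI := TopCat.Presheaf.algebra_section_stalk X.presheaf (⟨z, hzV⟩ : V)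
  haveI : IsLocalization.AtPrime (X.presheaf.stalk z) y.asIdeal := hV.isLocalization_stalk' y hzV
  have hsz : algebraMap Γ(X, V) (X.presheaf.stalk z) s ≠ 0 := fun h => by
    obtain ⟨⟨c, hc⟩, hcs⟩ := (IsLocalization.map_eq_zero_iff y.asIdeal.primeCompl _ s).1 h
    exact hc (hq.1.2 ((hJ c).2 hcs))
  have hzU : z ∉ U := fun hzU => hsz (by
    show X.presheaf.germ V z hzV s = 0
    rw [← X.presheaf.germ_res_apply (homOfLE (inf_le_right : U ⊓ V ≤ V)) z ⟨hzU, hzV⟩ s, hs, map_zero])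
  obtain ⟨a, ha, hreg⟩ := hZ z hzU
  obtain ⟨⟨r, t⟩, hrt⟩ := IsLocalization.surj y.asIdeal.primeCompl a
  have hr : r ∈ q := by
    have : algebraMap Γ(X, V) (X.presheaf.stalk z) r ∈ IsLocalRing.maximalIdeal (X.presheaf.stalk z) :=
      hrt ▸ Ideal.mul_mem_right _ _ ha
    rwa [IsLocalization.AtPrime.to_map_mem_maximal_iff (X.presheaf.stalk z) y.asIdeal] at this
  obtain ⟨c, hc, n, hn⟩ := exists_pow_mul_mem_of_minimal hq hr
  refine hsz ((hreg.pow n) ?_)
  have h0 := congrArg (algebraMap Γ(X, V) (X.presheaf.stalk z)) ((hJ _).1 hn)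
  rw [map_mul, map_mul, map_pow, ← hrt, map_zero, mul_pow] at h0
  have hcu : IsUnit (algebraMap Γ(X, V) (X.presheaf.stalk z) c *
      algebraMap Γ(X, V) (X.presheaf.stalk z) t ^ n) :=
    (IsLocalization.map_units (X.presheaf.stalk z) (⟨c, hc⟩ : y.asIdeal.primeCompl)).mul
      ((IsLocalization.map_units (X.presheaf.stalk z) t).pow n)
  simp only [smul_eq_mul, mul_zero]
  refine (hcu.mul_right_eq_zero).1 ?_
  rw [← h0]; ring

/-- The inclusion is schematically dominant. -/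
theorem isSchemeTheoreticallyDominant_ι [QuasiCompact U.ι] (hZ : DepthOne U) : IsSchemeTheoreticallyDominant U.ι := by
  refine ⟨?_⟩
  refine Scheme.IdealSheafData.ext (funext fun V => ?_)
  rw [Scheme.Hom.ker_apply, Scheme.IdealSheafData.ideal_bot, Pi.bot_apply, eq_bot_iff]
  intro s hs
  rw [RingHom.mem_ker, Scheme.Opens.ι_app] at hs
  refine Ideal.mem_bot.2 (eq_zero_of_depthOne U hZ V.2 s ?_)
  have e : U ⊓ V.1 ≤ U.ι ''ᵁ U.ι ⁻¹ᵁ V.1 := le_of_eq (by
    rw [Scheme.Hom.image_preimage_eq_opensRange_inf, Scheme.Opens.opensRange_ι])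
  have h2 := congrArg (X.presheaf.map (homOfLE e).op) hs
  refine Eq.trans ?_ (h2.trans (map_zero _))
  erw [← ConcreteCategory.comp_apply, ← Functor.map_comp]
  rfl

/-- Every local ring outside `U` has a regular sequence of length two in its maximal ideal. -/
def DepthTwo : Prop := ∀ z : X, z ∉ U → ∃ a b : X.presheaf.stalk z,
  a ∈ IsLocalRing.maximalIdeal (X.presheaf.stalk z) ∧ b ∈ IsLocalRing.maximalIdeal (X.presheaf.stalk z) ∧
    RingTheory.Sequence.IsWeaklyRegular (X.presheaf.stalk z) [a, b]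

variable {U}

theorem DepthTwo.depthOne (h : DepthTwo U) : DepthOne U := fun z hz => by
  obtain ⟨a, b, ha, -, hab⟩ := h z hz
  exact ⟨a, ha, ((RingTheory.Sequence.isWeaklyRegular_cons_iff _ _ _).1 hab).1⟩

/-- The second element is regular modulo the first. -/
theorem dvd_of_dvd_mul_of_isWeaklyRegular {R : Type u} [CommRing R] {a b x : R}
    (hab : RingTheory.Sequence.IsWeaklyRegular R [a, b]) (h : a ∣ b * x) : a ∣ x := by
  obtain ⟨-, hb⟩ := (RingTheory.Sequence.isWeaklyRegular_cons_iff _ _ _).1 hab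
  replace hb := ((RingTheory.Sequence.isWeaklyRegular_cons_iff _ _ _).1 hb).1
  have key : ∀ y : R, Submodule.Quotient.mk (p := a • (⊤ : Submodule R R)) y = 0 ↔ a ∣ y := fun y => by
    rw [Submodule.Quotient.mk_eq_zero, Submodule.mem_smul_pointwise_iff_exists]
    exact ⟨fun ⟨c, _, hc⟩ => ⟨c, hc.symm⟩, fun ⟨c, hc⟩ => ⟨c, trivial, hc.symm⟩⟩
  refine (key x).1 (hb ?_)
  show b • Submodule.Quotient.mk x = b • (0 : QuotSMulTop a R)
  rw [smul_zero, ← Submodule.Quotient.mk_smul]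
  exact (key _).2 h

theorem pow_dvd_of_pow_dvd_mul {R : Type u} [CommRing R] {a b : R} (ha : IsSMulRegular R a)
    (hb : ∀ x, a ∣ b * x → a ∣ x) (n j : ℕ) {x : R} (h : a ^ n ∣ b ^ j * x) : a ^ n ∣ x := by
  have hb' : ∀ j x, a ∣ b ^ j * x → a ∣ x := by
    intro j
    induction j with
    | zero => intro x hx; simpa using hx
    | succ j ih => intro x hx; exact ih x (hb _ (by rwa [← mul_assoc, ← pow_succ']))
  induction n generalizing x with
  | zero => simp
  | succ n ih =>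
    obtain ⟨y, rfl⟩ := hb' j x (dvd_trans (dvd_pow_self a n.succ_ne_zero) h)
    obtain ⟨c, hc⟩ := h
    rw [pow_succ']
    refine mul_dvd_mul_left a (ih ⟨c, ha ?_⟩)
    show a * (b ^ j * y) = a * (a ^ n * c)
    rw [← mul_assoc a (a ^ n) c, ← pow_succ', ← hc]; ring

/-- Restriction of sections. -/
abbrev res {O O' : X.Opens} (h : O' ≤ O) : Γ(X, O) →+* Γ(X, O') :=
  (X.presheaf.map (homOfLE h).op).hom

theorem res_res {O₁ O₂ O₃ : X.Opens} (h : O₂ ≤ O₁) (h' : O₃ ≤ O₂) (s : Γ(X, O₁)) :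
    res h' (res h s) = res (h'.trans h) s := by
  show (X.presheaf.map _) ((X.presheaf.map _) s) = _
  rw [← ConcreteCategory.comp_apply, ← Functor.map_comp]
  rfl

theorem res_injective [QuasiCompact U.ι] (hZ : DepthOne U) {O : X.Opens} {t₁ t₂ : Γ(X, O)}
    (h : res (inf_le_right : U ⊓ O ≤ O) t₁ = res (inf_le_right : U ⊓ O ≤ O) t₂) : t₁ = t₂ := by
  haveI := isSchemeTheoreticallyDominant_ι U hZ
  have e : U.ι ''ᵁ U.ι ⁻¹ᵁ O ≤ U ⊓ O := le_of_eq (by
    rw [Scheme.Hom.image_preimage_eq_opensRange_inf, Scheme.Opens.opensRange_ι])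
  refine U.ι.app_injective O ?_
  rw [Scheme.Opens.ι_app]
  exact ((res_res _ e t₁).symm.trans (congrArg _ h)).trans (res_res _ e t₂)

/-- Uniqueness gives gluing of local extensions. -/
theorem exists_glue [QuasiCompact U.ι] (hZ : DepthOne U) {V : X.Opens} (s : Γ(X, U ⊓ V)) (O : X.Opens)
    (hO : O ≤ V) (h : ∀ x ∈ O, ∃ (O' : X.Opens) (hO' : O' ≤ V), x ∈ O' ∧
      ∃ t : Γ(X, O'), res (inf_le_right : U ⊓ O' ≤ O') t = res (inf_le_inf le_rfl hO') s) :
    ∃ t : Γ(X, O), res (inf_le_right : U ⊓ O ≤ O) t = res (inf_le_inf le_rfl hO) s := by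
  choose O' hO' hxO' t ht using fun x : O => h x.1 x.2
  let W : O → X.Opens := fun x => O' x ⊓ O
  let sf : ∀ x, Γ(X, W x) := fun x => res inf_le_left (t x)
  have hsf : ∀ x, res (inf_le_right : U ⊓ W x ≤ W x) (sf x) =
      res (inf_le_inf le_rfl (inf_le_left.trans (hO' x))) s := fun x => by
    have := congrArg (res (inf_le_inf le_rfl inf_le_left : U ⊓ W x ≤ U ⊓ O' x)) (ht x)
    rw [res_res, res_res] at this
    exact (res_res _ _ _).trans this
  have hcompat : TopCat.Presheaf.IsCompatible X.sheaf.1 W sf := fun x y => by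
    refine res_injective hZ ?_
    have h1 := congrArg (res (inf_le_inf le_rfl inf_le_left : U ⊓ (W x ⊓ W y) ≤ U ⊓ W x)) (hsf x)
    have h2 := congrArg (res (inf_le_inf le_rfl inf_le_right : U ⊓ (W x ⊓ W y) ≤ U ⊓ W y)) (hsf y)
    replace h1 := ((res_res _ _ (sf x)).symm.trans h1).trans (res_res _ _ s)
    replace h2 := ((res_res _ _ (sf y)).symm.trans h2).trans (res_res _ _ s)
    exact ((res_res _ _ (sf x)).trans (h1.trans h2.symm)).trans (res_res _ _ (sf y)).symm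
  obtain ⟨g, hg, -⟩ := X.sheaf.existsUnique_gluing' W O (fun x => homOfLE inf_le_right)
    (fun x hx => Opens.mem_iSup.2 ⟨⟨x, hx⟩, hxO' ⟨x, hx⟩, hx⟩) sf hcompat
  refine ⟨g, X.sheaf.eq_of_locally_eq' (fun x => U ⊓ W x) (U ⊓ O)
    (fun x => homOfLE (inf_le_inf le_rfl inf_le_right)) (fun x hx => Opens.mem_iSup.2
      ⟨⟨x, hx.2⟩, hx.1, hxO' ⟨x, hx.2⟩, hx.2⟩) _ _ fun x => ?_⟩
  have := congrArg (res (inf_le_right : U ⊓ W x ≤ W x)) (show res inf_le_right g = sf x from hg x)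
  rw [res_res, hsf x] at this
  exact ((res_res _ _ _).trans this).trans (res_res _ _ _).symm

/-- Sections extend across points of depth at least two. -/
theorem exists_extend [QuasiCompact U.ι] (hZ : DepthTwo U) {V : X.Opens} (hV : IsAffineOpen V)
    (s : Γ(X, U ⊓ V)) : ∃ t : Γ(X, V), res (inf_le_right : U ⊓ V ≤ V) t = s := by
  classical
  have hZ1 := hZ.depthOne
  let Good : X.Opens → Prop := fun O => ∃ (hO : O ≤ V) (t : Γ(X, O)),
    res (inf_le_right : U ⊓ O ≤ O) t = res (inf_le_inf le_rfl hO) s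
  suffices key : ∀ x ∈ V, ∃ O, Good O ∧ x ∈ O by
    obtain ⟨t, ht⟩ := exists_glue hZ1 s V le_rfl fun x hx => by
      obtain ⟨O, ⟨hO, t, ht⟩, hxO⟩ := key x hx
      exact ⟨O, hO, hxO, t, ht⟩
    refine ⟨t, ht.trans ?_⟩
    show (X.presheaf.map _) s = s
    rw [show (homOfLE (inf_le_inf le_rfl le_rfl : U ⊓ V ≤ U ⊓ V)).op = 𝟙 _ from Subsingleton.elim _ _,
      X.presheaf.map_id]
    rfl
  let W : X.Opens := ⨆ O : {O // Good O}, O.1
  have hWmem : ∀ x, x ∈ W ↔ ∃ O, Good O ∧ x ∈ O := fun x => by simp [W, Opens.mem_iSup]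
  have hWgood : ∀ O ≤ V, O ≤ W → Good O := fun O hO hOW => by
    obtain ⟨t, ht⟩ := exists_glue hZ1 s O hO fun x hx => by
      obtain ⟨O', ⟨hO', t, ht⟩, hxO⟩ := (hWmem x).1 (hOW hx)
      exact ⟨O', hO', hxO, t, ht⟩
    exact ⟨hO, t, ht⟩
  intro x hx
  by_contra hxW
  let A := Γ(X, V)
  let I : Ideal A := PrimeSpectrum.vanishingIdeal (hV.fromSpec ⁻¹' (W : Set X))ᶜ
  have hI : ∀ p : PrimeSpectrum A, I ≤ p.asIdeal ↔ hV.fromSpec p ∉ W := fun p => by
    have hcl : PrimeSpectrum.zeroLocus (I : Set A) = (hV.fromSpec ⁻¹' (W : Set X))ᶜ := by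
      rw [PrimeSpectrum.zeroLocus_vanishingIdeal_eq_closure]
      exact (W.isOpen.preimage hV.fromSpec.continuous).isClosed_compl.closure_eq
    exact Iff.of_eq congr(p ∈ $hcl)
  let p := hV.primeIdealOf ⟨x, hx⟩
  have hIp : I ≤ p.asIdeal := (hI p).2 fun h => hxW ((hWmem x).1 (by rwa [hV.fromSpec_primeIdealOf] at h))
  obtain ⟨q, hq, -⟩ := Ideal.exists_minimalPrimes_le hIp
  haveI := hq.1.1
  let y : PrimeSpectrum A := ⟨q, hq.1.1⟩
  have hzV : hV.fromSpec y ∈ V := by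
    have : hV.fromSpec y ∈ Set.range hV.fromSpec := ⟨y, rfl⟩
    rwa [hV.range_fromSpec] at this
  let z := hV.fromSpec y
  have hzW : z ∉ W := (hI y).1 hq.1.2
  have hzU : z ∉ U := fun h => hzW ((hWmem z).2 ⟨U ⊓ V, ⟨inf_le_right, s, congrArg (fun e => (X.presheaf.map e) s) (Subsingleton.elim _ _)⟩, h, hzV⟩)
  letI := TopCat.Presheaf.algebra_section_stalk X.presheaf (⟨z, hzV⟩ : V)
  haveI : IsLocalization.AtPrime (X.presheaf.stalk z) y.asIdeal := hV.isLocalization_stalk' y hzV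
  let φ := algebraMap A (X.presheaf.stalk z)
  obtain ⟨a, b, ha, hb, hab⟩ := hZ z hzU
  have hareg : IsSMulRegular (X.presheaf.stalk z) a :=
    ((RingTheory.Sequence.isWeaklyRegular_cons_iff _ _ _).1 hab).1
  have mem : ∀ {e : X.presheaf.stalk z}, e ∈ IsLocalRing.maximalIdeal (X.presheaf.stalk z) →
      ∃ α ∈ q, ∃ u : (X.presheaf.stalk z)ˣ, φ α = e * u := fun {e} he => by
    obtain ⟨⟨r, t⟩, hrt⟩ := IsLocalization.surj y.asIdeal.primeCompl e
    refine ⟨r, ?_, (IsLocalization.map_units (X.presheaf.stalk z) t).unit, hrt.symm⟩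
    have : φ r ∈ IsLocalRing.maximalIdeal (X.presheaf.stalk z) := by
      show algebraMap A _ r ∈ _
      rw [← hrt]; exact Ideal.mul_mem_right _ _ he
    rwa [IsLocalization.AtPrime.to_map_mem_maximal_iff (X.presheaf.stalk z) y.asIdeal] at this
  obtain ⟨α, hα, uα, hαa⟩ := mem ha
  obtain ⟨β, hβ, uβ, hβb⟩ := mem hb
  -- sections on basic opens in the good locus
  have open_of : ∀ r ∈ q, ∃ c ∉ q, ∃ (t : Γ(X, X.basicOpen (c * r))) (n : ℕ) (e : A),
      res (inf_le_right : U ⊓ _ ≤ _) t = res (inf_le_inf le_rfl (X.basicOpen_le (c * r))) s ∧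
        t * algebraMap A _ (c * r) ^ n = algebraMap A _ e := by
    intro r hr
    obtain ⟨c, hc, n, hn⟩ := exists_pow_mul_mem_of_minimal hq hr
    have hle : X.basicOpen (c * r) ≤ W := fun w hw => by
      by_contra hwW
      have hwV := X.basicOpen_le (c * r) hw
      have hp := (hI (hV.primeIdealOf ⟨w, hwV⟩)).2 (by rw [hV.fromSpec_primeIdealOf]; exact hwW) hn
      have h1 : hV.primeIdealOf ⟨w, hwV⟩ ∈ hV.fromSpec ⁻¹ᵁ X.basicOpen (c * r) := by
        rw [Scheme.Hom.mem_preimage, hV.fromSpec_primeIdealOf]; exact hw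
      rw [hV.fromSpec_preimage_basicOpen] at h1
      rcases (hV.primeIdealOf ⟨w, hwV⟩).2.mem_or_mem hp with h | h
      · exact h1 (Ideal.mul_mem_right _ _ h)
      · exact h1 (Ideal.mul_mem_left _ _ ((hV.primeIdealOf ⟨w, hwV⟩).2.mem_of_pow_mem n h))
    obtain ⟨_, t, ht⟩ := hWgood _ (X.basicOpen_le _) hle
    haveI := hV.isLocalization_basicOpen (c * r)
    obtain ⟨n', e, he⟩ := IsLocalization.Away.surj (c * r) t
    exact ⟨c, hc, t, n', e, ht, he⟩
  obtain ⟨c, hc, t₁, n, x₁, ht₁, hx₁⟩ := open_of α hα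
  obtain ⟨e, he, t₂, m, x₂, ht₂, hx₂⟩ := open_of β hβ
  obtain ⟨f₁, hf₁, t₁, hx₁, ht₁⟩ : ∃ (f₁ : A) (_ : f₁ = c * α) (t : Γ(X, X.basicOpen f₁)),
      t * algebraMap A _ f₁ ^ n = algebraMap A _ x₁ ∧
        res (inf_le_right : U ⊓ _ ≤ _) t = res (inf_le_inf le_rfl (X.basicOpen_le f₁)) s :=
    ⟨_, rfl, t₁, hx₁, ht₁⟩
  obtain ⟨f₂, hf₂, t₂, hx₂, ht₂⟩ : ∃ (f₂ : A) (_ : f₂ = e * β) (t : Γ(X, X.basicOpen f₂)),
      t * algebraMap A _ f₂ ^ m = algebraMap A _ x₂ ∧
        res (inf_le_right : U ⊓ _ ≤ _) t = res (inf_le_inf le_rfl (X.basicOpen_le f₂)) s :=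
    ⟨_, rfl, t₂, hx₂, ht₂⟩
  have hf : X.basicOpen (f₁ * f₂) ≤ X.basicOpen f₁ ∧ X.basicOpen (f₁ * f₂) ≤ X.basicOpen f₂ := by
    rw [X.basicOpen_mul]; exact ⟨inf_le_left, inf_le_right⟩
  have h12 : res hf.1 t₁ = res hf.2 t₂ := by
    refine res_injective hZ1 ?_
    have h1 := congrArg (res (inf_le_inf le_rfl hf.1)) ht₁
    have h2 := congrArg (res (inf_le_inf le_rfl hf.2)) ht₂
    rw [res_res, res_res] at h1 h2
    exact ((res_res _ _ _).trans (h1.trans h2.symm)).trans (res_res _ _ _).symm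
  have hA : ∀ {f g : A} (h : X.basicOpen g ≤ X.basicOpen f) (r : A),
      res h (algebraMap A Γ(X, X.basicOpen f) r) = algebraMap A Γ(X, X.basicOpen g) r :=
    fun h r => res_res (X.basicOpen_le _) h r
  have hk : ∃ k : ℕ, (f₁ * f₂) ^ k * (x₁ * f₂ ^ m - x₂ * f₁ ^ n) = 0 := by
    haveI := hV.isLocalization_basicOpen (f₁ * f₂)
    have : algebraMap A Γ(X, X.basicOpen (f₁ * f₂)) (x₁ * f₂ ^ m - x₂ * f₁ ^ n) = 0 := by
      have e1 : res hf.1 t₁ * algebraMap A _ f₁ ^ n = algebraMap A _ x₁ := by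
        rw [← hA hf.1 f₁, ← hA hf.1 x₁, ← map_pow, ← map_mul]; exact congrArg _ hx₁
      have e2 : res hf.2 t₂ * algebraMap A _ f₂ ^ m = algebraMap A _ x₂ := by
        rw [← hA hf.2 f₂, ← hA hf.2 x₂, ← map_pow, ← map_mul]; exact congrArg _ hx₂
      rw [map_sub, map_mul, map_mul, map_pow, map_pow, ← e1, ← e2, h12]
      ring
    obtain ⟨⟨_, k, rfl⟩, hk⟩ := (IsLocalization.map_eq_zero_iff (Submonoid.powers (f₁ * f₂)) _ _).1 this
    exact ⟨k, hk⟩
  obtain ⟨k, hk⟩ := hk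
  have hcu : IsUnit (φ c) := IsLocalization.map_units (X.presheaf.stalk z) (⟨c, hc⟩ : y.asIdeal.primeCompl)
  have heu : IsUnit (φ e) := IsLocalization.map_units (X.presheaf.stalk z) (⟨e, he⟩ : y.asIdeal.primeCompl)
  obtain ⟨v₁, hv₁, hφ₁⟩ : ∃ v, IsUnit v ∧ φ f₁ = a * v := ⟨φ c * uα, hcu.mul uα.isUnit, by
    rw [hf₁, map_mul, hαa]; ring⟩
  obtain ⟨v₂, hv₂, hφ₂⟩ : ∃ v, IsUnit v ∧ φ f₂ = b * v := ⟨φ e * uβ, heu.mul uβ.isUnit, by
    rw [hf₂, map_mul, hβb]; ring⟩
  have hreg₁ : IsSMulRegular (X.presheaf.stalk z) (φ f₁) := by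
    rw [hφ₁]; exact hareg.mul (hv₁.isSMulRegular _)
  have hdvd : φ f₁ ^ n ∣ φ x₁ := by
    refine pow_dvd_of_pow_dvd_mul hreg₁ (b := φ f₂) (fun w hw => ?_) n (k + m) ?_
    · rw [hφ₁, hv₁.mul_right_dvd] at hw ⊢
      refine dvd_of_dvd_mul_of_isWeaklyRegular hab ?_
      rwa [hφ₂, mul_comm b v₂, mul_assoc, hv₂.dvd_mul_left] at hw
    · have h0 := congrArg φ hk
      simp only [map_mul, map_sub, map_pow, map_zero, mul_pow, mul_assoc] at h0
      have h1 : φ f₂ ^ k * (φ x₁ * φ f₂ ^ m - φ x₂ * φ f₁ ^ n) = 0 :=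
        (hreg₁.pow k) (by simpa [smul_eq_mul] using h0)
      refine ⟨φ f₂ ^ k * φ x₂, ?_⟩
      rw [pow_add]; linear_combination h1
  obtain ⟨r₀, hr₀⟩ := hdvd
  obtain ⟨⟨ρ, σ⟩, hρ⟩ := IsLocalization.surj y.asIdeal.primeCompl r₀
  obtain ⟨g, hg⟩ : ∃ g : y.asIdeal.primeCompl, (g : A) * (x₁ * σ) = g * (f₁ ^ n * ρ) := by
    refine (IsLocalization.eq_iff_exists y.asIdeal.primeCompl (X.presheaf.stalk z)).1 ?_
    rw [map_mul, map_mul, map_pow, ← hρ]
    change φ x₁ * φ σ = φ f₁ ^ n * (r₀ * φ σ)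
    rw [hr₀]; ring
  obtain ⟨G, hGdef⟩ : ∃ G : A, G = (g : A) * (σ : A) := ⟨_, rfl⟩
  have hG : G ∉ q := hGdef ▸ (g * σ).2
  haveI := hV.isLocalization_basicOpen G
  let t : Γ(X, X.basicOpen G) := IsLocalization.mk' _ ((g : A) * ρ) (⟨G, 1, pow_one G⟩ : Submonoid.powers G)
  have hG1 : X.basicOpen (G * f₁) ≤ X.basicOpen G ∧ X.basicOpen (G * f₁) ≤ X.basicOpen f₁ := by
    rw [X.basicOpen_mul]; exact ⟨inf_le_left, inf_le_right⟩
  have htt : res hG1.1 t = res hG1.2 t₁ := by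
    haveI := hV.isLocalization_basicOpen (G * f₁)
    have hu : IsUnit (algebraMap A Γ(X, X.basicOpen (G * f₁)) (f₁ ^ n * G)) := by
      rw [map_mul, map_pow]
      have := IsLocalization.Away.algebraMap_isUnit (S := Γ(X, X.basicOpen (G * f₁))) (G * f₁)
      rw [map_mul, IsUnit.mul_iff] at this
      exact (this.2.pow n).mul this.1
    apply hu.mul_left_injective
    simp only [map_mul, map_pow]
    have e1 : t * algebraMap A _ G = algebraMap A _ ((g : A) * ρ) := IsLocalization.mk'_spec _ _ _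
    have e1' := congrArg (res hG1.1) e1
    have e2' := congrArg (res hG1.2) hx₁
    rw [map_mul, hA, hA] at e1'
    rw [map_mul, map_pow, hA, hA] at e2'
    have e3 := congrArg (algebraMap A Γ(X, X.basicOpen (G * f₁))) hg
    have e4 := congrArg (algebraMap A Γ(X, X.basicOpen (G * f₁))) hGdef
    simp only [map_mul, map_pow] at e1' e2' e3 e4 ⊢
    linear_combination (algebraMap A Γ(X, X.basicOpen (G * f₁)) f₁ ^ n) * e1' -
      (algebraMap A Γ(X, X.basicOpen (G * f₁)) G) * e2' - e3 -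
      (algebraMap A Γ(X, X.basicOpen (G * f₁)) x₁) * e4
  -- agreement near `z`
  have hK : IsCompact ((U ⊓ X.basicOpen G : X.Opens) : Set X) := by
    have h1 := (U.ι.isCompact_preimage (hV.basicOpen G).isCompact).image U.ι.continuous
    convert h1 using 1
    ext p
    exact ⟨fun hp => ⟨⟨p, hp.1⟩, hp.2, rfl⟩, fun ⟨q, hq, hqp⟩ => hqp ▸ ⟨q.2, hq⟩⟩
  have hloc : ∀ w : ↥(U ⊓ X.basicOpen G), ∃ h : A, X.basicOpen h ≤ U ⊓ X.basicOpen G ∧ w.1 ∈ X.basicOpen h :=
    fun w => hV.exists_basicOpen_le ⟨w.1, w.2⟩ (X.basicOpen_le G w.2.2)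
  choose h hhle hwh using hloc
  obtain ⟨S, hS⟩ := hK.elim_finite_subcover (fun w => (X.basicOpen (h w) : Set X))
    (fun w => (X.basicOpen (h w)).isOpen) fun w hw => Set.mem_iUnion.2 ⟨⟨w, hw⟩, hwh ⟨w, hw⟩⟩
  have hkill : ∀ w, ∃ gh ∉ q, ∀ (O : X.Opens) (h1 : O ≤ X.basicOpen (h w)) (_ : O ≤ X.basicOpen gh),
      res (h1.trans ((hhle w).trans inf_le_right)) t =
        res (h1.trans ((hhle w).trans (inf_le_inf le_rfl (X.basicOpen_le G)))) s := by
    intro w
    let d := res ((hhle w).trans inf_le_right) t - res ((hhle w).trans (inf_le_inf le_rfl (X.basicOpen_le G))) s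
    haveI := hV.isLocalization_basicOpen (h w)
    obtain ⟨l, ε, hε⟩ := IsLocalization.Away.surj (h w) d
    have hle1 : X.basicOpen (h w * f₁) ≤ X.basicOpen (h w) ∧ X.basicOpen (h w * f₁) ≤ X.basicOpen f₁ := by
      rw [X.basicOpen_mul]; exact ⟨inf_le_left, inf_le_right⟩
    have hd : res hle1.1 d = 0 := by
      have hle2 : X.basicOpen (h w * f₁) ≤ U ⊓ X.basicOpen (G * f₁) := by
        rw [X.basicOpen_mul, X.basicOpen_mul, ← inf_assoc]
        exact inf_le_inf (hhle w) le_rfl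
      have h1 := congrArg (res (inf_le_right : U ⊓ X.basicOpen (G * f₁) ≤ _)) htt
      rw [res_res, res_res] at h1
      have h2 := congrArg (res (inf_le_inf le_rfl hG1.2)) ht₁
      rw [res_res, res_res] at h2
      have h3 := congrArg (res hle2) (h1.trans h2)
      rw [res_res, res_res] at h3
      show res hle1.1 (_ - _) = 0
      rw [map_sub, res_res, res_res, h3, sub_self]
    haveI := hV.isLocalization_basicOpen (h w * f₁)
    have hε0 : algebraMap A Γ(X, X.basicOpen (h w * f₁)) ε = 0 := by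
      rw [← hA hle1.1, ← hε, map_mul, hd, zero_mul]
    obtain ⟨⟨_, k', rfl⟩, hk'⟩ := (IsLocalization.map_eq_zero_iff (Submonoid.powers (h w * f₁)) _ _).1 hε0
    have h0 : φ (h w ^ k' * ε) = 0 := by
      have := congrArg φ hk'
      refine (hreg₁.pow k') ?_
      simp only [smul_eq_mul, mul_zero]
      rw [← map_pow, ← map_mul, ← this.trans (map_zero φ)]
      congr 1
      ring
    obtain ⟨gh, hgh⟩ := (IsLocalization.map_eq_zero_iff y.asIdeal.primeCompl _ _).1 h0
    refine ⟨gh, gh.2, fun O h1 h2 => ?_⟩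
    have hOu : IsUnit (res (h1.trans (X.basicOpen_le _)) (h w)) ∧ IsUnit (res (h1.trans (X.basicOpen_le _)) (gh : A)) := by
      refine ⟨?_, ?_⟩
      · have := (IsLocalization.Away.algebraMap_isUnit (S := Γ(X, X.basicOpen (h w))) (h w)).map (res h1)
        rwa [show res h1 (algebraMap A _ (h w)) = _ from res_res _ h1 (h w)] at this
      · haveI := hV.isLocalization_basicOpen (gh : A)
        have := (IsLocalization.Away.algebraMap_isUnit (S := Γ(X, X.basicOpen (gh : A))) (gh : A)).map (res h2)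
        rwa [show res h2 (algebraMap A _ (gh : A)) = _ from res_res _ h2 _] at this
    have e1 := congrArg (res h1) hε
    rw [map_mul, map_pow, show res h1 (algebraMap A _ (h w)) = _ from res_res _ h1 (h w),
      show res h1 (algebraMap A _ ε) = _ from res_res _ h1 ε] at e1
    have e2 := congrArg (res (h1.trans (X.basicOpen_le _))) hgh
    rw [map_mul, map_mul, map_pow, map_zero, hOu.2.mul_right_eq_zero, (hOu.1.pow k').mul_right_eq_zero] at e2
    rw [e2, (hOu.1.pow l).mul_left_eq_zero] at e1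
    have e3 : res h1 d = 0 := e1
    rwa [map_sub, res_res, res_res, sub_eq_zero] at e3
  choose gh hgh hagree using hkill
  let O := X.basicOpen (G * ∏ w ∈ S, gh w)
  have hOG : O ≤ X.basicOpen G := (X.basicOpen_mul _ _).le.trans inf_le_left
  have hGood : Good O := by
    refine ⟨X.basicOpen_le _, res hOG t, ?_⟩
    refine X.sheaf.eq_of_locally_eq' (fun w : S => X.basicOpen (h w.1) ⊓ O) (U ⊓ O)
      (fun w => homOfLE (inf_le_inf ((hhle w.1).trans inf_le_left) le_rfl)) ?_ _ _ fun w => ?_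
    · intro p hp
      obtain ⟨w, hw, hpw⟩ := Set.mem_iUnion₂.1 (hS ⟨hp.1, hOG hp.2⟩)
      exact Opens.mem_iSup.2 ⟨⟨w, hw⟩, hpw, hp.2⟩
    · have hle : O ≤ X.basicOpen (gh w.1) := by
        refine (X.basicOpen_mul _ _).le.trans (inf_le_right.trans ?_)
        rw [← Finset.prod_erase_mul _ _ w.2, X.basicOpen_mul]
        exact inf_le_right
      refine ((res_res _ _ _).trans (res_res _ _ _)).trans ?_
      exact ((hagree w.1 _ inf_le_left (inf_le_right.trans hle)).trans (res_res _ _ _).symm)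
  refine hzW ((hWmem z).2 ⟨O, hGood, ?_⟩)
  have h1 : y ∈ hV.fromSpec ⁻¹ᵁ O := by
    show y ∈ hV.fromSpec ⁻¹ᵁ X.basicOpen _
    rw [hV.fromSpec_preimage_basicOpen]
    intro h
    rcases y.2.mem_or_mem h with h | h
    · exact hG h
    · obtain ⟨w, -, hw⟩ := (y.2.prod_mem_iff).1 h
      exact hgh w hw
  exact h1

/-- Morphisms to an affine scheme extend along a morphism inducing a bijection on global functions. -/
theorem exists_factor_of_bijective_appTop {W V Y : Scheme.{u}} [IsAffine Y] (j : W ⟶ V)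
    (hj : Function.Bijective j.appTop) (t : W ⟶ Y) : ∃ s : V ⟶ Y, j ≫ s = t := by
  haveI : IsIso j.appTop := (ConcreteCategory.isIso_iff_bijective _).2 hj
  refine ⟨V.toSpecΓ ≫ Spec.map (t.appTop ≫ inv j.appTop) ≫ Y.isoSpec.inv, ?_⟩
  rw [Scheme.toSpecΓ_naturality_assoc, ← Spec.map_comp_assoc, Category.assoc, IsIso.inv_hom_id,
    Category.comp_id, ← Scheme.toSpecΓ_naturality_assoc, Scheme.toSpecΓ_isoSpec_inv, Category.comp_id]

theorem bijective_map_of_eq {A B V W : X.Opens} (k : op A ⟶ op B) (hA : A = V) (hB : B = W) (e : W ≤ V)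
    (h : Function.Bijective (res e : Γ(X, V) →+* Γ(X, W))) : Function.Bijective (X.presheaf.map k) := by
  subst hA hB
  rw [show k = (homOfLE e).op from Subsingleton.elim _ _]
  exact h

/-- Sections of affine morphisms extend uniquely across points of depth at least two. -/
theorem existsUnique_section [QuasiCompact U.ι] (hZ : DepthTwo U) {Y : Scheme.{u}} (f : Y ⟶ X)
    [IsAffineHom f] (t : U.toScheme ⟶ Y) (ht : t ≫ f = U.ι) :
    ∃! s : X ⟶ Y, s ≫ f = 𝟙 X ∧ U.ι ≫ s = t := by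
  haveI := isSchemeTheoreticallyDominant_ι U hZ.depthOne
  have huniq : ∀ {O : X.Opens} (s₁ s₂ : O.toScheme ⟶ Y), s₁ ≫ f = O.ι → s₂ ≫ f = O.ι →
      pullback.snd U.ι O.ι ≫ s₁ = pullback.snd U.ι O.ι ≫ s₂ → s₁ = s₂ := fun s₁ s₂ h₁ h₂ h =>
    ext_of_isSchemeTheoreticallyDominant f (h₁.trans h₂.symm) _ h
  have hloc : ∀ V : X.affineOpens, ∃ s : V.1.toScheme ⟶ Y, s ≫ f = V.1.ι ∧
      pullback.snd U.ι V.1.ι ≫ s = pullback.fst U.ι V.1.ι ≫ t := by
    rintro ⟨V, hV⟩
    let j := pullback.snd U.ι V.ι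
    have himg : j.opensRange = V.ι ⁻¹ᵁ U := by
      ext p
      show p ∈ Set.range j ↔ _
      rw [IsOpenImmersion.range_pullbackSnd, Scheme.Opens.opensRange_ι]
    have hbij : Function.Bijective (V.ι ⁻¹ᵁ U).ι.appTop := by
      have eV : V.ι ''ᵁ ⊤ = V := by simp [Scheme.Hom.image_top_eq_opensRange]
      have eU : V.ι ''ᵁ ((V.ι ⁻¹ᵁ U).ι ''ᵁ ⊤) = U ⊓ V := by
        simp [Scheme.Hom.image_top_eq_opensRange, Scheme.Hom.image_preimage_eq_opensRange_inf, inf_comm]
      rw [Scheme.Opens.ι_appTop, Scheme.Opens.toScheme_presheaf_map]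
      exact bijective_map_of_eq _ eV eU inf_le_right
        ⟨fun a b h => res_injective hZ.depthOne h, fun b => exists_extend hZ hV b⟩
    let e := Scheme.Hom.isoOpensRange j ≪≫ V.toScheme.isoOfEq himg
    have he : e.hom ≫ (V.ι ⁻¹ᵁ U).ι = j := by simp [e]
    haveI : IsAffine (f ⁻¹ᵁ V).toScheme := hV.preimage f
    let t' : (V.ι ⁻¹ᵁ U).toScheme ⟶ (f ⁻¹ᵁ V).toScheme :=
      IsOpenImmersion.lift (f ⁻¹ᵁ V).ι (e.inv ≫ pullback.fst U.ι V.ι ≫ t) (by
        rintro _ ⟨p, rfl⟩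
        rw [Scheme.Opens.range_ι]
        show f _ ∈ V
        rw [← Scheme.Hom.comp_apply, Category.assoc, Category.assoc, ht, pullback.condition,
          Scheme.Hom.comp_apply]
        exact ((e.inv ≫ pullback.snd U.ι V.ι) p).2)
    obtain ⟨s, hs⟩ := exists_factor_of_bijective_appTop _ hbij t'
    have hs' : j ≫ s ≫ (f ⁻¹ᵁ V).ι = pullback.fst U.ι V.ι ≫ t := by
      rw [← he, Category.assoc, reassoc_of% hs, IsOpenImmersion.lift_fac, Iso.hom_inv_id_assoc]
    refine ⟨s ≫ (f ⁻¹ᵁ V).ι, ?_, hs'⟩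
    haveI : IsAffine V.toScheme := hV
    suffices s ≫ (f ∣_ V) = 𝟙 _ by
      rw [Category.assoc, ← morphismRestrict_ι, ← Category.assoc, this, Category.id_comp]
    refine ext_of_isSchemeTheoreticallyDominant (terminal.from _) (terminal.hom_ext _ _) j ?_
    rw [← cancel_mono V.ι]
    simp only [Category.assoc, Category.id_comp, morphismRestrict_ι]
    rw [reassoc_of% hs', ht, pullback.condition]
  choose s hs hs' using hloc
  let 𝒰 := X.openCoverOfIsOpenCover (fun V : X.affineOpens => V.1) (iSup_affineOpens_eq_top X)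
  have hcompat : ∀ V V' : X.affineOpens, pullback.fst V.1.ι V'.1.ι ≫ s V = pullback.snd V.1.ι V'.1.ι ≫ s V' := by
    intro V V'
    let π := pullback.fst V.1.ι V'.1.ι ≫ V.1.ι
    refine ext_of_isSchemeTheoreticallyDominant f ?_ (pullback.snd U.ι π) ?_
    · simp only [Category.assoc, hs, pullback.condition]
    · let m : pullback U.ι π ⟶ pullback U.ι V.1.ι := pullback.lift (pullback.fst _ _)
        (pullback.snd _ _ ≫ pullback.fst _ _) (by rw [pullback.condition, Category.assoc])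
      let m' : pullback U.ι π ⟶ pullback U.ι V'.1.ι := pullback.lift (pullback.fst _ _)
        (pullback.snd _ _ ≫ pullback.snd _ _) (by
          simp only [π, pullback.condition, Category.assoc])
      have h1 := congrArg (m ≫ ·) (hs' V)
      have h2 := congrArg (m' ≫ ·) (hs' V')
      simp only [m, m', pullback.lift_fst_assoc, pullback.lift_snd_assoc, Category.assoc] at h1 h2
      exact h1.trans h2.symm
  let σ : X ⟶ Y := 𝒰.glueMorphisms s hcompat
  have hσ : ∀ V : X.affineOpens, V.1.ι ≫ σ = s V := fun V => 𝒰.ι_glueMorphisms s hcompat V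
  have hσf : σ ≫ f = 𝟙 X := 𝒰.hom_ext _ _ fun V => by
    show V.1.ι ≫ σ ≫ f = V.1.ι ≫ 𝟙 X
    rw [← Category.assoc, hσ, hs, Category.comp_id]
  have hσt : U.ι ≫ σ = t := by
    refine Scheme.Cover.hom_ext (𝒰.pullback₁ U.ι) _ _ fun V => ?_
    show pullback.fst U.ι V.1.ι ≫ U.ι ≫ σ = pullback.fst U.ι V.1.ι ≫ t
    rw [← hs' V, pullback.condition_assoc, hσ]
  exact ⟨σ, ⟨hσf, hσt⟩, fun σ' h => ext_of_isSchemeTheoreticallyDominant f (h.1.trans hσf.symm) U.ι
    (h.2.trans hσt.symm)⟩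

end Groth.Agent.FlatMor12.RegularExtend
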