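import Mathlib

/-! A flat, formally unramified algebra of finite type is formally étale. -/

set_option backward.isDefEq.respectTransparency false

open TensorProduct

namespace Groth.Agent.FlatMor12

variable (A B : Type*) [CommRing A] [CommRing B] [Algebra A B]

section

attribute [local instance] Algebra.TensorProduct.rightAlgebra

theorem tensorH1CotangentOfFlat_tmul_smul (T : Type*) [CommRing T] [Algebra A T] [Module.Flat A T]
    (a : T) (c : B) (h : Algebra.H1Cotangent A B) :
    Algebra.tensorH1CotangentOfFlat A B T (a ⊗ₜ (c • h)) =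
      (a ⊗ₜ[A] c) • Algebra.tensorH1CotangentOfFlat A B T ((1 : T) ⊗ₜ h) := by
  rw [Algebra.tensorH1CotangentOfFlat_tmul, Algebra.tensorH1CotangentOfFlat_tmul, one_smul,
    LinearMap.map_smul, ← IsScalarTower.algebraMap_smul (T ⊗[A] B) c,
    ← IsScalarTower.algebraMap_smul (T ⊗[A] B) a, smul_smul]
  congr 1
  simp [RingHom.algebraMap_toAlgebra]

end

theorem subsingleton_h1Cotangent_of_flat_unramified [Module.Flat A B]
    [Algebra.FormallyUnramified A B] [Algebra.EssFiniteType A B] :
    Subsingleton (Algebra.H1Cotangent A B) := by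
  obtain ⟨t, ht, ht1⟩ := Algebra.FormallyUnramified.iff_exists_tensorProduct.1
    (inferInstance : Algebra.FormallyUnramified A B)
  have hz : ∀ z : B ⊗[A] B, t * z = t * ((1 : B) ⊗ₜ[A] Algebra.TensorProduct.lmul' A z) := by
    intro z
    induction z using TensorProduct.induction_on with
    | zero => simp
    | tmul a b =>
      have h := ht a
      rw [sub_mul, sub_eq_zero] at h
      calc t * (a ⊗ₜ[A] b) = ((a ⊗ₜ[A] (1 : B)) * t) * ((1 : B) ⊗ₜ[A] b) := by
            rw [mul_comm _ t, mul_assoc, Algebra.TensorProduct.tmul_mul_tmul, mul_one, one_mul]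
        _ = ((1 : B) ⊗ₜ[A] a * t) * ((1 : B) ⊗ₜ[A] b) := by rw [h]
        _ = _ := by
            rw [mul_comm _ t, mul_assoc, Algebra.TensorProduct.tmul_mul_tmul, mul_one,
              Algebra.TensorProduct.lmul'_apply_tmul]
    | add x y hx hy => rw [mul_add, hx, hy, map_add, TensorProduct.tmul_add, mul_add]
  have hidem : IsIdempotentElem t := by
    have h := hz t
    rwa [ht1, ← Algebra.TensorProduct.one_def, mul_one] at h
  let : Algebra (B ⊗[A] B) B := (Algebra.TensorProduct.lmul' A).toRingHom.toAlgebra
  have : IsScalarTower B (B ⊗[A] B) B := ⟨fun b z x => by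
    change Algebra.TensorProduct.lmul' A (b • z) * x = b * (Algebra.TensorProduct.lmul' A z * x)
    rw [← mul_assoc]
    congr 1
    induction z using TensorProduct.induction_on with
    | zero => simp
    | tmul p q => simp [TensorProduct.smul_tmul', mul_assoc]
    | add p q hp hq => rw [smul_add, map_add, hp, hq, map_add, mul_add]⟩
  have : IsLocalization.Away t B :=
    IsLocalization.away_of_isIdempotentElem_of_mul hidem (fun x y => by
      constructor
      · intro h
        change Algebra.TensorProduct.lmul' A x = Algebra.TensorProduct.lmul' A y at h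
        rw [hz x, hz y, h]
      · intro h
        have := congr(Algebra.TensorProduct.lmul' A $h)
        rw [map_mul, map_mul, ht1, one_mul, one_mul] at this
        exact this)
      (fun b => ⟨(1 : B) ⊗ₜ[A] b, by simp [RingHom.algebraMap_toAlgebra]⟩)
  have : Algebra.FormallyEtale B B := inferInstance
  have : Subsingleton (Algebra.H1Cotangent B B) := inferInstance
  have hkill : ∀ y : Algebra.H1Cotangent B (B ⊗[A] B), t • y = 0 := by
    intro y
    obtain ⟨⟨_, n, rfl⟩, hc⟩ := (IsLocalizedModule.eq_zero_iff (.powers t)
      (Algebra.H1Cotangent.map B B (B ⊗[A] B) B)).1 (Subsingleton.elim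
        (Algebra.H1Cotangent.map B B (B ⊗[A] B) B y) 0)
    rcases n with _ | n
    · simp only [Submonoid.smul_def, pow_zero, one_smul] at hc
      rw [hc, smul_zero]
    · simpa [Submonoid.smul_def, hidem.pow_succ_eq] using hc
  refine subsingleton_of_forall_eq 0 fun h => ?_
  let f := Algebra.tensorH1CotangentOfFlat A B B
  let act : B ⊗[A] B →ₗ[A] B ⊗[A] Algebra.H1Cotangent A B :=
    LinearMap.lTensor B ((LinearMap.toSpanSingleton B _ h).restrictScalars A)
  have hact : ∀ z, f (act z) = z • f ((1 : B) ⊗ₜ h) := by
    intro z
    induction z using TensorProduct.induction_on with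
    | zero => simp
    | tmul b c => exact tensorH1CotangentOfFlat_tmul_smul A B B b c h
    | add x y hx hy => rw [map_add, map_add, hx, hy, add_smul]
  have h0 : act t = 0 := f.injective (by rw [hact, hkill, map_zero])
  let μ : B ⊗[A] Algebra.H1Cotangent A B →ₗ[A] Algebra.H1Cotangent A B :=
    TensorProduct.lift ((LinearMap.lsmul B (Algebra.H1Cotangent A B)).restrictScalars₁₂ A A)
  have hμ : ∀ z, μ (act z) = Algebra.TensorProduct.lmul' A z • h := by
    intro z
    induction z using TensorProduct.induction_on with
    | zero => simp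
    | tmul b c =>
      change b • (c • h) = _
      rw [smul_smul, Algebra.TensorProduct.lmul'_apply_tmul]
    | add x y hx hy => rw [map_add, map_add, hx, hy, map_add, add_smul]
  have := hμ t
  rw [h0, map_zero, ht1, one_smul] at this
  exact this.symm

theorem formallyEtale_of_flat_unramified [Module.Flat A B]
    [Algebra.FormallyUnramified A B] [Algebra.EssFiniteType A B] :
    Algebra.FormallyEtale A B := by
  exact ⟨inferInstance, subsingleton_h1Cotangent_of_flat_unramified A B⟩

end Groth.Agent.FlatMor12
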