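import Groth.Prelude.Def_DerSch
import Groth.Prelude.Def_FlatMod2
import Groth.Agent.Props12.FinLocFree
import Groth.Agent.FlatMor12.FlatFun.GenPts
import Groth.Agent.ModStalk.Pullback
import Groth.Agent.Coherent.FiniteType
import Groth.Agent.Coherent.SupportPullback
import Groth.Agent.H8Lim.ModEq
import Groth.Agent.FlatMor12.FlatFun.Stage
import Groth.Agent.Coherent.CohBC.HomSheaf
import Mathlib.RingTheory.LocalRing.Module

/-!
# Locally split monomorphisms are detected on fibres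
-/

set_option autoImplicit false
set_option linter.style.haveILetI false
set_option backward.isDefEq.respectTransparency false
set_option maxHeartbeats 1000000

universe u

open CategoryTheory CategoryTheory.Limits AlgebraicGeometry Opposite TopologicalSpace TensorProduct
open Groth.Agent.Coherent Groth.Agent.PicLib Groth.Agent.CAlgH3.LocFreeFactor

namespace Groth.Agent.FlatMor12.SplitFibres

variable {X Y Z : Scheme.{u}} {F V : X.Modules} (u : F ⟶ V)

/-- `h^* u` is split injective near `z`. -/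
def LS (h : Z ⟶ X) (z : Z) : Prop :=
  ∃ U : Z.Opens, z ∈ U ∧ IsSplitMono ((Scheme.Modules.pullback (U.ι ≫ h)).map u)

theorem split_congr {C D : Type*} [Category C] [Category D] {P Q : C ⥤ D} (α : P ≅ Q) {A B : C} (g : A ⟶ B)
    (h : IsSplitMono (P.map g)) : IsSplitMono (Q.map g) :=
  ⟨⟨{ retraction := α.inv.app B ≫ retraction (P.map g) ≫ α.hom.app A
      id := by
        rw [← Category.assoc, α.inv.naturality, Category.assoc, IsSplitMono.id_assoc, Iso.inv_hom_id_app] }⟩⟩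

theorem split_comp (h : Y ⟶ X) (k : Z ⟶ Y) (hs : IsSplitMono ((Scheme.Modules.pullback h).map u)) :
    IsSplitMono ((Scheme.Modules.pullback (k ≫ h)).map u) :=
  haveI : IsSplitMono ((Scheme.Modules.pullback h ⋙ Scheme.Modules.pullback k).map u) :=
    inferInstanceAs (IsSplitMono ((Scheme.Modules.pullback k).map ((Scheme.Modules.pullback h).map u)))
  split_congr (Scheme.Modules.pullbackComp k h) u inferInstance

theorem ls_of_split (hX : ∀ x : X, ∃ U : X.Opens, x ∈ U ∧ IsSplitMono ((Scheme.Modules.pullback U.ι).map u))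
    (h : Z ⟶ X) (z : Z) : LS u h z := by
  obtain ⟨U, hU, hs⟩ := hX (h z)
  refine ⟨h ⁻¹ᵁ U, hU, ?_⟩
  rw [← morphismRestrict_ι]
  exact split_comp u U.ι (h ∣_ U) hs

theorem ls_iff (h : Z ⟶ X) (z : Z) : LS u h z ↔ ∃ U : Z.Opens, z ∈ U ∧
    ∃ r, (Scheme.Modules.pullback U.ι).map ((Scheme.Modules.pullback h).map u) ≫ r = 𝟙 _ := by
  refine ⟨fun ⟨U, hU, hs⟩ => ?_, fun ⟨U, hU, r, hr⟩ => ⟨U, hU, ?_⟩⟩
  · have := split_congr (Scheme.Modules.pullbackComp U.ι h).symm u hs
    exact ⟨U, hU, @retraction _ _ _ _ _ this, @IsSplitMono.id _ _ _ _ _ this⟩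
  · exact split_congr (Scheme.Modules.pullbackComp U.ι h) u (IsSplitMono.mk' ⟨r, hr⟩)

/-- A split injection after extension of scalars along a local homomorphism is injective modulo the maximal ideal. -/
theorem injective_residue {R S M N : Type u} [CommRing R] [IsLocalRing R] [CommRing S] [IsLocalRing S]
    [Algebra R S] [IsLocalHom (algebraMap R S)] [AddCommGroup M] [Module R M] [AddCommGroup N] [Module R N]
    (ψ : M →ₗ[R] N) (σ : S ⊗[R] N →ₗ[S] S ⊗[R] M) (hσ : ∀ m, σ (1 ⊗ₜ ψ m) = 1 ⊗ₜ m) :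
    Function.Injective (ψ.lTensor (IsLocalRing.ResidueField R)) := by
  let κ := IsLocalRing.ResidueField R
  let κ' := IsLocalRing.ResidueField S
  let cN := AlgebraTensorModule.cancelBaseChange R S S κ' N
  let cM := AlgebraTensorModule.cancelBaseChange R S S κ' M
  let τ : κ' ⊗[R] N →ₗ[S] κ' ⊗[R] M := cM.toLinearMap ∘ₗ σ.lTensor κ' ∘ₗ cN.symm.toLinearMap
  have hτ : ∀ t, τ (ψ.lTensor κ' t) = t := fun t => by
    induction t using TensorProduct.induction_on with
    | zero => simp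
    | add a b ha hb => rw [map_add, map_add, ha, hb]
    | tmul a m =>
      show cM (σ.lTensor κ' (cN.symm (a ⊗ₜ ψ m))) = a ⊗ₜ m
      rw [AlgebraTensorModule.cancelBaseChange_symm_tmul, LinearMap.lTensor_tmul, hσ,
        AlgebraTensorModule.cancelBaseChange_tmul, one_smul]
  let j : κ →ₗ[R] κ' := (Algebra.linearMap κ κ').restrictScalars R
  obtain ⟨l, hl⟩ := (Algebra.linearMap κ κ').exists_leftInverse_of_injective
    (LinearMap.ker_eq_bot.2 (algebraMap κ κ').injective)
  have hj : Function.Injective (j.rTensor M) := by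
    refine Function.LeftInverse.injective (g := (l.restrictScalars R).rTensor M) fun t => ?_
    rw [← LinearMap.comp_apply, ← LinearMap.rTensor_comp,
      show l.restrictScalars R ∘ₗ j = LinearMap.id from LinearMap.ext fun a => LinearMap.congr_fun hl a,
      LinearMap.rTensor_id, LinearMap.id_apply]
  refine fun a b hab => hj ((hτ _).symm.trans (Eq.trans ?_ (hτ _)))
  congr 1
  rw [← LinearMap.comp_apply, ← LinearMap.comp_apply, LinearMap.lTensor_comp_rTensor,
    ← LinearMap.rTensor_comp_lTensor, LinearMap.comp_apply, LinearMap.comp_apply, hab]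

/-- Splitting after inverse image makes the stalk map injective modulo the maximal ideal. -/
theorem injective_stalk (h : Z ⟶ X) (z : Z) (hs : LS u h z) :
    Function.Injective ((((DerSch.stalkFunctor X (h z)).map u).hom).lTensor
      (IsLocalRing.ResidueField (X.presheaf.stalk (h z)))) := by
  obtain ⟨U, hz, hU⟩ := hs
  let g := U.ι ≫ h
  let w : U.toScheme := ⟨z, hz⟩
  have h2 : IsSplitMono ((DerSch.stalkFunctor X (g w) ⋙ ModuleCat.extendScalars (g.stalkMap w).hom).map u) :=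
    haveI : IsSplitMono ((Scheme.Modules.pullback g ⋙ DerSch.stalkFunctor _ w).map u) :=
      inferInstanceAs (IsSplitMono ((DerSch.stalkFunctor _ w).map ((Scheme.Modules.pullback g).map u)))
    split_congr (ModStalk.pullbackStalkIso g w) u inferInstance
  obtain ⟨⟨r, hr⟩⟩ := h2
  algebraize [(g.stalkMap w).hom]
  haveI : IsLocalHom (algebraMap (X.presheaf.stalk (g w)) (U.toScheme.presheaf.stalk w)) :=
    inferInstanceAs (IsLocalHom (g.stalkMap w).hom)
  exact injective_residue ((DerSch.stalkFunctor X (g w)).map u).hom r.hom fun m =>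
    ConcreteCategory.congr_hom hr ((1 : U.toScheme.presheaf.stalk w) ⊗ₜ m)

/-- A basis of global sections prescribes morphisms out of a module on an affine scheme. -/
theorem exists_hom_of_basis [IsAffine X] (M N : X.Modules) [Coh.IsQCoh M] {n : ℕ}
    (b : Module.Basis (Fin n) Γ(X, ⊤) Γ(M, ⊤)) (m : Fin n → Γ(N, ⊤)) :
    ∃ r : M ⟶ N, ∀ i, r.app ⊤ (b i) = m i := by
  classical
  let b' := b.reindex (Equiv.ulift.{u}.symm)
  let φ := freeDesc fun i => unitDesc M (b' i)
  let φ' := freeDesc fun i : ULift.{u} (Fin n) => unitDesc N (m i.down)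
  have := isQCoh_freeMod (X := X) (I := ULift.{u} (Fin n))
  have hval : ∀ (P : X.Modules) (c : ULift.{u} (Fin n) → Γ(P, ⊤)) (a : Γ(Coherent.freeMod X (ULift.{u} (Fin n)), ⊤)),
      (freeDesc fun i => unitDesc P (c i)).app ⊤ a = ∑ i, freeSectionsEquiv ⊤ a i • c i := fun P c a => by
    rw [freeMod_app]
    refine Finset.sum_congr rfl fun i _ => ?_
    rw [freeInj_freeDesc, unitVal_unitDesc]
    exact congrArg _ (ConcreteCategory.congr_hom (P.presheaf.map_id _) _)
  have hφ : ∀ a, φ.app ⊤ a = b'.equivFun.symm (freeSectionsEquiv ⊤ a) := fun a =>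
    (hval M _ a).trans (b'.equivFun_symm_apply _).symm
  have : IsIso φ := Props12.isIso_of_bijective_top φ (by
    rw [show ⇑(φ.app ⊤) = _ from funext hφ]
    exact b'.equivFun.symm.bijective.comp (freeSectionsEquiv ⊤).bijective)
  refine ⟨inv φ ≫ φ', fun i => ?_⟩
  let a := (freeSectionsEquiv (X := X) (I := ULift.{u} (Fin n)) ⊤).symm (b'.equivFun (b i))
  have ha : φ.app ⊤ a = b i := by rw [hφ, LinearEquiv.apply_symm_apply, LinearEquiv.symm_apply_apply]
  rw [← ha]
  show φ'.app ⊤ ((inv φ).app ⊤ (φ.app ⊤ a)) = m i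
  rw [show (inv φ).app ⊤ (φ.app ⊤ a) = a from
    ConcreteCategory.congr_hom (congrArg (fun t => t.app ⊤) (IsIso.hom_inv_id φ)) a, hval,
    LinearEquiv.apply_symm_apply, Finset.sum_eq_single (ULift.up i)]
  · rw [show b i = b' (ULift.up i) from by simp [b'], b'.equivFun_self, if_pos rfl, one_smul]
  · intro j _ hj
    rw [show b i = b' (ULift.up i) from by simp [b'], b'.equivFun_self, if_neg (Ne.symm hj), zero_smul]
  · exact fun hi => (hi (Finset.mem_univ _)).elim

/-- On an affine scheme, injectivity modulo the maximal ideal gives a splitting nearby. -/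
theorem exists_split_affine [IsAffine X] [Coh.IsQCoh F] [Coh.IsQCoh V] (hF : CohB1.IsFT F) {n : ℕ}
    (b : Module.Basis (Fin n) Γ(X, ⊤) Γ(V, ⊤)) (x : X)
    (hx : Function.Injective ((((DerSch.stalkFunctor X x).map u).hom).lTensor
      (IsLocalRing.ResidueField (X.presheaf.stalk x)))) :
    ∃ U : X.Opens, x ∈ U ∧ IsSplitMono ((Scheme.Modules.pullback U.ι).map u) := by
  classical
  have hT := isAffineOpen_top X
  let A := X.presheaf.stalk x
  let _ := (X.presheaf.germ ⊤ x trivial).hom.toAlgebra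
  let _ := Module.compHom (F.presheaf.stalk x) (X.presheaf.germ ⊤ x trivial).hom
  let _ := Module.compHom (V.presheaf.stalk x) (X.presheaf.germ ⊤ x trivial).hom
  haveI : IsScalarTower Γ(X, ⊤) A (F.presheaf.stalk x) := .of_algebraMap_smul fun _ _ => rfl
  haveI : IsScalarTower Γ(X, ⊤) A (V.presheaf.stalk x) := .of_algebraMap_smul fun _ _ => rfl
  let gF : Γ(F, ⊤) →ₗ[Γ(X, ⊤)] F.presheaf.stalk x :=
    { toFun := F.presheaf.germ ⊤ x trivial
      map_add' := map_add _
      map_smul' := fun r m => QCohLoc.germ_smul' (M := F) (show _ ∈ (⊤ : X.Opens) from trivial) r m }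
  let gV : Γ(V, ⊤) →ₗ[Γ(X, ⊤)] V.presheaf.stalk x :=
    { toFun := V.presheaf.germ ⊤ x trivial
      map_add' := map_add _
      map_smul' := fun r m => QCohLoc.germ_smul' (M := V) (show _ ∈ (⊤ : X.Opens) from trivial) r m }
  let P := (hT.primeIdealOf ⟨x, trivial⟩).asIdeal
  haveI := EGA43.QcohFP.isLocalizedModule_germ F hT (show x ∈ (⊤ : X.Opens) from trivial) gF fun _ => rfl
  haveI := EGA43.QcohFP.isLocalizedModule_germ V hT (show x ∈ (⊤ : X.Opens) from trivial) gV fun _ => rfl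
  haveI : IsLocalization P.primeCompl A := hT.isLocalization_stalk ⟨x, trivial⟩
  haveI : Module.Finite Γ(X, ⊤) Γ(F, ⊤) := H8Lim.finite_sections_of_isFT hF hT
  haveI : Module.Finite A (F.presheaf.stalk x) := Module.Finite.of_isLocalizedModule P.primeCompl (Rₚ := A) gF
  let bs := b.ofIsLocalizedModule A P.primeCompl gV
  haveI : Module.Free A (V.presheaf.stalk x) := .of_basis bs
  haveI : Module.Finite A (V.presheaf.stalk x) := .of_basis bs
  let ψ : F.presheaf.stalk x →ₗ[A] V.presheaf.stalk x := ((DerSch.stalkFunctor X x).map u).hom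
  obtain ⟨ρ, hρ⟩ := (IsLocalRing.split_injective_iff_lTensor_residueField_injective ψ).2 hx
  obtain ⟨s, hs⟩ := IsLocalizedModule.exist_integer_multiples_of_finite (S := P.primeCompl) (f := gF)
    fun i => ρ (gV (b i))
  choose m hm using hs
  obtain ⟨r, hr⟩ := exists_hom_of_basis V F b m
  let lu : Γ(F, ⊤) →ₗ[Γ(X, ⊤)] Γ(V, ⊤) :=
    { toFun := u.app ⊤, map_add' := map_add _, map_smul' := fun a m => Scheme.Modules.Hom.app_smul u a m }
  let lr : Γ(V, ⊤) →ₗ[Γ(X, ⊤)] Γ(F, ⊤) :=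
    { toFun := r.app ⊤, map_add' := map_add _, map_smul' := fun a m => Scheme.Modules.Hom.app_smul r a m }
  have h1 : gF ∘ₗ lr = (s : Γ(X, ⊤)) • ((ρ.restrictScalars Γ(X, ⊤)) ∘ₗ gV) := b.ext fun i => by
    show gF (r.app ⊤ (b i)) = _
    rw [hr]
    exact hm i
  have key : ∀ f : Γ(F, ⊤), gF (lr (lu f)) = gF ((s : Γ(X, ⊤)) • f) := fun f => by
    rw [map_smul, show gF (lr (lu f)) = _ from LinearMap.congr_fun h1 (lu f)]
    show (s : Γ(X, ⊤)) • ρ (gV (u.app ⊤ f)) = _
    refine congrArg ((s : Γ(X, ⊤)) • ·) ?_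
    rw [show gV (u.app ⊤ f) = ψ (gF f) from (DerSch.stalkFunctor_map_germ x u ⊤ trivial f).symm]
    exact LinearMap.congr_fun hρ _
  -- one multiplier works for all sections
  obtain ⟨G, hG⟩ := Module.Finite.fg_top (R := Γ(X, ⊤)) (M := Γ(F, ⊤))
  choose c hc using fun f : Γ(F, ⊤) => (IsLocalizedModule.eq_iff_exists P.primeCompl gF).1 (key f)
  let t : P.primeCompl := ∏ f ∈ G, c f
  have ht : ∀ f : Γ(F, ⊤), (t : Γ(X, ⊤)) • lr (lu f) = (t : Γ(X, ⊤)) • ((s : Γ(X, ⊤)) • f) := by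
    suffices h : Set.EqOn ⇑((t : Γ(X, ⊤)) • (lr ∘ₗ lu)) ⇑((t : Γ(X, ⊤)) • ((s : Γ(X, ⊤)) • (LinearMap.id : Γ(F, ⊤) →ₗ[Γ(X, ⊤)] Γ(F, ⊤)))) G from
      fun f => LinearMap.congr_fun (show (t : Γ(X, ⊤)) • (lr ∘ₗ lu) = (t : Γ(X, ⊤)) • ((s : Γ(X, ⊤)) • LinearMap.id) from LinearMap.ext_on hG h) f
    intro f hf
    obtain ⟨d, hd⟩ : (c f : Γ(X, ⊤)) ∣ (t : Γ(X, ⊤)) :=
      map_dvd P.primeCompl.subtype (Finset.dvd_prod_of_mem c hf)
    show (t : Γ(X, ⊤)) • lr (lu f) = (t : Γ(X, ⊤)) • ((s : Γ(X, ⊤)) • f)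
    rw [hd, mul_comm, mul_smul, mul_smul]
    exact congrArg _ (hc f)
  let U := X.basicOpen ((t : Γ(X, ⊤)) * (s : Γ(X, ⊤)))
  refine ⟨U, ?_, ?_⟩
  · rw [Scheme.mem_basicOpen _ _ _ (show x ∈ (⊤ : X.Opens) from trivial)]
    exact IsLocalization.map_units (M := P.primeCompl) A (t * s)
  haveI : IsIso ((Scheme.Modules.pullback U.ι).map (u ≫ r)) := FlatFun.Kind.glob_of_stalks .bij _ fun w => by
    refine FlatFun.Kind.stalk_pullback .bij U.ι (u ≫ r) w ?_
    have hw : IsUnit (X.presheaf.germ ⊤ (U.ι w) trivial ((t : Γ(X, ⊤)) * (s : Γ(X, ⊤)))) :=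
      (Scheme.mem_basicOpen X _ (U.ι w) (show U.ι w ∈ (⊤ : X.Opens) from trivial)).1 w.2
    generalize U.ι w = y at hw ⊢
    rw [map_mul, IsUnit.mul_iff] at hw
    let _ := (X.presheaf.germ ⊤ y trivial).hom.toAlgebra
    let _ := Module.compHom (F.presheaf.stalk y) (X.presheaf.germ ⊤ y trivial).hom
    haveI : IsScalarTower Γ(X, ⊤) (X.presheaf.stalk y) (F.presheaf.stalk y) := .of_algebraMap_smul fun _ _ => rfl
    let gy : Γ(F, ⊤) →ₗ[Γ(X, ⊤)] F.presheaf.stalk y :=
      { toFun := F.presheaf.germ ⊤ y trivial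
        map_add' := map_add _
        map_smul' := fun r m => QCohLoc.germ_smul' (M := F) (show _ ∈ (⊤ : X.Opens) from trivial) r m }
    haveI := EGA43.QcohFP.isLocalizedModule_germ F hT (show y ∈ (⊤ : X.Opens) from trivial) gy fun _ => rfl
    let h : F.presheaf.stalk y →ₗ[X.presheaf.stalk y] F.presheaf.stalk y :=
      ((DerSch.stalkFunctor X y).map (u ≫ r)).hom
    let sy := X.presheaf.germ ⊤ y trivial (s : Γ(X, ⊤))
    have hh : h.restrictScalars Γ(X, ⊤) = (s : Γ(X, ⊤)) • LinearMap.id :=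
      IsLocalizedModule.ext (hT.primeIdealOf ⟨y, trivial⟩).asIdeal.primeCompl gy
        (IsLocalizedModule.map_units gy) (LinearMap.ext fun f => hw.1.smul_left_cancel.1 ?_)
    · show Function.Bijective h
      rw [show ⇑h = fun v => sy • v from funext fun v => LinearMap.congr_fun hh v]
      exact hw.2.smul_bijective
    · show X.presheaf.germ ⊤ y trivial (t : Γ(X, ⊤)) • h (gy f) =
        X.presheaf.germ ⊤ y trivial (t : Γ(X, ⊤)) • ((s : Γ(X, ⊤)) • gy f)
      have e : h (gy f) = gy (lr (lu f)) := DerSch.stalkFunctor_map_germ y (u ≫ r) ⊤ trivial f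
      rw [e, ← gy.map_smul (s : Γ(X, ⊤))]
      exact (gy.map_smul _ _).symm.trans ((congrArg gy (ht f)).trans (gy.map_smul _ _))
  exact IsSplitMono.mk'
    { retraction := (Scheme.Modules.pullback U.ι).map r ≫ inv ((Scheme.Modules.pullback U.ι).map (u ≫ r))
      id := by rw [← Category.assoc, ← Functor.map_comp, IsIso.hom_inv_id] }

/-- Splitting after inverse image along a map hitting a point gives a splitting near the point. -/
theorem exists_split [Coh.IsQCoh F] (hF : CohB1.IsFT F) (hV : FlatMod.IsFinLocFree V) (h : Z ⟶ X) (z : Z)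
    (hs : LS u h z) : ∃ U : X.Opens, h z ∈ U ∧ IsSplitMono ((Scheme.Modules.pullback U.ι).map u) := by
  obtain ⟨U₁, n, hx, ⟨e⟩⟩ := hV (h z)
  obtain ⟨W, hW, hxW, hWU⟩ := Opens.isBasis_iff_nbhd.mp X.isBasis_affineOpens hx
  let Y : X.Opens := W
  haveI : IsAffine Y.toScheme := hW
  haveI := isQCoh_of_finLocFree hV
  haveI := EGA43.InjFibre.isQCoh_pullback Y.ι F
  haveI := EGA43.InjFibre.isQCoh_pullback Y.ι V
  obtain ⟨U, hzU, hU⟩ := hs
  have hzY : z ∈ U ⊓ h ⁻¹ᵁ Y := ⟨hzU, hxW⟩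
  -- move the splitting over `Y`
  let Z' := h ⁻¹ᵁ Y
  let k : Z'.toScheme ⟶ Y.toScheme := h ∣_ Y
  let U' : Z'.toScheme.Opens := Z'.ι ⁻¹ᵁ U
  have hLS : LS ((Scheme.Modules.pullback Y.ι).map u) k ⟨z, hxW⟩ := by
    refine ⟨U', hzU, split_congr (Scheme.Modules.pullbackComp (U'.ι ≫ k) Y.ι).symm u ?_⟩
    have e : (U'.ι ≫ k) ≫ Y.ι = (Z'.ι ∣_ U) ≫ U.ι ≫ h := by
      rw [morphismRestrict_ι_assoc, Category.assoc, morphismRestrict_ι]
    rw [e]
    exact split_comp u (U.ι ≫ h) (Z'.ι ∣_ U) hU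
  obtain ⟨b⟩ := Props12.exists_basis_sections e hWU
  obtain ⟨b'⟩ := Props12.exists_basis_restrict_top V Y b
  let e₂ := (Scheme.Modules.restrictFunctorIsoPullback Y.ι).app V
  let l : Γ(V.restrict Y.ι, ⊤) ≃ₗ[Γ(Y.toScheme, ⊤)] Γ((Scheme.Modules.pullback Y.ι).obj V, ⊤) :=
    LinearEquiv.ofBijective
      { toFun := e₂.hom.app ⊤, map_add' := map_add _,
        map_smul' := fun a m => Scheme.Modules.Hom.app_smul e₂.hom a m }
      (ConcreteCategory.bijective_of_isIso (e₂.hom.app ⊤))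
  obtain ⟨U'', hU'', hsplit⟩ := exists_split_affine ((Scheme.Modules.pullback Y.ι).map u)
    (isFT_pullback_qcoh Y.ι ‹_› hF) (b'.map l) (k ⟨z, hxW⟩) (injective_stalk _ k ⟨z, hxW⟩ hLS)
  refine ⟨Y.ι ''ᵁ U'', ⟨_, hU'', ?_⟩, ?_⟩
  · show Y.ι (k ⟨z, hxW⟩) = h z
    rw [← Scheme.Hom.comp_apply, morphismRestrict_ι]
    rfl
  have := split_congr (Scheme.Modules.pullbackComp U''.ι Y.ι) u hsplit
  rw [← Scheme.Hom.isoImage_inv_ι Y.ι U'']
  exact split_comp u _ _ this

end Groth.Agent.FlatMor12.SplitFibres
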