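import Groth.Agent.FlatMor12.FibreFlat
import Groth.Agent.FlatMorWeight.Comp
import Mathlib.AlgebraicGeometry.Morphisms.FlatRank
import Mathlib.AlgebraicGeometry.ZariskisMainTheorem

/-! The locus of fibrewise isomorphism of a map from a proper flat scheme to a proper one. -/

universe u

set_option autoImplicit false
set_option backward.isDefEq.respectTransparency false

open AlgebraicGeometry CategoryTheory Limits TopologicalSpace

namespace Groth.Agent.FlatMor12

variable {X Y S : Scheme.{u}} (f : X ⟶ Y) (h : Y ⟶ S)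

theorem isIso_snd_iff_exists_fiberIso (g : X ⟶ S) (w : f ≫ h = g) (s : S) :
    IsIso (pullback.snd f (h.fiberι s)) ↔
      ∃ e : g.fiber s ≅ h.fiber s, e.hom ≫ h.fiberι s = g.fiberι s ≫ f := by
  subst w
  let E : pullback f (h.fiberι s) ≅ (f ≫ h).fiber s := pullbackRightPullbackFstIso h (S.fromSpecResidueField s) f
  have hfst : E.hom ≫ (f ≫ h).fiberι s = pullback.fst f (h.fiberι s) :=
    pullbackRightPullbackFstIso_hom_fst h (S.fromSpecResidueField s) f
  constructor
  · intro _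
    refine ⟨E.symm ≪≫ asIso (pullback.snd f (h.fiberι s)), ?_⟩
    rw [Iso.trans_hom, asIso_hom, Category.assoc, ← pullback.condition, ← Category.assoc]
    congr 1
    rw [Iso.symm_hom, Iso.inv_comp_eq, hfst]
  · rintro ⟨e, he⟩
    have : pullback.snd f (h.fiberι s) = E.hom ≫ e.hom := by
      rw [← cancel_mono (h.fiberι s), Category.assoc, he, ← pullback.condition, ← Category.assoc, hfst]
    rw [this]
    infer_instance

theorem isIso_snd_restrict (V : Y.Opens) {T : Scheme.{u}} (j : T ⟶ Y) (hj : ∀ t, j t ∈ V) :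
    ∃ j' : T ⟶ V.toScheme, j' ≫ V.ι = j ∧
      (IsIso (pullback.snd (f ∣_ V) j') ↔ IsIso (pullback.snd f j)) := by
  have hr : Set.range j ⊆ Set.range V.ι := by
    rintro _ ⟨t, rfl⟩; rw [V.range_ι]; exact hj t
  refine ⟨IsOpenImmersion.lift V.ι j hr, IsOpenImmersion.lift_fac _ _ _, ?_⟩
  have sq := (IsPullback.of_hasPullback (f ∣_ V) (IsOpenImmersion.lift V.ι j hr)).flip.paste_vert
    (isPullback_morphismRestrict f V)
  simp only [IsOpenImmersion.lift_fac] at sq
  rw [← sq.flip.isoPullback_hom_snd]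
  exact isIso_comp_left_iff _ _

variable [LocallyOfFinitePresentation f] in
theorem isOpen_etaleLocus :
    IsOpen {x : X | (f.stalkMap x).hom.Flat ∧ (f.stalkMap x).hom.FormallyUnramified} := by
  refine isOpen_iff_forall_mem_open.2 fun x hx => ?_
  obtain ⟨U, hxU, hU⟩ := (FlatLocal.etale_nhd_iff f x).2 hx
  exact ⟨U, fun y hy => (FlatLocal.etale_nhd_iff f y).1 ⟨U, hy, hU⟩, U.2, hxU⟩

theorem etale_morphismRestrict [LocallyOfFinitePresentation f] (V : Y.Opens)
    (hV : ∀ x, f x ∈ V → (f.stalkMap x).hom.Flat ∧ (f.stalkMap x).hom.FormallyUnramified) :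
    Etale (f ∣_ V) := by
  let W : X.Opens := ⟨_, isOpen_etaleLocus f⟩
  have : Etale (W.ι ≫ f) := by
    choose U hxU hU using fun x : W => (FlatLocal.etale_nhd_iff f x.1).2 x.2
    refine IsZariskiLocalAtSource.of_iSup_eq_top (P := @Etale) (fun x : W => W.ι ⁻¹ᵁ U x) ?_ fun x => ?_
    · exact Opens.ext (Set.eq_univ_of_forall fun x => by
        simp only [Opens.coe_iSup, Set.mem_iUnion]
        exact ⟨x, hxU x⟩)
    · have hr : Set.range ((W.ι ⁻¹ᵁ U x).ι ≫ W.ι) ⊆ Set.range (U x).ι := by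
        rintro _ ⟨y, rfl⟩; rw [(U x).range_ι]; exact y.2
      have := hU x
      rw [← Category.assoc, ← IsOpenImmersion.lift_fac (U x).ι _ hr, Category.assoc]
      have : IsOpenImmersion (IsOpenImmersion.lift (U x).ι _ hr) :=
        have : IsOpenImmersion (IsOpenImmersion.lift (U x).ι _ hr ≫ (U x).ι) := by
          rw [IsOpenImmersion.lift_fac]; infer_instance
        IsOpenImmersion.of_comp _ (U x).ι
      infer_instance
  have h2 : Etale ((f ∣_ V) ≫ V.ι) := by
    rw [morphismRestrict_ι, ← Scheme.homOfLE_ι X (U := f ⁻¹ᵁ V) (V := W) hV, Category.assoc]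
    infer_instance
  exact Etale.of_comp (f ∣_ V) V.ι

variable [IsProper (f ≫ h)] [LocallyOfFinitePresentation (f ≫ h)] [Flat (f ≫ h)]
  [IsProper h] [LocallyOfFinitePresentation h]

theorem etaleAt_of_isIso_fibre (x : X) (hiso : IsIso (pullback.snd f (h.fiberι (h (f x))))) :
    (f.stalkMap x).hom.Flat ∧ (f.stalkMap x).hom.FormallyUnramified := by
  have := lfp_of_comp f h
  refine ⟨(flat_stalkMap_of_fibre f h x (Flat.stalkMap (f ≫ h) x) inferInstance).1, ?_⟩
  let j : Spec (Y.residueField (f x)) ⟶ h.fiber (h (f x)) :=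
    pullback.lift (Y.fromSpecResidueField (f x)) (Spec.map (h.residueFieldMap (f x))) (by simp)
  have hj : j ≫ h.fiberι (h (f x)) = Y.fromSpecResidueField (f x) := pullback.lift_fst _ _ _
  have h1 : FormallyUnramified (pullback.snd f (j ≫ h.fiberι (h (f x)))) := by
    rw [← pullbackLeftPullbackSndIso_inv_snd_snd f (h.fiberι (h (f x))) j]
    infer_instance
  rw [hj] at h1
  have h2 : FormallyUnramified (f.fiberToSpecResidueField (f x)) := h1
  have : LocallyOfFiniteType (f.fiberToSpecResidueField (f x)) :=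
    MorphismProperty.pullback_snd _ _ inferInstance
  obtain ⟨x', hx'⟩ : ∃ x', f.fiberι (f x) x' = x := ⟨f.asFiber x, f.fiberι_asFiber x⟩
  obtain ⟨hi, hker⟩ := Props12.stalkMap_fiberι f (f x) x'
  have h3 := (FlatLocal.formallyUnramified_stalkMap_iff_of_square f (f.fiberToSpecResidueField (f x))
    (f.fiberι (f x)) (Y.fromSpecResidueField (f x)) (f.fiber_fac (f x)) x' hi
    (Scheme.Hom.stalkMap_surjective _ _) hker.le).2 (FormallyUnramified.stalkMap _ x')
  rwa [hx'] at h3

theorem exists_isOpen_fibreIso :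
    ∃ U : S.Opens, (∀ s, s ∈ U ↔ IsIso (pullback.snd f (h.fiberι s))) ∧ IsIso (f ∣_ (h ⁻¹ᵁ U)) := by
  have := lfp_of_comp f h
  have : IsProper f := IsProper.of_comp f h
  -- over an open with étale `f`
  have hfin : ∀ V : Y.Opens,
      (∀ x, f x ∈ V → (f.stalkMap x).hom.Flat ∧ (f.stalkMap x).hom.FormallyUnramified) →
        Flat (f ∣_ V) ∧ IsFinite (f ∣_ V) ∧ LocallyOfFinitePresentation (f ∣_ V) := fun V hV => by
    have := etale_morphismRestrict f V hV
    have : IsProper (f ∣_ V) := inferInstance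
    have := FlatMorWeight.locallyQuasiFinite_of_etale (f ∣_ V)
    exact ⟨inferInstance, IsFinite.of_isProper_of_locallyQuasiFinite _, inferInstance⟩
  -- rank one on fibres
  have hrank : ∀ (V : Y.Opens) [Flat (f ∣_ V)] [IsFinite (f ∣_ V)] (y : V.toScheme),
      IsIso (pullback.snd f (h.fiberι (h y.1))) → (∀ z, h z = h y.1 → z ∈ V) →
        Scheme.Hom.finrank (f ∣_ V) y = 1 := by
    intro V _ _ y hy hV
    obtain ⟨j', hj', hiso⟩ := isIso_snd_restrict f V (h.fiberι (h y.1))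
      fun t => hV _ ((h.range_fiberι (h y.1)).le ⟨t, rfl⟩)
    have := hiso.2 hy
    have hy' : j' (h.asFiber y.1) = y := by
      apply Subtype.ext
      show (j' ≫ V.ι) (h.asFiber y.1) = y.1
      rw [hj']
      exact h.fiberι_asFiber y.1
    rw [← hy', ← Scheme.Hom.finrank_pullback_snd, Scheme.Hom.finrank_eq_one_of_isIso]
    rfl
  let U₀ : Set S := {s | IsIso (pullback.snd f (h.fiberι s))}
  have het : ∀ x, h (f x) ∈ U₀ → (f.stalkMap x).hom.Flat ∧ (f.stalkMap x).hom.FormallyUnramified :=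
    fun x hx => etaleAt_of_isIso_fibre f h x hx
  have hopen : IsOpen U₀ := by
    refine isOpen_iff_forall_mem_open.2 fun s₀ hs₀ => ?_
    let C₁ : Set S := (f ≫ h) '' {x : X | (f.stalkMap x).hom.Flat ∧ (f.stalkMap x).hom.FormallyUnramified}ᶜ
    have hC₁ : IsClosed C₁ := (f ≫ h).isClosedMap _ (isOpen_etaleLocus f).isClosed_compl
    have hs₁ : s₀ ∉ C₁ := by rintro ⟨x, hx, rfl⟩; exact hx (het x hs₀)
    let V : Y.Opens := h ⁻¹ᵁ ⟨C₁ᶜ, hC₁.isOpen_compl⟩
    have hV : ∀ x, f x ∈ V → (f.stalkMap x).hom.Flat ∧ (f.stalkMap x).hom.FormallyUnramified :=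
      fun x hx => by_contra fun hne => hx ⟨x, hne, rfl⟩
    obtain ⟨hfl, hfi, hfp⟩ := hfin V hV
    let good : Set V.toScheme := {y | Scheme.Hom.finrank (f ∣_ V) y = 1}
    have hgood : IsOpen good :=
      (Scheme.Hom.isLocallyConstant_finrank (f ∣_ V)).isOpen_fiber 1
    let C₂ : Set S := h '' (V.ι '' good)ᶜ
    have hC₂ : IsClosed C₂ := h.isClosedMap _ (V.ι.isOpenEmbedding.isOpenMap _ hgood).isClosed_compl
    refine ⟨C₂ᶜ, fun s hs => ?_, hC₂.isOpen_compl, ?_⟩
    · show IsIso _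
      have hmem : ∀ t : h.fiber s, h.fiberι s t ∈ V.ι '' good := fun t =>
        by_contra fun hne => hs ⟨_, hne, (h.range_fiberι s).le ⟨t, rfl⟩⟩
      obtain ⟨j', hj', hiso⟩ := isIso_snd_restrict f V (h.fiberι s) fun t => by
        obtain ⟨y, -, hy⟩ := hmem t
        rw [← hy]; exact y.2
      rw [← hiso, Scheme.Hom.isIso_iff_finrank_eq]
      funext t
      rw [Scheme.Hom.finrank_pullback_snd]
      obtain ⟨y, hy, hyt⟩ := hmem t
      rw [← hj', Scheme.Hom.comp_apply] at hyt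
      rw [← V.ι.isOpenEmbedding.injective hyt]
      exact hy
    · rintro ⟨y, hy, rfl⟩
      exact hy ⟨⟨y, show h y ∈ C₁ᶜ from hs₁⟩, hrank V _ hs₀ fun z hz => (show h z ∈ C₁ᶜ from hz ▸ hs₁), rfl⟩
  refine ⟨⟨U₀, hopen⟩, fun s => Iff.rfl, ?_⟩
  obtain ⟨hfl, hfi, hfp⟩ := hfin (h ⁻¹ᵁ ⟨U₀, hopen⟩) fun x hx => het x hx
  rw [Scheme.Hom.isIso_iff_finrank_eq]
  funext y
  exact hrank _ y y.2 fun z hz => (show h z ∈ U₀ from hz ▸ y.2)

end Groth.Agent.FlatMor12
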