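import Groth.Agent.EGA43.DvrCrit.Main
import Groth.Agent.FlatMorStrata.Global
import Groth.Agent.Props12.FlatOver
import Groth.Agent.Props12.TildeFin
import Groth.Agent.EGA43.QcohFP
import Mathlib.RingTheory.Flat.Stability

/-!
# The valuative criterion of flatness for finite modules over finite type algebras
-/

set_option autoImplicit false
set_option backward.isDefEq.respectTransparency false

universe u

open CategoryTheory CategoryTheory.Limits AlgebraicGeometry TopologicalSpace TensorProduct
open IsLocalRing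

namespace Groth.Agent.FlatMor12.DvrFlat

/-- Geometric form on an affine pair. -/
theorem flat_sections_of_dvr {X Y : Scheme.{u}} [IsAffine X] [IsAffine Y] [IsLocallyNoetherian Y]
    [IsReduced Y] (f : X ⟶ Y) [LocallyOfFiniteType f] (F : X.Modules) [Coh.IsQCoh F]
    [Module.Finite Γ(X, ⊤) Γ(F, ⊤)]
    (H : ∀ (R : Type u) [CommRing R] [IsDomain R] [IsDiscreteValuationRing R] (ψ : Γ(Y, ⊤) →+* R),
      letI := ψ.toAlgebra
      letI := EGA43.QcohFlat.overModule f F ⊤ ⊤ le_top
      Module.Flat R (R ⊗[Γ(Y, ⊤)] Γ(F, ⊤))) :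
    @Module.Flat Γ(Y, ⊤) Γ(F, ⊤) _ _ (EGA43.QcohFlat.overModule f F ⊤ ⊤ le_top) := by
  refine (Props12.flat_sections_iff f F (isAffineOpen_top Y) (isAffineOpen_top X) le_top).2
    fun x _ => ?_
  have : Module.Finite (X.presheaf.stalk x) (F.presheaf.stalk x) := by
    let _ := (X.presheaf.germ ⊤ x trivial).hom.toAlgebra
    let _ := Module.compHom (F.presheaf.stalk x) (X.presheaf.germ ⊤ x trivial).hom
    have : IsScalarTower Γ(X, ⊤) (X.presheaf.stalk x) (F.presheaf.stalk x) :=
      IsScalarTower.of_algebraMap_smul fun _ _ => rfl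
    let φ : Γ(F, ⊤) →ₗ[Γ(X, ⊤)] F.presheaf.stalk x :=
      { toFun := fun m => F.presheaf.germ ⊤ x trivial m
        map_add' := fun a b => map_add _ a b
        map_smul' := fun r m => QCohLoc.germ_smul' F (show x ∈ (⊤ : X.Opens) from trivial) r m }
    have := EGA43.QcohFP.isLocalizedModule_germ F (isAffineOpen_top X) (x := x) trivial φ fun _ => rfl
    have hloc := (isAffineOpen_top X).isLocalization_stalk ⟨x, trivial⟩
    exact Module.Finite.of_isLocalizedModule
      ((isAffineOpen_top X).primeIdealOf ⟨x, trivial⟩).asIdeal.primeCompl (Rₚ := X.presheaf.stalk x) φ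
  refine EGA43.DvrCrit.isFlatOverAt_of_dvr f F x fun V _ _ _ φ _ w _ _ => ?_
  let g := EGA43.FlatBC.specTo f x φ
  have : IsDomain Γ(Spec (CommRingCat.of V), ⊤) :=
    (Scheme.ΓSpecIso (CommRingCat.of V)).commRingCatIsoToRingEquiv.toMulEquiv.isDomain
  have : IsDiscreteValuationRing Γ(Spec (CommRingCat.of V), ⊤) :=
    IsDiscreteValuationRing.RingEquivClass.isDiscreteValuationRing
      (Scheme.ΓSpecIso (CommRingCat.of V)).commRingCatIsoToRingEquiv.symm
  exact FlatMorStrata.isFlatOverAt_of_flat_tensor (IsPullback.of_hasPullback f g) F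
    (isAffineOpen_top Y) (isAffineOpen_top X) le_top (isAffineOpen_top _) le_top
    (show pullback.fst f g w ∈ (⊤ : X.Opens) from trivial) trivial
    (H _ (g.appLE ⊤ ⊤ le_top).hom)

theorem flat_iff_aux (A : Type u) [CommRing A] [_root_.IsReduced A] [IsNoetherianRing A]
    (B : CommRingCat.{u}) [Algebra A B] [Algebra.FiniteType A B]
    (Md : ModuleCat.{u} B) [Module A Md] [IsScalarTower A B Md] [Module.Finite B Md]
    (H : ∀ (R : Type u) [CommRing R] [IsDomain R] [IsDiscreteValuationRing R] [Algebra A R],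
        Module.Flat R (R ⊗[A] Md)) : Module.Flat A Md := by
  let a : CommRingCat.of A ⟶ B := CommRingCat.ofHom (algebraMap A B)
  let f := Spec.map a
  let F := tilde Md
  have : LocallyOfFiniteType f :=
    (HasRingHomProperty.Spec_iff (P := @LocallyOfFiniteType)).2 (RingHom.finiteType_algebraMap.2 ‹_›)
  have : Coh.IsQCoh F := Props12.isQCoh_tilde Md
  have : IsLocallyNoetherian (Spec (CommRingCat.of A)) := inferInstance
  have : AlgebraicGeometry.IsReduced (Spec (CommRingCat.of A)) := inferInstance
  have : Module.Finite Γ(Spec B, ⊤) Γ(F, ⊤) :=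
    (Props12.finite_top_iff Md).2 ‹Module.Finite B Md›
  let G : Type u := Γ(Spec (CommRingCat.of A), ⊤)
  let ι : A →+* G := (Scheme.ΓSpecIso (CommRingCat.of A)).inv.hom
  have hι : Function.Bijective ι :=
    ConcreteCategory.bijective_of_isIso (Scheme.ΓSpecIso (CommRingCat.of A)).inv
  let _ : Algebra A G := ι.toAlgebra
  let N : Type u := Γ(F, ⊤)
  let _ : Module G N := EGA43.QcohFlat.overModule f F ⊤ ⊤ le_top
  let _ : Module A N := Module.compHom N ι
  have : IsScalarTower A G N := IsScalarTower.of_algebraMap_smul fun _ _ => rfl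
  let e₀ : Md ≃ₗ[B] Γ(F, ⊤) := Props12.topEquiv Md
  let e : Md ≃ₗ[A] N :=
    { e₀.toAddEquiv with
      map_smul' := fun r m => by
        show e₀ (r • m) = (f.appLE ⊤ ⊤ le_top).hom (ι r) • e₀ m
        rw [← IsScalarTower.algebraMap_smul B r m, map_smul]
        have h : (f.appLE ⊤ ⊤ le_top).hom (ι r) =
            algebraMap B Γ(Spec B, ⊤) (algebraMap A B r) := by
          have h0 := congr($((Scheme.ΓSpecIso_inv_naturality a)) r)
          rw [CommRingCat.comp_apply, CommRingCat.comp_apply] at h0
          simp only [Scheme.Hom.appLE, f]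
          exact h0.symm
        rw [h]
        exact (algebraMap_smul Γ(Spec B, ⊤) (algebraMap A B r) (e₀ m)).symm }
  suffices hN : Module.Flat G N by
    have : Module.Flat A G := Module.Flat.of_linearEquiv
      (LinearEquiv.ofBijective (Algebra.linearMap A G) hι).symm
    have : Module.Flat A N := Module.Flat.trans A G N
    exact Module.Flat.of_linearEquiv e
  refine flat_sections_of_dvr f F fun R _ _ _ ψ => ?_
  let _ : Algebra G R := ψ.toAlgebra
  let _ : Algebra A R := (ψ.comp ι).toAlgebra
  have : IsScalarTower A G R := .of_algebraMap_eq' rfl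
  have : TensorProduct.CompatibleSMul A G R N := ⟨fun c m n => by
    obtain ⟨r, rfl⟩ := hι.2 c
    rw [show ι r • m = r • m from algebraMap_smul G r m, show ι r • n = r • n from algebraMap_smul G r n,
      TensorProduct.smul_tmul]⟩
  have := H R
  exact Module.Flat.of_linearEquiv
    ((TensorProduct.equivOfCompatibleSMul A G R R N).trans
      (AlgebraTensorModule.congr (LinearEquiv.refl R R) e.symm))

/-- EGA IV 11.8.1, algebraic form. -/
theorem flat_iff (A : Type u) [CommRing A] [_root_.IsReduced A] [IsNoetherianRing A]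
    (B : Type u) [CommRing B] [Algebra A B] [Algebra.FiniteType A B]
    (M : Type u) [AddCommGroup M] [Module A M] [Module B M] [IsScalarTower A B M] [Module.Finite B M] :
    Module.Flat A M ↔
      ∀ (R : Type u) [CommRing R] [IsDomain R] [IsDiscreteValuationRing R] [Algebra A R],
        Module.Flat R (R ⊗[A] M) :=
  ⟨fun _ R _ _ _ _ => inferInstance, fun H => flat_iff_aux A (CommRingCat.of B) (ModuleCat.of B M) H⟩

end Groth.Agent.FlatMor12.DvrFlat
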