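import Groth.Agent.FlatMor12.AmpleFamily

/-!
# Loci of sections from ampleness on the nonvanishing locus of a section
-/

set_option autoImplicit false
set_option linter.unusedSectionVars false
set_option backward.isDefEq.respectTransparency.types false
set_option maxHeartbeats 1000000

universe u

open CategoryTheory CategoryTheory.Limits AlgebraicGeometry Opposite TopologicalSpace
open Groth.Agent.Coherent Groth.Agent.PicLib Groth.Agent.AmpleLib

namespace Groth.Agent.FlatMor12.AmpleFamily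

variable {X : Scheme.{u}} {L M : X.Modules}

theorem isGen_image_of_restrict {O : X.Opens} {W : O.toScheme.Opens}
    {s : Γ(L.restrict O.ι, W)} (hs : IsGen (L.restrict O.ι) W s) :
    IsGen L (O.ι ''ᵁ W) ((L.restrictAppIso O.ι W).hom s) := by
  intro V hV
  obtain ⟨V', rfl⟩ : ∃ V' : O.toScheme.Opens, O.ι ''ᵁ V' = V := ⟨O.ι ⁻¹ᵁ V, by
    rw [O.ι.image_preimage_eq_opensRange_inf, Scheme.Opens.opensRange_ι, inf_eq_right]
    exact hV.trans ((O.ι.image_mono le_top).trans (Scheme.Opens.ι_image_top O).le)⟩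
  have h' : V' ≤ W := (Scheme.Hom.image_le_image_iff O.ι V' W).1 hV
  have hb1 := ConcreteCategory.bijective_of_isIso (L.restrictAppIso O.ι V').hom
  have hb3 := ConcreteCategory.bijective_of_isIso (O.ι.appIso V').hom
  convert hb1.comp ((hs V' h').comp hb3) using 1
  funext r
  refine Eq.trans ?_ (Scheme.Modules.smul_restrictAppIso_hom_apply O.ι L V' _ _).symm
  rw [← ConcreteCategory.comp_apply (O.ι.appIso V').hom, Iso.hom_inv_id]
  rfl

theorem isGen_restrict_opens (U : X.Opens) {O : X.Opens} {s : Γ(L, O)}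
    (hs : IsGen L O s) :
    IsGen (L.restrict U.ι) (U.ι ⁻¹ᵁ O)
      ((L.restrictAppIso U.ι _).inv (resM L (U.ι.image_preimage_le O) s)) := by
  intro W hW
  have hle : U.ι ''ᵁ W ≤ O := (U.ι.image_mono hW).trans (U.ι.image_preimage_le O)
  have hb := hs (U.ι ''ᵁ W) hle
  have hb3 := ConcreteCategory.bijective_of_isIso (U.ι.appIso W).inv
  have hb2 := ConcreteCategory.bijective_of_isIso (L.restrictAppIso U.ι W).hom
  refine (Function.Bijective.of_comp_iff' hb2 _).1 ?_
  convert hb.comp hb3 using 1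
  funext r
  refine (Scheme.Modules.smul_restrictAppIso_hom_apply U.ι L W r _).trans ?_
  show _ • _ = _ • _
  rw [← resM_resM L (U.ι.image_preimage_le O) (U.ι.image_mono hW) s]
  rfl

/-- The locus of a section, given only on the nonvanishing locus `V` of a section. -/
theorem isLocus_of_restrict [CompactSpace X] [QuasiSeparatedSpace X] (hL : PicF.IsInvertible L)
    (hM : PicF.IsInvertible M) (σ : Γ(M, ⊤)) {V : X.Opens} (hV : glocus M σ = V)
    (b : Γ(L.restrict V.ι, ⊤)) : IsLocus (V.ι ''ᵁ glocus (L.restrict V.ι) b) := by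
  have hVle : V ≤ V.ι ''ᵁ ⊤ := (Scheme.Opens.ι_image_top V).ge
  have hA : V.ι ''ᵁ glocus (L.restrict V.ι) b ≤ V := (V.ι.image_mono le_top).trans (Scheme.Opens.ι_image_top V).le
  let s : Γ(L, V) := resM L hVle ((L.restrictAppIso V.ι ⊤).hom b)
  have hres : ∀ (T : V.toScheme.Opens) (h : V.ι ''ᵁ T ≤ V),
      resM L h s = (L.restrictAppIso V.ι T).hom (resM _ (le_top : T ≤ ⊤) b) := by
    intro T h
    simp only [s]
    rw [resM_resM]
    rfl
  refine isLocus_of_local hL hM σ hV s hA ?_ fun W h hg => ?_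
  · rw [hres]
    exact isGen_image_of_restrict (isGen_glocus b)
  · have h1 := isGen_restrict_opens V hg
    rw [resM_resM, hres, ← ConcreteCategory.comp_apply, Iso.hom_inv_id] at h1
    intro x hx
    exact ⟨⟨x, h hx⟩, (le_glocus_iff b _).2 h1 hx, rfl⟩

/-- If `L` is ample on the nonvanishing locus of a section, every point of the latter lies in an affine locus. -/
theorem exists_locus_of_isAmple_restrict [CompactSpace X] [QuasiSeparatedSpace X] (hL : PicF.IsInvertible L)
    (hM : PicF.IsInvertible M) (σ : Γ(M, ⊤)) {V : X.Opens} (hV : glocus M σ = V)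
    (hamp : CohB1.IsAmple (L.restrict V.ι)) {x : X} (hx : x ∈ V) :
    ∃ A : X.Opens, IsLocus A ∧ x ∈ A ∧ IsAffineOpen A := by
  obtain ⟨-, -, hall⟩ := isAmple_iff_affGlocus.1 hamp
  obtain ⟨m, hm, b, hxb, -, hb⟩ := hall ⟨x, hx⟩
  obtain ⟨e₀, -⟩ := exists_pullPowIso V.ι hL m
  let e : CohB1.tensorPow (L.restrict V.ι) m ≅ (CohB1.tensorPow L m).restrict V.ι :=
    powIsoOfIso ((Scheme.Modules.restrictFunctorIsoPullback V.ι).app L) m ≪≫ e₀.symm ≪≫
      ((Scheme.Modules.restrictFunctorIsoPullback V.ι).app (CohB1.tensorPow L m)).symm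
  refine ⟨_, isLocus_of_restrict (isInvertible_tensorPow hL m) hM σ hV (e.hom.app ⊤ b), ?_, ?_⟩
  · rw [glocus_map_iso]
    exact ⟨⟨x, hx⟩, hxb, rfl⟩
  · rw [glocus_map_iso]
    exact hb.image_of_isOpenImmersion V.ι

end Groth.Agent.FlatMor12.AmpleFamily
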