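import Groth.Agent.FlatLocal.MaxPoints
import Mathlib.AlgebraicGeometry.PullbackCarrier
import Mathlib.AlgebraicGeometry.Morphisms.Preimmersion

/-! Birationality is preserved by flat base change. -/

universe u

set_option autoImplicit false
set_option backward.isDefEq.respectTransparency false

open CategoryTheory CategoryTheory.Limits AlgebraicGeometry Topology

namespace Groth.Agent.FlatMor12

theorem bijective_residueFieldMap_of_preimmersion {X Y : Scheme.{u}} (f : X ⟶ Y) [IsPreimmersion f] (x : X) :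
    Function.Bijective (f.residueFieldMap x).hom := by
  refine ⟨(f.residueFieldMap x).hom.injective, ?_⟩
  intro z
  obtain ⟨w, rfl⟩ := X.residue_surjective x z
  obtain ⟨v, rfl⟩ := f.stalkMap_surjective x w
  exact ⟨Y.residue (f x) v, congr($(Scheme.residue_residueFieldMap f x).hom v)⟩

/-- The base change of the only point over a point with trivial residue extension. -/
theorem exists_fibre_section {X Y X' Y' : Scheme.{u}} {f : X ⟶ Y} {g : Y' ⟶ Y} {f' : X' ⟶ Y'}
    {g' : X' ⟶ X} (sq : IsPullback g' f' f g) {y : Y} {x : X} (hx : f x = y)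
    (huniq : ∀ x₁ : X, f x₁ = y → x₁ = x) (hres : Function.Bijective (f.residueFieldMap x).hom) :
    ∃ (T : Scheme.{u}) (ι : T ⟶ Y') (τ : T ⟶ X'), IsPreimmersion ι ∧ IsPreimmersion τ ∧ τ ≫ f' = ι ∧
      (∀ y', g y' = y → y' ∈ Set.range ι) ∧ (∀ x', g (f' x') = y → x' ∈ Set.range τ) := by
  subst hx
  have : IsIso (f.residueFieldMap x) := (ConcreteCategory.isIso_iff_bijective _).2 hres
  let σ := Spec.map (inv (f.residueFieldMap x)) ≫ X.fromSpecResidueField x
  have hσ : σ ≫ f = Y.fromSpecResidueField (f x) := by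
    rw [Category.assoc, ← Scheme.Hom.SpecMap_residueFieldMap_fromSpecResidueField, ← Spec.map_comp_assoc,
      IsIso.hom_inv_id, Spec.map_id, Category.id_comp]
  let τ : pullback g (Y.fromSpecResidueField (f x)) ⟶ X' :=
    sq.lift (pullback.snd _ _ ≫ σ) (pullback.fst _ _) (by rw [Category.assoc, hσ, pullback.condition])
  have hτ : IsPullback (pullback.snd _ _) τ σ g' := by
    refine IsPullback.of_bot ?_ (sq.lift_fst _ _ _).symm sq
    rw [hσ, sq.lift_snd]
    exact (IsPullback.of_hasPullback g (Y.fromSpecResidueField (f x))).flip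
  have hσp : IsPreimmersion σ := inferInstance
  refine ⟨_, pullback.fst _ _, τ, inferInstance, MorphismProperty.of_isPullback hτ hσp,
    sq.lift_snd _ _ _, fun y' hy' => ?_, fun x' hx' => ?_⟩
  · rw [Scheme.Pullback.range_fst, Set.mem_preimage, hy']
    exact ⟨IsLocalRing.closedPoint _, Scheme.fromSpecResidueField_apply _ _⟩
  · have hg : g' x' = x := huniq _ (by rw [← Scheme.Hom.comp_apply, sq.w, Scheme.Hom.comp_apply, hx'])
    obtain ⟨t, _, ht⟩ := Scheme.exists_preimage_of_isPullback hτ (IsLocalRing.closedPoint _) x'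
      (by rw [hg]; exact Scheme.fromSpecResidueField_apply x _)
    exact ⟨t, ht⟩

theorem isBirational_baseChange {X Y X' Y' : Scheme.{u}} {f : X ⟶ Y} {g : Y' ⟶ Y} [Flat g]
    {f' : X' ⟶ Y'} {g' : X' ⟶ X} (sq : IsPullback g' f' f g)
    (hb : Set.BijOn f (genericPoints X) (genericPoints Y))
    (hf : ∀ y ∈ genericPoints Y, (∀ x x' : X, f x = y → f x' = y → x = x') ∧
      ∀ x : X, f x = y → Function.Bijective (f.residueFieldMap x).hom) :
    Set.BijOn f' (genericPoints X') (genericPoints Y') ∧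
    ∀ y' ∈ genericPoints Y', (∀ a b : X', f' a = y' → f' b = y' → a = b) ∧
      ∀ a : X', f' a = y' → Function.Bijective (f'.residueFieldMap a).hom := by
  have hmX : ∀ (Z : Scheme.{u}) (z : Z), z ∈ genericPoints Z ↔ FlatLocal.IsMaxPt z := fun Z z =>
    (FlatLocal.isMaxPt_iff z).symm
  have : Flat g' := MorphismProperty.of_isPullback (P := @Flat) sq.flip ‹_›
  have key : ∀ y' ∈ genericPoints Y', ∃ (T : Scheme.{u}) (ι : T ⟶ Y') (τ : T ⟶ X'),
      IsPreimmersion ι ∧ IsPreimmersion τ ∧ τ ≫ f' = ι ∧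
      (∀ z, g z = g y' → z ∈ Set.range ι) ∧ (∀ a, g (f' a) = g y' → a ∈ Set.range τ) := by
    intro y' hy'
    have hy : g y' ∈ genericPoints Y := (hmX _ _).2 (FlatLocal.isMaxPt_of_flat g ((hmX _ _).1 hy'))
    obtain ⟨x, -, hx⟩ := hb.surjOn hy
    exact exists_fibre_section sq hx (fun x₁ h₁ => (hf _ hy).1 _ _ h₁ hx) ((hf _ hy).2 x hx)
  have hsnd : ∀ y' ∈ genericPoints Y', (∀ a b : X', f' a = y' → f' b = y' → a = b) ∧
      ∀ a : X', f' a = y' → Function.Bijective (f'.residueFieldMap a).hom := by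
    intro y' hy'
    obtain ⟨T, ι, τ, hι, hτ, hτι, -, ha'⟩ := key y' hy'
    refine ⟨fun a b ha hb' => ?_, fun a ha => ?_⟩
    · obtain ⟨s, rfl⟩ := ha' a (by rw [ha])
      obtain ⟨t, rfl⟩ := ha' b (by rw [hb'])
      rw [ι.isEmbedding.injective (a₁ := s) (a₂ := t)
        (by rw [← hτι, Scheme.Hom.comp_apply, Scheme.Hom.comp_apply, ha, hb'])]
    · obtain ⟨t, rfl⟩ := ha' a (by rw [ha])
      have h1 := bijective_residueFieldMap_of_preimmersion τ t
      have h2 : Function.Bijective ((τ ≫ f').residueFieldMap t).hom := by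
        rw [hτι]; exact bijective_residueFieldMap_of_preimmersion ι t
      rw [Scheme.residueFieldMap_comp, CommRingCat.hom_comp, RingHom.coe_comp] at h2
      exact (Function.Bijective.of_comp_iff' h1 _).1 h2
  refine ⟨⟨fun a ha => ?_, fun a ha b hb' e => ?_, fun y' hy' => ?_⟩, hsnd⟩
  · -- generic points map to generic points
    rw [hmX] at ha ⊢
    have hga : g' a ∈ genericPoints X := (hmX _ _).2 (FlatLocal.isMaxPt_of_flat g' ha)
    have hy : f (g' a) ∈ genericPoints Y := hb.mapsTo hga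
    have hyy : g (f' a) = f (g' a) := by
      rw [← Scheme.Hom.comp_apply, ← sq.w, Scheme.Hom.comp_apply]
    obtain ⟨T, ι, τ, hι, hτ, hτι, hι', hτ'⟩ := exists_fibre_section sq (y := g (f' a)) (x := g' a)
      hyy.symm (fun x₁ h₁ => (hf _ hy).1 _ _ (h₁.trans hyy) rfl) ((hf _ hy).2 _ rfl)
    intro z hz
    have hgz : g z = g (f' a) := (hmX _ _).1 (hyy ▸ hy) _ (hz.map g.continuous)
    obtain ⟨s, rfl⟩ := hι' z hgz
    obtain ⟨t, rfl⟩ := hτ' a rfl
    rw [← Scheme.Hom.comp_apply, hτι] at hz ⊢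
    have hst : s ⤳ t := ι.isEmbedding.isInducing.specializes_iff.1 hz
    rw [τ.isEmbedding.injective (ha _ (hst.map τ.continuous))]
  · have hfa : f' a ∈ genericPoints Y' := by
      rw [hmX]
      intro z hz
      obtain ⟨T, ι, τ, hι, hτ, hτι, hι', hτ'⟩ : ∃ (T : Scheme.{u}) (ι : T ⟶ Y') (τ : T ⟶ X'),
          IsPreimmersion ι ∧ IsPreimmersion τ ∧ τ ≫ f' = ι ∧
          (∀ z, g z = g (f' a) → z ∈ Set.range ι) ∧ (∀ c, g (f' c) = g (f' a) → c ∈ Set.range τ) := by
        have hga : g' a ∈ genericPoints X := (hmX _ _).2 (FlatLocal.isMaxPt_of_flat g' ((hmX _ _).1 ha))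
        have hy : f (g' a) ∈ genericPoints Y := hb.mapsTo hga
        have hyy : g (f' a) = f (g' a) := by
          rw [← Scheme.Hom.comp_apply, ← sq.w, Scheme.Hom.comp_apply]
        exact exists_fibre_section sq hyy.symm
          (fun x₁ h₁ => (hf _ hy).1 _ _ (h₁.trans hyy) rfl) ((hf _ hy).2 _ rfl)
      have hga : g' a ∈ genericPoints X := (hmX _ _).2 (FlatLocal.isMaxPt_of_flat g' ((hmX _ _).1 ha))
      have hgz : g z = g (f' a) := by
        refine (hmX _ _).1 ?_ _ (hz.map g.continuous)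
        rw [← Scheme.Hom.comp_apply, ← sq.w, Scheme.Hom.comp_apply]
        exact hb.mapsTo hga
      obtain ⟨s, rfl⟩ := hι' z hgz
      obtain ⟨t, rfl⟩ := hτ' a rfl
      rw [← Scheme.Hom.comp_apply, hτι] at hz ⊢
      have hst : s ⤳ t := ι.isEmbedding.isInducing.specializes_iff.1 hz
      rw [τ.isEmbedding.injective ((hmX _ _).1 ha _ (hst.map τ.continuous))]
    exact (hsnd _ hfa).1 a b rfl e.symm
  · obtain ⟨T, ι, τ, hι, hτ, hτι, hι', hτ'⟩ := key y' hy'
    obtain ⟨t, rfl⟩ := hι' y' rfl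
    refine ⟨τ t, (hmX _ _).2 fun z hz => ?_, by rw [← Scheme.Hom.comp_apply, hτι]⟩
    have hfz : f' z = ι t := by
      refine (hmX _ _).1 hy' _ ?_
      have := hz.map f'.continuous
      rwa [← Scheme.Hom.comp_apply τ, hτι] at this
    exact (hsnd _ hy').1 _ _ hfz (by rw [← Scheme.Hom.comp_apply, hτι])

end Groth.Agent.FlatMor12
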