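import Groth.Agent.BlowUpLib.Proper
import Groth.Agent.BlowUpLib.Exists
import Groth.Agent.ProjLib.BlowUpBasics
import Groth.Agent.FlatMorAdm.ExtendLocFree
import Mathlib.AlgebraicGeometry.IdealSheaf.Functorial

/-! Making the boundary of an open immersion an effective Cartier divisor. -/

set_option autoImplicit false
set_option backward.isDefEq.respectTransparency false
set_option backward.isDefEq.respectTransparency.types false

universe u

open CategoryTheory CategoryTheory.Limits AlgebraicGeometry TopologicalSpace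

namespace Groth.Agent.FlatMor12

/-- After blowing up the complement, the boundary of an open immersion is an effective Cartier
divisor. -/
theorem exists_boundary_divisor {X Y : Scheme.{u}} [IsLocallyNoetherian Y] (j₀ : X ⟶ Y) [IsOpenImmersion j₀] :
    ∃ (Y' : Scheme.{u}) (b : Y' ⟶ Y) (j : X ⟶ Y') (E : Y'.IdealSheafData),
      IsProper b ∧ IsOpenImmersion j ∧ j ≫ b = j₀ ∧ BlowUp.IsEffCartierIdeal E ∧
      (E.support : Set Y') = (Set.range j.base)ᶜ := by
  let C : Closeds Y := ⟨(Set.range j₀.base)ᶜ, j₀.isOpenEmbedding.isOpen_range.isClosed_compl⟩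
  let I := Scheme.IdealSheafData.vanishingIdeal C
  have hI : BlowUp.IsFiniteTypeIdeal I := Groth.Agent.FlatMorAdm.isFiniteTypeIdeal_of_noetherian I
  have hsupp : (I.support : Set Y) = (Set.range j₀.base)ᶜ := Scheme.IdealSheafData.coe_support_vanishingIdeal C
  obtain ⟨Y', b, hb⟩ := Groth.Agent.BlowUpLib.exists_isBlowUp (I := I)
  haveI : IsProper b := Groth.Agent.BlowUpLib.isProper_of_isBlowUp hb hI
  let W := j₀.opensRange
  have hd : Disjoint (I.support : Set Y) (W : Set Y) := by
    rw [hsupp]; exact disjoint_compl_left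
  haveI := Groth.Agent.ProjLib.isIso_morphismRestrict hb W hd
  let c : X ⟶ (b ⁻¹ᵁ W : Y'.Opens) := j₀.isoOpensRange.hom ≫ inv (b ∣_ W)
  have hc : (c ≫ (b ⁻¹ᵁ W).ι) ≫ b = j₀ := by
    simp only [c, Category.assoc]
    rw [← morphismRestrict_ι, IsIso.inv_hom_id_assoc, Scheme.Hom.isoOpensRange_hom_ι]
  refine ⟨Y', b, c ≫ (b ⁻¹ᵁ W).ι, I.comap b, inferInstance, inferInstance, hc, hb.1, ?_⟩
  rw [Scheme.IdealSheafData.support_comap, Closeds.coe_preimage, hsupp, Set.preimage_compl]
  congr 1
  ext y
  constructor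
  · intro hy
    obtain ⟨x, hx⟩ := c.homeomorph.surjective ⟨y, hy⟩
    refine ⟨x, ?_⟩
    exact congrArg Subtype.val hx
  · rintro ⟨x, rfl⟩
    exact (c x).2

end Groth.Agent.FlatMor12
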