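import Groth.Agent.CAlgH.CIMorphism
import Groth.Agent.EGA43.DvrCrit.GeomFibre
import Groth.Agent.EGA43.CMChart.Main
import Groth.Agent.FlatMorNoethFib.Basic
import Groth.Agent.FlatLocal.FlatBaseChangeAt
import Groth.Agent.S7608

/-!
# Cohen–Macaulay morphisms under base change along morphisms locally of finite type
-/

set_option autoImplicit false
set_option backward.isDefEq.respectTransparency false
set_option maxHeartbeats 1000000

universe u

open CategoryTheory CategoryTheory.Limits AlgebraicGeometry

namespace Groth.Agent.FlatMor12.CMBaseChange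

variable {X Y Y' : Scheme.{u}}

/-- The residue field extension along a morphism locally of finite type. -/
theorem essFiniteType_resExt (g : Y' ⟶ Y) [LocallyOfFiniteType g] {y : Y} (s : Y') (h : g s = y) :
    (EGA43.DvrCrit.resExt g s h).hom.EssFiniteType := by
  subst h
  rw [EGA43.DvrCrit.resExt, CommRingCat.hom_comp]
  exact RingHom.EssFiniteType.comp
    ((RingHom.FiniteType.of_surjective _ (ConcreteCategory.bijective_of_isIso (Y.residueFieldCongr rfl).hom).2).essFiniteType)
    (FlatMorNoethFib.essFiniteType_residueFieldMap g s)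

/-- Fibres of a base change are locally Noetherian iff those of the morphism are. -/
theorem isLocallyNoetherian_fiber_iff (f : X ⟶ Y) (g : Y' ⟶ Y) [LocallyOfFiniteType g] (y' : Y') :
    IsLocallyNoetherian ((pullback.snd f g).fiber y') ↔ IsLocallyNoetherian (f.fiber (g y')) := by
  obtain ⟨e⟩ := CAlgH.CIMorphism.exists_fiber_pullback_iso f g y'
  letI : Algebra (Y.residueField (g y')) (Y'.residueField y') := (g.residueFieldMap y').hom.toAlgebra
  rw [← FlatMorNoethFib.isLocallyNoetherian_iff (k := Y.residueField (g y')) (K := Y'.residueField y')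
    (Field.toIsField _) (Field.toIsField _) (g.residueFieldMap y')
    (FlatMorNoethFib.essFiniteType_residueFieldMap g y') _ _ (f.fiberToSpecResidueField (g y'))
    (IsPullback.of_hasPullback _ (Spec.map (CommRingCat.ofHom (algebraMap (Y.residueField (g y')) (Y'.residueField y')))))]
  exact ⟨fun _ => isLocallyNoetherian_of_isOpenImmersion e.inv, fun _ => isLocallyNoetherian_of_isOpenImmersion e.hom⟩

/-- Cohen–Macaulayness of fibre local rings under base change. -/
theorem cm_fibre_iff (f : X ⟶ Y) (g : Y' ⟶ Y) [LocallyOfFiniteType g] (w : ↑(pullback f g))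
    (hN : IsLocallyNoetherian (f.fiber (f (pullback.fst f g w)))) :
    LocCoh.IsCohenMacaulayLocalRing
        ((((pullback.snd f g).fiber (pullback.snd f g w))).presheaf.stalk ((pullback.snd f g).asFiber w)) ↔
      LocCoh.IsCohenMacaulayLocalRing
        ((f.fiber (f (pullback.fst f g w))).presheaf.stalk (f.asFiber (pullback.fst f g w))) := by
  set x := pullback.fst f g w with hx
  set y' := pullback.snd f g w with hy
  have h : g y' = f x := by
    rw [hx, hy, ← Scheme.Hom.comp_apply, ← Scheme.Hom.comp_apply, pullback.condition]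
  let k : Type u := Y.residueField (f x)
  let K : Type u := Y'.residueField y'
  letI algK : Algebra k K := (EGA43.DvrCrit.resExt g y' h).hom.toAlgebra
  letI algK' : Algebra (IsLocalRing.ResidueField (Y.presheaf.stalk (f x))) K :=
    (EGA43.DvrCrit.resExt g y' h).hom.toAlgebra
  obtain ⟨e, he⟩ := EGA43.DvrCrit.exists_fiber_iso f g y' h
  letI : (f.fiber (f x)).Over (Spec (CommRingCat.of k)) := ⟨f.fiberToSpecResidueField (f x)⟩
  haveI := hN
  have hfg : (⊤ : IntermediateField k K).FG :=
    IntermediateField.fg_top_iff.mpr (essFiniteType_resExt g y' h)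
  let z := e.hom ((pullback.snd f g).asFiber w)
  have hz : FBase.bcπ (f.fiberToSpecResidueField (f x)) K z = f.asFiber x := by
    apply (f.fiberι (f x)).isEmbedding.injective
    rw [f.fiberι_asFiber]
    show (FBase.bcπ (f.fiberToSpecResidueField (f x)) K ≫ f.fiberι (f x)) (e.hom ((pullback.snd f g).asFiber w)) = x
    rw [← Scheme.Hom.comp_apply, he, Scheme.Hom.comp_apply, Scheme.Hom.fiberι_asFiber]
  have key : LocCoh.IsCohenMacaulayLocalRing
      ((f.fiber (f x)).presheaf.stalk (FBase.bcπ (f.fiberToSpecResidueField (f x)) K z)) ↔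
      LocCoh.IsCohenMacaulayLocalRing ((FBase.bc (f.fiberToSpecResidueField (f x)) K).presheaf.stalk z) :=
    Groth.Agent.S7608.result k (f.fiber (f x)) K hfg z
  rw [hz] at key
  rw [key]
  let E := (asIso (e.hom.stalkMap ((pullback.snd f g).asFiber w))).commRingCatIsoToRingEquiv
  exact ⟨FlatMor12.isCM_ringEquiv E.symm, FlatMor12.isCM_ringEquiv E⟩

/-- Base change along a morphism locally of finite type preserves the Cohen–Macaulay property. -/
theorem isCMAt_snd (f : X ⟶ Y) (g : Y' ⟶ Y) [LocallyOfFiniteType g] (w : ↑(pullback f g))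
    (hN : IsLocallyNoetherian (f.fiber (f (pullback.fst f g w)))) (h : MoreMor.IsCMAt f (pullback.fst f g w)) :
    MoreMor.IsCMAt (pullback.snd f g) w := by
  refine ⟨?_, (cm_fibre_iff f g w hN).2 h.2⟩
  let σ := pullbackSymmetry f g
  have h1 := FlatLocal.flat_stalkMap_fst g f (σ.hom w)
    (by
      have tr : ∀ a b : X, a = b → (f.stalkMap a).hom.Flat → (f.stalkMap b).hom.Flat := by
        rintro a b rfl hh; exact hh
      exact tr _ _ (by rw [← Scheme.Hom.comp_apply, pullbackSymmetry_hom_comp_snd]) h.1)
  have h2 : ((σ.hom ≫ pullback.fst g f).stalkMap w).hom.Flat := by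
    rw [Scheme.Hom.stalkMap_comp, CommRingCat.hom_comp]
    exact h1.comp (Flat.stalkMap σ.hom w)
  have : ∀ (a b : pullback f g ⟶ Y'), a = b → (a.stalkMap w).hom.Flat → (b.stalkMap w).hom.Flat := by
    rintro a b rfl hh; exact hh
  exact this _ _ (pullbackSymmetry_hom_comp_fst f g) h2

/-- The Cohen–Macaulay property descends when the morphism is flat at the point. -/
theorem isCMAt_of_flat (f : X ⟶ Y) (g : Y' ⟶ Y) [LocallyOfFiniteType g] (w : ↑(pullback f g))
    (hN : IsLocallyNoetherian (f.fiber (f (pullback.fst f g w))))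
    (hflat : (f.stalkMap (pullback.fst f g w)).hom.Flat) (h : MoreMor.IsCMAt (pullback.snd f g) w) :
    MoreMor.IsCMAt f (pullback.fst f g w) :=
  ⟨hflat, (cm_fibre_iff f g w hN).1 h.2⟩

/-- The Cohen–Macaulay property descends along a base change flat at the point. -/
theorem isCMAt_of_baseFlat (f : X ⟶ Y) (g : Y' ⟶ Y) [LocallyOfFiniteType g] (w : ↑(pullback f g))
    (hN : IsLocallyNoetherian (f.fiber (f (pullback.fst f g w))))
    (hg : (g.stalkMap (pullback.snd f g w)).hom.Flat) (h : MoreMor.IsCMAt (pullback.snd f g) w) :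
    MoreMor.IsCMAt f (pullback.fst f g w) :=
  isCMAt_of_flat f g w hN (FlatLocal.flat_stalkMap_of_baseChange f g w hg h.1) h

section Transfer

variable {X' : Scheme.{u}} {f : X ⟶ Y} {f' : X' ⟶ Y'} {g' : X' ⟶ X} {g : Y' ⟶ Y} (hc : IsPullback g' f' f g)

include hc in
theorem isCMAt_iff_pullback (x' : X') :
    MoreMor.IsCMAt f' x' ↔ MoreMor.IsCMAt (pullback.snd f g) (hc.isoPullback.hom x') := by
  rw [← EGA43.CMChart.isCMAt_comp_iff hc.isoPullback.hom (pullback.snd f g) x']
  exact EGA43.CMChart.isCMAt_congr hc.isoPullback_hom_snd.symm x'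

include hc in
theorem fst_isoPullback_apply (x' : X') : pullback.fst f g (hc.isoPullback.hom x') = g' x' := by
  rw [← Scheme.Hom.comp_apply, hc.isoPullback_hom_fst]

include hc in
theorem snd_isoPullback_apply (x' : X') : pullback.snd f g (hc.isoPullback.hom x') = f' x' := by
  rw [← Scheme.Hom.comp_apply, hc.isoPullback_hom_snd]

include hc in
theorem isLocallyNoetherian_fiber_transfer (y' : Y') :
    IsLocallyNoetherian (f'.fiber y') ↔ IsLocallyNoetherian ((pullback.snd f g).fiber y') := by
  let m : f'.fiber y' ⟶ (pullback.snd f g).fiber y' :=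
    pullback.map f' (Y'.fromSpecResidueField y') (pullback.snd f g) (Y'.fromSpecResidueField y')
      hc.isoPullback.hom (𝟙 _) (𝟙 _) (by rw [Category.comp_id, hc.isoPullback_hom_snd])
      (by rw [Category.comp_id, Category.id_comp])
  exact ⟨fun _ => isLocallyNoetherian_of_isOpenImmersion (inv m), fun _ => isLocallyNoetherian_of_isOpenImmersion m⟩

include hc in
theorem baseChange [LocallyOfFiniteType g] (x' : X') (hN : IsLocallyNoetherian (f.fiber (f (g' x'))))
    (h : MoreMor.IsCMAt f (g' x')) : MoreMor.IsCMAt f' x' := by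
  rw [isCMAt_iff_pullback hc]
  exact isCMAt_snd f g _ (by rw [fst_isoPullback_apply hc]; exact hN) (by rw [fst_isoPullback_apply hc]; exact h)

include hc in
theorem of_flat [LocallyOfFiniteType g] (x' : X') (hN : IsLocallyNoetherian (f.fiber (f (g' x'))))
    (hflat : (f.stalkMap (g' x')).hom.Flat) (h : MoreMor.IsCMAt f' x') : MoreMor.IsCMAt f (g' x') := by
  have key := isCMAt_of_flat f g (hc.isoPullback.hom x') (by rw [fst_isoPullback_apply hc]; exact hN)
    (by rw [fst_isoPullback_apply hc]; exact hflat) ((isCMAt_iff_pullback hc x').1 h)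
  rwa [fst_isoPullback_apply hc] at key

include hc in
theorem of_baseFlat [LocallyOfFiniteType g] (x' : X') (hN : IsLocallyNoetherian (f.fiber (f (g' x'))))
    (hg : (g.stalkMap (f' x')).hom.Flat) (h : MoreMor.IsCMAt f' x') : MoreMor.IsCMAt f (g' x') := by
  have key := isCMAt_of_baseFlat f g (hc.isoPullback.hom x') (by rw [fst_isoPullback_apply hc]; exact hN)
    (by rw [snd_isoPullback_apply hc]; exact hg) ((isCMAt_iff_pullback hc x').1 h)
  rwa [fst_isoPullback_apply hc] at key

include hc in
theorem noetherian_fibres_iff [LocallyOfFiniteType g] [Surjective g] :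
    (∀ y : Y, IsLocallyNoetherian (f.fiber y)) ↔ ∀ y' : Y', IsLocallyNoetherian (f'.fiber y') := by
  refine ⟨fun h y' => ?_, fun h y => ?_⟩
  · rw [isLocallyNoetherian_fiber_transfer hc, isLocallyNoetherian_fiber_iff]
    exact h _
  · obtain ⟨y', rfl⟩ := g.surjective y
    exact (isLocallyNoetherian_fiber_iff f g y').1 ((isLocallyNoetherian_fiber_transfer hc y').1 (h y'))

end Transfer

end Groth.Agent.FlatMor12.CMBaseChange
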