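import Groth.Agent.CommAlg4.HopfPoints
import Groth.Agent.HopfQuot.Basic
import Mathlib.RingTheory.HopfAlgebra.TensorProduct

/-!
# Cocycles of an affine group along an algebraically closed extension of an algebraically closed field are coboundaries
-/

set_option autoImplicit false

universe u

open TensorProduct WithConv
open Groth.Agent.HopfLib Groth.Agent.HopfQuot

namespace Groth.Agent.FlatMor12.Coboundary

variable {k : Type u} [Field k] {A : Type u} [CommRing A] [HopfAlgebra k A]

/-- Two points agree on a subalgebra. -/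
def EqOn (B : Subalgebra k A) {R : Type u} [CommRing R] [Algebra k R] (x y : Pt k A R) : Prop :=
  ∀ b ∈ B, x.ofConv b = y.ofConv b

theorem EqOn.mul {B : Subalgebra k A} (hB : IsSubHopf k A B) {R : Type u} [CommRing R] [Algebra k R]
    {x x' y y' : Pt k A R} (hx : EqOn B x x') (hy : EqOn B y y') : EqOn B (x * y) (x' * y') := by
  intro b hb
  obtain ⟨z, hz⟩ := hB.1 b hb
  rw [mul_apply, mul_apply, ← hz]
  clear hz
  induction z using TensorProduct.induction_on with
  | zero => simp
  | add p q hp hq => rw [map_add, map_add, map_add, hp, hq]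
  | tmul p q => simp [hx p p.2, hy q q.2]

theorem EqOn.inv {B : Subalgebra k A} (hB : IsSubHopf k A B) {R : Type u} [CommRing R] [Algebra k R]
    {x x' : Pt k A R} (hx : EqOn B x x') : EqOn B x⁻¹ x'⁻¹ := fun b hb => by
  rw [inv_apply, inv_apply]
  exact hx _ (hB.2 b hb)

theorem EqOn.push {B : Subalgebra k A} {R R' : Type u} [CommRing R] [Algebra k R] [CommRing R'] [Algebra k R']
    {x x' : Pt k A R} (hx : EqOn B x x') (φ : R →ₐ[k] R') : EqOn B (push φ x) (push φ x') := fun b hb => by
  rw [push_apply, push_apply, hx b hb]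

/-- Points of a Hopf subalgebra with values in an algebraically closed extension extend. -/
theorem exists_extend {K : Type u} [Field K] [Algebra k K] [IsAlgClosed K] {B : Subalgebra k A}
    (hB : IsSubHopf k A B) (y : B →ₐ[k] K) : ∃ g : A →ₐ[k] K, ∀ b : B, g b = y b := by
  letI := subHopf hB
  let v : B →ₐc[k] A := BialgHom.ofAlgHom B.val
    (AlgHom.ext fun b => rfl) (AlgHom.ext fun b => map_subComul hB b)
  let f : K ⊗[k] B →ₐc[K] K ⊗[k] A := Bialgebra.TensorProduct.map (BialgHom.id K K) v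
  have hf : Function.Injective (f : K ⊗[k] B →ₐ[K] K ⊗[k] A) :=
    Module.Flat.lTensor_preserves_injective_linearMap B.val.toLinearMap Subtype.val_injective
  let yK : K ⊗[k] B →ₐ[K] K := Algebra.TensorProduct.lift (AlgHom.id K K) y fun _ _ => Commute.all _ _
  let e := AlgEquiv.ofInjective (f : K ⊗[k] B →ₐ[K] K ⊗[k] A) hf
  obtain ⟨g, hg⟩ := Groth.Agent.CommAlg4.HopfPoints.exists_extend
    (Groth.Agent.CommAlg4.HopfPoints.isSubHopf_range f) (yK.comp e.symm.toAlgHom)
  refine ⟨(g.restrictScalars k).comp Algebra.TensorProduct.includeRight, fun b => ?_⟩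
  have h := hg (e (1 ⊗ₜ b))
  rw [AlgHom.comp_apply, AlgEquiv.coe_toAlgHom, AlgEquiv.symm_apply_apply] at h
  exact h.trans (by simp [yK])

variable {K : Type u} [Field K] [Algebra k K]

/-- first projection -/
noncomputable abbrev i₁ : K →ₐ[k] K ⊗[k] K := Algebra.TensorProduct.includeLeft
/-- second projection -/
noncomputable abbrev i₂ : K →ₐ[k] K ⊗[k] K := Algebra.TensorProduct.includeRight
/-- face -/
noncomputable abbrev i₂₃ : K ⊗[k] K →ₐ[k] K ⊗[k] (K ⊗[k] K) := Algebra.TensorProduct.includeRight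
/-- face -/
noncomputable abbrev i₁₂ : K ⊗[k] K →ₐ[k] K ⊗[k] (K ⊗[k] K) :=
  Algebra.TensorProduct.map (AlgHom.id k K) Algebra.TensorProduct.includeLeft
/-- face -/
noncomputable abbrev i₁₃ : K ⊗[k] K →ₐ[k] K ⊗[k] (K ⊗[k] K) :=
  Algebra.TensorProduct.map (AlgHom.id k K) Algebra.TensorProduct.includeRight

/-- contraction of the first factor -/
noncomputable def contract (s : K →ₗ[k] k) : K ⊗[k] K →ₗ[k] K :=
  (TensorProduct.lid k K).toLinearMap ∘ₗ s.rTensor K

/-- contraction of the first of three factors -/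
noncomputable def contract3 (s : K →ₗ[k] k) : K ⊗[k] (K ⊗[k] K) →ₗ[k] K ⊗[k] K :=
  (TensorProduct.lid k (K ⊗[k] K)).toLinearMap ∘ₗ s.rTensor (K ⊗[k] K)

theorem contract3_i₁₃ (s : K →ₗ[k] k) (z : K ⊗[k] K) : contract3 s (i₁₃ z) = i₂ (contract s z) := by
  induction z using TensorProduct.induction_on with
  | zero => simp
  | add p q hp hq => simp only [map_add, hp, hq]
  | tmul p q => simp [contract3, contract, TensorProduct.tmul_smul]

theorem contract3_mul (s : K →ₗ[k] k) (w z : K ⊗[k] K) :
    contract3 s (i₂₃ w * i₁₂ z) = w * i₁ (contract s z) := by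
  induction z using TensorProduct.induction_on with
  | zero => simp
  | add p q hp hq => simp only [map_add, mul_add, hp, hq]
  | tmul p q =>
    simp [contract3, contract, Algebra.TensorProduct.tmul_mul_tmul, TensorProduct.smul_tmul', mul_smul_comm]
    rw [← TensorProduct.smul_tmul', mul_smul_comm]

/-- The cocycle relation. -/
def IsCocycle (c : Pt k A (K ⊗[k] K)) : Prop :=
  push i₁₃ c = push i₂₃ c * push i₁₂ c

/-- The coboundary of a point, twisting a cocycle. -/
noncomputable def twist (g : Pt k A K) (c : Pt k A (K ⊗[k] K)) : Pt k A (K ⊗[k] K) :=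
  push i₂ g * c * (push i₁ g)⁻¹

theorem push_push {R R' R'' : Type u} [CommRing R] [Algebra k R] [CommRing R'] [Algebra k R'] [CommRing R'']
    [Algebra k R''] (φ : R →ₐ[k] R') (ψ : R' →ₐ[k] R'') (g : Pt k A R) :
    push ψ (push φ g) = push (ψ.comp φ) g := rfl

theorem isCocycle_twist {c : Pt k A (K ⊗[k] K)} (hc : IsCocycle c) (g : Pt k A K) : IsCocycle (twist g c) := by
  have h1 : (i₁₃ (k := k) (K := K)).comp i₂ = (i₂₃ (k := k) (K := K)).comp i₂ := AlgHom.ext fun x => by simp
  have h2 : (i₁₃ (k := k) (K := K)).comp i₁ = (i₁₂ (k := k) (K := K)).comp i₁ := AlgHom.ext fun x => by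
    simp [Algebra.TensorProduct.one_def]
  have h3 : (i₁₂ (k := k) (K := K)).comp i₂ = (i₂₃ (k := k) (K := K)).comp i₁ := AlgHom.ext fun x => by simp
  unfold IsCocycle twist at *
  simp only [map_mul, map_inv, push_push, hc, h1, h2, h3]
  group

/-- The extension step. -/
theorem exists_step [IsAlgClosed k] [IsAlgClosed K] {c : Pt k A (K ⊗[k] K)} (hc : IsCocycle c)
    {B B₁ B' : Subalgebra k A} (hB' : IsSubHopf k A B') (hBB' : B ≤ B') (hfg : B₁.FG) (hsup : B' = B ⊔ B₁)
    (hB : IsSubHopf k A B) {g : Pt k A K} (hg : EqOn B (twist g c) 1) :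
    ∃ g' : Pt k A K, EqOn B g g' ∧ EqOn B' (twist g' c) 1 := by
  classical
  let e := twist g c
  have he : IsCocycle e := isCocycle_twist hc g
  obtain ⟨G, hG⟩ := hfg
  choose S hS using fun a : A => TensorProduct.exists_finset (e.ofConv a)
  let R : Subalgebra k K := Algebra.adjoin k (↑((G.biUnion S).image Prod.fst) : Set K)
  haveI : Algebra.FiniteType k R := (Subalgebra.fg_iff_finiteType R).1 ⟨_, rfl⟩
  obtain ⟨σ, -⟩ := exists_algHom_le_ker (k := k) (R := R) (I := ⊥) bot_ne_top
  obtain ⟨s, hs⟩ := LinearMap.exists_extend (p := Subalgebra.toSubmodule R) σ.toLinearMap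
  have hs' : ∀ r : R, s r = σ r := fun r => LinearMap.congr_fun hs r
  have hs1 : s 1 = 1 := by simpa using hs' 1
  let m : R ⊗[k] K →ₐ[k] K ⊗[k] K := Algebra.TensorProduct.map R.val (AlgHom.id k K)
  let σK : R ⊗[k] K →ₐ[k] K :=
    Algebra.TensorProduct.lift ((Algebra.ofId k K).comp σ) (AlgHom.id k K) fun _ _ => Commute.all _ _
  have hm : ∀ z : R ⊗[k] K, contract s (m z) = σK z := fun z => by
    induction z using TensorProduct.induction_on with
    | zero => simp
    | add p q hp hq => simp only [map_add, hp, hq]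
    | tmul p q => simp [contract, m, σK, hs', Algebra.smul_def]
  have hrange : ∀ b ∈ B', e.ofConv b ∈ m.range := by
    suffices B' ≤ m.range.comap e.ofConv from this
    rw [hsup, ← hG]
    refine sup_le (fun b hb => ?_) (Algebra.adjoin_le fun a ha => ?_)
    · change e.ofConv b ∈ m.range
      rw [show e.ofConv b = _ from hg b hb, one_apply]
      exact m.range.algebraMap_mem _
    · change e.ofConv a ∈ m.range
      rw [hS a]
      refine Subalgebra.sum_mem _ fun i hi => ⟨(⟨i.1, Algebra.subset_adjoin ?_⟩ : R) ⊗ₜ i.2, rfl⟩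
      exact Finset.mem_coe.2 (Finset.mem_image_of_mem _ (Finset.mem_biUnion.2 ⟨a, ha, hi⟩))
  let aB : B' →ₐ[k] K :=
    { toFun := fun b => contract s (e.ofConv b)
      map_one' := by simp [contract, Algebra.TensorProduct.one_def, hs1]
      map_mul' := fun x y => by
        obtain ⟨z, hz⟩ := hrange x x.2
        obtain ⟨w, hw⟩ := hrange y y.2
        rw [Subalgebra.coe_mul, map_mul, ← hz, ← hw]
        show contract s (m z * m w) = contract s (m z) * contract s (m w)
        rw [← map_mul, hm, hm, hm, map_mul]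
      map_zero' := by simp
      map_add' := fun x y => by simp
      commutes' := fun r => by
        have h0 : s (algebraMap k K r) = r := by
          rw [Algebra.algebraMap_eq_smul_one, map_smul, hs1, smul_eq_mul, mul_one]
        simp [contract, Algebra.TensorProduct.algebraMap_apply, h0, Algebra.smul_def] }
  obtain ⟨a, ha⟩ := exists_extend hB' aB
  let α : Pt k A K := toConv a
  have haB : ∀ b ∈ B', α.ofConv b = contract s (e.ofConv b) := fun b hb => ha ⟨b, hb⟩
  have hα1 : EqOn B α 1 := fun b hb => by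
    rw [haB b (hBB' hb), show e.ofConv b = _ from hg b hb, one_apply, one_apply,
      Algebra.TensorProduct.algebraMap_apply]
    simp [contract, Algebra.algebraMap_eq_smul_one, hs1]
  have key : EqOn B' (push i₂ α) (e * push i₁ α) := fun b hb => by
    obtain ⟨z, hz⟩ := hB'.1 b hb
    have h := congrArg (fun p : Pt k A _ => contract3 s (p.ofConv b)) he
    simp only [push_apply, contract3_i₁₃] at h
    rw [push_apply, haB b hb, h, mul_apply, mul_apply, ← hz]
    clear hz h
    induction z using TensorProduct.induction_on with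
    | zero => simp
    | add p q hp hq => rw [map_add, map_add, map_add, map_add, hp, hq]
    | tmul p q =>
      show contract3 s (Algebra.TensorProduct.lift _ _ _ ((p : A) ⊗ₜ[k] (q : A))) = Algebra.TensorProduct.lift _ _ _ ((p : A) ⊗ₜ[k] (q : A))
      rw [Algebra.TensorProduct.lift_tmul, Algebra.TensorProduct.lift_tmul, push_apply, push_apply, push_apply,
        haB q q.2]
      exact contract3_mul s _ _
  refine ⟨α⁻¹ * g, fun b hb => ?_, ?_⟩
  · have := (hα1.inv hB).mul hB (fun _ _ => rfl : EqOn B g g) b hb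
    rw [inv_one, one_mul] at this
    exact this.symm
  · have h1 : twist (α⁻¹ * g) c = (push i₂ α)⁻¹ * (e * push i₁ α) := by
      simp only [twist, e, map_mul, map_inv]
      group
    have hr : EqOn B' (push i₂ α)⁻¹ (push i₂ α)⁻¹ := fun _ _ => rfl
    have h2 := hr.mul hB' key
    rw [inv_mul_cancel] at h2
    intro b hb
    rw [h1]
    exact (h2 b hb).symm

/-- Cocycles are coboundaries. -/
theorem exists_twist_eq_one [IsAlgClosed k] [IsAlgClosed K] {c : Pt k A (K ⊗[k] K)} (hc : IsCocycle c) :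
    ∃ g : Pt k A K, twist g c = 1 := by
  classical
  let Pr : Type u := {p : Subalgebra k A × Pt k A K // IsSubHopf k A p.1 ∧ EqOn p.1 (twist p.2 c) 1}
  let r : Pr → Pr → Prop := fun p q => p.1.1 ≤ q.1.1 ∧ EqOn p.1.1 p.1.2 q.1.2
  have trans : ∀ {a b d : Pr}, r a b → r b d → r a d := fun {a b d} h h' =>
    ⟨h.1.trans h'.1, fun x hx => (h.2 x hx).trans (h'.2 x (h.1 hx))⟩
  have hbot : IsSubHopf k A (⊥ : Subalgebra k A) := by
    constructor <;> intro b hb <;> obtain ⟨t, rfl⟩ := Algebra.mem_bot.1 hb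
    · exact ⟨algebraMap k _ t, by
        rw [show CoalgebraStruct.comul (R := k) (algebraMap k A t) = algebraMap k _ t from
          (Bialgebra.comulAlgHom k A).commutes t]
        exact (Algebra.TensorProduct.map (⊥ : Subalgebra k A).val (⊥ : Subalgebra k A).val).commutes t⟩
    · rw [show HopfAlgebraStruct.antipode k (algebraMap k A t) = algebraMap k A t from
        (HopfAlgebra.antipodeAlgHom k A).commutes t]
      exact Subalgebra.algebraMap_mem _ _
  have ub : ∀ C : Set Pr, IsChain r C → ∃ m, ∀ a ∈ C, r a m := by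
    intro C hC
    rcases C.eq_empty_or_nonempty with rfl | hne
    · exact ⟨⟨(⊥, 1), hbot, fun b hb => by
        obtain ⟨t, rfl⟩ := Algebra.mem_bot.1 hb
        simp only [AlgHom.commutes]⟩, fun a ha => ha.elim⟩
    haveI : Nonempty C := hne.to_subtype
    let B : C → Subalgebra k A := fun p => p.1.1.1
    have dir : Directed (· ≤ ·) B := fun p q => by
      rcases eq_or_ne p q with rfl | hpq
      · exact ⟨p, le_rfl, le_rfl⟩
      rcases hC p.2 q.2 (fun h => hpq (Subtype.ext h)) with h | h
      · exact ⟨q, h.1, le_rfl⟩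
      · exact ⟨p, le_rfl, h.1⟩
    have hmem : ∀ {x : A}, x ∈ (⨆ p, B p) → ∃ p, x ∈ B p := fun {x} hx => by
      rw [← SetLike.mem_coe, Subalgebra.coe_iSup_of_directed dir] at hx
      exact Set.mem_iUnion.1 hx
    let L := Subalgebra.iSupLift B dir (fun p => p.1.1.2.ofConv.comp (B p).val) (fun p q h => by
      refine AlgHom.ext fun x => ?_
      rcases eq_or_ne p q with rfl | hpq
      · rfl
      rcases hC p.2 q.2 (fun h => hpq (Subtype.ext h)) with h' | h'
      · exact h'.2 x x.2
      · exact (h'.2 x (h x.2)).symm) (⨆ p, B p) le_rfl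
    have hsub := Groth.Agent.CommAlg4.HopfPoints.isSubHopf_adjoin_iUnion B fun p => p.1.2.1
    obtain ⟨g, hg⟩ := exists_extend hsub L
    have hgp : ∀ p : C, EqOn (B p) p.1.1.2 (toConv g) := fun p x hx => by
      refine Eq.symm ((hg ⟨x, le_iSup B p hx⟩).trans ?_)
      exact Subalgebra.iSupLift_mk B (⟨x, hx⟩ : B p) (le_iSup B p hx)
    refine ⟨⟨(⨆ p, B p, toConv g), hsub, fun b hb => ?_⟩, fun a ha => ⟨le_iSup B ⟨a, ha⟩, hgp ⟨a, ha⟩⟩⟩
    obtain ⟨p, hp⟩ := hmem hb
    have h0 : EqOn (B p) (twist p.1.1.2 c) (twist (toConv g) c) :=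
      (((hgp p).push i₂).mul p.1.2.1 (fun _ _ => rfl)).mul p.1.2.1 (((hgp p).push i₁).inv p.1.2.1)
    exact (h0 b hp).symm.trans (p.1.2.2 b hp)
  obtain ⟨⟨⟨B, g⟩, hB, hg⟩, hmax⟩ := exists_maximal_of_chains_bounded ub trans
  refine ⟨g, WithConv.ext (AlgHom.ext fun a => hg a ?_)⟩
  obtain ⟨B₁, ha, hfg, hB₁⟩ := exists_fg_isSubHopf (k := k) ({a} : Set A) (Set.finite_singleton a)
  have hB' : IsSubHopf k A (B ⊔ B₁) := by
    rw [show B ⊔ B₁ = ⨆ b : Bool, cond b B B₁ by rw [iSup_bool_eq]; rfl]
    exact Groth.Agent.CommAlg4.HopfPoints.isSubHopf_adjoin_iUnion _ fun b => by cases b <;> assumption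
  obtain ⟨g', hgg', hg'⟩ := exists_step hc hB' le_sup_left hfg rfl hB hg
  exact (hmax ⟨(B ⊔ B₁, g'), hB', hg'⟩ ⟨le_sup_left, hgg'⟩).1 ((le_sup_right : B₁ ≤ B ⊔ B₁) (ha rfl))

end Groth.Agent.FlatMor12.Coboundary
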