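import Groth.Prelude.Def_FlatCA
import Mathlib.Algebra.Colimit.Module
import Mathlib.LinearAlgebra.TensorProduct.DirectLimit
import Mathlib.RingTheory.FinitePresentation

/-!
# Tensor products with a directed colimit of algebras
-/

set_option autoImplicit false
set_option backward.isDefEq.respectTransparency false

universe u

open TensorProduct Function

namespace Groth.Agent.FlatMor12.ColimTensor

variable {R : Type u} [CommRing R] {ι : Type u} [Preorder ι] {G : ι → Type u}
  [∀ i, CommRing (G i)] [∀ i, Algebra R (G i)] (g : ∀ i j, i ≤ j → G i →ₐ[R] G j)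
  {A : Type u} [CommRing A] [Algebra R A] [∀ i, Algebra (G i) A] [∀ i, IsScalarTower R (G i) A]
  (hc : FlatCA.IsDirectedColimitRing G (fun i j h => (g i j h).toRingHom) A)

include hc in
theorem g_comp {i j k : ι} (hij : i ≤ j) (hjk : j ≤ k) (x : G i) :
    g j k hjk (g i j hij x) = g i k (hij.trans hjk) x :=
  RingHom.congr_fun (hc.2.2.2.1 i j k hij hjk) x

include hc in
theorem algebraMap_g {i j : ι} (hij : i ≤ j) (x : G i) :
    algebraMap (G j) A (g i j hij x) = algebraMap (G i) A x :=
  RingHom.congr_fun (hc.2.2.2.2.1 i j hij) x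

include hc in
/-- A finitely presented algebra mapping to the colimit maps compatibly to some stage above any
given one. -/
theorem exists_lift {R₀ : Type u} [CommRing R₀] [Algebra R₀ R] [∀ i, Algebra R₀ (G i)]
    [∀ i, IsScalarTower R₀ R (G i)] [Algebra R₀ A] [IsScalarTower R₀ R A]
    (B : Type u) [CommRing B] [Algebra R₀ B] [Algebra.FinitePresentation R₀ B] (φ : B →ₐ[R₀] A) :
    ∃ i, ∃ ψ : B →ₐ[R₀] G i, ∀ b, algebraMap (G i) A (ψ b) = φ b := by
  classical
  have hdir := hc.1
  have hsurj := hc.2.2.2.2.2.1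
  have hzero := hc.2.2.2.2.2.2
  have := hc.2.1
  obtain ⟨n, π, hπ, s, hs⟩ := ‹Algebra.FinitePresentation R₀ B›.out
  choose ik xk hxk using fun k => hsurj (φ (π (MvPolynomial.X k)))
  obtain ⟨i, hi⟩ := Finset.exists_le (Finset.univ.image ik)
  have hik : ∀ k, ik k ≤ i := fun k => hi _ (Finset.mem_image_of_mem _ (Finset.mem_univ k))
  have htw : ∀ j, IsScalarTower R₀ (G j) A := fun j => IsScalarTower.of_algebraMap_eq fun r => by
    rw [IsScalarTower.algebraMap_apply R₀ R A, IsScalarTower.algebraMap_apply R₀ R (G j),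
      ← IsScalarTower.algebraMap_apply R (G j) A]
  let ev : MvPolynomial (Fin n) R₀ →ₐ[R₀] G i :=
    MvPolynomial.aeval fun k => g (ik k) i (hik k) (xk k)
  have hev : ∀ f, algebraMap (G i) A (ev f) = φ (π f) := by
    intro f
    have : (IsScalarTower.toAlgHom R₀ (G i) A).comp ev = φ.comp π :=
      MvPolynomial.algHom_ext fun k => by
        simp only [AlgHom.comp_apply, IsScalarTower.coe_toAlgHom', ev, MvPolynomial.aeval_X]
        exact (algebraMap_g g hc (hik k) (xk k)).trans (hxk k)
    exact AlgHom.congr_fun this f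
  choose jf hjf hjf0 using fun f : s => hzero i (ev f) (by
    have : (f : MvPolynomial (Fin n) R₀) ∈ RingHom.ker π.toRingHom := hs ▸ Ideal.subset_span f.2
    rw [hev, show π (f : MvPolynomial (Fin n) R₀) = 0 from this, map_zero])
  obtain ⟨j, hj⟩ := Finset.exists_le (insert i (Finset.univ.image jf))
  have hij : i ≤ j := hj _ (Finset.mem_insert_self _ _)
  let ev' : MvPolynomial (Fin n) R₀ →ₐ[R₀] G j := ((g i j hij).restrictScalars R₀).comp ev
  have hker : RingHom.ker π.toRingHom ≤ RingHom.ker ev'.toRingHom := by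
    rw [← hs, Ideal.span_le]
    intro f hf
    have hfj : jf ⟨f, hf⟩ ≤ j :=
      hj _ (Finset.mem_insert_of_mem (Finset.mem_image_of_mem _ (Finset.mem_univ _)))
    show g i j hij (ev f) = 0
    rw [← g_comp g hc (hjf ⟨f, hf⟩) hfj (ev f)]
    have h0 : g i (jf ⟨f, hf⟩) (hjf ⟨f, hf⟩) (ev f) = 0 := hjf0 ⟨f, hf⟩
    rw [h0, map_zero]
  refine ⟨j, AlgHom.liftOfSurjective π hπ ev' hker, fun b => ?_⟩
  obtain ⟨f, rfl⟩ := hπ b
  rw [AlgHom.liftOfSurjective_apply]
  exact (algebraMap_g g hc hij (ev f)).trans (hev f)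

include hc in
/-- Every element of the tensor product comes from a stage. -/
theorem exists_stage (M : Type u) [AddCommGroup M] [Module R M] (x : A ⊗[R] M) :
    ∃ i, ∃ y : G i ⊗[R] M, (IsScalarTower.toAlgHom R (G i) A).toLinearMap.rTensor M y = x := by
  have := hc.1
  induction x using TensorProduct.induction_on with
  | zero => exact hc.2.1.elim fun i => ⟨i, 0, map_zero _⟩
  | tmul a m =>
    obtain ⟨i, y, rfl⟩ := hc.2.2.2.2.2.1 a
    exact ⟨i, y ⊗ₜ m, rfl⟩
  | add u v hu hv =>
    obtain ⟨i, y, rfl⟩ := hu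
    obtain ⟨j, z, rfl⟩ := hv
    obtain ⟨k, hik, hjk⟩ := exists_ge_ge i j
    have hcomp : ∀ {a} (h : a ≤ k), (IsScalarTower.toAlgHom R (G k) A).toLinearMap.comp (g a k h).toLinearMap =
        (IsScalarTower.toAlgHom R (G a) A).toLinearMap := fun h => LinearMap.ext fun t => algebraMap_g g hc h t
    refine ⟨k, (g i k hik).toLinearMap.rTensor M y + (g j k hjk).toLinearMap.rTensor M z, ?_⟩
    rw [map_add, ← LinearMap.comp_apply, ← LinearMap.rTensor_comp, hcomp, ← LinearMap.comp_apply,
      ← LinearMap.rTensor_comp, hcomp]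

include hc in
/-- An element vanishing in the colimit vanishes at some stage. -/
theorem exists_stage_eq_zero (M : Type u) [AddCommGroup M] [Module R M] {i : ι} (x : G i ⊗[R] M)
    (hx : (IsScalarTower.toAlgHom R (G i) A).toLinearMap.rTensor M x = 0) :
    ∃ j, ∃ h : i ≤ j, (g i j h).toLinearMap.rTensor M x = 0 := by
  classical
  have := hc.1
  have := hc.2.1
  let f := fun i j h => (g i j h).toLinearMap
  have : DirectedSystem G fun i j h => ⇑(f i j h) :=
    ⟨fun i x => RingHom.congr_fun (hc.2.2.1 i) x, fun _ _ _ hij hjk x => g_comp g hc hij hjk x⟩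
  have hsys : DirectedSystem (fun i => G i ⊗[R] M) fun i j h => ⇑((f i j h).rTensor M) :=
    ⟨fun i x => by
      rw [show f i i le_rfl = LinearMap.id from LinearMap.ext fun a => RingHom.congr_fun (hc.2.2.1 i) a,
        LinearMap.rTensor_id, LinearMap.id_apply],
     fun k j i hij hjk x => by
      rw [← LinearMap.comp_apply, ← LinearMap.rTensor_comp]
      congr 2
      exact LinearMap.ext fun a => g_comp g hc hij hjk a⟩
  let L : Module.DirectLimit G f →ₗ[R] A :=
    Module.DirectLimit.lift R ι G f (fun i => (IsScalarTower.toAlgHom R (G i) A).toLinearMap)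
      fun i j h t => algebraMap_g g hc h t
  have hL : Bijective L := by
    refine ⟨(injective_iff_map_eq_zero L).2 fun z hz => ?_, fun a => ?_⟩
    · obtain ⟨i, t, rfl⟩ := Module.DirectLimit.exists_of z
      rw [Module.DirectLimit.lift_of] at hz
      obtain ⟨j, h, hj⟩ := hc.2.2.2.2.2.2 i t hz
      rw [← Module.DirectLimit.of_f (hij := h) (x := t)]
      exact (congrArg _ hj).trans (map_zero _)
    · obtain ⟨i, t, rfl⟩ := hc.2.2.2.2.2.1 a
      exact ⟨Module.DirectLimit.of R ι G f i t, Module.DirectLimit.lift_of ..⟩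
  have h0 : (Module.DirectLimit.of R ι G f i).rTensor M x = 0 := by
    refine ((LinearEquiv.ofBijective L hL).rTensor M).injective ?_
    rw [map_zero]
    show L.rTensor M _ = 0
    rw [← LinearMap.comp_apply, ← LinearMap.rTensor_comp, show L ∘ₗ Module.DirectLimit.of R ι G f i = (IsScalarTower.toAlgHom R (G i) A).toLinearMap from
      LinearMap.ext fun t => Module.DirectLimit.lift_of (R := R) (f := f) (fun i => (IsScalarTower.toAlgHom R (G i) A).toLinearMap) (fun i j h t => algebraMap_g g hc h t) t, hx]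
  have h1 := congrArg (TensorProduct.directLimitLeft f M) h0
  rw [TensorProduct.directLimitLeft_rTensor_of, map_zero] at h1
  exact Module.DirectLimit.of.zero_exact h1

end Groth.Agent.FlatMor12.ColimTensor
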