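import Groth.Agent.H8Lim.ImmersionSystem
import Groth.Agent.H8Lim.ResidueSystem
import Groth.Agent.H8Lim.ProConsLimit
import Groth.Agent.H8Lim.Constructible
import Groth.Agent.H8ProCons.Global
import Groth.Agent.EGA43.InjFibre.InjLimitScheme

/-!
# Completely decomposed morphisms: ind-constructibility and limits
-/

set_option autoImplicit false
set_option backward.isDefEq.respectTransparency false
set_option maxHeartbeats 1000000

universe u

open CategoryTheory CategoryTheory.Limits AlgebraicGeometry Topology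

namespace Groth.Agent.FlatMor12.CompletelyDecomposed

variable {X Y : Scheme.{u}} {f : X ⟶ Y}

/-- A point of the fibre with trivial residue field extension, as a morphism. -/
def HasPt (f : X ⟶ Y) (y : Y) : Prop :=
  ∃ σ : Spec (Y.residueField y) ⟶ X, σ ≫ f = Y.fromSpecResidueField y

theorem hasPt_of_bijective {x : X} (h : Function.Bijective (f.residueFieldMap x)) : HasPt f (f x) := by
  haveI : IsIso (f.residueFieldMap x) := (ConcreteCategory.isIso_iff_bijective _).2 h
  refine ⟨Spec.map (inv (f.residueFieldMap x)) ≫ X.fromSpecResidueField x, ?_⟩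
  rw [Category.assoc, ← f.SpecMap_residueFieldMap_fromSpecResidueField, ← Category.assoc, ← Spec.map_comp,
    IsIso.hom_inv_id, Spec.map_id, Category.id_comp]

theorem exists_of_hasPt {y : Y} (h : HasPt f y) : ∃ x : X, f x = y ∧ Function.Bijective (f.residueFieldMap x) := by
  obtain ⟨σ, hσ⟩ := h
  obtain ⟨⟨x, φ⟩, rfl⟩ := (Scheme.SpecToEquivOfField _ X).symm.surjective σ
  change (Spec.map φ ≫ X.fromSpecResidueField x) ≫ f = _ at hσ
  rw [Category.assoc, ← f.SpecMap_residueFieldMap_fromSpecResidueField, ← Category.assoc, ← Spec.map_comp] at hσ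
  have hy : f x = y := by
    have := congrArg (fun m : Spec (Y.residueField y) ⟶ Y => m (IsLocalRing.closedPoint (Y.residueField y))) hσ
    simp only [Scheme.Hom.comp_apply, Scheme.fromSpecResidueField_apply] at this
    exact this
  subst hy
  have h1 : f.residueFieldMap x ≫ φ = 𝟙 _ := Spec.map_injective
    ((cancel_mono (Y.fromSpecResidueField (f x))).1 (hσ.trans ((congrArg (· ≫ _) (Spec.map_id _)).trans (Category.id_comp _)).symm))
  refine ⟨x, rfl, RingHom.injective _, fun a => ⟨φ a, RingHom.injective φ.hom ?_⟩⟩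
  exact ConcreteCategory.congr_hom h1 (φ a)

theorem hasPt_iff_exists {y : Y} : HasPt f y ↔ ∃ x : X, f x = y ∧ Function.Bijective (f.residueFieldMap x) :=
  ⟨exists_of_hasPt, fun ⟨_, hx, h⟩ => hx ▸ hasPt_of_bijective h⟩

theorem hasPt_baseChange_iff {X' Y' : Scheme.{u}} {f' : X' ⟶ Y'} {qX : X' ⟶ X} {qY : Y' ⟶ Y}
    (h : IsPullback qX f' f qY) {y : Y'} :
    HasPt f' y ↔ ∃ σ : Spec (Y'.residueField y) ⟶ X, σ ≫ f = Y'.fromSpecResidueField y ≫ qY :=
  ⟨fun ⟨σ, hσ⟩ => ⟨σ ≫ qX, by rw [Category.assoc, h.w, reassoc_of% hσ]⟩,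
    fun ⟨σ, hσ⟩ => ⟨h.lift σ _ hσ, h.lift_snd _ _ _⟩⟩

theorem HasPt.baseChange {X' Y' : Scheme.{u}} {f' : X' ⟶ Y'} {qX : X' ⟶ X} {qY : Y' ⟶ Y}
    (h : IsPullback qX f' f qY) {y : Y'} (hy : HasPt f (qY y)) : HasPt f' y := by
  obtain ⟨σ, hσ⟩ := hy
  refine (hasPt_baseChange_iff h).2 ⟨Spec.map (qY.residueFieldMap y) ≫ σ, ?_⟩
  rw [Category.assoc, hσ, qY.SpecMap_residueFieldMap_fromSpecResidueField]

variable (f) [LocallyOfFinitePresentation f]

/-- The residue trivial point spreads out to an affine finitely presented subscheme. -/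
theorem exists_stratum {y : Y} (h : HasPt f y) :
    ∃ (U : Y.Opens) (T : Scheme.{u}) (t : T ⟶ (U : Scheme.{u})) (g : T ⟶ X), IsAffineOpen U ∧ IsAffine T ∧
      LocallyOfFinitePresentation t ∧ IsImmersion t ∧ y ∈ Set.range (t ≫ U.ι) ∧ g ≫ f = t ≫ U.ι ∧
      ∀ w, HasPt f ((t ≫ U.ι) w) := by
  obtain ⟨σ, hσ⟩ := h
  obtain ⟨I, _, _, D, c, hc, hD, e, U, t, _, hU, ht, htc, htt⟩ := H8Lim.exists_immersion_system y
  haveI : ∀ i, IsAffine (D.obj i) := fun i => (ht i).1
  obtain ⟨i, g, hg, hgf⟩ := Scheme.exists_π_app_comp_eq_of_locallyOfFinitePresentation D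
    { app := fun i => t i ≫ U.ι
      naturality := fun i j a => by
        dsimp
        rw [← Category.assoc, htt a, Category.comp_id] } f c hc (e ≫ σ) (by
      ext i
      show c.π.app i ≫ t i ≫ U.ι = (e ≫ σ) ≫ f
      rw [htc i, Category.assoc, hσ])
  refine ⟨U, D.obj i, t i, g, hU, (ht i).1, (ht i).2.1, (ht i).2.2,
    ⟨c.π.app i ((inv e) (IsLocalRing.closedPoint _)), ?_⟩, hgf, fun w => ?_⟩
  · rw [← Scheme.Hom.comp_apply, htc i, Scheme.Hom.comp_apply]
    exact Y.fromSpecResidueField_apply y _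
  · haveI := (ht i).2.2
    haveI : IsIso ((t i ≫ U.ι).residueFieldMap w) := by
      rw [ConcreteCategory.isIso_iff_bijective]
      refine ⟨RingHom.injective _, fun a => ?_⟩
      obtain ⟨a, rfl⟩ := (D.obj i).residue_surjective w a
      obtain ⟨b, rfl⟩ := (t i ≫ U.ι).stalkMap_surjective w a
      exact ⟨Y.residue _ b, ConcreteCategory.congr_hom (Scheme.residue_residueFieldMap (t i ≫ U.ι) w) b⟩
    refine ⟨Spec.map (inv ((t i ≫ U.ι).residueFieldMap w)) ≫ (D.obj i).fromSpecResidueField w ≫ g, ?_⟩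
    rw [Category.assoc, Category.assoc, hgf,
      ← (t i ≫ U.ι).SpecMap_residueFieldMap_fromSpecResidueField, ← Category.assoc, ← Spec.map_comp,
      IsIso.hom_inv_id, Spec.map_id, Category.id_comp]

theorem isIndConstructible_hasPt : ProCons.IsIndConstructible {y : Y | HasPt f y} :=
  H8Lim.isIndConstructible_of_spread fun y hy => by
    obtain ⟨U, T, t, g, hU, hT, hlfp, -, hyT, -, hall⟩ := exists_stratum f hy
    exact ⟨U, T, t, hU, hT, hlfp, hyT, fun _ ⟨w, hw⟩ => hw ▸ hall w⟩

/-- A completely decomposed morphism to a qcqs scheme has a finite stratification with sections. -/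
theorem exists_strata [CompactSpace Y] [QuasiSeparatedSpace Y] (h : ∀ y, HasPt f y) :
    ∃ (n : ℕ) (T : Fin n → Scheme.{u}) (t : ∀ i, T i ⟶ Y) (g : ∀ i, T i ⟶ X), (∀ y, ∃ i, y ∈ Set.range (t i)) ∧
      ∀ i, IsImmersion (t i) ∧ LocallyOfFinitePresentation (t i) ∧ QuasiCompact (t i) ∧ IsAffine (T i) ∧
        g i ≫ f = t i := by
  choose U T t g hU hT hlfp himm hy hg _ using fun y => exists_stratum f (h y)
  have hq : ∀ y, QuasiCompact (t y ≫ (U y).ι) := fun y => by
    haveI := hT y
    haveI : QuasiCompact ((t y ≫ (U y).ι) ≫ terminal.from Y) := by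
      rw [quasiCompact_iff_compactSpace]
      infer_instance
    exact QuasiCompact.of_comp _ (terminal.from Y)
  have hopen : ∀ y, IsOpen[constructibleTopology Y] (Set.range (t y ≫ (U y).ι)) := fun y => by
    haveI := hlfp y
    haveI := hq y
    refine H8ProCons.isOpen_cons_of_isLocallyConstructible ?_
    rw [← Set.image_univ]
    exact (t y ≫ (U y).ι).isLocallyConstructible_image Topology.IsLocallyConstructible.univ
  obtain ⟨s, hs⟩ := @IsCompact.elim_finite_subcover Y (constructibleTopology Y) _ _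
    (H8ProCons.isCompact_cons (@isClosed_univ Y (constructibleTopology Y))) _ hopen
    (fun y _ => Set.mem_iUnion.2 ⟨y, hy y⟩)
  let e := s.equivFin
  refine ⟨s.card, fun i => T (e.symm i).1, fun i => t (e.symm i).1 ≫ (U (e.symm i).1).ι, fun i => g (e.symm i).1,
    fun y => ?_, fun i => ⟨?_, ?_, hq _, hT _, hg _⟩⟩
  · obtain ⟨k, hk, hyk⟩ := Set.mem_iUnion₂.1 (hs (Set.mem_univ y))
    refine ⟨e ⟨k, hk⟩, ?_⟩
    show y ∈ Set.range (t (e.symm (e ⟨k, hk⟩)).1 ≫ (U (e.symm (e ⟨k, hk⟩)).1).ι)
    rw [Equiv.symm_apply_apply]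
    exact hyk
  · haveI := himm (e.symm i).1; infer_instance
  · haveI := hlfp (e.symm i).1; infer_instance

section Limit

variable {I : Type u} [SmallCategory I] [IsCofiltered I] {E : I ⥤ Scheme.{u}} {c : Cone E}

/-- Every element of a residue field of the limit comes from a stage. -/
theorem exists_residue_stage (hc : IsLimit c) [∀ {i j} (a : i ⟶ j), IsAffineHom (E.map a)]
    (p : ∀ j, E.obj j ⟶ Y) [∀ j, IsAffineHom (p j)] (hp : ∀ {j k} (a : j ⟶ k), E.map a ≫ p k = p j)
    (q : c.pt ⟶ Y) [IsAffineHom q] (hq : ∀ j, c.π.app j ≫ p j = q) (y : c.pt) (a : c.pt.residueField y) :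
    ∃ (j : I) (b : (E.obj j).residueField (c.π.app j y)), (c.π.app j).residueFieldMap y b = a := by
  obtain ⟨U, hU, hyU, -⟩ := exists_isAffineOpen_mem_and_subset (x := q y) (U := ⊤) trivial
  letI : ∀ j, Algebra Γ(Y, U) Γ(E.obj j, p j ⁻¹ᵁ U) := fun j =>
    ((p j).appLE U (p j ⁻¹ᵁ U) le_rfl).hom.toAlgebra
  letI : Algebra Γ(Y, U) Γ(c.pt, q ⁻¹ᵁ U) := (q.appLE U (q ⁻¹ᵁ U) le_rfl).hom.toAlgebra
  have hs := EGA43.InjFibre.colimSys_preimage (E := E) (cE := c) hc p hp q hq hU
  let V := q ⁻¹ᵁ U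
  have hV : IsAffineOpen V := hU.preimage q
  have hev : ∀ s : Γ(c.pt, V), ∃ (j : I) (b : (E.obj j).residueField (c.π.app j y)),
      (c.π.app j).residueFieldMap y b = c.pt.evaluation V y hyU s := fun s => by
    obtain ⟨j, t, ht⟩ := hs.surj s
    have hyj : c.π.app j y ∈ p j ⁻¹ᵁ U := by
      show p j (c.π.app j y) ∈ U
      rw [← Scheme.Hom.comp_apply, hq j]
      exact hyU
    refine ⟨j, (E.obj j).evaluation _ _ hyj t, ?_⟩
    rw [← ht]
    show (c.π.app j).residueFieldMap y _ = c.pt.evaluation V y hyU ((c.π.app j).appLE _ V _ t)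
    rw [Scheme.evaluation_naturality_apply]
    simp only [Scheme.evaluation, Scheme.Hom.appLE, CommRingCat.hom_comp, RingHom.coe_comp, Function.comp_apply]
    exact congrArg (c.pt.residue y).hom (TopCat.Presheaf.germ_res_apply c.pt.presheaf _ y hyU _).symm
  obtain ⟨g, rfl⟩ := c.pt.residue_surjective y a
  letI := TopCat.Presheaf.algebra_section_stalk c.pt.presheaf (U := V) ⟨y, hyU⟩
  haveI := hV.isLocalization_stalk ⟨y, hyU⟩
  obtain ⟨s, d, rfl⟩ := IsLocalization.exists_mk'_eq (hV.primeIdealOf ⟨y, hyU⟩).asIdeal.primeCompl g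
  obtain ⟨j₁, b₁, h₁⟩ := hev s
  obtain ⟨j₂, b₂, h₂⟩ := hev d.1
  let k := IsCofiltered.min j₁ j₂
  have hup : ∀ {j : I} (φ : k ⟶ j) (b : (E.obj j).residueField (c.π.app j y)),
      ∃ b' : (E.obj k).residueField (c.π.app k y),
        (c.π.app k).residueFieldMap y b' = (c.π.app j).residueFieldMap y b := fun {j} φ b => by
    have hw := Scheme.Hom.residueFieldMap_congr (c.w φ).symm y
    rw [Scheme.residueFieldMap_comp] at hw
    refine ⟨(E.map φ).residueFieldMap (c.π.app k y) (((E.obj j).residueFieldCongr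
      (by rw [← Scheme.Hom.comp_apply, c.w φ]; rfl)).hom b), ?_⟩
    exact (ConcreteCategory.congr_hom hw b).symm
  obtain ⟨b₁', h₁'⟩ := hup (IsCofiltered.minToLeft j₁ j₂) b₁
  obtain ⟨b₂', h₂'⟩ := hup (IsCofiltered.minToRight j₁ j₂) b₂
  refine ⟨k, b₁' / b₂', ?_⟩
  rw [map_div₀, h₁', h₂', h₁, h₂]
  have hd : c.pt.evaluation V y hyU d.1 ≠ 0 :=
    ((IsLocalization.map_units (c.pt.presheaf.stalk y) d).map (c.pt.residue y).hom).ne_zero
  rw [div_eq_iff hd]
  have hm := congrArg (c.pt.residue y).hom (IsLocalization.mk'_spec (c.pt.presheaf.stalk y) s d)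
  rw [map_mul] at hm
  exact hm.symm

theorem exists_stage_hasPt (hc : IsLimit c) [∀ {i j} (a : i ⟶ j), IsAffineHom (E.map a)]
    (p : ∀ j, E.obj j ⟶ Y) [∀ j, IsAffineHom (p j)] (hp : ∀ {j k} (a : j ⟶ k), E.map a ≫ p k = p j)
    (q : c.pt ⟶ Y) [IsAffineHom q] (hq : ∀ j, c.π.app j ≫ p j = q) {y : c.pt}
    (h : ∃ σ : Spec (c.pt.residueField y) ⟶ X, σ ≫ f = c.pt.fromSpecResidueField y ≫ q) :
    ∃ j : I, ∃ σ : Spec ((E.obj j).residueField (c.π.app j y)) ⟶ X,
      σ ≫ f = (E.obj j).fromSpecResidueField _ ≫ p j := by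
  obtain ⟨σ, hσ⟩ := h
  obtain ⟨⟨x, φ⟩, rfl⟩ := (Scheme.SpecToEquivOfField _ X).symm.surjective σ
  change (Spec.map φ ≫ X.fromSpecResidueField x) ≫ f = _ at hσ
  have hfg : ∀ s : Finset (X.residueField x), ∃ j : I, ∀ a ∈ s, ∃ b, (c.π.app j).residueFieldMap y b = φ a := by
    classical
    intro s
    induction s using Finset.induction with
    | empty => exact ⟨IsCofiltered.nonempty.some, fun a h => absurd h (Finset.notMem_empty a)⟩
    | insert a s _ ih =>
      obtain ⟨j, hj⟩ := ih
      obtain ⟨j', b, hb⟩ := exists_residue_stage hc p hp q hq y (φ a)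
      have hup : ∀ {i : I} (ψ : IsCofiltered.min j j' ⟶ i) (z : c.pt.residueField y),
          (∃ b, (c.π.app i).residueFieldMap y b = z) →
            ∃ b, (c.π.app (IsCofiltered.min j j')).residueFieldMap y b = z := by
        rintro i ψ z ⟨b, rfl⟩
        have hw := Scheme.Hom.residueFieldMap_congr (c.w ψ).symm y
        rw [Scheme.residueFieldMap_comp] at hw
        exact ⟨_, (ConcreteCategory.congr_hom hw b).symm⟩
      refine ⟨IsCofiltered.min j j', fun a' ha' => ?_⟩
      rcases Finset.mem_insert.1 ha' with rfl | ha'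
      · exact hup (IsCofiltered.minToRight j j') _ ⟨b, hb⟩
      · exact hup (IsCofiltered.minToLeft j j') _ (hj a' ha')
  have hess : (f.residueFieldMap x).hom.EssFiniteType := by
    have h1 : ((f.residueFieldMap x).hom.comp (Y.residue (f x)).hom).EssFiniteType := by
      rw [← CommRingCat.hom_comp, Scheme.residue_residueFieldMap, CommRingCat.hom_comp]
      exact RingHom.EssFiniteType.stableUnderComposition _ _ (LocallyOfFiniteType.stalkMap f x)
        (RingHom.FiniteType.of_surjective _ (X.residue_surjective x)).essFiniteType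
    algebraize [(Y.residue (f x)).hom, (f.residueFieldMap x).hom,
      ((f.residueFieldMap x).hom.comp (Y.residue (f x)).hom)]
    haveI : Algebra.EssFiniteType (Y.presheaf.stalk (f x)) (X.residueField x) := h1
    exact Algebra.EssFiniteType.of_comp (Y.presheaf.stalk (f x)) (Y.residueField (f x)) (X.residueField x)
  algebraize [(f.residueFieldMap x).hom]
  obtain ⟨s, hs⟩ := IntermediateField.fg_top (Y.residueField (f x)) (X.residueField x)
  obtain ⟨j, hj⟩ := hfg s
  have hpt : f x = p j (c.π.app j y) := by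
    have := congrArg (fun m : Spec (c.pt.residueField y) ⟶ Y => m (IsLocalRing.closedPoint (c.pt.residueField y))) hσ
    simp only [Scheme.Hom.comp_apply, Scheme.fromSpecResidueField_apply] at this
    rw [this, ← Scheme.Hom.comp_apply, hq j]
    rfl
  let ψ : Y.residueField (f x) ⟶ (E.obj j).residueField (c.π.app j y) :=
    (Y.residueFieldCongr hpt).hom ≫ (p j).residueFieldMap (c.π.app j y)
  have hψ : f.residueFieldMap x ≫ φ = ψ ≫ (c.π.app j).residueFieldMap y := by
    refine Spec.map_injective ((cancel_mono (Y.fromSpecResidueField (f x))).1 ?_)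
    rw [Spec.map_comp, Category.assoc, f.SpecMap_residueFieldMap_fromSpecResidueField, ← Category.assoc, hσ]
    simp only [ψ, Spec.map_comp, Category.assoc]
    rw [Scheme.residueFieldCongr_fromSpecResidueField, Scheme.Hom.SpecMap_residueFieldMap_fromSpecResidueField,
      ← Category.assoc, Scheme.Hom.SpecMap_residueFieldMap_fromSpecResidueField, Category.assoc, hq j]
    rfl
  let K : Subfield (c.pt.residueField y) := ((c.π.app j).residueFieldMap y).hom.fieldRange
  have hle : ∀ z, φ.hom z ∈ K := by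
    let L : IntermediateField (Y.residueField (f x)) (X.residueField x) :=
      { toSubalgebra :=
          { carrier := {z | φ.hom z ∈ K}
            mul_mem' := fun {a b} ha hb => by show φ.hom (a * b) ∈ K; rw [map_mul]; exact mul_mem ha hb
            add_mem' := fun {a b} ha hb => by show φ.hom (a + b) ∈ K; rw [map_add]; exact add_mem ha hb
            algebraMap_mem' := fun r => ⟨ψ r, (ConcreteCategory.congr_hom hψ r).symm⟩ }
        inv_mem' := fun a ha => by show φ.hom a⁻¹ ∈ K; rw [map_inv₀]; exact inv_mem ha }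
    have : (⊤ : IntermediateField _ _) ≤ L := hs ▸ IntermediateField.adjoin_le_iff.2 fun a ha => hj a ha
    exact fun z => this (IntermediateField.mem_top (x := z))
  choose lift hlift using hle
  have hinj : Function.Injective ((c.π.app j).residueFieldMap y).hom := RingHom.injective _
  let φ' : X.residueField x ⟶ (E.obj j).residueField (c.π.app j y) := CommRingCat.ofHom
    { toFun := lift
      map_one' := hinj (by rw [hlift, map_one, map_one])
      map_mul' := fun a b => hinj (by rw [map_mul ((c.π.app j).residueFieldMap y).hom, hlift, hlift, hlift, map_mul])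
      map_zero' := hinj (by rw [hlift, map_zero, map_zero])
      map_add' := fun a b => hinj (by rw [map_add ((c.π.app j).residueFieldMap y).hom, hlift, hlift, hlift, map_add]) }
  have hφ' : f.residueFieldMap x ≫ φ' = ψ := CommRingCat.hom_ext (RingHom.ext fun r => hinj
    ((hlift _).trans (ConcreteCategory.congr_hom hψ r)))
  refine ⟨j, Spec.map φ' ≫ X.fromSpecResidueField x, ?_⟩
  rw [Category.assoc, ← f.SpecMap_residueFieldMap_fromSpecResidueField, ← Category.assoc, ← Spec.map_comp, hφ']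
  simp only [ψ, Spec.map_comp, Category.assoc]
  rw [Scheme.residueFieldCongr_fromSpecResidueField, Scheme.Hom.SpecMap_residueFieldMap_fromSpecResidueField]

end Limit

open H8Lim in
/-- Complete decomposition descends along limits. -/
theorem exists_stage {I : Type u} [SmallCategory I] [IsCofiltered I] (D : I ⥤ Scheme.{u}) (c : Cone D) (hc : IsLimit c)
    [∀ (i j : I) (a : i ⟶ j), IsAffineHom (D.map a)] {i₀ : I} (q₀ : Y ⟶ D.obj i₀) [CompactSpace Y]
    [QuasiSeparatedSpace Y] {X' Y' : Scheme.{u}} {f' : X' ⟶ Y'} {qX : X' ⟶ X} {qY : Y' ⟶ Y} {q : Y' ⟶ c.pt}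
    (hY : IsPullback qY q q₀ (c.π.app i₀)) (hX : IsPullback qX f' f qY) (h : ∀ y, HasPt f' y) :
    ∃ j : Over i₀, ∀ z : (stage D q₀).obj j, ∃ σ : Spec (((stage D q₀).obj j).residueField z) ⟶ X,
      σ ≫ f = ((stage D q₀).obj j).fromSpecResidueField z ≫ stageFst D q₀ j := by
  haveI : IsAffineHom (c.π.app i₀) := isAffineHom_π_app D c hc i₀
  haveI : IsAffineHom qY := MorphismProperty.of_isPullback hY.flip inferInstance
  let E := stage D q₀
  let cE := stageCone q₀ c qY q hY
  have hcE : IsLimit cE := isLimitStageCone q₀ qY q hY hc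
  haveI : CompactSpace Y' := QuasiCompact.compactSpace_of_compactSpace qY
  haveI : QuasiSeparatedSpace Y' := quasiSeparatedSpace_of_quasiSeparated qY
  haveI : ∀ j, CompactSpace (E.obj j) := fun j => inferInstanceAs (CompactSpace ((stage D q₀).obj j))
  let G : ∀ j, Set (E.obj j) := fun j =>
    {z | HasPt (pullback.snd f (stageFst D q₀ j)) z}
  have hG : ∀ j z, z ∈ G j ↔ ∃ σ : Spec ((E.obj j).residueField z) ⟶ X,
      σ ≫ f = (E.obj j).fromSpecResidueField z ≫ stageFst D q₀ j := fun j z =>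
    hasPt_baseChange_iff (IsPullback.of_hasPullback _ _)
  have hmono : ∀ {j k} (a : k ⟶ j) (z : E.obj k), E.map a z ∈ G j → z ∈ G k := fun {j k} a z hz => by
    obtain ⟨σ, hσ⟩ := (hG _ _).1 hz
    refine (hG _ _).2 ⟨Spec.map ((E.map a).residueFieldMap z) ≫ σ, ?_⟩
    rw [Category.assoc, hσ, ← Category.assoc, (E.map a).SpecMap_residueFieldMap_fromSpecResidueField,
      Category.assoc, stageMap_fst]
  let O : Over i₀ → Set Y' := fun j => cE.π.app j ⁻¹' G j
  have hcov : ∀ y : Y', ∃ j, y ∈ O j := fun y => by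
    obtain ⟨j, hj⟩ := exists_stage_hasPt f (E := E) (c := cE) hcE (fun j => stageFst D q₀ j)
      (fun a => stageMap_fst D q₀ a) qY (fun j => stageProj_fst q₀ c qY q hY j) ((hasPt_baseChange_iff hX).1 (h y))
    exact ⟨j, (hG _ _).2 hj⟩
  have hopen : ∀ j, IsOpen[constructibleTopology Y'] (O j) := fun j =>
    H8ProCons.isOpen_cons_iff_isIndConstructible.2
      (H8ProCons.isIndConstructible_preimage (cE.π.app j) (isIndConstructible_hasPt _))
  obtain ⟨s, hs⟩ := @IsCompact.elim_finite_subcover Y' (constructibleTopology Y') _ _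
    (H8ProCons.isCompact_cons (@isClosed_univ Y' (constructibleTopology Y'))) O hopen
    (fun y _ => Set.mem_iUnion.2 (hcov y))
  classical
  obtain ⟨k, hk⟩ := IsCofiltered.inf_objs_exists s
  have hall : ∀ y : Y', cE.π.app k y ∈ G k := fun y => by
    obtain ⟨j, hj, hy⟩ := Set.mem_iUnion₂.1 (hs (Set.mem_univ y))
    obtain ⟨a⟩ := hk hj
    refine hmono a _ ?_
    rw [← Scheme.Hom.comp_apply, cE.w a]
    exact hy
  obtain ⟨l, b, hb⟩ := exists_preimage_subset_of_isProConstructible (D := E) hcE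
    (P := (G k)ᶜ) (C := ∅) (H8ProCons.isIndConstructible_iff_compl.1 (isIndConstructible_hasPt _))
    Topology.IsConstructible.empty (fun y hy => hy (hall y))
  refine ⟨l, fun z => (hG _ _).1 (hmono b z ?_)⟩
  by_contra hz
  exact hb hz

end Groth.Agent.FlatMor12.CompletelyDecomposed
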