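import Mathlib
import Groth.Agent.S4953
import Groth.Agent.S1324
import Groth.Agent.S1326
import Groth.Agent.S2502
import Groth.Agent.S9765
import Groth.Agent.EGA43.Cons.Topological
import Groth.Agent.FlatMorGeomRed.Constr

/-!
# Open neighbourhoods of a geometrically connected fibre with geometrically connected fibres
-/

set_option autoImplicit false
set_option backward.isDefEq.respectTransparency false

universe u

open CategoryTheory CategoryTheory.Limits AlgebraicGeometry TopologicalSpace Topology

namespace Groth.Agent.FlatMor12.ConnectedNhd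

theorem isCompact_of_isConstructible {X : Scheme.{u}} [CompactSpace X] [QuasiSeparatedSpace X]
    {s : Set X} (hs : IsConstructible s) : IsCompact s := by
  have : Nonempty {U : X.Opens // IsCompact (U : Set X)} := ⟨⟨⊥, by simp⟩⟩
  refine IsConstructible.induction_of_isTopologicalBasis
    (P := fun s _ => IsCompact s) (fun U : {U : X.Opens // IsCompact (U : Set X)} => (U.1 : Set X))
    (TopologicalSpace.isTopologicalBasis_of_isOpen_of_nhds ?_ ?_) (fun U => U.2) (fun i t ht => ?_)
    (fun _ _ _ _ h1 h2 => h1.union h2) s hs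
  · rintro _ ⟨U, rfl⟩
    exact U.1.2
  · intro x v hx hv
    obtain ⟨_, ⟨W, hW, rfl⟩, hxW, hWv⟩ := X.isBasis_affineOpens.exists_subset_of_mem_open hx hv
    exact ⟨_, ⟨⟨W, hW.isCompact⟩, rfl⟩, hxW, hWv⟩
  · exact IsCompact.diff i.2 (isOpen_biUnion fun j _ => j.1.2)

variable {X Z Y : Scheme.{u}}

/-- The section components of a flat fp morphism with geometrically reduced fibres are open. -/
theorem isOpen_sectionComponents {P : Scheme.{u}} (q : P ⟶ Z) (τ : Z ⟶ P) (hτ : τ ≫ q = 𝟙 Z)
    [Flat q] [LocallyOfFinitePresentation q] [QuasiCompact q] [QuasiSeparated q]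
    [GeometricallyReduced q] : IsOpen (MoreMor.sectionComponents q τ) := by
  rw [← subset_interior_iff_isOpen]
  intro p hp
  exact S4953.result q τ hτ (q p) (fun x' _ =>
    (FlatMorGeomRed.geometricallyReduced_iff_forall _).1
      (inferInstance : GeometricallyReduced (q.fiberToSpecResidueField (q p))) x') hp

/-- Section components do not depend on the chosen lift of the point of the base, as soon as
they share a point over the given fibre. -/
theorem mem_sectionComponents_of_mem (f : X ⟶ Y) (g : Z ⟶ Y) (τ : Z ⟶ pullback f g)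
    (hτ : τ ≫ pullback.snd f g = 𝟙 Z) {x₀ : X}
    (hx₀ : ∀ p, pullback.fst f g p = x₀ → p ∈ MoreMor.sectionComponents (pullback.snd f g) τ)
    {x : X} (hx : f x = f x₀) {p' p'' : ↑(pullback f g)} (hp' : pullback.fst f g p' = x)
    (hp'' : pullback.fst f g p'' = x) (h : p' ∈ MoreMor.sectionComponents (pullback.snd f g) τ) :
    p'' ∈ MoreMor.sectionComponents (pullback.snd f g) τ := by
  let p := pullback.fst f g
  let q := pullback.snd f g
  obtain ⟨t, ht', ht''⟩ := Scheme.Pullback.exists_preimage_pullback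
    (f := p) (g := p) p' p'' (hp'.trans hp''.symm)
  let Q := pullback p p
  let L := Q.residueField t
  let a := Q.fromSpecResidueField t
  let xL : Spec L ⟶ X := a ≫ pullback.fst p p ≫ p
  have hxL : a ≫ pullback.snd p p ≫ p = xL := by simp only [xL]; rw [pullback.condition]
  let z' : Spec L ⟶ Z := a ≫ pullback.fst p p ≫ q
  let z'' : Spec L ⟶ Z := a ≫ pullback.snd p p ≫ q
  let b : Spec L ⟶ Y := xL ≫ f
  have hz' : z' ≫ g = b := by
    simp only [z', b, xL, p, q, Category.assoc]
    rw [pullback.condition (f := f) (g := g)]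
  have hz'' : z'' ≫ g = b := by
    rw [show b = (a ≫ pullback.snd p p ≫ p) ≫ f from congrArg (· ≫ f) hxL.symm]
    simp only [z'', p, q, Category.assoc, pullback.condition]
  let e' : pullback f b ⟶ pullback f g :=
    pullback.lift (pullback.fst f b) (pullback.snd f b ≫ z') (by rw [pullback.condition, Category.assoc, hz'])
  let e'' : pullback f b ⟶ pullback f g :=
    pullback.lift (pullback.fst f b) (pullback.snd f b ≫ z'') (by rw [pullback.condition, Category.assoc, hz''])
  have sq' : IsPullback e' (pullback.snd f b) q z' := by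
    refine IsPullback.of_right ?_ (pullback.lift_snd _ _ _) (IsPullback.of_hasPullback f g)
    rw [pullback.lift_fst, hz']
    exact IsPullback.of_hasPullback f b
  have sq'' : IsPullback e'' (pullback.snd f b) q z'' := by
    refine IsPullback.of_right ?_ (pullback.lift_snd _ _ _) (IsPullback.of_hasPullback f g)
    rw [pullback.lift_fst, hz'']
    exact IsPullback.of_hasPullback f b
  let s' : Spec L ⟶ pullback f b := sq'.lift (z' ≫ τ) (𝟙 _) (by rw [Category.assoc, hτ]; simp)
  let s'' : Spec L ⟶ pullback f b := sq''.lift (z'' ≫ τ) (𝟙 _) (by rw [Category.assoc, hτ]; simp)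
  have hC' := S1324.result q τ hτ (pullback.snd f b) e' z' sq' s' (sq'.lift_snd _ _ _) (sq'.lift_fst _ _ _)
  have hC'' := S1324.result q τ hτ (pullback.snd f b) e'' z'' sq'' s'' (sq''.lift_snd _ _ _)
    (sq''.lift_fst _ _ _)
  let pt : ↥(Spec L) := IsLocalRing.closedPoint L
  let w : ↑(pullback f b) := pullback.lift xL (𝟙 _) (by simp [b]) pt
  have hw' : e' w = p' := by
    rw [← ht', ← Scheme.Hom.comp_apply, show pullback.lift xL (𝟙 _) (by simp [b]) ≫ e' =
      a ≫ pullback.fst p p from pullback.hom_ext (by simp [e', xL, p]) (by simp [e', z', q]; exact Category.id_comp _),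
      Scheme.Hom.comp_apply]
    exact congrArg _ (Q.fromSpecResidueField_apply t pt)
  have hw'' : e'' w = p'' := by
    rw [← ht'', ← Scheme.Hom.comp_apply, show pullback.lift xL (𝟙 _) (by simp [b]) ≫ e'' =
      a ≫ pullback.snd p p from pullback.hom_ext
        (by simp only [e'', Category.assoc, pullback.lift_fst]; exact hxL.symm) (by simp [e'', z'', q]; exact Category.id_comp _),
      Scheme.Hom.comp_apply]
    exact congrArg _ (Q.fromSpecResidueField_apply t pt)
  have hbpt : f x₀ = b pt := by
    have h1 : xL pt = x := by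
      rw [← hp', ← ht']
      exact congrArg (fun v => p ((pullback.fst p p) v)) (Q.fromSpecResidueField_apply t pt)
    rw [show b pt = f (xL pt) from rfl, h1, hx]
  obtain ⟨w₀, hw₀, -⟩ := Scheme.Pullback.exists_preimage_pullback (f := f) (g := b) x₀ pt hbpt
  have h0' : w₀ ∈ e' ⁻¹' MoreMor.sectionComponents q τ :=
    hx₀ (e' w₀) (by rw [← Scheme.Hom.comp_apply, pullback.lift_fst]; exact hw₀)
  have h0'' : w₀ ∈ e'' ⁻¹' MoreMor.sectionComponents q τ :=
    hx₀ (e'' w₀) (by rw [← Scheme.Hom.comp_apply, pullback.lift_fst]; exact hw₀)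
  have h1 : w ∈ e' ⁻¹' MoreMor.sectionComponents q τ := by
    rw [Set.mem_preimage, hw']; exact h
  rw [← hC'] at h0' h1
  rw [← hC''] at h0''
  have hsub : Subsingleton ↥(Spec L) := inferInstanceAs (Subsingleton (PrimeSpectrum L))
  have huniv : ∀ v : ↑(pullback f b), (pullback.snd f b) ⁻¹' {(pullback.snd f b) v} = Set.univ :=
    fun v => Set.eq_univ_of_forall fun _ => Subsingleton.elim _ _
  have h2 : w ∈ MoreMor.sectionComponents (pullback.snd f b) s'' := by
    simp only [MoreMor.sectionComponents, Set.mem_ofPred_eq, huniv] at h0' h0'' h1 ⊢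
    rw [connectedComponentIn_univ] at *
    rw [Subsingleton.elim ((pullback.snd f b) w₀) ((pullback.snd f b) w)] at h0' h0''
    rw [connectedComponent_eq h0'', ← connectedComponent_eq h0']
    exact h1
  rw [hC''] at h2
  have h3 : e'' w ∈ MoreMor.sectionComponents q τ := h2
  rwa [hw''] at h3

theorem exists_connected_nhd (f : X ⟶ Y) [Flat f] [LocallyOfFinitePresentation f] [QuasiCompact f]
    [QuasiSeparated f] [GeometricallyReduced f] (g : Z ⟶ Y) [IsFinite g] [Flat g]
    [LocallyOfFinitePresentation g] (σ : Z ⟶ X) (hσ : σ ≫ f = g) (y : Y) (hZy : y ∈ Set.range g)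
    (hXy : GeometricallyConnected (f.fiberToSpecResidueField y)) :
    ∃ U : X.Opens, IsCompact (U : Set X) ∧ f ⁻¹' {y} ⊆ (U : Set X) ∧
      (∀ x ∈ U, f x ∈ Set.range g) ∧
      ∀ y' : Y, (∃ x ∈ U, f x = y') → GeometricallyConnected ((U.ι ≫ f).fiberToSpecResidueField y') := by
  let p := pullback.fst f g
  let q := pullback.snd f g
  let τ : Z ⟶ pullback f g := pullback.lift σ (𝟙 Z) (by simp [hσ])
  have hτ : τ ≫ q = 𝟙 Z := pullback.lift_snd _ _ _
  let W := MoreMor.sectionComponents q τ
  have hW : IsOpen W := isOpen_sectionComponents q τ hτ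
  have hWc : IsLocallyConstructible W := S1326.result q τ hτ
  obtain ⟨A, hA, hyA, hAg⟩ := exists_isAffineOpen_mem_and_subset (x := y)
    (U := ⟨Set.range g, g.isOpenMap.isOpen_range⟩) hZy
  have hpW : IsClosed (p '' Wᶜ) := p.isClosedMap _ hW.isClosed_compl
  let U : X.Opens := ⟨(f ⁻¹ᵁ A : Set X) ∩ (p '' Wᶜ)ᶜ, (f ⁻¹ᵁ A).2.inter hpW.isOpen_compl⟩
  have hmemU : ∀ x, x ∈ U ↔ f x ∈ A ∧ ∀ p', p p' = x → p' ∈ W := fun x => by
    show _ ∧ _ ↔ _
    refine and_congr Iff.rfl ⟨fun h p' hp' => by_contra fun hne => h ⟨p', hne, hp'⟩, ?_⟩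
    rintro h ⟨p', hne, hp'⟩
    exact hne (h p' hp')
  refine ⟨U, ?_, ?_, fun x hx => hAg hx.1, ?_⟩
  · have : CompactSpace (f ⁻¹ᵁ A : Scheme.{u}) :=
      isCompact_iff_compactSpace.1 (f.isCompact_preimage hA.isCompact)
    have : IsAffine (A : Scheme.{u}) := hA
    have : QuasiSeparatedSpace (f ⁻¹ᵁ A : Scheme.{u}) :=
      quasiSeparatedSpace_of_quasiSeparated (f ∣_ A)
    have hcons : IsLocallyConstructible (p '' Wᶜ)ᶜ :=
      EGA43.Cons.isLocallyConstructible_compl (p.isLocallyConstructible_image
        (EGA43.Cons.isLocallyConstructible_compl hWc))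
    have h := isCompact_of_isConstructible
      (hcons.preimage_of_isOpenEmbedding (f ⁻¹ᵁ A).ι.isOpenEmbedding).isConstructible
    have h' := h.image (f ⁻¹ᵁ A).ι.continuous
    rw [Set.image_preimage_eq_range_inter, Scheme.Opens.range_ι] at h'
    exact h'
  · rintro x (hx : f x = y)
    refine (hmemU x).2 ⟨hx ▸ hyA, fun p' hp' => ?_⟩
    have hgz : g (q p') = y := by
      rw [← Scheme.Hom.comp_apply, ← pullback.condition, Scheme.Hom.comp_apply]
      exact (congrArg f hp').trans hx
    have hconn : GeometricallyConnected (q.fiberToSpecResidueField (q p')) :=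
      (Set.ext_iff.1 (S9765.result f g q p (IsPullback.of_hasPullback f g)) (q p')).2
        (by show GeometricallyConnected (f.fiberToSpecResidueField (g (q p'))); rw [hgz]; exact hXy)
    have : ConnectedSpace (q.fiber (q p')) := GeometricallyConnected.connectedSpace_of_subsingleton
      (q.fiberToSpecResidueField (q p'))
    show p' ∈ connectedComponentIn (q ⁻¹' {q p'}) (τ (q p'))
    have hsec : τ (q p') ∈ q ⁻¹' {q p'} := by
      show q (τ (q p')) = q p'
      rw [← Scheme.Hom.comp_apply, hτ]; rfl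
    refine IsPreconnected.subset_connectedComponentIn ?_ hsec subset_rfl rfl
    rw [← q.range_fiberι]
    exact isPreconnected_range (q.fiberι (q p')).continuous
  · rintro y' ⟨x₀, hx₀, rfl⟩
    obtain ⟨z, hz⟩ := hAg hx₀.1
    let fU := U.ι ≫ f
    let q' := (p ⁻¹ᵁ U).ι ≫ q
    have sq : IsPullback (p ∣_ U) q' fU g :=
      (isPullback_morphismRestrict p U).paste_vert (IsPullback.of_hasPullback f g)
    suffices h : GeometricallyConnected (q'.fiberToSpecResidueField z) by
      have h' : GeometricallyConnected (fU.fiberToSpecResidueField (g z)) :=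
        (Set.ext_iff.1 (S9765.result fU g q' (p ∣_ U) sq) z).1 h
      rw [hz] at h'
      exact h'
    have hkey : ∀ p', q p' = z → p' ∈ W → p p' ∈ U := fun p' hp' hW' => by
      have hfx : f (p p') = f x₀ := by
        rw [← hz, ← hp', ← Scheme.Hom.comp_apply, pullback.condition, Scheme.Hom.comp_apply]
      refine (hmemU _).2 ⟨hfx ▸ hx₀.1, fun p'' hp'' => ?_⟩
      exact mem_sectionComponents_of_mem f g τ hτ ((hmemU x₀).1 hx₀).2 hfx rfl hp'' hW'
    have hset : q ⁻¹' {z} ∩ (p ⁻¹' (U : Set X)) = connectedComponentIn (q ⁻¹' {z}) (τ z) := by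
      ext p'
      constructor
      · rintro ⟨h1, h2⟩
        have h3 : p' ∈ connectedComponentIn (q ⁻¹' {q p'}) (τ (q p')) := ((hmemU _).1 h2).2 p' rfl
        rwa [h1] at h3
      · intro h1
        have h2 : q p' = z := connectedComponentIn_subset (q ⁻¹' {z}) (τ z) h1
        exact ⟨h2, hkey p' h2 (show p' ∈ connectedComponentIn (q ⁻¹' {q p'}) (τ (q p')) by rw [h2]; exact h1)⟩
    have hτz : q (τ z) = z := by rw [← Scheme.Hom.comp_apply, hτ]; rfl
    have hτU : τ z ∈ p ⁻¹ᵁ U := (hset.ge (mem_connectedComponentIn hτz)).2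
    have : ConnectedSpace (q'.fiber z) := by
      have hr : Set.range (q'.fiberι z ≫ (p ⁻¹ᵁ U).ι) = connectedComponentIn (q ⁻¹' {z}) (τ z) := by
        rw [← hset, Scheme.Hom.comp_base, TopCat.coe_comp, Set.range_comp, q'.range_fiberι]
        ext p'
        constructor
        · rintro ⟨v, hv, rfl⟩
          exact ⟨hv, v.2⟩
        · rintro ⟨h1, h2⟩
          exact ⟨⟨p', h2⟩, h1, rfl⟩
      have hem : Topology.IsEmbedding (q'.fiberι z ≫ (p ⁻¹ᵁ U).ι) :=
        (p ⁻¹ᵁ U).ι.isEmbedding.comp (q'.fiberι z).isEmbedding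
      have hne : Nonempty ↥(q'.fiber z) := ⟨(hr.ge (mem_connectedComponentIn hτz)).choose⟩
      have hpre : _root_.IsPreconnected (Set.univ : Set ↥(q'.fiber z)) := by
        rw [← hem.isInducing.isPreconnected_image, Set.image_univ, hr]
        exact isPreconnected_connectedComponentIn
      exact { toPreconnectedSpace := ⟨hpre⟩, toNonempty := hne }
    let κ := Z.residueField z
    have hrange : Set.range (Z.fromSpecResidueField z ≫ τ) ⊆ Set.range (p ⁻¹ᵁ U).ι := by
      rintro _ ⟨v, rfl⟩
      rw [Scheme.Opens.range_ι, Scheme.Hom.comp_apply, Z.fromSpecResidueField_apply]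
      exact hτU
    let ρ : Spec κ ⟶ q'.fiber z := pullback.lift
      (IsOpenImmersion.lift (p ⁻¹ᵁ U).ι (Z.fromSpecResidueField z ≫ τ) hrange) (𝟙 _)
      (by simp only [q', ← Category.assoc, IsOpenImmersion.lift_fac]; simp [Category.assoc, hτ])
    have hρ : ρ ≫ q'.fiberToSpecResidueField z = 𝟙 _ := pullback.lift_snd _ _ _
    haveI : Nonempty ↥(Spec κ) := ⟨IsLocalRing.closedPoint κ⟩
    haveI : GeometricallyConnected (ρ ≫ q'.fiberToSpecResidueField z) := by
      rw [hρ]
      refine ⟨fun K _ v T fst snd h => ?_⟩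
      have : IsIso snd := h.isIso_snd_of_isIso
      exact (Scheme.homeoOfIso (asIso snd)).symm.surjective.connectedSpace
        (Scheme.homeoOfIso (asIso snd)).symm.continuous
    exact S2502.result ρ (q'.fiberToSpecResidueField z)

end Groth.Agent.FlatMor12.ConnectedNhd
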