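import Groth.Prelude.Def_StCurv2
import Groth.Agent.FlatMor12.GeomDescent
import Mathlib.AlgebraicGeometry.Morphisms.Proper
import Mathlib.Topology.KrullDimension
import Mathlib.FieldTheory.IsAlgClosed.AlgebraicClosure

/-! Geometric fibres of the classifying family of a curve over a field. -/

set_option autoImplicit false
set_option backward.isDefEq.respectTransparency false
set_option backward.isDefEq.respectTransparency.types false
set_option linter.style.haveILetI false
universe u

open CategoryTheory CategoryTheory.Limits AlgebraicGeometry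

namespace Groth.Agent.FlatMor12.CurvGeomFib

variable {S : Scheme.{u}} {k : Type u} [Field k] (t : Spec (CommRingCat.of k) ⟶ S)
  {X : Scheme.{u}} (p : X ⟶ Spec (CommRingCat.of k))

theorem geomFib_iff (P : ∀ (Ω : Type u) [Field Ω] [IsAlgClosed Ω] (X' : Scheme.{u}),
      (X' ⟶ Spec (CommRingCat.of Ω)) → Prop) (h₁ : Fin 0 → ((Over.mk t).left ⟶ X)) (h₂) :
    CurvSt.GeomFib (fun Ω i j X' q _ => @P Ω i j X' q)
        ((CurvSt.toSpFam S 0).obj ⟨Over.mk t, X, p, h₁, h₂⟩) ↔
      ∀ (Ω : Type u) [Field Ω] [IsAlgClosed Ω] (y : Spec (CommRingCat.of Ω) ⟶ Spec (CommRingCat.of k))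
        (Z : Scheme.{u}) (fst : Z ⟶ X) (snd : Z ⟶ Spec (CommRingCat.of Ω)), IsPullback fst snd p y → P Ω Z snd := by
  constructor
  · intro h Ω _ _ y Z fst snd hsq
    let P₁ : Over.mk (snd ≫ y ≫ t) ⟶ Over.mk (p ≫ t) :=
      Over.homMk fst (by
        show fst ≫ p ≫ t = snd ≫ y ≫ t
        rw [← Category.assoc fst p t, hsq.w]
        simp only [Category.assoc])
    have hO : IsPullback P₁ (Over.homMk snd (by simp) : Over.mk (snd ≫ y ≫ t) ⟶ Over.mk (y ≫ t))
        (Over.homMk p rfl : Over.mk (p ≫ t) ⟶ Over.mk t) (Over.homMk y rfl : Over.mk (y ≫ t) ⟶ Over.mk t) :=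
      IsPullback.of_map (Over.forget S) (Over.OverMorphism.ext hsq.w) hsq
    have hh := fun i hP => h Ω y Z snd i hP
    simp only [Category.assoc] at hh
    exact hh _ (by simpa [CurvSt.toSpFam] using hO.map (AlgSp.yon S))
  · intro h Ω _ _ tΩ X' q i hP
    obtain ⟨i', rfl⟩ := (AlgSp.yon S).map_surjective i
    have h1 := (IsPullback.of_map (AlgSp.yon S) ((AlgSp.yon S).map_injective
      (by rw [Functor.map_comp, Functor.map_comp]; exact hP.w)) hP).map (Over.forget S)
    exact h Ω tΩ _ _ _ h1

/-- A property descending along surjective flat morphisms holds geometrically once it holds on geometric fibres. -/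
theorem geometrically_of_algClosed {Q : ObjectProperty Scheme.{u}}
    (hQ : ∀ ⦃A B : Scheme.{u}⦄ (h : A ⟶ B), Surjective h → Flat h → Q A → Q B)
    (h : ∀ (Ω : Type u) [Field Ω] [IsAlgClosed Ω] (y : Spec (CommRingCat.of Ω) ⟶ Spec (CommRingCat.of k))
        (Z : Scheme.{u}) (fst : Z ⟶ X) (snd : Z ⟶ Spec (CommRingCat.of Ω)), IsPullback fst snd p y → Q Z) :
    geometrically Q p := by
  intro K _ y Z fst snd hsq
  let s : Spec (CommRingCat.of (AlgebraicClosure K)) ⟶ Spec (CommRingCat.of K) :=
    Spec.map (CommRingCat.ofHom (algebraMap K (AlgebraicClosure K)))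
  haveI : Surjective s := ⟨fun x => ⟨IsLocalRing.closedPoint (AlgebraicClosure K), @Subsingleton.elim (PrimeSpectrum K) _ _ _⟩⟩
  haveI : Flat s := by
    rw [HasRingHomProperty.Spec_iff (P := @Flat)]
    exact RingHom.flat_algebraMap_iff.2 inferInstance
  exact hQ (pullback.fst snd s) inferInstance inferInstance
    (h (AlgebraicClosure K) (s ≫ y) _ _ _ ((IsPullback.of_hasPullback snd s).paste_horiz hsq))

end Groth.Agent.FlatMor12.CurvGeomFib
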