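import Mathlib.AlgebraicGeometry.Morphisms.QuasiFinite
import Mathlib.AlgebraicGeometry.IdealSheaf.Subscheme
import Mathlib.RingTheory.Ideal.KrullsHeightTheorem
import Mathlib.RingTheory.Ideal.MinimalPrime.Noetherian

/-! A closed subscheme quasi-finite at a given point, through a given open. -/

universe u

set_option autoImplicit false
set_option backward.isDefEq.respectTransparency false

open AlgebraicGeometry CategoryTheory Limits TopologicalSpace

namespace Groth.Agent.FlatMor12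

theorem exists_prime_le_notMem {C : Type u} [CommRing C] [IsNoetherianRing C] [IsDomain C]
    {Q q : Ideal C} [Q.IsPrime] [q.IsPrime] (hQ : Q ≠ ⊥) (hQq : Q < q) {g : C} (hg : g ≠ 0) :
    ∃ P : Ideal C, P.IsPrime ∧ P ≤ q ∧ P ≠ ⊥ ∧ g ∉ P := by
  by_cases hgq : g ∈ q
  swap
  · exact ⟨q, inferInstance, le_rfl, fun h => not_lt_bot (h ▸ hQq), hgq⟩
  have key : ∀ (f : C) (M : Ideal C), f ≠ 0 → M ∈ (Ideal.span {f}).minimalPrimes →
      ∀ M' : Ideal C, M'.IsPrime → M' ≠ ⊥ → ¬ M' < M := by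
    intro f M hf hM M' hM' hne hlt
    have : M.IsPrime := hM.1.1
    have h3 : M.height ≤ 1 := Ideal.height_le_one_of_isPrincipal_of_mem_minimalPrimes _ M hM
    have h4 := Ideal.height_strict_mono_of_isPrime hlt
    have h5 := Ideal.height_strict_mono_of_isPrime (I := (⊥ : Ideal C)) (J := M') (bot_lt_iff_ne_bot.2 hne)
    rw [Ideal.height_bot] at h5
    exact absurd h3 (not_le.2 (lt_of_le_of_lt (Order.one_le_iff_pos.2 h5) h4))
  have hfin := Ideal.finite_minimalPrimes_of_isNoetherianRing C (Ideal.span {g})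
  obtain ⟨f, hfq, hf⟩ := Set.not_subset.1 (fun hsub : (q : Set C) ⊆
      ⋃ M ∈ (hfin.toFinset : Set (Ideal C)), (M : Set C) => by
    obtain ⟨M, hM, hqM⟩ := (Ideal.subset_union_prime ⊥ ⊥ fun M hM _ _ =>
      (hfin.mem_toFinset.1 hM).1.1).1 hsub
    have hM' := hfin.mem_toFinset.1 hM
    have : M = q := le_antisymm (hM'.2 ⟨inferInstance, by simpa using hgq⟩ hqM) hqM
    exact key g M hg hM' Q inferInstance hQ (this ▸ hQq))
  have hf0 : f ≠ 0 := fun h => by
    obtain ⟨M, hM, -⟩ := Ideal.exists_minimalPrimes_le (I := Ideal.span {g}) (J := q) (by simpa using hgq)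
    exact hf (h ▸ Set.mem_biUnion (hfin.mem_toFinset.2 hM) M.zero_mem)
  obtain ⟨P, hP, hPq⟩ := Ideal.exists_minimalPrimes_le (I := Ideal.span {f}) (J := q) (by simpa using hfq)
  have : P.IsPrime := hP.1.1
  have hfP : f ∈ P := hP.1.2 (Ideal.mem_span_singleton_self f)
  refine ⟨P, this, hPq, fun h => hf0 (by simpa [h] using hfP), fun hgP => ?_⟩
  obtain ⟨M, hM, hMP⟩ := Ideal.exists_minimalPrimes_le (I := Ideal.span {g}) (J := P) (by simpa using hgP)
  have hMne : M ≠ ⊥ := fun h => hg (by simpa [h] using hM.1.2 (Ideal.mem_span_singleton_self g))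
  refine hf (Set.mem_biUnion (hfin.mem_toFinset.2 hM) ?_)
  rcases eq_or_lt_of_le hMP with h | h
  · exact h ▸ hfP
  · exact absurd h (key f P hf0 hP M hM.1.1 hMne)

theorem exists_prime_cut {A B : Type u} [CommRing A] [CommRing B] [IsNoetherianRing B] [Algebra A B]
    (q : Ideal B) [q.IsPrime] (g : B)
    (hg : ∀ Q : Ideal B, Q.IsPrime → Q.comap (algebraMap A B) = q.comap (algebraMap A B) → g ∈ Q)
    (hex : ∃ P : Ideal B, P.IsPrime ∧ P ≤ q ∧ g ∉ P) :
    ∃ P : Ideal B, P.IsPrime ∧ P ≤ q ∧ g ∉ P ∧ ∀ Q : Ideal B, Q.IsPrime → P ≤ Q → Q ≤ q →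
      Q.comap (algebraMap A B) = q.comap (algebraMap A B) → Q = q := by
  obtain ⟨P, ⟨hP, hPq, hgP⟩, hmax⟩ :=
    set_has_maximal_iff_noetherian.2 inferInstance {P : Ideal B | P.IsPrime ∧ P ≤ q ∧ g ∉ P} hex
  refine ⟨P, hP, hPq, hgP, fun Q hQ hPQ hQq hQp => by_contra fun hne => ?_⟩
  let π := Ideal.Quotient.mk P
  have hs : Function.Surjective π := Ideal.Quotient.mk_surjective
  have hmap : ∀ J : Ideal B, P ≤ J → (J.map π).comap π = J := fun J hJ => by
    rw [Ideal.comap_map_of_surjective _ hs, ← RingHom.ker_eq_comap_bot, Ideal.mk_ker, sup_eq_left]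
    exact hJ
  have := Ideal.map_isPrime_of_surjective hs (I := Q) (by rw [Ideal.mk_ker]; exact hPQ)
  have := Ideal.map_isPrime_of_surjective hs (I := q) (by rw [Ideal.mk_ker]; exact hPq)
  have hlt : Q.map π < q.map π := lt_of_le_of_ne (Ideal.map_mono hQq) fun e => hne (by
    rw [← hmap Q hPQ, ← hmap q hPq, e])
  have hQ0 : Q.map π ≠ ⊥ := fun e => by
    have := hmap Q hPQ
    rw [e, ← RingHom.ker_eq_comap_bot, Ideal.mk_ker] at this
    exact hgP (this ▸ hg Q hQ hQp)
  obtain ⟨P', hP', hP'q, hP'0, hgP'⟩ := exists_prime_le_notMem hQ0 hlt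
    (g := π g) fun e => hgP (Ideal.Quotient.eq_zero_iff_mem.1 e)
  refine hmax (P'.comap π) ⟨inferInstance, (Ideal.comap_mono hP'q).trans (hmap q hPq).le, hgP'⟩ ?_
  refine lt_of_le_of_ne (le_of_eq_of_le Ideal.mk_ker.symm (Ideal.comap_mono bot_le)) fun e => hP'0 ?_
  rw [← Ideal.map_comap_of_surjective π hs P', ← e]
  exact Ideal.map_quotient_self P

theorem isOpen_singleton_of_isolated {T : Type*} [TopologicalSpace T] [QuasiSober T]
    [NoetherianSpace T] {x : T} (hgen : ∀ y, y ⤳ x → y = x) (hcl : ∀ y, x ⤳ y → y = x) :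
    IsOpen ({x} : Set T) := by
  have hS : {C ∈ irreducibleComponents T | x ∉ C}.Finite :=
    NoetherianSpace.finite_irreducibleComponents.subset fun C hC => hC.1
  rw [← isClosed_compl_iff]
  convert hS.isClosed_biUnion (f := fun C => C) fun C hC => isClosed_of_mem_irreducibleComponents C hC.1 using 1
  ext y
  simp only [Set.mem_compl_iff, Set.mem_singleton_iff, Set.mem_iUnion, exists_prop]
  refine ⟨fun hy => ?_, fun ⟨C, hC, hyC⟩ h => hC.2 (h ▸ hyC)⟩
  refine ⟨irreducibleComponent y, ⟨irreducibleComponent_mem_irreducibleComponents y, fun hx => hy ?_⟩,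
    mem_irreducibleComponent⟩
  obtain ⟨η, hη⟩ := QuasiSober.sober (S := irreducibleComponent y)
    isIrreducible_irreducibleComponent isClosed_irreducibleComponent
  have := hgen η (hη.specializes hx)
  subst this
  exact hcl y (hη.specializes mem_irreducibleComponent)

theorem exists_closed_quasiFiniteAt {X S : Scheme.{u}} (f : X ⟶ S) [LocallyOfFiniteType f]
    [IsLocallyNoetherian S] (x : X) (hcl : ∀ y, x ⤳ y → f y = f x → y = x) (U : X.Opens)
    (hU : ∀ x' ∈ U, f x' ≠ f x) (hxU : x ∈ closure (U : Set X)) :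
    ∃ (I : X.IdealSheafData) (z₀ x₀ : ↥I.subscheme), I.subschemeι x₀ = x ∧
      (I.subschemeι ≫ f).QuasiFiniteAt x₀ ∧ I.subschemeι z₀ ∈ U ∧ I.subschemeι z₀ ⤳ x ∧
        f (I.subschemeι z₀) ≠ f x := by
  have := LocallyOfFiniteType.isLocallyNoetherian f
  obtain ⟨W, hW, hxW, -⟩ := exists_isAffineOpen_mem_and_subset (x := f x) (U := ⊤) (Set.mem_univ _)
  obtain ⟨V, hV, hxV, hVW⟩ := exists_isAffineOpen_mem_and_subset (x := x) (U := f ⁻¹ᵁ W) hxW
  have e : V ≤ f ⁻¹ᵁ W := hVW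
  algebraize [(f.appLE W V e).hom]
  have : IsNoetherianRing Γ(X, V) := IsLocallyNoetherian.component_noetherian ⟨V, hV⟩
  have hover : ∀ Q : PrimeSpectrum Γ(X, V), f (hV.fromSpec Q) =
      hW.fromSpec (PrimeSpectrum.comap (f.appLE W V e).hom Q) := fun Q => by
    rw [← Scheme.Hom.comp_apply, ← hW.SpecMap_appLE_fromSpec f hV e]
    rfl
  let q := hV.primeIdealOf ⟨x, hxV⟩
  have hq : hV.fromSpec q = x := hV.fromSpec_primeIdealOf _
  -- a basic open inside `U` with `x` in its closure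
  let O : Set (PrimeSpectrum Γ(X, V)) := hV.fromSpec ⁻¹' U
  have hO : IsOpen O := U.2.preimage hV.fromSpec.continuous
  obtain ⟨t, ht⟩ := PrimeSpectrum.isBasis_basic_opens.exists_finite_of_isCompact
    (U := ⟨O, hO⟩) (NoetherianSpace.isCompact O)
  have hqO : q ∈ closure O := by
    rw [show closure O = hV.fromSpec ⁻¹' closure (U : Set X) from
      (hV.fromSpec.isOpenEmbedding.isOpenMap.preimage_closure_eq_closure_preimage
        hV.fromSpec.continuous _).symm]
    show hV.fromSpec q ∈ closure (U : Set X)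
    rw [hq]
    exact hxU
  obtain ⟨g, hgO, P₁, hP₁, hgP₁⟩ : ∃ g : Γ(X, V), (PrimeSpectrum.basicOpen g : Set _) ⊆ O ∧
      ∃ P : PrimeSpectrum Γ(X, V), P.asIdeal ≤ q.asIdeal ∧ g ∉ P.asIdeal := by
    obtain ⟨htO, htfin, htU⟩ := ht
    have hOeq : O = ⋃ i ∈ t, (i : Set (PrimeSpectrum Γ(X, V))) := by
      have := congrArg SetLike.coe htU
      simpa [Opens.coe_sSup] using this
    obtain ⟨i, hi, hqi⟩ := Set.mem_iUnion₂.1 (show q ∈ ⋃ i ∈ t, closure (i : Set (PrimeSpectrum Γ(X, V))) by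
      rw [hOeq, htfin.closure_biUnion] at hqO; exact hqO)
    obtain ⟨g, rfl⟩ := htO hi
    refine ⟨g, hOeq ▸ Set.subset_biUnion_of_mem hi, ?_⟩
    by_contra hne
    push Not at hne
    have : algebraMap Γ(X, V) (Localization.AtPrime q.asIdeal) g ∈ nilradical _ := by
      rw [nilradical_eq_sInf, Ideal.mem_sInf]
      intro J (hJ : J.IsPrime)
      exact hne ⟨J.comap (algebraMap _ _), inferInstance⟩ ((IsLocalization.AtPrime.orderIsoOfPrime
        (Localization.AtPrime q.asIdeal) q.asIdeal ⟨J, hJ⟩).2.2)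
    obtain ⟨n, hn⟩ := this
    rw [← map_pow, Ideal.zero_eq_bot, Ideal.mem_bot, IsLocalization.map_eq_zero_iff q.asIdeal.primeCompl] at hn
    obtain ⟨s, hs⟩ := hn
    obtain ⟨P, hPs, hPg⟩ := mem_closure_iff.1 hqi (PrimeSpectrum.basicOpen (s : Γ(X, V)))
      (PrimeSpectrum.basicOpen _).2 s.2
    exact P.isPrime.mem_or_mem (hs ▸ P.asIdeal.zero_mem) |>.elim hPs fun h => hPg (P.isPrime.mem_of_pow_mem n h)
  have hfib : ∀ Q : Ideal Γ(X, V), Q.IsPrime → Q.comap (algebraMap Γ(S, W) Γ(X, V)) =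
      q.asIdeal.comap (algebraMap Γ(S, W) Γ(X, V)) → g ∈ Q := by
    intro Q hQ hQq
    by_contra hgQ
    refine hU _ (hgO (show (⟨Q, hQ⟩ : PrimeSpectrum _) ∈ PrimeSpectrum.basicOpen g from hgQ)) ?_
    rw [hover, ← hq, hover]
    exact congrArg _ (PrimeSpectrum.ext hQq)
  obtain ⟨P, hP, hPq, hgP, hmax⟩ := exists_prime_cut (A := Γ(S, W)) q.asIdeal g hfib
    ⟨P₁.asIdeal, P₁.isPrime, hP₁, hgP₁⟩
  let z := hV.fromSpec ⟨P, hP⟩
  have hzU : z ∈ U := hgO (show (⟨P, hP⟩ : PrimeSpectrum _) ∈ PrimeSpectrum.basicOpen g from hgP)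
  have hzx : z ⤳ x := hq ▸ ((PrimeSpectrum.le_iff_specializes ⟨P, hP⟩ q).1 hPq).map hV.fromSpec.continuous
  let I := Scheme.IdealSheafData.vanishingIdeal ⟨closure ({z} : Set X), isClosed_closure⟩
  have hrange : Set.range I.subschemeι = closure ({z} : Set X) := by
    rw [Scheme.IdealSheafData.range_subschemeι]
    simp [I]
  obtain ⟨z₀, hz₀⟩ : z ∈ Set.range I.subschemeι := hrange ▸ subset_closure rfl
  obtain ⟨x₀, hx₀⟩ : x ∈ Set.range I.subschemeι := hrange ▸ hzx.mem_closure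
  refine ⟨I, z₀, x₀, hx₀, ?_, by rw [hz₀]; exact hzU, by rw [hz₀]; exact hzx,
    by rw [hz₀]; exact hU z hzU⟩
  let h := I.subschemeι ≫ f
  have hh : h x₀ = f x := congrArg f hx₀
  rw [Scheme.Hom.quasiFiniteAt_iff_isOpen_singleton_asFiber]
  let p₀ := h.asFiber x₀
  let k := fun w : h.fiber (h x₀) => I.subschemeι (h.fiberι (h x₀) w)
  have hk₀ : k p₀ = x := (congrArg I.subschemeι (h.fiberι_asFiber x₀)).trans hx₀
  have hkf : ∀ w, f (k w) = f x := fun w =>
    ((h.range_fiberι (h x₀)).le ⟨w, rfl⟩ : h (h.fiberι (h x₀) w) = h x₀).trans hh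
  have hkc : Continuous k := I.subschemeι.continuous.comp (h.fiberι (h x₀)).continuous
  have hki : Function.Injective k := I.subschemeι.isClosedEmbedding.injective.comp
    (h.fiberι (h x₀)).isEmbedding.injective
  have hgen : ∀ w, w ⤳ p₀ → w = p₀ := by
    intro w hw
    refine hki (Eq.trans ?_ hk₀.symm)
    have hw' : k w ⤳ x := hk₀ ▸ hw.map hkc
    obtain ⟨Q, hQ⟩ : k w ∈ Set.range hV.fromSpec := by
      rw [hV.range_fromSpec]; exact hw'.mem_open V.2 hxV
    have hQq : Q ⤳ q := hV.fromSpec.isOpenEmbedding.isInducing.specializes_iff.1 (by rwa [hQ, hq])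
    have hzw : z ⤳ k w := specializes_iff_mem_closure.2 (hrange ▸ ⟨_, rfl⟩)
    have hPQ : (⟨P, hP⟩ : PrimeSpectrum Γ(X, V)) ⤳ Q :=
      hV.fromSpec.isOpenEmbedding.isInducing.specializes_iff.1 (by rwa [hQ])
    have := hmax Q.asIdeal Q.isPrime ((PrimeSpectrum.le_iff_specializes _ _).2 hPQ)
      ((PrimeSpectrum.le_iff_specializes _ _).2 hQq)
      (congrArg PrimeSpectrum.asIdeal (hW.fromSpec.isOpenEmbedding.injective
        (((hover Q).symm.trans ((congrArg f hQ).trans (hkf w))).trans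
          ((congrArg f hq).symm.trans (hover q)))))
    rw [← hQ, ← hq]
    exact congrArg _ (PrimeSpectrum.ext this)
  have hclo : ∀ w, p₀ ⤳ w → w = p₀ := fun w hw =>
    hki ((hcl _ (hk₀ ▸ hw.map hkc) (hkf w)).trans hk₀.symm)
  let π := h.fiberToSpecResidueField (h x₀)
  have : LocallyOfFiniteType π :=
    inferInstanceAs (LocallyOfFiniteType (pullback.snd h (S.fromSpecResidueField (h x₀))))
  have := LocallyOfFiniteType.isLocallyNoetherian π
  obtain ⟨T, hT, hpT, -⟩ := exists_isAffineOpen_mem_and_subset (x := p₀) (U := ⊤) (Set.mem_univ _)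
  have : IsAffine T.toScheme := hT
  have : IsNoetherian T.toScheme := { }
  have h1 : IsOpen ({⟨p₀, hpT⟩} : Set T.toScheme) := isOpen_singleton_of_isolated
    (fun y hy => Subtype.ext (hgen y.1 (hy.map T.ι.continuous)))
    (fun y hy => Subtype.ext (hclo y.1 (hy.map T.ι.continuous)))
  have h2 := T.2.isOpenMap_subtype_val _ h1
  rw [Set.image_singleton] at h2
  exact h2

end Groth.Agent.FlatMor12
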