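import Groth.Agent.FlatMor12.FibreFlat
import Groth.Agent.EGA43.FlatDescent.SchemeOpen
import Groth.Agent.MorProj.SmoothLocus
import Groth.Agent.Desc19b.Source
import Mathlib.RingTheory.AdicCompletion.LocalRing
import Mathlib.RingTheory.AdicCompletion.AsTensorProduct
import Mathlib.RingTheory.DiscreteValuationRing.Basic

/-!
# Flatness over a discrete valuation ring and along an adic completion
-/

set_option autoImplicit false
set_option backward.isDefEq.respectTransparency false

universe u

open CategoryTheory CategoryTheory.Limits AlgebraicGeometry TopologicalSpace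

namespace Groth.Agent.FlatMor12.DVRCompletion

/-- A property of a morphism on an open containing the image of a base change passes to the base change. -/
theorem baseChange_of_range_subset (P : MorphismProperty Scheme.{u}) [P.IsStableUnderBaseChange] [P.RespectsIso]
    {X S T : Scheme.{u}} (h : X ⟶ S) (a : T ⟶ S) (U : X.Opens)
    (hr : Set.range (pullback.fst h a).base ⊆ (U : Set X)) (hU : P (U.ι ≫ h)) : P (pullback.snd h a) := by
  let j : pullback (U.ι ≫ h) a ⟶ pullback h a :=
    pullback.map (U.ι ≫ h) a h a U.ι (𝟙 _) (𝟙 _) (by simp) (by simp)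
  let l : pullback h a ⟶ U := IsOpenImmersion.lift U.ι (pullback.fst h a) (by rwa [Scheme.Opens.range_ι])
  have hl : l ≫ U.ι = pullback.fst h a := IsOpenImmersion.lift_fac _ _ _
  let e : pullback h a ⟶ pullback (U.ι ≫ h) a :=
    pullback.lift l (pullback.snd h a) (by rw [← Category.assoc, hl, pullback.condition])
  have h₁ : e ≫ j = 𝟙 _ := by ext <;> simp [e, j, hl]
  have h₂ : j ≫ e = 𝟙 _ := by
    ext
    · rw [← cancel_mono U.ι]; simp [e, j, hl]
    · simp [e, j]
  have : IsIso e := ⟨j, h₁, h₂⟩
  have : pullback.snd h a = e ≫ pullback.snd (U.ι ≫ h) a := by simp [e]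
  rw [this, MorphismProperty.cancel_left_of_respectsIso P]
  exact MorphismProperty.pullback_snd _ _ hU

variable {V : Type u} [CommRing V] {A : Type u} [CommRing A] [Algebra V A]

/-- The reduction `Spec (A/mA) ⟶ Spec A`. -/
noncomputable abbrev red [IsLocalRing V] :
    Spec (CommRingCat.of (A ⧸ (IsLocalRing.maximalIdeal V).map (algebraMap V A))) ⟶ Spec (CommRingCat.of A) :=
  Spec.map (CommRingCat.ofHom (Ideal.Quotient.mk _))

/-- The completion `Spec Â ⟶ Spec A`. -/
noncomputable abbrev compl [IsLocalRing V] :
    Spec (CommRingCat.of (AdicCompletion ((IsLocalRing.maximalIdeal V).map (algebraMap V A)) A)) ⟶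
      Spec (CommRingCat.of A) :=
  Spec.map (CommRingCat.ofHom (algebraMap A _))

/-- The structure map. -/
noncomputable abbrev str : Spec (CommRingCat.of A) ⟶ Spec (CommRingCat.of V) :=
  Spec.map (CommRingCat.ofHom (algebraMap V A))

variable [IsLocalRing V]

theorem exists_red_comp_compl : ∃ b, b ≫ compl (V := V) (A := A) = red (V := V) (A := A) := by
  let I := (IsLocalRing.maximalIdeal V).map (algebraMap V A)
  refine ⟨Spec.map (CommRingCat.ofHom (AdicCompletion.evalOneₐ I).toRingHom), ?_⟩
  rw [← Spec.map_comp]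
  congr 1

/-- A map from a reduced-field point to `Spec A` over the closed point of `Spec V` factors through `Spec (A/mA)`. -/
theorem exists_factor_red {T : Scheme.{u}} [IsAffine T] (p : T ⟶ Spec (CommRingCat.of A))
    {K : Type u} [Field K] (q : T ⟶ Spec (CommRingCat.of K)) (ψ : V →+* K)
    (hp : p ≫ str = q ≫ Spec.map (CommRingCat.ofHom ψ)) (hψ : ∀ v ∈ IsLocalRing.maximalIdeal V, ψ v = 0) :
    ∃ l : T ⟶ _, l ≫ red (V := V) (A := A) = p := by
  let φ := Spec.preimage (T.isoSpec.inv ≫ p)
  let χ := Spec.preimage (T.isoSpec.inv ≫ q)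
  have hφ : CommRingCat.ofHom (algebraMap V A) ≫ φ = CommRingCat.ofHom ψ ≫ χ := by
    apply Spec.map_injective
    simp only [Spec.map_comp, φ, χ, Spec.map_preimage, Category.assoc, hp]
  have hle : (IsLocalRing.maximalIdeal V).map (algebraMap V A) ≤ RingHom.ker φ.hom := by
    rw [Ideal.map_le_iff_le_comap]
    intro v hv
    have := congr(($hφ).hom v)
    simp only [CommRingCat.hom_comp, CommRingCat.hom_ofHom, RingHom.comp_apply, hψ v hv, map_zero] at this
    exact this
  refine ⟨T.isoSpec.hom ≫ Spec.map (CommRingCat.ofHom (Ideal.Quotient.lift _ φ.hom fun a ha => hle ha)), ?_⟩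
  rw [Category.assoc, ← Spec.map_comp]
  have : CommRingCat.ofHom (Ideal.Quotient.mk ((IsLocalRing.maximalIdeal V).map (algebraMap V A))) ≫
      CommRingCat.ofHom (Ideal.Quotient.lift _ φ.hom fun a ha => hle ha) = φ := by
    ext a; rfl
  rw [this, Spec.map_preimage, Iso.hom_inv_id_assoc]

theorem fromSpecResidueField_closedPoint (s : ↑(Spec (CommRingCat.of V))) (hs : s = IsLocalRing.closedPoint V) :
    ∃ ψ : V →+* (Spec (CommRingCat.of V)).residueField s,
      (Spec (CommRingCat.of V)).fromSpecResidueField s = Spec.map (CommRingCat.ofHom ψ) ∧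
        ∀ v ∈ IsLocalRing.maximalIdeal V, ψ v = 0 := by
  refine ⟨(Spec.preimage ((Spec (CommRingCat.of V)).fromSpecResidueField s)).hom, (Spec.map_preimage _).symm,
    fun v hv => ?_⟩
  have h := Scheme.fromSpecResidueField_apply s (IsLocalRing.closedPoint _)
  rw [← Spec.map_preimage ((Spec (CommRingCat.of V)).fromSpecResidueField s)] at h
  have h' : v ∈ PrimeSpectrum.asIdeal (Spec.map (Spec.preimage ((Spec (CommRingCat.of V)).fromSpecResidueField s))
      (IsLocalRing.closedPoint _)) := by
    rw [h, hs]; exact hv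
  by_contra hne
  exact h' (isUnit_iff_ne_zero.2 hne)

variable {X : Scheme.{u}} (h : X ⟶ Spec (CommRingCat.of A))

theorem stable_red (P : MorphismProperty Scheme.{u}) [P.IsStableUnderBaseChange] [P.RespectsIso] {T : Scheme.{u}}
    (p : T ⟶ Spec (CommRingCat.of A)) {R : Scheme.{u}} (q : R ⟶ Spec (CommRingCat.of A)) (l : R ⟶ T)
    (hl : l ≫ p = q) (hP : P (pullback.snd h p)) : P (pullback.snd h q) := by
  subst hl
  exact (MorphismProperty.cancel_left_of_respectsIso P (pullbackLeftPullbackSndIso h p l).hom _).1
    (by rw [pullbackLeftPullbackSndIso_hom_snd]; exact MorphismProperty.pullback_snd _ _ hP)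

theorem flat_snd_fiberι (hr : Flat (pullback.snd h (red (V := V) (A := A)))) (s : ↑(Spec (CommRingCat.of V)))
    (hs : s = IsLocalRing.closedPoint V) : Flat (pullback.snd h ((str (V := V) (A := A)).fiberι s)) := by
  obtain ⟨ψ, hψ, hψ0⟩ := fromSpecResidueField_closedPoint s hs
  have : IsAffine ((str (V := V) (A := A)).fiber s) := inferInstanceAs (IsAffine (pullback _ _))
  obtain ⟨l, hl⟩ := exists_factor_red (K := (Spec (CommRingCat.of V)).residueField s) ((str (V := V) (A := A)).fiberι s)
    ((str (V := V) (A := A)).fiberToSpecResidueField s) ψ (by rw [Scheme.Hom.fiber_fac, hψ]) hψ0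
  exact stable_red h @Flat _ _ l hl hr

theorem str_eq_closedPoint {y : ↑(Spec (CommRingCat.of A))}
    (hy : (IsLocalRing.maximalIdeal V).map (algebraMap V A) ≤ y.asIdeal) : str y = IsLocalRing.closedPoint V := by
  refine PrimeSpectrum.ext ?_
  exact ((IsLocalRing.maximalIdeal.isMaximal V).eq_of_le (Ideal.IsPrime.ne_top (str y).isPrime)
    (Ideal.map_le_iff_le_comap.1 hy)).symm

theorem mem_range_red {y : ↑(Spec (CommRingCat.of A))} (hy : str (V := V) y = IsLocalRing.closedPoint V) :
    y ∈ Set.range (red (V := V) (A := A)).base := by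
  have h := (range_comap_of_surjective (A ⧸ (IsLocalRing.maximalIdeal V).map (algebraMap V A))
    (Ideal.Quotient.mk ((IsLocalRing.maximalIdeal V).map (algebraMap V A))) Ideal.Quotient.mk_surjective).ge
  refine h (show y ∈ PrimeSpectrum.zeroLocus _ from ?_)
  rw [Ideal.mk_ker, PrimeSpectrum.mem_zeroLocus]
  exact Ideal.map_le_iff_le_comap.2 (congrArg PrimeSpectrum.asIdeal hy).ge

theorem flat_compl [IsNoetherianRing A] : Flat (compl (V := V) (A := A)) := by
  rw [HasRingHomProperty.Spec_iff (P := @Flat), CommRingCat.hom_ofHom, RingHom.flat_algebraMap_iff]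
  infer_instance

theorem exists_flat_pullback [IsNoetherianRing A] (x : X) (hx : str (V := V) (h x) = IsLocalRing.closedPoint V) :
    ∃ x' : ↑(pullback h (compl (V := V) (A := A))), (pullback.fst h (compl (V := V) (A := A))).base x' = x ∧
      ((pullback.fst h (compl (V := V) (A := A))).stalkMap x').hom.Flat := by
  obtain ⟨z, hz⟩ := mem_range_red hx
  obtain ⟨b, hb⟩ := exists_red_comp_compl (V := V) (A := A)
  obtain ⟨x', hx', -⟩ := Scheme.Pullback.exists_preimage_pullback x (b z)
    (hz.symm.trans (by rw [← hb]; rfl) : h x = compl (V := V) (A := A) (b z))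
  have := flat_compl (V := V) (A := A)
  exact ⟨x', hx', Flat.stalkMap _ _⟩

/-- The locus of points over which every point lying over the closed point is good covers the image of the completion. -/
theorem range_fst_subset [IsNoetherianRing A] [UniversallyClosed h] (U : X.Opens)
    (hU : ∀ x, str (V := V) (h x) = IsLocalRing.closedPoint V → x ∈ U) :
    Set.range (pullback.fst h (compl (V := V) (A := A))).base ⊆ (U : Set X) := by
  let I := (IsLocalRing.maximalIdeal V).map (algebraMap V A)
  rintro _ ⟨p, rfl⟩
  by_contra hp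
  have hC : IsClosed (h.base '' (U : Set X)ᶜ) := h.isClosedMap _ U.2.isClosed_compl
  let C' := (compl (V := V) (A := A)).base ⁻¹' (h.base '' (U : Set X)ᶜ)
  have hne : C'.Nonempty := ⟨(pullback.snd h (compl (V := V) (A := A))).base p,
    ⟨(pullback.fst h (compl (V := V) (A := A))).base p, hp,
      congr(($(pullback.condition (f := h) (g := compl (V := V) (A := A)))).base p)⟩⟩
  obtain ⟨Mx, hM, hMclosed⟩ := (hC.preimage (compl (V := V) (A := A)).continuous).exists_closed_singleton hne
  have := AdicCompletion.isAdicComplete_self I (IsNoetherian.noetherian I)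
  obtain ⟨x, hxU, hx⟩ := hM
  refine hxU (hU x ?_)
  rw [hx]
  refine str_eq_closedPoint (Ideal.map_le_iff_le_comap.1 ?_)
  have hmax : Mx.asIdeal.IsMaximal := (PrimeSpectrum.isClosed_singleton_iff_isMaximal Mx).1 hMclosed
  exact (IsAdicComplete.le_jacobson_bot (I.map (algebraMap A (AdicCompletion I A)))).trans
    (sInf_le ⟨bot_le, hmax⟩)

section DVR

variable [IsDomain V] [IsDiscreteValuationRing V]

theorem flat_stalkMap_of_ne_closedPoint {Y : Scheme.{u}} (g : Y ⟶ Spec (CommRingCat.of V)) (y : Y)
    (hy : g y ≠ IsLocalRing.closedPoint V) : (g.stalkMap y).hom.Flat := by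
  have : IsDomain (CommRingCat.of V) := ‹IsDomain V›
  have hg : g y = genericPoint ↥(Spec (CommRingCat.of V)) := by
    rw [genericPoint_eq_bot_of_affine]
    refine PrimeSpectrum.ext ?_
    by_contra hne
    exact hy (PrimeSpectrum.ext (IsLocalRing.eq_maximalIdeal (IsPrime.to_maximal_ideal (S := (g y).asIdeal) hne)))
  have hf : IsField ((Spec (CommRingCat.of V)).presheaf.stalk (g y)) := by
    rw [hg]; exact Field.toIsField (Spec (CommRingCat.of V)).functionField
  let := hf.toField
  let := (g.stalkMap y).hom.toAlgebra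
  exact (inferInstance : Module.Flat ((Spec (CommRingCat.of V)).presheaf.stalk (g y)) (Y.presheaf.stalk y))

variable [IsNoetherianRing A] [IsProper h]

theorem flat_comp_of_flat_completion (hf : Flat (pullback.snd h (compl (V := V) (A := A))))
    (hA : Flat (str (V := V) (A := A))) : Flat (h ≫ str (V := V) (A := A)) := by
  refine (Flat.iff_flat_stalkMap _).2 fun x => ?_
  by_cases hx : str (V := V) (h x) = IsLocalRing.closedPoint V
  · obtain ⟨x', rfl, hx'⟩ := exists_flat_pullback h x hx
    refine (Desc19b.flat_stalkMap_comp_iff (pullback.fst h (compl (V := V) (A := A))) (h ≫ str) x' hx').1 ?_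
    have h1 : Flat (compl (V := V) (A := A)) := flat_compl
    have h2 : Flat (compl (V := V) (A := A) ≫ str (V := V) (A := A)) := MorphismProperty.comp_mem _ _ _ h1 hA
    have h3 : Flat (pullback.fst h (compl (V := V) (A := A)) ≫ h ≫ str (V := V) (A := A)) :=
      (pullback.condition_assoc (f := h) (g := compl (V := V) (A := A)) (str (V := V) (A := A))).symm ▸
        MorphismProperty.comp_mem _ _ _ hf h2
    exact Flat.stalkMap _ _
  · exact flat_stalkMap_of_ne_closedPoint _ _ hx

variable [LocallyOfFinitePresentation (str (V := V) (A := A))]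

theorem lfp_h : LocallyOfFinitePresentation h := inferInstance

theorem flat_stalkMap_of_red (hV : Flat (h ≫ str (V := V) (A := A))) (hr : Flat (pullback.snd h (red (V := V) (A := A))))
    (x : X) (hx : str (V := V) (h x) = IsLocalRing.closedPoint V) : (h.stalkMap x).hom.Flat :=
  have := lfp_h h
  (FlatMor12.flat_stalkMap_of_fibre h (str (V := V) (A := A)) x (Flat.stalkMap _ _)
    (flat_snd_fiberι h hr _ hx)).1

theorem flat_completion (hV : Flat (h ≫ str (V := V) (A := A))) (hr : Flat (pullback.snd h (red (V := V) (A := A)))) :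
    Flat (pullback.snd h (compl (V := V) (A := A))) := by
  let U : X.Opens := ⟨_, EGA43.FlatDescent.isOpen_flat_stalkMap h⟩
  refine baseChange_of_range_subset @Flat h _ U (range_fst_subset h U (flat_stalkMap_of_red h hV hr)) ?_
  refine (Flat.iff_flat_stalkMap _).2 fun p => ?_
  rw [Scheme.Hom.stalkMap_comp]
  exact RingHom.Flat.comp p.2 (Flat.stalkMap U.ι p)

theorem smooth_completion (hV : Flat (h ≫ str (V := V) (A := A))) (hr : Smooth (pullback.snd h (red (V := V) (A := A)))) :
    Smooth (pullback.snd h (compl (V := V) (A := A))) := by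
  refine baseChange_of_range_subset @Smooth h _ h.smoothLocus (range_fst_subset h _ fun x hx => ?_) ?_
  · have := lfp_h h
    have : LocallyOfFinitePresentation (h.fiberToSpecResidueField (h x)) := MorphismProperty.pullback_snd _ _ inferInstance
    rw [MorProj.mem_smoothLocus_iff_flat_and_fiber]
    refine ⟨flat_stalkMap_of_red h hV inferInstance x hx, ?_⟩
    obtain ⟨ψ, hψ, hψ0⟩ := fromSpecResidueField_closedPoint _ hx
    have hm : Smooth (h.fiberToSpecResidueField (h x)) := by
      obtain ⟨l, hl⟩ := exists_factor_red (T := Spec ((Spec (CommRingCat.of A)).residueField (h x)))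
        (K := (Spec (CommRingCat.of V)).residueField (str (V := V) (h x)))
        ((Spec (CommRingCat.of A)).fromSpecResidueField (h x)) (Spec.map ((str (V := V) (A := A)).residueFieldMap (h x))) ψ
        (by rw [← hψ, Scheme.Hom.SpecMap_residueFieldMap_fromSpecResidueField]) hψ0
      exact stable_red h @Smooth _ _ l hl hr
    rw [Scheme.Hom.smoothLocus_eq_top (h.fiberToSpecResidueField (h x))]
    trivial
  · rw [← Scheme.Hom.smoothLocus_eq_top_iff, ← Scheme.Hom.preimage_smoothLocus_eq]
    ext p
    simp

end DVR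

end Groth.Agent.FlatMor12.DVRCompletion
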