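import Mathlib.AlgebraicGeometry.Morphisms.Immersion
import Mathlib.AlgebraicGeometry.Morphisms.OpenImmersion
import Mathlib.AlgebraicGeometry.PullbackCarrier
import Mathlib.Topology.Sober
import Mathlib.Topology.LocallyClosed

/-!
# Separated morphisms which are immersions on dense opens
-/

set_option autoImplicit false

universe u

open CategoryTheory CategoryTheory.Limits AlgebraicGeometry TopologicalSpace

namespace Groth.Agent.FlatMor12.DenseImmersion

theorem exists_generic {α : Type u} [TopologicalSpace α] [QuasiSober α]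
    (hfin : (irreducibleComponents α).Finite) (x : α) :
    ∃ ξ, ξ ⤳ x ∧ ∀ U : Set α, IsOpen U → Dense U → ξ ∈ U := by
  have hZ := irreducibleComponent_mem_irreducibleComponents x
  obtain ⟨ξ, hξ⟩ := QuasiSober.sober hZ.1 (isClosed_of_mem_irreducibleComponents _ hZ)
  refine ⟨ξ, hξ.specializes mem_irreducibleComponent, fun U hU hd => ?_⟩
  let W := (⋃ Z ∈ hfin.toFinset.erase (irreducibleComponent x), Z)ᶜ
  have hW : IsOpen W := by
    rw [isOpen_compl_iff]
    exact isClosed_biUnion_finset fun Z hZ' =>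
      isClosed_of_mem_irreducibleComponents _ (hfin.mem_toFinset.1 (Finset.mem_of_mem_erase hZ'))
  have hξW : ξ ∈ W := by
    intro h
    obtain ⟨Z, hZ', hξZ⟩ := Set.mem_iUnion₂.1 h
    obtain ⟨hne, hZ''⟩ := Finset.mem_erase.1 hZ'
    have hsub : irreducibleComponent x ⊆ Z := by
      rw [← hξ.def]
      exact closure_minimal (Set.singleton_subset_iff.2 hξZ)
        (isClosed_of_mem_irreducibleComponents _ (hfin.mem_toFinset.1 hZ''))
    exact hne (le_antisymm (hZ.2 (hfin.mem_toFinset.1 hZ'').1 hsub) hsub)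
  obtain ⟨p, hpW, hpU⟩ := hd.inter_open_nonempty W hW ⟨ξ, hξW⟩
  have hp : p ∈ irreducibleComponent x := by
    by_contra hp
    refine hpW (Set.mem_iUnion₂.2 ⟨irreducibleComponent p, Finset.mem_erase.2 ⟨fun h => hp (h ▸ mem_irreducibleComponent),
      hfin.mem_toFinset.2 (irreducibleComponent_mem_irreducibleComponents p)⟩, mem_irreducibleComponent⟩)
  exact (hξ.specializes hp).mem_open hU hpU

variable {X Y : Scheme.{u}} (f : X ⟶ Y) [IsSeparated f]
    (hfin : (irreducibleComponents (X : Type u)).Finite) {ι : Type u} (U : ι → X.Opens)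
    (hU : ⨆ i, U i = ⊤) (hd : ∀ i, Dense (U i : Set X)) (h : ∀ i, IsImmersion ((U i).ι ≫ f))

include hfin hU hd h in
theorem injective : Function.Injective f := by
  intro x x' hxx'
  obtain ⟨i, hxi⟩ := Opens.mem_iSup.1 (hU ▸ Opens.mem_top x : x ∈ iSup U)
  obtain ⟨j, hxj⟩ := Opens.mem_iSup.1 (hU ▸ Opens.mem_top x' : x' ∈ iSup U)
  obtain ⟨ξ, hξ, hξU⟩ := exists_generic hfin x
  have hξi := hξU _ (U i).isOpen (hd i)
  have hξj := hξU _ (U j).isOpen (hd j)
  let a := (U i).ι ≫ f
  let b := (U j).ι ≫ f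
  have := h i
  have := h j
  let w := (U i ⊓ U j).ι
  let d : (U i ⊓ U j).toScheme ⟶ pullback a b := pullback.lift (X.homOfLE inf_le_left) (X.homOfLE inf_le_right) (by
    rw [← Category.assoc, ← Category.assoc, Scheme.homOfLE_ι, Scheme.homOfLE_ι])
  let v : pullback a b ⟶ pullback f f := pullback.map a b f f (U i).ι (U j).ι (𝟙 Y) (by simp [a]) (by simp [b])
  obtain ⟨z, hz1, hz2⟩ := Scheme.Pullback.exists_preimage_pullback (f := a) (g := b) ⟨x, hxi⟩ ⟨x', hxj⟩ hxx'
  let ξ' : (U i ⊓ U j).toScheme := ⟨ξ, hξi, hξj⟩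
  have himm : IsImmersion (pullback.fst a b ≫ a) := inferInstance
  have hspec : d ξ' ⤳ z := by
    refine (pullback.fst a b ≫ a).isEmbedding.isInducing.specializes_iff.1 ?_
    rw [← Scheme.Hom.comp_apply, Scheme.Hom.comp_apply (pullback.fst a b), hz1]
    have e1 : (d ≫ pullback.fst a b ≫ a) ξ' = f ξ := by
      rw [← Category.assoc, pullback.lift_fst, ← Category.assoc, Scheme.homOfLE_ι]
      rfl
    rw [e1]
    exact hξ.map f.continuous
  have hdiag : d ≫ v = w ≫ pullback.diagonal f := by
    apply pullback.hom_ext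
    · simp only [d, v, w, pullback.map, Category.assoc, pullback.diagonal_fst, Category.comp_id]
      erw [pullback.lift_fst, ← Category.assoc, pullback.lift_fst]
      exact X.homOfLE_ι _
    · simp only [d, v, w, pullback.map, Category.assoc, pullback.diagonal_snd, Category.comp_id]
      erw [pullback.lift_snd, ← Category.assoc, pullback.lift_snd]
      exact X.homOfLE_ι _
  have hvz : v z ∈ Set.range (pullback.diagonal f) := by
    refine (hspec.map v.continuous).mem_closed (IsClosedImmersion.isClosedEmbedding (f := pullback.diagonal f)).2 ?_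
    exact ⟨w ξ', by rw [← Scheme.Hom.comp_apply, ← Scheme.Hom.comp_apply, hdiag]⟩
  obtain ⟨p, hp⟩ := hvz
  have e2 : pullback.fst f f (v z) = x := by
    rw [← Scheme.Hom.comp_apply, pullback.lift_fst, Scheme.Hom.comp_apply, hz1]
    rfl
  have e3 : pullback.snd f f (v z) = x' := by
    rw [← Scheme.Hom.comp_apply, pullback.lift_snd, Scheme.Hom.comp_apply, hz2]
    rfl
  rw [← hp, ← Scheme.Hom.comp_apply, pullback.diagonal_fst] at e2
  rw [← hp, ← Scheme.Hom.comp_apply, pullback.diagonal_snd] at e3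
  exact e2.symm.trans e3

include hfin hU hd h in
theorem isImmersion : IsImmersion f := by
  have hinj := injective f hfin U hU hd h
  have hcov : ∀ x, ∃ i, x ∈ U i := fun x => Opens.mem_iSup.1 (hU ▸ Opens.mem_top x : x ∈ iSup U)
  have hR : ∀ i, Set.range ((U i).ι ≫ f) = f '' (U i : Set X) := fun i => by
    rw [Scheme.Hom.comp_base, TopCat.coe_comp, Set.range_comp, Scheme.Opens.range_ι]
  have hcl : ∀ i, closure (f '' (U i : Set X)) = closure (Set.range f) := fun i => by
    refine le_antisymm (closure_mono (Set.image_subset_range _ _)) (closure_minimal ?_ isClosed_closure)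
    rintro _ ⟨x, rfl⟩
    exact image_closure_subset_closure_image f.continuous ⟨x, hd i x, rfl⟩
  have hO : ∀ i, closure (Set.range f) ∩ coborder (f '' (U i : Set X)) = f '' (U i : Set X) := fun i => by
    rw [← hcl i, closure_inter_coborder]
  have hOopen : ∀ i, IsOpen (coborder (f '' (U i : Set X))) := fun i => by
    have := h i
    rw [← hR i]
    exact ((U i).ι ≫ f).isLocallyClosed_range.isOpen_coborder
  have hpre : ∀ i, f ⁻¹' coborder (f '' (U i : Set X)) = U i := fun i => by
    ext x
    refine ⟨fun hx => ?_, fun hx => subset_coborder ⟨x, hx, rfl⟩⟩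
    have : f x ∈ f '' (U i : Set X) := (hO i).le ⟨subset_closure ⟨x, rfl⟩, hx⟩
    obtain ⟨y, hy, hxy⟩ := this
    rwa [← hinj hxy]
  have hstalk : ∀ x, Function.Surjective (f.stalkMap x) := fun x => by
    obtain ⟨i, hxi⟩ := hcov x
    have := h i
    let y : (U i).toScheme := ⟨x, hxi⟩
    have h1 := ((U i).ι ≫ f).stalkMap_surjective y
    rw [Scheme.Hom.stalkMap_comp] at h1
    have h2 : Function.Bijective ((U i).ι.stalkMap y) :=
      (ConcreteCategory.isIso_iff_bijective ((U i).ι.stalkMap y)).1 inferInstance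
    exact Function.Surjective.of_comp_left (f := (U i).ι.stalkMap y) h1 h2.1
  have hemb : Topology.IsEmbedding f := by
    refine ⟨⟨le_antisymm f.continuous.le_induced fun V hV => ?_⟩, hinj⟩
    have hV' : ∀ i, ∃ O : Set Y, IsOpen O ∧ ((U i).ι ≫ f) ⁻¹' O = (U i).ι ⁻¹' V := fun i => by
      have := h i
      exact ((U i).ι ≫ f).isEmbedding.isInducing.isOpen_iff.1 (hV.preimage (U i).ι.continuous)
    choose O hOo hOV using hV'
    refine isOpen_induced_iff.2 ⟨⋃ i, O i ∩ coborder (f '' (U i : Set X)),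
      isOpen_iUnion fun i => (hOo i).inter (hOopen i), ?_⟩
    ext x
    simp only [Set.preimage_iUnion, Set.preimage_inter, Set.mem_iUnion, Set.mem_inter_iff, hpre]
    refine ⟨fun ⟨i, hx, hxi⟩ => ?_, fun hx => ?_⟩
    · exact (Set.ext_iff.1 (hOV i) (⟨x, hxi⟩ : (U i).toScheme)).1 hx
    · obtain ⟨i, hxi⟩ := hcov x
      exact ⟨i, (Set.ext_iff.1 (hOV i) (⟨x, hxi⟩ : (U i).toScheme)).2 hx, hxi⟩
  have : IsPreimmersion f := { isEmbedding := hemb, stalkMap_surjective := hstalk }
  have hr : Set.range f = closure (Set.range f) ∩ ⋃ i, coborder (f '' (U i : Set X)) := by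
    rw [Set.inter_iUnion]
    simp_rw [hO]
    rw [← Set.image_iUnion]
    have : (⋃ i, (U i : Set X)) = Set.univ := Set.eq_univ_of_forall fun x => Set.mem_iUnion.2 (hcov x)
    rw [this, Set.image_univ]
  exact ⟨hr ▸ isClosed_closure.isLocallyClosed.inter (isOpen_iUnion hOopen).isLocallyClosed⟩

end Groth.Agent.FlatMor12.DenseImmersion
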