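import Groth.Agent.FlatMor12.RegularExtend
import Groth.Agent.H8Top.SchemeBasic
import Groth.Agent.Props12.Stalks
import Groth.Agent.Props12.KerReduced
import Groth.Prelude.Def_CInt
import Mathlib.AlgebraicGeometry.SpreadingOut
import Mathlib.AlgebraicGeometry.Sites.Fpqc
import Mathlib.AlgebraicGeometry.Morphisms.SchemeTheoreticallyDominant

/-!
# Extensions from a schematically dense open descend along flat surjective morphisms
-/

set_option autoImplicit false
set_option linter.style.haveILetI false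
set_option backward.isDefEq.respectTransparency.types false

universe u

open CategoryTheory Limits AlgebraicGeometry TopologicalSpace

namespace Groth.Agent.FlatMor12.DescendExt

theorem res_res {X : Scheme.{u}} {A B C : X.Opens} (h : A ≤ B) (h' : B ≤ C) (s : Γ(X, C)) :
    X.presheaf.map (homOfLE h).op (X.presheaf.map (homOfLE h').op s) = X.presheaf.map (homOfLE (h.trans h')).op s := by
  rw [← ConcreteCategory.comp_apply, ← Functor.map_comp]
  rfl

theorem isSchemeTheoreticallyDominant_of_sd {X : Scheme.{u}} (U : X.Opens) [QuasiCompact U.ι]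
    (h : CInt.IsSchematicallyDense U) : IsSchemeTheoreticallyDominant U.ι := by
  refine ⟨Scheme.IdealSheafData.ext (funext fun V => ?_)⟩
  rw [Scheme.Hom.ker_apply, Scheme.IdealSheafData.ideal_bot, Pi.bot_apply, eq_bot_iff]
  intro s hs
  rw [RingHom.mem_ker, Scheme.Opens.ι_app] at hs
  refine Ideal.mem_bot.2 (h V.1 ?_)
  have e : V.1 ⊓ U ≤ U.ι ''ᵁ U.ι ⁻¹ᵁ V.1 := le_of_eq (by
    rw [Scheme.Hom.image_preimage_eq_opensRange_inf, Scheme.Opens.opensRange_ι, inf_comm])
  refine Eq.trans ?_ (map_zero _).symm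
  exact ((res_res e (U.ι.image_preimage_le V.1) s).symm.trans
    (congrArg (X.presheaf.map (homOfLE e).op) hs)).trans (map_zero _)

variable {S Y N : Scheme.{u}} (sN : N ⟶ S) [IsSeparated sN] (W : Y.Opens) [IsSchemeTheoreticallyDominant W.ι]
  [QuasiCompact W.ι]

/-- Two maps from a flat `Y`-scheme agreeing over `W` are equal. -/
theorem ext_agree {P : Scheme.{u}} (π : P ⟶ Y) [Flat π] {a b : P ⟶ N} (hab : a ≫ sN = b ≫ sN)
    (h : ∀ (T : Scheme.{u}) (t : T ⟶ P) (w : T ⟶ W.toScheme), t ≫ π = w ≫ W.ι → t ≫ a = t ≫ b) : a = b :=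
  RegularExtend.ext_of_isSchemeTheoreticallyDominant sN hab (pullback.snd W.ι π) (h _ _ _ pullback.condition.symm)

/-- If a map `u` on a schematically dense open extends after a flat surjective base change, it extends. -/
theorem exists_extension [IsLocallyNoetherian Y] [LocallyOfFiniteType sN] {Y' : Scheme.{u}} (p : Y' ⟶ Y) [Flat p]
    [Surjective p] (sY : Y ⟶ S) (u : W.toScheme ⟶ N) (hu : u ≫ sN = W.ι ≫ sY) (h0 : Y' ⟶ N)
    (hh0 : h0 ≫ sN = p ≫ sY)
    (hag : ∀ (T : Scheme.{u}) (a : T ⟶ Y') (b : T ⟶ W.toScheme), a ≫ p = b ≫ W.ι → a ≫ h0 = b ≫ u) :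
    ∃ h : Y ⟶ N, h ≫ sN = sY ∧ W.ι ≫ h = u := by
  have key : ∀ y : Y, ∃ (V : Y.Opens) (_ : y ∈ V) (f : V.toScheme ⟶ N), f ≫ sN = V.ι ≫ sY ∧
      ∀ (T : Scheme.{u}) (a : T ⟶ V.toScheme) (b : T ⟶ W.toScheme), a ≫ V.ι = b ≫ W.ι → a ≫ f = b ≫ u := by
    intro y
    obtain ⟨y', rfl⟩ := p.surjective y
    let σ : Spec (Y'.presheaf.stalk y') ⟶ Spec (Y.presheaf.stalk (p y')) := Spec.map (p.stalkMap y')
    let L := Y.fromSpecStalk (p y')
    let c := Y'.fromSpecStalk y' ≫ h0
    have hσ : σ ≫ L = Y'.fromSpecStalk y' ≫ p := Scheme.SpecMap_stalkMap_fromSpecStalk p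
    have hff : (p.stalkMap y').hom.FaithfullyFlat := by
      have hfl := Flat.stalkMap p y'
      algebraize [(p.stalkMap y').hom]
      haveI : IsLocalHom (algebraMap (Y.presheaf.stalk (p y')) (Y'.presheaf.stalk y')) :=
        inferInstanceAs (IsLocalHom (p.stalkMap y').hom)
      exact Module.FaithfullyFlat.of_flat_of_isLocalHom
    obtain ⟨hσf, hσs⟩ := (flat_and_surjective_SpecMap_iff (p.stalkMap y')).2 hff
    haveI : Flat σ := hσf
    haveI : Surjective σ := hσs
    haveI : Flat L := Props12.flat_fromSpecStalk _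
    have hcS : c ≫ sN = σ ≫ L ≫ sY := by
      simp only [c, Category.assoc, hh0]
      rw [← Category.assoc, ← hσ, Category.assoc]
    have hdesc : ∀ {Z : Scheme.{u}} (g₁ g₂ : Z ⟶ Spec (Y'.presheaf.stalk y')),
        g₁ ≫ σ = g₂ ≫ σ → g₁ ≫ c = g₂ ≫ c := by
      intro Z g₁ g₂ hg
      have hP : pullback.fst σ σ ≫ c = pullback.snd σ σ ≫ c := by
        refine ext_agree sN W (pullback.fst σ σ ≫ σ ≫ L) ?_ fun T t w htw => ?_
        · simp only [Category.assoc, hcS]
          rw [pullback.condition_assoc]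
        · have h1 : (t ≫ pullback.fst σ σ ≫ Y'.fromSpecStalk y') ≫ p = w ≫ W.ι := by
            simp only [Category.assoc, ← hσ]
            exact htw
          have h2 : (t ≫ pullback.snd σ σ ≫ Y'.fromSpecStalk y') ≫ p = w ≫ W.ι := by
            simp only [Category.assoc, ← hσ]
            rw [← pullback.condition_assoc]
            exact htw
          have e1 := hag T _ w h1
          have e2 := hag T _ w h2
          simp only [Category.assoc] at e1 e2
          exact e1.trans e2.symm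
      have := congrArg (fun m => pullback.lift g₁ g₂ hg ≫ m) hP
      simpa only [pullback.lift_fst_assoc, pullback.lift_snd_assoc] using this
    let d := EffectiveEpi.desc σ c hdesc
    have hd : σ ≫ d = c := EffectiveEpi.fac σ c hdesc
    have hdS : d ≫ sN = L ≫ sY := by rw [← cancel_epi σ, ← Category.assoc, hd, hcS]
    have hdag : ∀ (T : Scheme.{u}) (a : T ⟶ Spec (Y.presheaf.stalk (p y'))) (b : T ⟶ W.toScheme),
        a ≫ L = b ≫ W.ι → a ≫ d = b ≫ u := by
      intro T a b hab
      haveI : Flat (pullback.fst a σ) := MorphismProperty.pullback_fst _ _ hσf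
      haveI : Surjective (pullback.fst a σ) := MorphismProperty.pullback_fst _ _ hσs
      haveI := Flat.epi_of_flat_of_surjective (pullback.fst a σ)
      rw [← cancel_epi (pullback.fst a σ), pullback.condition_assoc, hd]
      have := hag _ (pullback.snd a σ ≫ Y'.fromSpecStalk y') (pullback.fst a σ ≫ b) (by
        rw [Category.assoc, ← hσ, ← pullback.condition_assoc, hab, Category.assoc])
      simpa only [c, Category.assoc] using this
    obtain ⟨V, hyV, f, hf, hfS⟩ := spread_out_of_isGermInjective' sY sN d hdS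
    let VW : Y.Opens := V ⊓ W
    let a := Y.homOfLE (inf_le_left : VW ≤ V) ≫ f
    let b := Y.homOfLE (inf_le_right : VW ≤ W) ≫ u
    let O : Opens VW.toScheme := ⟨{z | ∃ U : VW.toScheme.Opens, z ∈ U ∧ U.ι ≫ a = U.ι ≫ b},
      isOpen_iff_forall_mem_open.2 fun z ⟨U, hzU, hU⟩ => ⟨U, fun z' hz' => ⟨U, hz', hU⟩, U.isOpen, hzU⟩⟩
    have hgen : ∀ z : VW.toScheme, VW.ι z ⤳ p y' → z ∈ O := by
      intro z hz
      haveI : IsLocallyNoetherian VW.toScheme := isLocallyNoetherian_of_isOpenImmersion VW.ι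
      refine spread_out_unique_of_isGermInjective' a b ?_
      let r : Spec (VW.toScheme.presheaf.stalk z) ⟶ Spec (Y.presheaf.stalk (p y')) :=
        Spec.map (VW.ι.stalkMap z) ≫ Spec.map (Y.presheaf.stalkSpecializes hz)
      have hr : r ≫ L = VW.toScheme.fromSpecStalk z ≫ VW.ι := by
        simp only [r, L, Category.assoc, Scheme.SpecMap_stalkSpecializes_fromSpecStalk]
        exact Scheme.SpecMap_stalkMap_fromSpecStalk VW.ι
      have h1 : VW.toScheme.fromSpecStalk z ≫ Y.homOfLE (inf_le_left : VW ≤ V) = r ≫ V.fromSpecStalkOfMem _ hyV := by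
        rw [← cancel_mono V.ι, Category.assoc, Category.assoc, Scheme.homOfLE_ι, Scheme.Opens.fromSpecStalkOfMem_ι,
          ← hr]
      have h2 := hdag _ r (VW.toScheme.fromSpecStalk z ≫ Y.homOfLE (inf_le_right : VW ≤ W))
        (hr.trans (by rw [Category.assoc, Scheme.homOfLE_ι]))
      show VW.toScheme.fromSpecStalk z ≫ Y.homOfLE (inf_le_left : VW ≤ V) ≫ f =
        VW.toScheme.fromSpecStalk z ≫ Y.homOfLE (inf_le_right : VW ≤ W) ≫ u
      rw [← Category.assoc, h1, Category.assoc, ← hf, h2, Category.assoc]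
    let C : Closeds VW.toScheme := ⟨(O : Set VW.toScheme)ᶜ, O.isOpen.isClosed_compl⟩
    let j := (Scheme.IdealSheafData.vanishingIdeal C).subschemeι ≫ VW.ι
    have hyC : p y' ∉ closure (VW.ι '' (C : Set VW.toScheme)) := by
      intro hy
      have hrj : Set.range j = VW.ι '' (C : Set VW.toScheme) := by
        rw [Scheme.Hom.comp_base, TopCat.coe_comp, Set.range_comp]
        congr 1
        rw [Scheme.IdealSheafData.range_subschemeι]
        rfl
      obtain ⟨x, hx⟩ := H8Top.exists_specializes_of_mem_closure_range j (hrj ▸ hy)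
      have hxC : (Scheme.IdealSheafData.vanishingIdeal C).subschemeι x ∈ (C : Set VW.toScheme) := by
        have : (Scheme.IdealSheafData.vanishingIdeal C).subschemeι x ∈
            Set.range (Scheme.IdealSheafData.vanishingIdeal C).subschemeι := ⟨x, rfl⟩
        rw [Scheme.IdealSheafData.range_subschemeι] at this
        exact this
      exact hxC (hgen _ hx)
    let V' : Y.Opens := V ⊓ ⟨(closure (VW.ι '' (C : Set VW.toScheme)))ᶜ, isClosed_closure.isOpen_compl⟩
    refine ⟨V', ⟨hyV, hyC⟩, Y.homOfLE (inf_le_left : V' ≤ V) ≫ f, by rw [Category.assoc, hfS, ← Category.assoc, Scheme.homOfLE_ι],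
      fun T t w htw => ?_⟩
    have hr : Set.range (t ≫ V'.ι) ⊆ Set.range VW.ι := by
      rintro _ ⟨x, rfl⟩
      rw [Scheme.Opens.range_ι]
      refine ⟨(t x).2.1, ?_⟩
      rw [htw]
      exact (w x).2
    let k := IsOpenImmersion.lift VW.ι (t ≫ V'.ι) hr
    have hk : k ≫ VW.ι = t ≫ V'.ι := IsOpenImmersion.lift_fac _ _ _
    have hka : k ≫ Y.homOfLE (inf_le_left : VW ≤ V) = t ≫ Y.homOfLE (inf_le_left : V' ≤ V) := by
      rw [← cancel_mono V.ι]
      simp only [Category.assoc, Scheme.homOfLE_ι, hk]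
    have hkb : k ≫ Y.homOfLE (inf_le_right : VW ≤ W) = w := by
      rw [← cancel_mono W.ι, Category.assoc, Scheme.homOfLE_ι, hk, htw]
    rw [← Category.assoc, ← hka, ← hkb, Category.assoc, Category.assoc]
    refine Scheme.hom_ext_of_forall _ _ fun x => ?_
    have hx : k x ∈ O := by
      by_contra hx
      refine (t x).2.2 (subset_closure ⟨k x, hx, ?_⟩)
      exact congrArg (fun m : T ⟶ Y => m x) hk
    obtain ⟨U, hxU, hU⟩ := hx
    refine ⟨k ⁻¹ᵁ U, hxU, ?_⟩
    have hl : (k ⁻¹ᵁ U).ι ≫ k = (k ∣_ U) ≫ U.ι := (morphismRestrict_ι k U).symm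
    show (k ⁻¹ᵁ U).ι ≫ k ≫ a = (k ⁻¹ᵁ U).ι ≫ k ≫ b
    rw [← Category.assoc, hl, Category.assoc, hU, ← Category.assoc, ← hl, Category.assoc]
  choose V hyV f hfS hfag using key
  let 𝒰 : Y.OpenCover := Y.openCoverOfIsOpenCover V
    (IsOpenCover.mk (top_le_iff.1 fun y _ => Opens.mem_iSup.2 ⟨y, hyV y⟩))
  have hov : ∀ i j : Y, pullback.fst (V i).ι (V j).ι ≫ f i = pullback.snd (V i).ι (V j).ι ≫ f j := fun i j => by
    refine ext_agree sN W (pullback.fst (V i).ι (V j).ι ≫ (V i).ι) ?_ fun T t w htw => ?_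
    · simp only [Category.assoc, hfS]
      rw [pullback.condition_assoc]
    · rw [← Category.assoc, ← Category.assoc, hfag i T _ w (by rw [Category.assoc, htw]),
        hfag j T _ w (by rw [Category.assoc, ← pullback.condition, htw])]
  let h := 𝒰.glueMorphisms f hov
  have hι : ∀ i : Y, (V i).ι ≫ h = f i := fun i => 𝒰.ι_glueMorphisms f hov i
  have hS : h ≫ sN = sY := 𝒰.hom_ext _ _ fun i => by
    show (V i).ι ≫ h ≫ sN = (V i).ι ≫ sY
    rw [← Category.assoc, hι, hfS]
  refine ⟨h, hS, Scheme.hom_ext_of_forall _ _ fun x => ?_⟩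
  refine ⟨W.ι ⁻¹ᵁ V x.1, hyV x.1, ?_⟩
  have := hfag x.1 _ (W.ι ∣_ V x.1) ((W.ι ⁻¹ᵁ V x.1).ι) (morphismRestrict_ι W.ι (V x.1))
  rw [← this, ← hι, ← Category.assoc, ← Category.assoc, morphismRestrict_ι]

end Groth.Agent.FlatMor12.DescendExt
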