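import Mathlib.RingTheory.Kaehler.Basic
import Mathlib.RingTheory.LocalRing.ResidueField.Ideal
import Mathlib.RingTheory.LocalRing.ResidueField.Basic
import Groth.Agent.CAlgH.CotangentResidue

/-! Non-vanishing of differentials at a point. -/

universe u

set_option autoImplicit false

open TensorProduct KaehlerDifferential

namespace Groth.Agent.FlatMor12

theorem one_tmul_D_map_eq_zero {A B K A' B' K' : Type u} [CommRing A] [CommRing B] [CommRing K]
    [CommRing A'] [CommRing B'] [CommRing K'] [Algebra A B] [Algebra B K] [Algebra A' B'] [Algebra B' K']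
    [Algebra A A'] [Algebra B B'] [Algebra A B'] [IsScalarTower A A' B'] [IsScalarTower A B B']
    [Algebra B K'] [IsScalarTower B B' K'] (g : K →ₐ[B] K') (b : B)
    (h : (1 : K) ⊗ₜ[B] D A B b = 0) : (1 : K') ⊗ₜ[B'] D A' B' (algebraMap B B' b) = 0 := by
  let m := (TensorProduct.mapOfCompatibleSMul B' B B K' (Ω[B'⁄A'])).comp
    (TensorProduct.map g.toLinearMap (KaehlerDifferential.map A A' B B'))
  have := congrArg m h
  simpa [m, KaehlerDifferential.map_D] using this

theorem d_ne_zero_of_comap {A B O' O : Type u} [CommRing A] [CommRing B] [CommRing O'] [CommRing O]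
    [IsLocalRing O] [Algebra A B] [Algebra A O'] [Algebra O' O] [Algebra B O] [Algebra A O]
    [IsScalarTower A O' O] [IsScalarTower A B O] (q : Ideal B) [q.IsPrime]
    (hq : (IsLocalRing.maximalIdeal O).comap (algebraMap B O) = q) (b : B)
    (h : (1 : IsLocalRing.ResidueField O) ⊗ₜ[O] D O' O (algebraMap B O b) ≠ 0) :
    (1 : q.ResidueField) ⊗ₜ[B] D A B b ≠ 0 := by
  intro h0
  subst hq
  let g : ((IsLocalRing.maximalIdeal O).comap (algebraMap B O)).ResidueField →ₐ[B] IsLocalRing.ResidueField O :=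
    Ideal.ResidueField.liftₐ _ (Algebra.ofId B (IsLocalRing.ResidueField O))
      (fun a ha => by
        rw [RingHom.mem_ker]
        exact (IsLocalRing.residue_eq_zero_iff _).2 ha)
      (fun a ha => by
        show IsUnit (IsLocalRing.residue O (algebraMap B O a))
        exact ((IsLocalRing.notMem_maximalIdeal).1 ha).map _)
  exact h (one_tmul_D_map_eq_zero g b h0)

theorem exists_d_ne_zero {O' O : Type u} [CommRing O'] [CommRing O] [IsLocalRing O'] [IsLocalRing O]
    [Algebra O' O] [IsLocalHom (algebraMap O' O)]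
    [Algebra.FormallySmooth (IsLocalRing.ResidueField O') (IsLocalRing.ResidueField O)] (h : O)
    (hm : h ∈ IsLocalRing.maximalIdeal O)
    (hn : h ∉ (IsLocalRing.maximalIdeal O').map (algebraMap O' O) ⊔ IsLocalRing.maximalIdeal O ^ 2) :
    (1 : IsLocalRing.ResidueField O) ⊗ₜ[O] D O' O h ≠ 0 := by
  let I := (IsLocalRing.maximalIdeal O').map (algebraMap O' O)
  let R := O ⧸ I
  let k := IsLocalRing.ResidueField O'
  let K := IsLocalRing.ResidueField O
  have hI : I ≤ IsLocalRing.maximalIdeal O :=
    ((IsLocalRing.local_hom_TFAE (algebraMap O' O)).out 0 2).1 ‹_›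
  let _ : Algebra k R :=
    (Ideal.quotientMap I (algebraMap O' O) Ideal.le_comap_map : k →+* R).toAlgebra
  let _ : Algebra R K := (Ideal.Quotient.factor hI).toAlgebra
  have : IsScalarTower O' k R := .of_algebraMap_eq' rfl
  have : IsScalarTower O R K := .of_algebraMap_eq' rfl
  have : IsScalarTower k R K := .of_algebraMap_eq (fun z => by
    obtain ⟨a, rfl⟩ := Ideal.Quotient.mk_surjective z
    rfl)
  have hs : Function.Surjective (algebraMap R K) := fun z => by
    obtain ⟨a, rfl⟩ := Ideal.Quotient.mk_surjective z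
    exact ⟨Ideal.Quotient.mk I a, rfl⟩
  intro h0
  have h1 : (1 : K) ⊗ₜ[R] D k R (Ideal.Quotient.mk I h) = 0 :=
    one_tmul_D_map_eq_zero (A := O') (AlgHom.id O K) h h0
  have hk : Ideal.Quotient.mk I h ∈ RingHom.ker (algebraMap R K) := by
    rw [RingHom.mem_ker]
    exact Ideal.Quotient.eq_zero_iff_mem.2 hm
  have h2 : Ideal.toCotangent _ ⟨_, hk⟩ = 0 := by
    apply CAlgH.kerCotangentToTensor_injective_of_formallySmooth k R K hs
    rw [map_zero, KaehlerDifferential.kerCotangentToTensor_toCotangent]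
    exact h1
  rw [Ideal.toCotangent_eq_zero] at h2
  have hker : RingHom.ker (algebraMap R K) = (IsLocalRing.maximalIdeal O).map (Ideal.Quotient.mk I) := by
    ext z
    obtain ⟨a, rfl⟩ := Ideal.Quotient.mk_surjective z
    rw [RingHom.mem_ker, Ideal.mem_map_iff_of_surjective _ Ideal.Quotient.mk_surjective]
    exact ⟨fun e => ⟨a, Ideal.Quotient.eq_zero_iff_mem.1 e, rfl⟩, fun ⟨b, hb, e⟩ => by
      rw [← e]; exact Ideal.Quotient.eq_zero_iff_mem.2 hb⟩
  replace h2 : Ideal.Quotient.mk I h ∈ RingHom.ker (algebraMap R K) ^ 2 := h2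
  rw [hker, ← Ideal.map_pow, ← Ideal.mem_comap,
    Ideal.comap_map_of_surjective _ Ideal.Quotient.mk_surjective, ← RingHom.ker_eq_comap_bot,
    Ideal.mk_ker, sup_comm] at h2
  exact hn h2

end Groth.Agent.FlatMor12
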