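import Groth.Agent.CurvesLib24.Basic
import Groth.Agent.AssSch12.Ass
import Groth.Agent.QCohLoc.Unit

/-!
# Flatness over regular integral schemes of dimension at most one
-/

set_option autoImplicit false
set_option backward.isDefEq.respectTransparency false

universe u

open CategoryTheory AlgebraicGeometry Opposite TopologicalSpace

namespace Groth.Agent.FlatMor12.DimOneFlat

variable {X Y : Scheme.{u}} (f : X ⟶ Y)

theorem flat_of_nzd {R A : Type u} [CommRing R] [CommRing A] [IsDomain R] [IsPrincipalIdealRing R]
    [Algebra R A] (h : ∀ r : R, r ≠ 0 → ∀ a : A, algebraMap R A r * a = 0 → a = 0) : Module.Flat R A := by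
  rw [Module.Flat.flat_iff_torsion_eq_bot_of_isBezout, eq_bot_iff]
  rintro a ⟨⟨r, hr⟩, hra⟩
  change r • a = 0 at hra
  rw [Algebra.smul_def] at hra
  exact (Submodule.mem_bot R).2 (h r (nonZeroDivisors.ne_zero hr) a hra)

/-- Flatness from nonzero elements of the stalks of the base mapping to non-zero-divisors. -/
theorem flat_of_stalk_nzd [IsIntegral Y] (hreg : ∀ y : Y, IsRegularLocalRing (Y.presheaf.stalk y))
    (hdim : topologicalKrullDim Y ≤ 1)
    (h : ∀ (x : X) (r : Y.presheaf.stalk (f x)), r ≠ 0 →
      ∀ a : X.presheaf.stalk x, f.stalkMap x r * a = 0 → a = 0) : Flat f := by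
  rw [Flat.iff_flat_stalkMap]
  intro x
  algebraize [(f.stalkMap x).hom]
  have := hreg (f x)
  have : IsPrincipalIdealRing (Y.presheaf.stalk (f x)) := by
    have hd := (CurvesLib24.stalk_dim_le_topologicalKrullDim (f x)).trans hdim
    by_cases hF : IsField (Y.presheaf.stalk (f x))
    · letI := hF.toField
      infer_instance
    · rw [← ((tfae_of_isNoetherianRing_of_isLocalRing_of_isDomain (Y.presheaf.stalk (f x))).out 5 0 rfl rfl)]
      have h1 := (IsRegularLocalRing.iff_finrank_cotangentSpace (Y.presheaf.stalk (f x))).1 inferInstance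
      exact Nat.cast_le.1 (h1.trans_le hd)
  exact flat_of_nzd (R := Y.presheaf.stalk (f x)) (A := X.presheaf.stalk x) (h x)

/-- The point of `Spec O_x` as a point of `X`. -/
theorem map_fromSpecStalk (x : X) (q : PrimeSpectrum (X.presheaf.stalk x)) :
    f (X.fromSpecStalk x q) = Y.fromSpecStalk (f x) (PrimeSpectrum.comap (f.stalkMap x).hom q) := by
  show (X.fromSpecStalk x ≫ f) q = _
  rw [← Scheme.SpecMap_stalkMap_fromSpecStalk]
  rfl

/-- A point of `Spec O_y` over the generic point is the zero prime. -/
theorem eq_bot_of_fromSpecStalk_eq [IsIntegral Y] (y : Y) (q : PrimeSpectrum (Y.presheaf.stalk y))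
    (h : Y.fromSpecStalk y q = genericPoint Y) : q.asIdeal = ⊥ := by
  let b : PrimeSpectrum (Y.presheaf.stalk y) := ⟨⊥, Ideal.isPrime_bot⟩
  have hb : b ⤳ q := (PrimeSpectrum.le_iff_specializes b q).1 bot_le
  have h2 : Y.fromSpecStalk y b = genericPoint Y := by
    refine (Specializes.antisymm ?_ (genericPoint_specializes _)).eq
    rw [← h]
    exact hb.map (Y.fromSpecStalk y).continuous
  exact congrArg PrimeSpectrum.asIdeal ((Y.fromSpecStalk y).isEmbedding.injective (h.trans h2.symm))

/-- For a flat morphism the maximal points lie over maximal points. -/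
theorem map_eq_of_flat [Flat f] {z : X} (hz : ∀ w : X, w ⤳ z → w = z) {η : Y} (hη : η ⤳ f z) :
    f z = η := by
  obtain ⟨q, hq⟩ : η ∈ Set.range (Y.fromSpecStalk (f z)) := by rw [Scheme.range_fromSpecStalk]; exact hη
  algebraize [(f.stalkMap z).hom]
  have : Module.Flat (Y.presheaf.stalk (f z)) (X.presheaf.stalk z) := Flat.stalkMap f z
  have : IsLocalHom (algebraMap (Y.presheaf.stalk (f z)) (X.presheaf.stalk z)) :=
    inferInstanceAs (IsLocalHom (f.stalkMap z).hom)
  have : Module.FaithfullyFlat (Y.presheaf.stalk (f z)) (X.presheaf.stalk z) :=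
    Module.FaithfullyFlat.of_flat_of_isLocalHom
  obtain ⟨q', hq'⟩ := PrimeSpectrum.comap_surjective_of_faithfullyFlat (A := Y.presheaf.stalk (f z))
    (B := X.presheaf.stalk z) q
  have h1 : X.fromSpecStalk z q' = z := hz _ (by
    have := Set.mem_range_self (f := X.fromSpecStalk z) q'
    rwa [Scheme.range_fromSpecStalk] at this)
  rw [← hq, ← hq']
  conv_lhs => rw [← h1]
  exact map_fromSpecStalk f z q'

theorem mem_irreducibleComponents_of_maximal {z : X} (hz : ∀ w : X, w ⤳ z → w = z) :
    closure ({z} : Set X) ∈ irreducibleComponents (X : Type u) := by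
  refine ⟨isIrreducible_singleton.closure, fun S hS hle => ?_⟩
  obtain ⟨g, hg⟩ := QuasiSober.sober hS.closure isClosed_closure
  have hgz : g ⤳ z := specializes_iff_mem_closure.2 (by
    rw [hg.def]; exact subset_closure (hle (subset_closure rfl)))
  rw [← hz g hgz, hg.def]
  exact subset_closure

theorem genericPoint_of_component {Z : Set X} (hZ : Z ∈ irreducibleComponents (X : Type u)) :
    ∃ z, closure ({z} : Set X) = Z ∧ ∀ w : X, w ⤳ z → w = z := by
  obtain ⟨z, hz⟩ := QuasiSober.sober hZ.1 (isClosed_of_mem_irreducibleComponents Z hZ)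
  refine ⟨z, hz.def, fun w hw => ?_⟩
  have h1 : Z ⊆ closure ({w} : Set X) := hz.def ▸ hw.closure_subset
  have h2 := hZ.2 isIrreducible_singleton.closure h1
  exact (hw.antisymm (specializes_iff_mem_closure.2 (by
    have := h2 (subset_closure (Set.mem_singleton w)); rwa [← hz.def] at this))).eq

theorem flat_iff_components_dominate [IsIntegral Y]
    (hreg : ∀ y : Y, IsRegularLocalRing (Y.presheaf.stalk y)) (hdim : topologicalKrullDim Y ≤ 1)
    [IsReduced X] :
    Flat f ↔ ∀ Z ∈ irreducibleComponents (X : Type u), Dense (f '' Z) := by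
  refine ⟨fun _ Z hZ => ?_, fun h => flat_of_stalk_nzd f hreg hdim fun x r hr a ha => ?_⟩
  · obtain ⟨z, rfl, hz⟩ := genericPoint_of_component hZ
    have : f z = genericPoint Y := map_eq_of_flat f hz (genericPoint_specializes _)
    refine Dense.mono (Set.image_mono subset_closure) ?_
    rw [Set.image_singleton, this, dense_iff_closure_eq]
    exact genericPoint_closure Y
  · by_contra ha0
    obtain ⟨P, hP, haP⟩ : ∃ P ∈ minimalPrimes (X.presheaf.stalk x), a ∉ P := by
      by_contra hc
      push Not at hc
      apply ha0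
      refine IsNilpotent.eq_zero (mem_nilradical.1 (?_ : a ∈ (⊥ : Ideal _).radical))
      rw [← Ideal.sInf_minimalPrimes]
      exact Submodule.mem_sInf.2 hc
    have hrP : f.stalkMap x r ∈ P := (hP.1.1.mem_or_mem (ha ▸ P.zero_mem)).resolve_right haP
    let q : PrimeSpectrum (X.presheaf.stalk x) := ⟨P, hP.1.1⟩
    let z := X.fromSpecStalk x q
    have hz : ∀ w : X, w ⤳ z → w = z := fun w hw => by
      have hzx : z ⤳ x := by
        have := Set.mem_range_self (f := X.fromSpecStalk x) q
        rwa [Scheme.range_fromSpecStalk] at this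
      obtain ⟨(q' : PrimeSpectrum (X.presheaf.stalk x)), rfl⟩ : w ∈ Set.range (X.fromSpecStalk x) := by
        rw [Scheme.range_fromSpecStalk]; exact hw.trans hzx
      have h1 : q'.asIdeal ≤ P := (PrimeSpectrum.le_iff_specializes q' q).2
        ((X.fromSpecStalk x).isEmbedding.isInducing.specializes_iff.1 hw)
      have h2 : q = q' := PrimeSpectrum.ext (le_antisymm (hP.2 ⟨q'.isPrime, bot_le⟩ h1) h1)
      rw [show z = X.fromSpecStalk x q from rfl, h2]
    have h2 := h _ (mem_irreducibleComponents_of_maximal hz)
    have h3 : f z = genericPoint Y := by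
      have : closure ({f z} : Set Y) = Set.univ := by
        refine Set.univ_subset_iff.1 ?_
        rw [← h2.closure_eq]
        refine closure_minimal ?_ isClosed_closure
        have hi := image_closure_subset_closure_image (s := ({z} : Set X)) f.continuous
        rwa [Set.image_singleton] at hi
      exact (genericPoint_spec Y).eq this |>.symm
    have h4 := eq_bot_of_fromSpecStalk_eq (f x) _ ((map_fromSpecStalk f x q).symm.trans h3)
    exact hr ((Submodule.mem_bot _).1 (h4.le hrP))

theorem isAssPoint_structureModule_iff [IsLocallyNoetherian X] (x : X) :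
    Curv2.IsAssPoint (Coh.structureModule X) x ↔
      IsLocalRing.maximalIdeal (X.presheaf.stalk x) ∈
        associatedPrimes (X.presheaf.stalk x) (X.presheaf.stalk x) := by
  obtain ⟨U, hU, hx, -⟩ := exists_isAffineOpen_mem_and_subset (x := x) (U := ⊤) trivial
  letI := TopCat.Presheaf.algebra_section_stalk X.presheaf (⟨x, hx⟩ : U)
  haveI := hU.isLocalization_stalk ⟨x, hx⟩
  haveI := AssSch12.isNoetherianRing_of_isAffineOpen hU
  have hM : (Coh.structureModule X).IsQuasicoherent := QCohLoc.isQCoh_structureModule X
  refine (AssSch12.mem_ass_iff hU hx (Coh.structureModule X)).trans ?_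
  show AssSch12.primeAt hU hx ∈ associatedPrimes Γ(X, U) Γ(X, U) ↔ _
  rw [← Module.associatedPrimes.preimage_comap_associatedPrimes_eq_associatedPrimes_of_isLocalizedModule
    (AssSch12.primeAt hU hx).primeCompl (X.presheaf.stalk x)
    (Algebra.linearMap Γ(X, U) (X.presheaf.stalk x)), Set.mem_preimage]
  have : Ideal.comap (algebraMap Γ(X, U) (X.presheaf.stalk x))
      (IsLocalRing.maximalIdeal (X.presheaf.stalk x)) = AssSch12.primeAt hU hx := by
    ext r; exact AssSch12.germ_mem_maximalIdeal_iff hU hx r
  rw [this]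

theorem flat_iff_assPoints [IsIntegral Y]
    (hreg : ∀ y : Y, IsRegularLocalRing (Y.presheaf.stalk y)) (hdim : topologicalKrullDim Y ≤ 1)
    [IsLocallyNoetherian X] :
    Flat f ↔ ∀ x : X, Curv2.IsAssPoint (Coh.structureModule X) x → f x = genericPoint Y := by
  refine ⟨fun _ x hx => ?_, fun h => flat_of_stalk_nzd f hreg hdim fun x r hr a ha => ?_⟩
  · rw [isAssPoint_structureModule_iff] at hx
    obtain ⟨q, hq⟩ : genericPoint Y ∈ Set.range (Y.fromSpecStalk (f x)) := by
      rw [Scheme.range_fromSpecStalk]; exact genericPoint_specializes _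
    have hq0 := eq_bot_of_fromSpecStalk_eq (f x) q hq
    have hm : IsLocalRing.maximalIdeal (Y.presheaf.stalk (f x)) = ⊥ := by
      rw [eq_bot_iff]
      intro r hr
      by_contra hr0
      algebraize [(f.stalkMap x).hom]
      haveI : Module.Flat (Y.presheaf.stalk (f x)) (X.presheaf.stalk x) := Flat.stalkMap f x
      have hnzd : f.stalkMap x r ∈ nonZeroDivisors (X.presheaf.stalk x) := by
        rw [mem_nonZeroDivisors_iff_right]
        intro a ha
        have := Module.Flat.isSMulRegular_of_isRegular (R := Y.presheaf.stalk (f x))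
          (M := X.presheaf.stalk x) (r := r) (isRegular_of_ne_zero fun h => hr0 ((Submodule.mem_bot _).2 h))
        apply this
        show r • a = r • 0
        rw [smul_zero, Algebra.smul_def, mul_comm]
        exact ha
      have hrm : f.stalkMap x r ∈ IsLocalRing.maximalIdeal (X.presheaf.stalk x) :=
        map_nonunit (f.stalkMap x).hom r hr
      exact (biUnion_associatedPrimes_eq_compl_nonZeroDivisors (R := X.presheaf.stalk x)).subset
        (Set.mem_biUnion hx hrm) hnzd
    have : q = IsLocalRing.closedPoint (Y.presheaf.stalk (f x)) :=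
      PrimeSpectrum.ext (hq0.trans hm.symm)
    rw [this, Scheme.fromSpecStalk_closedPoint] at hq
    exact hq
  · by_contra ha0
    have hb : f.stalkMap x r ∉ nonZeroDivisors (X.presheaf.stalk x) := fun hn =>
      ha0 (mem_nonZeroDivisors_iff_right.1 hn a (by rw [mul_comm]; exact ha))
    obtain ⟨P, hP, hrP⟩ := Set.mem_iUnion₂.1
      ((biUnion_associatedPrimes_eq_compl_nonZeroDivisors (R := X.presheaf.stalk x)).symm.subset hb)
    let q : PrimeSpectrum (X.presheaf.stalk x) := ⟨P, hP.isPrime⟩
    obtain ⟨U, hU, hx, -⟩ := exists_isAffineOpen_mem_and_subset (x := x) (U := ⊤) trivial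
    letI := TopCat.Presheaf.algebra_section_stalk X.presheaf (⟨x, hx⟩ : U)
    haveI := hU.isLocalization_stalk ⟨x, hx⟩
    haveI := AssSch12.isNoetherianRing_of_isAffineOpen hU
    let z := X.fromSpecStalk x q
    have hzU : z ∈ U := by
      have := Set.mem_range_self (f := X.fromSpecStalk x) q
      rw [Scheme.range_fromSpecStalk] at this
      exact Specializes.mem_open this U.2 hx
    have hz : Curv2.IsAssPoint (Coh.structureModule X) z := by
      have hM : (Coh.structureModule X).IsQuasicoherent := QCohLoc.isQCoh_structureModule X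
      refine (AssSch12.mem_ass_iff hU hzU (Coh.structureModule X)).2 ?_
      show AssSch12.primeAt hU hzU ∈ associatedPrimes Γ(X, U) Γ(X, U)
      have he : AssSch12.primeAt hU hzU = P.comap (algebraMap Γ(X, U) (X.presheaf.stalk x)) := by
        have hz' : z = hU.fromSpec (PrimeSpectrum.comap (algebraMap Γ(X, U) (X.presheaf.stalk x)) q) := by
          show X.fromSpecStalk x q = _
          rw [← hU.fromSpecStalk_eq_fromSpecStalk hx]
          rfl
        have := AssSch12.primeAt_fromSpec hU (PrimeSpectrum.comap (algebraMap Γ(X, U) (X.presheaf.stalk x)) q) (hz' ▸ hzU)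
        simp only [← hz'] at this
        exact this
      rw [he, ← Module.associatedPrimes.preimage_comap_associatedPrimes_eq_associatedPrimes_of_isLocalizedModule
        (AssSch12.primeAt hU hx).primeCompl (X.presheaf.stalk x)
        (Algebra.linearMap Γ(X, U) (X.presheaf.stalk x))] at *
      exact hP
    have h4 := eq_bot_of_fromSpecStalk_eq (f x) _ ((map_fromSpecStalk f x q).symm.trans (h z hz))
    exact hr ((Submodule.mem_bot _).1 (h4.le hrP))

end Groth.Agent.FlatMor12.DimOneFlat
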