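import Groth.Agent.Coherent.FormalFunctions
import Groth.Agent.Coherent.SecBridge
import Groth.Agent.Coherent.QcohOps
import Groth.Agent.PicLib.BasisOn

/-!
# Sections divisible by a power of a scalar, torsion bounds
-/

set_option autoImplicit false
set_option backward.isDefEq.respectTransparency.types false

universe u

open CategoryTheory CategoryTheory.Limits AlgebraicGeometry Opposite TopologicalSpace
open Groth.Agent.Coherent Groth.Agent.PicLib

namespace Groth.Agent.FlatMor12.DivSections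

variable {R : Type u} [CommRing R] {X : Scheme.{u}} [X.Over (Spec (CommRingCat.of R))]

/-- A scalar as a function on an open. -/
noncomputable def ρ (U : X.Opens) : R →+* Γ(X, U) :=
  (X.presheaf.map (homOfLE (le_top (a := U))).op).hom.comp (baseHom R X)

theorem ρ_res {U V : X.Opens} (h : V ≤ U) (a : R) :
    X.presheaf.map (homOfLE h).op (ρ U a) = ρ V a := by
  show (X.presheaf.map _ ≫ X.presheaf.map _) _ = X.presheaf.map _ _
  rw [← Functor.map_comp]; rfl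

theorem ρ_top (a : R) : ρ (X := X) ⊤ a = baseHom R X a :=
  ConcreteCategory.congr_hom (X.presheaf.map_id (op (⊤ : X.Opens))) (baseHom R X a)

theorem resM_ρ_smul {M : X.Modules} {U V : X.Opens} (h : V ≤ U) (a : R) (x : Γ(M, U)) :
    resM M h (ρ U a • x) = ρ V a • resM M h x := by
  rw [resM_smul, ρ_res]

theorem app_ρ_smul {M N : X.Modules} (f : M ⟶ N) {U : X.Opens} (a : R) (x : Γ(M, U)) :
    f.app U (ρ U a • x) = ρ U a • f.app U x := f.app_smul _ _

variable (ϖ : R)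

/-- The section is locally a multiple of `ϖ ^ m`. -/
def Div (M : X.Modules) (m : ℕ) {U : X.Opens} (x : Γ(M, U)) : Prop :=
  ∀ p ∈ U, ∃ (V : X.Opens) (h : V ≤ U), p ∈ V ∧ ∃ w : Γ(M, V), resM M h x = ρ V ϖ ^ m • w

/-- `ϖ ^ t` kills the `ϖ`-power torsion sections. -/
def TB (M : X.Modules) (t : ℕ) : Prop :=
  ∀ (U : X.Opens) (x : Γ(M, U)) (k : ℕ), ρ U ϖ ^ k • x = 0 → ρ U ϖ ^ t • x = 0

variable {ϖ} {M N : X.Modules} {m k t : ℕ} {U : X.Opens} {x y : Γ(M, U)}

theorem div_smul_pow (w : Γ(M, U)) : Div ϖ M m (ρ U ϖ ^ m • w) := fun p hp =>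
  ⟨U, le_rfl, hp, w, by rw [resM_self]⟩

theorem Div.zero : Div ϖ M m (0 : Γ(M, U)) := by
  simpa using div_smul_pow (ϖ := ϖ) (m := m) (0 : Γ(M, U))

theorem Div.add (hx : Div ϖ M m x) (hy : Div ϖ M m y) : Div ϖ M m (x + y) := fun p hp => by
  obtain ⟨V, hV, hpV, w, hw⟩ := hx p hp
  obtain ⟨V', hV', hpV', w', hw'⟩ := hy p hp
  refine ⟨V ⊓ V', inf_le_left.trans hV, ⟨hpV, hpV'⟩,
    resM M inf_le_left w + resM M inf_le_right w', ?_⟩
  have e1 := congrArg (resM M (inf_le_left : V ⊓ V' ≤ V)) hw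
  have e2 := congrArg (resM M (inf_le_right : V ⊓ V' ≤ V')) hw'
  rw [resM_resM, resM_smul, map_pow, ρ_res] at e1 e2
  rw [map_add, smul_add, e1, e2]

theorem Div.smul (a : Γ(X, U)) (hx : Div ϖ M m x) : Div ϖ M m (a • x) := fun p hp => by
  obtain ⟨V, hV, hpV, w, hw⟩ := hx p hp
  exact ⟨V, hV, hpV, X.presheaf.map (homOfLE hV).op a • w, by rw [resM_smul, hw, smul_comm]⟩

theorem Div.neg (hx : Div ϖ M m x) : Div ϖ M m (-x) := by
  simpa using hx.smul (-1 : Γ(X, U))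

theorem Div.sub (hx : Div ϖ M m x) (hy : Div ϖ M m y) : Div ϖ M m (x - y) :=
  sub_eq_add_neg x y ▸ hx.add hy.neg

theorem Div.sum {ι : Type*} (s : Finset ι) {f : ι → Γ(M, U)} (h : ∀ i ∈ s, Div ϖ M m (f i)) :
    Div ϖ M m (∑ i ∈ s, f i) :=
  Finset.sum_induction f (Div ϖ M m) (fun _ _ ha hb => ha.add hb) Div.zero h

theorem Div.res (hx : Div ϖ M m x) {V : X.Opens} (hV : V ≤ U) : Div ϖ M m (resM M hV x) := fun p hp => by
  obtain ⟨W, hW, hpW, w, hw⟩ := hx p (hV hp)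
  refine ⟨W ⊓ V, inf_le_right, ⟨hpW, hp⟩, resM M inf_le_left w, ?_⟩
  have e1 := congrArg (resM M (inf_le_left : W ⊓ V ≤ W)) hw
  rw [resM_resM, resM_smul, map_pow, ρ_res] at e1
  rw [resM_resM, ← e1]

theorem Div.of_local (h : ∀ p ∈ U, ∃ (V : X.Opens) (hV : V ≤ U), p ∈ V ∧ Div ϖ M m (resM M hV x)) :
    Div ϖ M m x := fun p hp => by
  obtain ⟨V, hV, hpV, hd⟩ := h p hp
  obtain ⟨W, hW, hpW, w, hw⟩ := hd p hpV
  exact ⟨W, hW.trans hV, hpW, w, by rw [← hw, resM_resM]⟩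

theorem Div.mono (hkm : k ≤ m) (hx : Div ϖ M m x) : Div ϖ M k x := fun p hp => by
  obtain ⟨V, hV, hpV, w, hw⟩ := hx p hp
  exact ⟨V, hV, hpV, ρ V ϖ ^ (m - k) • w, by rw [hw, smul_smul, ← pow_add, Nat.add_sub_of_le hkm]⟩

theorem div_smul_of_div {U : X.Opens} {a : Γ(X, U)}
    (ha : Div ϖ (Coh.structureModule X) m (show Γ(Coh.structureModule X, U) from a)) (x : Γ(M, U)) :
    Div ϖ M m (a • x) := fun p hp => by
  obtain ⟨V, hV, hpV, w, hw⟩ := ha p hp
  refine ⟨V, hV, hpV, (show Γ(X, V) from w) • resM M hV x, ?_⟩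
  rw [resM_smul, smul_smul]
  congr 1

theorem div_zero_of_isUnit (h : IsUnit (ρ U ϖ)) : Div ϖ M m x := fun p hp => by
  refine ⟨U, le_rfl, hp, (↑((h.pow m).unit⁻¹) : Γ(X, U)) • x, ?_⟩
  rw [resM_self, smul_smul, IsUnit.mul_val_inv, one_smul]

theorem eq_zero_of_div_of_pow_smul (hT : TB ϖ M t) (hx : Div ϖ M t x)
    (h : ρ U ϖ ^ k • x = 0) : x = 0 := by
  refine Props12.eq_of_nhds M _ _ fun p hp => ?_
  obtain ⟨V, hV, hpV, w, hw⟩ := hx p hp
  refine ⟨V, hV, hpV, ?_⟩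
  have e := congrArg (resM M hV) h
  rw [resM_smul, map_pow, ρ_res, hw, smul_smul, ← pow_add, map_zero] at e
  rw [map_zero, hw]
  exact hT V w _ e

/-- Local sections, congruent and with differences killed by torsion, glue. -/
theorem exists_glue (M : X.Modules) {U : X.Opens} (Q : ∀ ⦃V : X.Opens⦄, Γ(M, V) → Prop)
    (hres : ∀ ⦃V W : X.Opens⦄, V ≤ U → ∀ (h : W ≤ V) (y : Γ(M, V)), Q y → Q (resM M h y))
    (huniq : ∀ ⦃V : X.Opens⦄, V ≤ U → ∀ (y y' : Γ(M, V)), Q y → Q y' → y = y')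
    (hloc : ∀ p ∈ U, ∃ (V : X.Opens) (_ : V ≤ U), p ∈ V ∧ ∃ y : Γ(M, V), Q y) :
    ∃ y : Γ(M, U), ∀ p ∈ U, ∃ (V : X.Opens) (h : V ≤ U), p ∈ V ∧ Q (resM M h y) := by
  choose V hV hpV y hy using hloc
  obtain ⟨z, hz, -⟩ := TopCat.Sheaf.existsUnique_gluing' (⟨M.presheaf, M.isSheaf⟩ : TopCat.Sheaf Ab X)
    (fun p : U => V p.1 p.2) U (fun p => homOfLE (hV p.1 p.2))
    (fun p hp => Opens.mem_iSup.2 ⟨⟨p, hp⟩, hpV p hp⟩) (fun p => y p.1 p.2) (fun p q => by
      show resM M inf_le_left _ = resM M inf_le_right _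
      exact huniq (inf_le_left.trans (hV p.1 p.2)) _ _
        (hres (hV p.1 p.2) inf_le_left _ (hy p.1 p.2)) (hres (hV q.1 q.2) inf_le_right _ (hy q.1 q.2)))
  exact ⟨z, fun p hp => ⟨V p hp, hV p hp, hpV p hp, (hz ⟨p, hp⟩).symm ▸ hy p hp⟩⟩

/-- Division by `ϖ ^ k` beyond the torsion bound. -/
theorem exists_div_pow_smul (hT : TB ϖ M t) (hx : Div ϖ M (t + k) x) :
    ∃ y : Γ(M, U), Div ϖ M t y ∧ ρ U ϖ ^ k • y = x := by
  obtain ⟨y, hy⟩ := exists_glue M (U := U)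
    (fun V z => ∃ h : V ≤ U, Div ϖ M t z ∧ ρ V ϖ ^ k • z = resM M h x)
    (fun V W _ hWV z ⟨h, h1, h2⟩ => ⟨hWV.trans h, h1.res hWV, by
      have e := congrArg (resM M hWV) h2
      rwa [resM_smul, map_pow, ρ_res, resM_resM] at e⟩)
    (fun V _ z z' ⟨_, h1, h2⟩ ⟨_, h1', h2'⟩ => sub_eq_zero.1 <|
      eq_zero_of_div_of_pow_smul hT (k := k) (h1.sub h1') (by rw [smul_sub, h2, h2', sub_self]))
    (fun p hp => by
      obtain ⟨V, hV, hpV, w, hw⟩ := hx p hp
      exact ⟨V, hV, hpV, ρ V ϖ ^ t • w, hV, div_smul_pow w,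
        by rw [smul_smul, ← pow_add, add_comm, hw]⟩)
  refine ⟨y, Div.of_local fun p hp => ?_, Props12.eq_of_nhds M _ _ fun p hp => ?_⟩
  · obtain ⟨V, hV, hpV, _, h1, -⟩ := hy p hp
    exact ⟨V, hV, hpV, h1⟩
  · obtain ⟨V, hV, hpV, _, -, h2⟩ := hy p hp
    exact ⟨V, hV, hpV, by rw [resM_smul, map_pow, ρ_res, h2]⟩

/-- The torsion bound passes to modules with local bases. -/
theorem tb_of_isFinLocFree (hM : FlatMod.IsFinLocFree M) (hT : TB ϖ (Coh.structureModule X) t) :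
    TB ϖ M t := by
  intro U x k h
  refine Props12.eq_of_nhds M _ _ fun p hp => ?_
  obtain ⟨W, n, e, hpW, he⟩ := exists_isBasisOn hM p
  refine ⟨U ⊓ W, inf_le_left, ⟨hp, hpW⟩, ?_⟩
  have h' := congrArg (resM M (inf_le_left : U ⊓ W ≤ U)) h
  rw [resM_smul, map_pow, ρ_res, map_zero] at h'
  rw [resM_smul, map_pow, ρ_res, map_zero]
  have h0 : he.coef inf_le_right (0 : Γ(M, U ⊓ W)) = fun _ => 0 := he.coef_eq _ (by simp)
  have e1 := he.coef_smul inf_le_right (ρ (U ⊓ W) ϖ ^ k) (resM M inf_le_left x)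
  rw [h', h0] at e1
  rw [← he.coef_spec inf_le_right (resM M inf_le_left x), Finset.smul_sum]
  refine Finset.sum_eq_zero fun i _ => ?_
  rw [smul_smul]
  have := hT (U ⊓ W) (show Γ(Coh.structureModule X, U ⊓ W) from
    he.coef inf_le_right (resM M inf_le_left x) i) k (congrFun e1.symm i)
  change ρ (U ⊓ W) ϖ ^ t * he.coef inf_le_right (resM M inf_le_left x) i = 0 at this
  rw [this, zero_smul]

variable {I : Type u} [Fintype I] {W : X.Opens} {e : I → Γ(M, W)}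

theorem coef_div (he : IsBasisOn M W e) (h : U ≤ W) (hx : Div ϖ M m x) (i : I) :
    Div ϖ (Coh.structureModule X) m (show Γ(Coh.structureModule X, U) from he.coef h x i) := fun p hp => by
  obtain ⟨V, hV, hpV, w, hw⟩ := hx p hp
  refine ⟨V, hV, hpV, (show Γ(Coh.structureModule X, V) from he.coef (hV.trans h) w i), ?_⟩
  have e1 := congrFun (he.coef_res h hV x) i
  rw [hw, he.coef_smul] at e1
  exact e1.symm

theorem div_of_coef (he : IsBasisOn M W e) (h : U ≤ W)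
    (hc : ∀ i, Div ϖ (Coh.structureModule X) m (show Γ(Coh.structureModule X, U) from he.coef h x i)) :
    Div ϖ M m x := by
  rw [← he.coef_spec h x]
  exact Div.sum _ fun i _ => div_smul_of_div (hc i) _

theorem modPowπ_app_smul_pow (n : ℕ) {V : X.Opens} (w : Γ(M, V)) :
    (Formal.modPowπ (Ideal.span {ϖ}) n M).app V (ρ V ϖ ^ n • w) = 0 := by
  have hc : ϖ ^ n ∈ Ideal.span ({ϖ} : Set R) ^ n :=
    Ideal.pow_mem_pow (Ideal.mem_span_singleton_self ϖ) n
  have h0 := congr(($(smulMod_modPowπ _ M hc)).app V w)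
  rw [← map_pow]
  exact (congrArg ((Formal.modPowπ (Ideal.span {ϖ}) n M).app V) (smulMod_app M (ϖ ^ n) V w).symm).trans h0

theorem modPowπ_app_eq_zero (hx : Div ϖ M m x) :
    (Formal.modPowπ (Ideal.span {ϖ}) m M).app U x = 0 := by
  refine Props12.eq_of_nhds _ _ _ fun p hp => ?_
  obtain ⟨V, hV, hpV, w, hw⟩ := hx p hp
  exact ⟨V, hV, hpV, by rw [← app_resM, hw, modPowπ_app_smul_pow, map_zero]⟩

theorem div_of_modPowπ_app_eq_zero [Coh.IsQCoh M]
    (hx : (Formal.modPowπ (Ideal.span {ϖ}) m M).app U x = 0) : Div ϖ M m x := by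
  let g := Formal.smulMod R M (ϖ ^ m)
  have hc : Formal.smulFamily (Ideal.span {ϖ} ^ m) M ≫ cokernel.π g = 0 := by
    refine Sigma.hom_ext _ _ ?_
    rintro ⟨a, ha⟩
    rw [comp_zero, ← Category.assoc]
    have e : Sigma.ι (fun _ : (Ideal.span {ϖ} ^ m : Ideal R) => M) ⟨a, ha⟩ ≫
        Formal.smulFamily (Ideal.span {ϖ} ^ m) M = Formal.smulMod R M a := by simp [Formal.smulFamily]
    rw [e]
    rw [Ideal.span_singleton_pow] at ha
    obtain ⟨b, rfl⟩ := Ideal.mem_span_singleton'.1 ha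
    rw [mul_comm, smulMod_mul, Category.assoc]
    exact (congrArg (fun z => _ ≫ z) (cokernel.condition g)).trans comp_zero
  have hx' : (cokernel.π g).app U x = 0 := by
    have e : Formal.modPowπ (Ideal.span {ϖ}) m M ≫ cokernel.desc _ (cokernel.π g) hc = cokernel.π g :=
      cokernel.π_desc _ _ _
    rw [← e]
    show (cokernel.desc _ (cokernel.π g) hc).app U _ = 0
    exact (congrArg _ hx).trans (map_zero _)
  intro p hp
  obtain ⟨V, hVa, hpV, hV⟩ := exists_isAffineOpen_mem_and_subset (x := p) (U := U) hp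
  refine ⟨V, hV, hpV, ?_⟩
  have := isQCoh_image g
  have : Coh.IsQCoh (kernel (Abelian.factorThruImage g)) := isQCoh_kernel _
  obtain ⟨s, hs⟩ := sections_exact (imSeq_shortExact g) (resM M hV x) (by
    show (cokernel.π g).app V _ = 0
    rw [app_resM, hx', map_zero])
  have hS : (ShortComplex.mk (kernel.ι (Abelian.factorThruImage g)) (Abelian.factorThruImage g)
      (kernel.condition _)).ShortExact :=
    { exact := ShortComplex.exact_kernel _, mono_f := inferInstance, epi_g := inferInstance }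
  obtain ⟨w, rfl⟩ := sections_surjective hS hVa s
  refine ⟨w, ?_⟩
  rw [← hs, ← map_pow]
  exact (congr(($(Abelian.image.fac g)).app V w)).trans (smulMod_app M (ϖ ^ m) V w)

variable (ϖ)

/-- The submodule of global sections locally divisible by `ϖ ^ m`. -/
def divG (M : X.Modules) (m : ℕ) : Submodule R (GA (baseHom R X) M) where
  carrier := {x | Div ϖ M m (show Γ(M, ⊤) from x)}
  add_mem' := Div.add
  zero_mem' := Div.zero
  smul_mem' a _ h := h.smul (baseHom R X a)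

theorem GA_smul (a : R) (x : GA (baseHom R X) M) :
    (show Γ(M, ⊤) from a • x) = (ρ (⊤ : X.Opens) a : Γ(X, ⊤)) • (show Γ(M, ⊤) from x) := by
  rw [ρ_top]; rfl

variable {ϖ} {m : ℕ}

/-- The section underlying an element of `divG`. -/
def sec (x : divG ϖ M m) : Γ(M, ⊤) := x.1

theorem sec_div (x : divG ϖ M m) : Div ϖ M m (sec x) := x.2

theorem sec_mk (g : Γ(M, ⊤)) (h : Div ϖ M m g) : sec (⟨g, h⟩ : divG ϖ M m) = g := rfl

theorem sec_ext {x y : divG ϖ M m} (h : sec x = sec y) : x = y := Subtype.ext h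

theorem sec_zero : sec (0 : divG ϖ M m) = 0 := rfl

theorem sec_add (x y : divG ϖ M m) : sec (x + y) = sec x + sec y := rfl

theorem sec_sub (x y : divG ϖ M m) : sec (x - y) = sec x - sec y := rfl

theorem sec_sum {ι : Type*} (s : Finset ι) (f : ι → divG ϖ M m) :
    sec (∑ i ∈ s, f i) = ∑ i ∈ s, sec (f i) :=
  map_sum (AddMonoidHom.mk' (fun x : divG ϖ M m => sec x) sec_add) f s

theorem sec_smul (a : R) (x : divG ϖ M m) : sec (a • x) = (ρ (⊤ : X.Opens) a : Γ(X, ⊤)) • sec x :=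
  GA_smul a x.1

end Groth.Agent.FlatMor12.DivSections
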