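import Groth.Agent.HTop16.PhRefine
import Groth.Agent.HTop16.PhCover
import Groth.Prelude.Def_W4c2submetdescSubtr

/-!
# Universally S-subtrusive morphisms of finite presentation are refined by an open covering followed by
a proper surjection
-/

set_option autoImplicit false
set_option backward.isDefEq.respectTransparency false

universe u

open CategoryTheory CategoryTheory.Limits AlgebraicGeometry TopologicalSpace IsLocalRing

namespace Groth.Agent.FlatMor12.SubtrRefine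

open Groth.Agent HTop16

attribute [local instance] MorphismProperty.universally_isStableUnderBaseChange

instance : (Subtr.UnivSSubtrusive.{u}).IsStableUnderBaseChange :=
  MorphismProperty.universally_isStableUnderBaseChange _

theorem isVCover_of_univSSubtrusive {X Y : Scheme.{u}} (f : X ⟶ Y) [QuasiCompact f]
    (hf : Subtr.UnivSSubtrusive f) : HTop.IsVCover (PreZeroHypercover.singleton.{0} f) := by
  refine VCover.isVCover_singleton_of_hasValLift.{0, 0} f (VCover.hasValLift_of_specializes _ fun V _ _ g => ?_)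
  have h : Subtr.IsSSubtrusive (pullback.fst g f) := hf _ _ _ (IsPullback.of_hasPullback g f)
  obtain ⟨z, z', hz, hzc, hzη⟩ := h (y := closedPoint V) (y' := (⟨⊥, Ideal.isPrime_bot⟩ : PrimeSpectrum V))
    ((PrimeSpectrum.le_iff_specializes (⟨⊥, Ideal.isPrime_bot⟩ : PrimeSpectrum V) (closedPoint V)).1 bot_le)
  exact ⟨PUnit.unit, z', z, hz, hzη, hzc⟩

/-- Affine case. -/
theorem exists_refinement_affine {X Y : Scheme.{u}} [IsAffine Y] (f : X ⟶ Y) [LocallyOfFinitePresentation f]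
    [QuasiCompact f] (hf : Subtr.UnivSSubtrusive f) :
    ∃ (W : Scheme.{u}) (q : W ⟶ Y), IsProper q ∧ Surjective q ∧ LocallyOfFinitePresentation q ∧
      ∀ x : W, ∃ (O : W.Opens) (a : (O : Scheme.{u}) ⟶ X), x ∈ O ∧ a ≫ f = O.ι ≫ q := by
  obtain ⟨W, q, h1, h2, h3, h4⟩ := PhRefine.exists_proper_of_isVCover
    (E := PreZeroHypercover.singleton.{0} f) (fun _ => ‹LocallyOfFinitePresentation f›)
    (isVCover_of_univSSubtrusive f hf)
  exact ⟨W, q, h1, h2, h3, fun x => by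
    obtain ⟨i, O, a, hx, ha⟩ := h4 x
    exact ⟨O, a, hx, ha⟩⟩

/-- Over an affine or Noetherian base, a proper surjection of finite presentation refines locally. -/
theorem exists_refinement_proper {X Y : Scheme.{u}} (f : X ⟶ Y) (hY : IsAffine Y ∨ IsNoetherian Y)
    [LocallyOfFinitePresentation f] [QuasiCompact f] (hf : Subtr.UnivSSubtrusive f) :
    ∃ (W : Scheme.{u}) (q : W ⟶ Y), IsProper q ∧ Surjective q ∧ LocallyOfFinitePresentation q ∧
      ∀ x : W, ∃ (O : W.Opens) (a : (O : Scheme.{u}) ⟶ X), x ∈ O ∧ a ≫ f = O.ι ≫ q := by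
  classical
  rcases hY with hY | hY
  · exact exists_refinement_affine f hf
  let 𝒰 := Y.affineCover.finiteSubcover
  haveI : Fintype 𝒰.I₀ := Fintype.ofFinite _
  let e := (Fintype.equivFin 𝒰.I₀).symm
  let O : Fin (Fintype.card 𝒰.I₀) → Y.Opens := fun i => (𝒰.f (e i)).opensRange
  have hO : ∀ i, IsAffineOpen (O i) := fun i => by
    haveI : IsAffine (𝒰.X (e i)) := inferInstanceAs (IsAffine (Y.affineCover.X _))
    exact isAffineOpen_opensRange (𝒰.f (e i))
  have key : ∀ i, ∃ (W : Scheme.{u}) (q : W ⟶ (O i : Scheme.{u})), IsProper q ∧ Surjective q ∧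
      ∀ x : W, ∃ (P : W.Opens) (a : (P : Scheme.{u}) ⟶ (f ⁻¹ᵁ O i : Scheme.{u})), x ∈ P ∧ a ≫ (f ∣_ O i) = P.ι ≫ q := by
    intro i
    haveI : IsAffine (O i : Scheme.{u}) := hO i
    haveI : LocallyOfFinitePresentation (f ∣_ O i) := IsZariskiLocalAtTarget.restrict ‹_› _
    haveI : QuasiCompact (f ∣_ O i) := IsZariskiLocalAtTarget.restrict ‹_› _
    obtain ⟨W, q, h1, h2, -, h4⟩ := exists_refinement_affine (f ∣_ O i)
      (MorphismProperty.of_isPullback (P := Subtr.UnivSSubtrusive.{u}) (isPullback_morphismRestrict f (O i)).flip hf)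
    exact ⟨W, q, h1, h2, h4⟩
  choose V v hv hvs hloc using key
  obtain ⟨W, w, hw, hws, ha⟩ := PhComp.exists_dominate (U := Y) _ O V v (fun i => (hO i).isCompact) hv hvs
  haveI : IsLocallyNoetherian Y := inferInstance
  haveI : LocallyOfFinitePresentation w := LocallyOfFinitePresentation.iff_locallyOfFiniteType.2 inferInstance
  refine ⟨W, w, hw, hws, ‹_›, fun x => ?_⟩
  obtain ⟨k, hk⟩ : ∃ i, w x ∈ O i := by
    obtain ⟨j, z, hz⟩ := 𝒰.exists_eq (w x)
    refine ⟨e.symm j, ?_⟩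
    show w x ∈ (𝒰.f (e (e.symm j))).opensRange
    rw [Equiv.apply_symm_apply]
    exact ⟨z, hz⟩
  obtain ⟨a, ha⟩ := ha k
  obtain ⟨P, b, hP, hb⟩ := hloc k (a ⟨x, hk⟩)
  let R : W.Opens := (w ⁻¹ᵁ O k).ι ''ᵁ (a ⁻¹ᵁ P)
  let r : (R : Scheme.{u}) ⟶ (a ⁻¹ᵁ P : Scheme.{u}) := ((w ⁻¹ᵁ O k).ι.isoImage (a ⁻¹ᵁ P)).inv
  refine ⟨R, r ≫ (a ∣_ P) ≫ b ≫ (f ⁻¹ᵁ O k).ι, ⟨⟨x, hk⟩, hP, rfl⟩, ?_⟩
  simp only [Category.assoc]
  rw [← morphismRestrict_ι f (O k), reassoc_of% hb, morphismRestrict_ι_assoc, reassoc_of% ha, morphismRestrict_ι,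
    Scheme.Hom.isoImage_inv_ι_assoc]

/-- The refinement as a morphism which is locally on the source an open immersion. -/
theorem exists_refinement {X Y : Scheme.{u}} (f : X ⟶ Y) (hY : IsAffine Y ∨ IsNoetherian Y)
    [LocallyOfFinitePresentation f] [QuasiCompact f] (hf : Subtr.UnivSSubtrusive f) :
    ∃ (X' Y' : Scheme.{u}) (h : X' ⟶ X) (p : X' ⟶ Y') (q : Y' ⟶ Y), h ≫ f = p ≫ q ∧
      Surjective p ∧ QuasiCompact p ∧ QuasiSeparated p ∧ LocallyOfFinitePresentation p ∧ Flat p ∧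
      (∀ x : X', ∃ U : X'.Opens, x ∈ U ∧ IsOpenImmersion (U.ι ≫ p)) ∧
      IsProper q ∧ Surjective q ∧ LocallyOfFinitePresentation q := by
  classical
  obtain ⟨W, q, hq, hqs, hqf, hloc⟩ := exists_refinement_proper f hY hf
  haveI : CompactSpace Y := by
    rcases hY with h | h <;> infer_instance
  haveI : QuasiSeparatedSpace Y := by
    rcases hY with h | h <;> infer_instance
  haveI : CompactSpace W := QuasiCompact.compactSpace_of_compactSpace q
  haveI : QuasiSeparatedSpace W := quasiSeparatedSpace_of_quasiSeparated q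
  choose O a hxO ha using hloc
  have key : ∀ x : W, ∃ P : W.Opens, IsAffineOpen P ∧ x ∈ P ∧ P ≤ O x := fun x => by
    obtain ⟨_, ⟨P, hP, rfl⟩, hxP, hle⟩ := W.isBasis_affineOpens.exists_subset_of_mem_open (hxO x) (O x).isOpen
    exact ⟨P, hP, hxP, hle⟩
  choose P hP hxP hle using key
  obtain ⟨s, hs⟩ := isCompact_univ.elim_finite_subcover (fun x => (P x : Set W))
    (fun x => (P x).isOpen) fun x _ => Set.mem_iUnion.2 ⟨x, hxP x⟩
  let ι : Type u := ULift.{u} (Fin s.card)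
  let pt : ι → W := fun m => (s.equivFin.symm m.down).1
  let Z : ι → Scheme.{u} := fun m => (P (pt m) : Scheme.{u})
  let p : ∐ Z ⟶ W := Sigma.desc fun m => (P (pt m)).ι
  haveI : ∀ m, CompactSpace (Z m) := fun m => isCompact_iff_compactSpace.1 (hP (pt m)).isCompact
  haveI : ∀ m, IsAffine (Z m) := fun m => hP (pt m)
  haveI : CompactSpace (∐ Z : Scheme.{u}) := by
    haveI : Finite (sigmaOpenCover Z).I₀ := inferInstanceAs (Finite ι)
    haveI : ∀ i, CompactSpace ((sigmaOpenCover Z).X i) := fun i => ‹∀ m, CompactSpace (Z m)› i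
    exact (sigmaOpenCover Z).compactSpace
  refine ⟨∐ Z, W, Sigma.desc fun m => W.homOfLE (hle (pt m)) ≫ a (pt m), p, q, ?_, ⟨fun y => ?_⟩,
    quasiCompact_of_compactSpace p, ?_, IsZariskiLocalAtSource.sigmaDesc (P := @LocallyOfFinitePresentation.{u})
      (fun m => inferInstance), IsZariskiLocalAtSource.sigmaDesc (P := @Flat.{u}) (fun m => inferInstance),
    fun x => ?_, hq, hqs, hqf⟩
  · refine Sigma.hom_ext _ _ fun m => ?_
    simp [p, ha]
  · obtain ⟨z, hz⟩ := Set.mem_iUnion.1 (hs (Set.mem_univ y))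
    obtain ⟨hzs, hzy⟩ := Set.mem_iUnion.1 hz
    obtain ⟨m, hm⟩ : ∃ m, pt m = z := ⟨⟨s.equivFin ⟨z, hzs⟩⟩, by simp [pt]⟩
    subst hm
    refine ⟨Sigma.ι Z m ⟨y, hzy⟩, ?_⟩
    rw [← Scheme.Hom.comp_apply, Sigma.ι_desc]
    rfl
  · haveI : IsAffine (∐ Z : Scheme.{u}) := inferInstance
    infer_instance
  · obtain ⟨m, v, rfl⟩ := (sigmaOpenCover Z).exists_eq x
    refine ⟨(Sigma.ι Z m).opensRange, ⟨v, rfl⟩, ?_⟩
    rw [← Scheme.Hom.isoOpensRange_inv_comp, Category.assoc, Sigma.ι_desc]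
    infer_instance

end Groth.Agent.FlatMor12.SubtrRefine
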