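import Mathlib
import Groth.Agent.SmoothLib.Quotient

/-! An étale slice of a smooth algebra through a point with separable residue field over the base. -/

set_option autoImplicit false
universe u

open TensorProduct KaehlerDifferential

namespace Groth.Agent.FlatMor12

theorem span_one_tmul_D_eq_top {A B : Type u} [CommRing A] [CommRing B] [Algebra A B]
    (q : Ideal B) [q.IsPrime] [Algebra.FormallyUnramified A q.ResidueField] :
    Submodule.span q.ResidueField (Set.range fun b : q =>
      (1 : q.ResidueField) ⊗ₜ[Localization.AtPrime q]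
        D A (Localization.AtPrime q) (algebraMap B (Localization.AtPrime q) b.1)) = ⊤ := by
  let O := Localization.AtPrime q
  let L := q.ResidueField
  have hs : Function.Surjective (algebraMap O L) := IsLocalRing.residue_surjective
  rw [eq_top_iff]
  intro z _
  have hz : z ∈ (LinearMap.ker (mapBaseChange A O L)).restrictScalars O := Subsingleton.elim _ _
  rw [← range_kerCotangentToTensor A O L hs] at hz
  obtain ⟨y, rfl⟩ := hz
  obtain ⟨⟨m, hm⟩, rfl⟩ := Ideal.toCotangent_surjective _ y
  rw [kerCotangentToTensor_toCotangent]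
  obtain ⟨⟨b, t⟩, hbt⟩ := IsLocalization.surj q.primeCompl m
  have hm0 : algebraMap O L m = 0 := hm
  have hb0 : algebraMap B L b = 0 := by
    rw [IsScalarTower.algebraMap_apply B O L, ← hbt, map_mul, hm0, zero_mul]
  have hb : b ∈ q := Ideal.algebraMap_residueField_eq_zero.1 hb0
  have ht : algebraMap O L (algebraMap B O t.1) ≠ 0 := by
    rw [← IsScalarTower.algebraMap_apply]
    exact fun h => t.2 (Ideal.algebraMap_residueField_eq_zero.1 h)
  have h1 : algebraMap O L (algebraMap B O t.1) • ((1 : L) ⊗ₜ[O] D A O m) =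
      (1 : L) ⊗ₜ[O] D A O (algebraMap B O b) := by
    rw [← hbt, Derivation.leibniz, tmul_add, tmul_smul, tmul_smul, ← algebraMap_smul L m,
      hm0, zero_smul, zero_add, algebraMap_smul]
  refine (Submodule.smul_mem_iff _ ht).1 ?_
  rw [h1]
  exact Submodule.subset_span ⟨⟨b, hb⟩, rfl⟩

theorem formallyUnramified_of_span_eq_top {A T S : Type u} [CommRing A] [CommRing T] [CommRing S]
    [IsLocalRing T] [IsLocalRing S] [Algebra A T] [Algebra A S] [Algebra T S] [IsScalarTower A T S]
    [Algebra.EssFiniteType A S] (hsurj : Function.Surjective (algebraMap T S)) (s : Set T)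
    (hs : ∀ g ∈ s, algebraMap T S g = 0)
    (hspan : Submodule.span (IsLocalRing.ResidueField T)
      ((fun g => (1 : IsLocalRing.ResidueField T) ⊗ₜ[T] D A T g) '' s) = ⊤) :
    Algebra.FormallyUnramified A S := by
  let L := IsLocalRing.ResidueField T
  let K := IsLocalRing.ResidueField S
  haveI : IsLocalHom (algebraMap T S) := IsLocalHom.of_surjective _ hsurj
  let g₀ : L →+* K := IsLocalRing.ResidueField.map (algebraMap T S)
  let g : L →ₐ[T] K :=
    { g₀ with
      commutes' := fun t => by
        show g₀ (IsLocalRing.residue T t) = _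
        rw [IsLocalRing.ResidueField.map_residue]
        rfl }
  let φ : L ⊗[T] Ω[T⁄A] →ₗ[T] K ⊗[S] Ω[S⁄A] :=
    (TensorProduct.mapOfCompatibleSMul S T T K (Ω[S⁄A])).comp
      (TensorProduct.map g.toLinearMap (KaehlerDifferential.map A A T S))
  have hφ : ∀ (c : L) (x : Ω[T⁄A]),
      φ (c ⊗ₜ x) = g c ⊗ₜ[S] KaehlerDifferential.map A A T S x := fun c x => rfl
  have hsmul : ∀ (c : L) (x : L ⊗[T] Ω[T⁄A]), φ (c • x) = g c • φ x := by
    intro c x
    induction x using TensorProduct.induction_on with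
    | zero => simp
    | tmul d y => rw [smul_tmul', hφ, hφ, smul_tmul', smul_eq_mul, smul_eq_mul, map_mul]
    | add x y hx hy => rw [smul_add, map_add, map_add, hx, hy, smul_add]
  have hzero : ∀ x, φ x = 0 := by
    intro x
    have hx : x ∈ Submodule.span L ((fun g => (1 : L) ⊗ₜ[T] D A T g) '' s) := by rw [hspan]; trivial
    induction hx using Submodule.span_induction with
    | mem x hx =>
      obtain ⟨a, ha, rfl⟩ := hx
      rw [hφ, map_D, hs a ha, map_zero, tmul_zero]
    | zero => exact map_zero _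
    | add x y _ _ hx hy => rw [map_add, hx, hy, add_zero]
    | smul c x _ hx => rw [hsmul, hx, smul_zero]
  have : Subsingleton (K ⊗[S] Ω[S⁄A]) := by
    refine subsingleton_of_forall_eq 0 fun z => ?_
    induction z using TensorProduct.induction_on with
    | zero => rfl
    | tmul c x =>
      obtain ⟨x, rfl⟩ := KaehlerDifferential.map_surjective_of_surjective A A T S hsurj x
      have h1 := hzero ((1 : L) ⊗ₜ x)
      rw [hφ, map_one] at h1
      rw [← mul_one c, ← smul_eq_mul, ← smul_tmul', h1, smul_zero]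
    | add x y hx hy => rw [hx, hy, add_zero]
  exact ⟨IsLocalRing.subsingleton_tensorProduct.1 this⟩

/-- If `B` is smooth over `A` and `q` is a prime with formally unramified residue field over `A`,
then some quotient of `B` is étale over `A` on a basic open around `q`, and meets the fibre
through `q` only there. -/
theorem exists_etale_cut {A B : Type u} [CommRing A] [CommRing B] [Algebra A B] [Algebra.Smooth A B]
    (q : Ideal B) [q.IsPrime] [Algebra.FormallyUnramified A q.ResidueField] :
    ∃ (J : Ideal B) (c : B), J ≤ q ∧ c ∉ q ∧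
      Algebra.Etale A (Localization.Away (Ideal.Quotient.mk J c)) ∧
      ∀ q' : Ideal B, q'.IsPrime → J ≤ q' → c ∉ q' →
        q'.comap (algebraMap A B) = q.comap (algebraMap A B) → q' = q := by
  classical
  let T := Localization.AtPrime q
  let L := q.ResidueField
  obtain ⟨κ, a, ha, hsp, hli⟩ := exists_linearIndependent' L fun b : q =>
    (1 : L) ⊗ₜ[T] D A T (algebraMap B T b.1)
  rw [span_one_tmul_D_eq_top] at hsp
  haveI : Algebra.EssFiniteType A T := Algebra.EssFiniteType.comp A B T
  haveI : Fintype κ := @Fintype.ofFinite _ hli.finite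
  let v : κ → B := fun i => (a i).1
  have hv : Function.Injective v := fun i j h => ha (Subtype.ext h)
  let s : Finset B := Finset.univ.image v
  let J : Ideal B := Ideal.span (s : Set B)
  have hJq : J ≤ q := Ideal.span_le.2 fun b hb => by
    obtain ⟨i, -, rfl⟩ := Finset.mem_image.1 hb
    exact (a i).2
  let P : Ideal (B ⧸ J) := q.map (Ideal.Quotient.mk J)
  have : P.IsPrime := Ideal.map_isPrime_of_surjective Ideal.Quotient.mk_surjective (by rwa [Ideal.mk_ker])
  have hPq : q = P.comap (Ideal.Quotient.mk J) := by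
    rw [Ideal.comap_map_of_surjective _ Ideal.Quotient.mk_surjective, ← RingHom.ker_eq_comap_bot,
      Ideal.mk_ker, sup_eq_left.2 hJq]
  haveI : Algebra.IsSmoothAt A q :=
    inferInstanceAs (Algebra.FormallySmooth A (Localization.AtPrime q))
  -- smooth at `P`
  have hsm : Algebra.IsSmoothAt A P := by
    refine (SmoothLib.isSmoothAt_quotient_iff J ⟨s, rfl⟩ P q hPq).2
      ⟨s, Ideal.subset_span, Ideal.map_span _ _, ?_⟩
    let ψ : L ⊗[B] Ω[B⁄A] →ₗ[L] L ⊗[T] Ω[T⁄A] := LinearMap.liftBaseChange L
      (((TensorProduct.mk T L Ω[T⁄A] 1).restrictScalars B).comp (KaehlerDifferential.map A A B T))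
    have hψ : ∀ b : B, ψ ((1 : L) ⊗ₜ[B] D A B b) = (1 : L) ⊗ₜ[T] D A T (algebraMap B T b) := fun b => by
      simp [ψ]
    refine LinearIndependent.of_comp ψ ?_
    have hmem : ∀ g : ↥s, ∃ i, v i = g.1 := fun g => by
      obtain ⟨i, -, hi⟩ := Finset.mem_image.1 g.2
      exact ⟨i, hi⟩
    choose e he using hmem
    have heinj : Function.Injective e := fun g h hgh => Subtype.ext (by rw [← he g, ← he h, hgh])
    have heq : ψ ∘ (fun g : ↥s => (1 : L) ⊗ₜ[B] D A B (g : B)) =
        ((fun b : q => (1 : L) ⊗ₜ[T] D A T (algebraMap B T b.1)) ∘ a) ∘ e := by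
      funext g
      simp only [Function.comp_apply, hψ]
      rw [← he g]
    rw [heq]
    exact hli.comp e heinj
  -- unramified at `P`
  haveI : P.LiesOver q := ⟨hPq⟩
  letI := Localization.AtPrime.algebraOfLiesOver q P
  let S := Localization.AtPrime P
  haveI : IsScalarTower A T S := IsScalarTower.of_algebraMap_eq' (by
    rw [IsScalarTower.algebraMap_eq A B T, ← RingHom.comp_assoc, ← IsScalarTower.algebraMap_eq B T S,
      ← IsScalarTower.algebraMap_eq A B S])
  have hmk : ∀ b : B, algebraMap B S b = algebraMap (B ⧸ J) S (Ideal.Quotient.mk J b) := fun b =>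
    IsScalarTower.algebraMap_apply B (B ⧸ J) S b
  have hTS : Function.Surjective (algebraMap T S) := by
    intro z
    obtain ⟨⟨b, t⟩, hb⟩ := IsLocalization.surj P.primeCompl z
    obtain ⟨b, rfl⟩ := Ideal.Quotient.mk_surjective b
    obtain ⟨c, hc⟩ := Ideal.Quotient.mk_surjective t.1
    have hcq : c ∈ q.primeCompl := fun h => t.2 (hc ▸ (hPq.le h : c ∈ P.comap _))
    obtain ⟨w, hw⟩ := isUnit_iff_exists_inv.mp (IsLocalization.map_units T ⟨c, hcq⟩)
    refine ⟨algebraMap B T b * w, ?_⟩
    have hb' : z * algebraMap B S c = algebraMap B S b := by rw [hmk, hmk, hc]; exact hb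
    rw [map_mul, ← IsScalarTower.algebraMap_apply, ← hb', mul_assoc, IsScalarTower.algebraMap_apply B T S,
      ← map_mul, hw, map_one, mul_one]
  haveI : Algebra.EssFiniteType A S := Algebra.EssFiniteType.comp A (B ⧸ J) S
  have hunr : Algebra.FormallyUnramified A S := by
    refine formallyUnramified_of_span_eq_top hTS (Set.range fun i => algebraMap B T (v i)) ?_ ?_
    · rintro _ ⟨i, rfl⟩
      rw [← IsScalarTower.algebraMap_apply, hmk, Ideal.Quotient.eq_zero_iff_mem.2, map_zero]
      exact Ideal.subset_span (Finset.mem_image_of_mem v (Finset.mem_univ i))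
    · rw [← Set.range_comp]
      exact hsp
  haveI : Algebra.IsEtaleAt A P :=
    Algebra.FormallyEtale.iff_formallyUnramified_and_formallySmooth.2 ⟨hunr, hsm⟩
  haveI : Algebra.FinitePresentation A (B ⧸ J) := Algebra.FinitePresentation.quotient ⟨s, rfl⟩
  obtain ⟨fb, hfb, hfet⟩ := Algebra.exists_etale_of_isEtaleAt (R := A) P
  obtain ⟨f, rfl⟩ := Ideal.Quotient.mk_surjective fb
  have hfq : f ∉ q := fun h => hfb (Ideal.mem_map_of_mem _ h)
  -- the other points of the fibre
  let C := Localization.Away (Ideal.Quotient.mk J f)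
  let F : Set (Ideal B) := {q' | q'.IsPrime ∧ J ≤ q' ∧ f ∉ q' ∧
    q'.comap (algebraMap A B) = q.comap (algebraMap A B)}
  have hlift : ∀ q' : Ideal B, q'.IsPrime → J ≤ q' → f ∉ q' →
      ∃ Q : Ideal C, Q.IsPrime ∧ q' = Q.comap (algebraMap B C) := by
    intro q' hq' hJ hf
    have : (q'.map (Ideal.Quotient.mk J)).IsPrime :=
      Ideal.map_isPrime_of_surjective Ideal.Quotient.mk_surjective (by rwa [Ideal.mk_ker])
    have hc : q' = (q'.map (Ideal.Quotient.mk J)).comap (Ideal.Quotient.mk J) := by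
      rw [Ideal.comap_map_of_surjective _ Ideal.Quotient.mk_surjective, ← RingHom.ker_eq_comap_bot,
        Ideal.mk_ker, sup_eq_left.2 hJ]
    have hd : Disjoint (Submonoid.powers (Ideal.Quotient.mk J f) : Set (B ⧸ J))
        (q'.map (Ideal.Quotient.mk J) : Set (B ⧸ J)) := by
      rw [Set.disjoint_left]
      rintro _ ⟨n, rfl⟩ h
      have h' : Ideal.Quotient.mk J f ∈ q'.map (Ideal.Quotient.mk J) := ‹Ideal.IsPrime _›.mem_of_pow_mem n h
      exact hf (hc ▸ h')
    refine ⟨(q'.map (Ideal.Quotient.mk J)).map (algebraMap (B ⧸ J) C),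
      IsLocalization.isPrime_of_isPrime_disjoint _ C _ inferInstance hd, ?_⟩
    rw [IsScalarTower.algebraMap_eq B (B ⧸ J) C, ← Ideal.comap_comap]
    conv_rhs => rw [show Ideal.comap (algebraMap (B ⧸ J) C) _ = _ from
      IsLocalization.comap_map_of_isPrime_disjoint _ C ‹_› hd]
    exact hc
  obtain ⟨Q, hQ, hqQ⟩ := hlift q inferInstance hJq hfq
  have hQA : ∀ Q' : Ideal C, Q'.comap (algebraMap A C) =
      (Q'.comap (algebraMap B C)).comap (algebraMap A B) := fun Q' => by
    rw [Ideal.comap_comap, ← IsScalarTower.algebraMap_eq]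
  have hfin : F.Finite := by
    refine ((Algebra.QuasiFinite.finite_primesOver (R := A) (S := C) (q.comap (algebraMap A B))).image
      (Ideal.comap (algebraMap B C))).subset ?_
    rintro q' ⟨hq', hJ, hf, hp⟩
    obtain ⟨Q', hQ', hq'Q⟩ := hlift q' hq' hJ hf
    exact ⟨Q', ⟨hQ', ⟨by rw [Ideal.under_def, hQA, ← hq'Q, hp]⟩⟩, hq'Q.symm⟩
  let G : Finset (Ideal B) := hfin.toFinset.erase q
  have hG : ¬ G.inf id ≤ q := by
    intro h
    obtain ⟨q', hq'G, hle⟩ := (Ideal.IsPrime.inf_le' (f := id) ‹q.IsPrime›).1 h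
    obtain ⟨hne, hq'F⟩ := Finset.mem_erase.1 hq'G
    obtain ⟨hq', hJ, hf, hp⟩ := hfin.mem_toFinset.1 hq'F
    obtain ⟨Q', hQ', hq'Q⟩ := hlift q' hq' hJ hf
    apply hne
    have hPP : Q' ≤ Q := by
      intro z hz
      obtain ⟨⟨w, t⟩, hzw⟩ := IsLocalization.surj (Submonoid.powers (Ideal.Quotient.mk J f)) z
      obtain ⟨w, rfl⟩ := Ideal.Quotient.mk_surjective w
      have hw : algebraMap (B ⧸ J) C (Ideal.Quotient.mk J w) ∈ Q' := hzw ▸ Q'.mul_mem_right _ hz
      have hwq : w ∈ q := hle (show w ∈ q' by rw [hq'Q]; exact hw)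
      have : algebraMap (B ⧸ J) C (Ideal.Quotient.mk J w) ∈ Q := by
        rw [hqQ] at hwq; exact hwq
      rw [← hzw] at this
      exact (hQ.mem_or_mem this).resolve_right fun ht =>
        hQ.ne_top (Ideal.eq_top_of_isUnit_mem _ ht (IsLocalization.map_units C t))
    rw [hq'Q, hqQ, Algebra.QuasiFinite.eq_of_le_of_under_eq (R := A) Q' Q hPP (by
      rw [Ideal.under_def, Ideal.under_def, hQA, hQA, ← hq'Q, ← hqQ, hp])]
  obtain ⟨e, heG, heq⟩ := SetLike.not_le_iff_exists.1 hG
  refine ⟨J, f * e, hJq, q.primeCompl.mul_mem hfq heq, ?_, fun q' hq' hJ hc hp => ?_⟩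
  · rw [← Algebra.basicOpen_subset_etaleLocus_iff_etale]
    refine Set.Subset.trans ?_ (Algebra.basicOpen_subset_etaleLocus_iff_etale.2 hfet)
    rw [map_mul]
    exact fun x hx => ((PrimeSpectrum.basicOpen_mul _ _).le hx).1
  · by_contra hne
    have hf : f ∉ q' := fun h => hc (q'.mul_mem_right e h)
    have hq'G : q' ∈ G := Finset.mem_erase.2 ⟨hne, hfin.mem_toFinset.2 ⟨hq', hJ, hf, hp⟩⟩
    exact hc (q'.mul_mem_left f ((Finset.inf_le (f := id) hq'G) heG))

end Groth.Agent.FlatMor12
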