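import Groth.Agent.FlatMor12.StdEtaleFinite

/-! An étale neighbourhood is dominated by a finite free cover followed by a Zariski cover. -/

set_option backward.isDefEq.respectTransparency false

universe u

namespace Groth.Agent.FlatMor12

open AlgebraicGeometry CategoryTheory Limits

theorem exists_finite_free_over_etale_nbhd {U S : Scheme.{u}} (e : U ⟶ S) [Etale e] (u : U)
    (s : S) (hu : e u = s) :
    ∃ (V : S.Opens) (T : Scheme.{u}) (π : T ⟶ (V : Scheme.{u})), s ∈ V ∧ IsAffineOpen V ∧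
      Surjective π ∧ IsFinite π ∧ Flat π ∧ LocallyOfFinitePresentation π ∧
      ∀ t : T, V.ι (π t) = s → ∃ (W : T.Opens) (h : (W : Scheme.{u}) ⟶ U), t ∈ W ∧
        h ≫ e = W.ι ≫ π ≫ V.ι ∧ ∀ ht : t ∈ W, h ⟨t, ht⟩ = u := by
  obtain ⟨_, ⟨V, (hV : IsAffineOpen V), rfl⟩, hsV, -⟩ := S.isBasis_affineOpens.exists_subset_of_mem_open
    (Set.mem_univ s) isOpen_univ
  obtain ⟨_, ⟨W, (hW : IsAffineOpen W), rfl⟩, huW, hWV⟩ := U.isBasis_affineOpens.exists_subset_of_mem_open
    (show u ∈ e ⁻¹ᵁ V by rw [Scheme.Hom.mem_preimage, hu]; exact hsV) (e ⁻¹ᵁ V).isOpen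
  let A := Γ(S, V)
  let B := Γ(U, W)
  let φ : A ⟶ B := e.appLE V W hWV
  let : Algebra A B := φ.hom.toAlgebra
  have : Algebra.Etale A B := RingHom.etale_algebraMap.1 (e.etale_appLE hV hW hWV)
  let Q₀ := hW.primeIdealOf ⟨u, huW⟩
  obtain ⟨f, hf, hstd⟩ := Algebra.IsEtaleAt.exists_isStandardEtale (R := A) Q₀.asIdeal
  obtain ⟨P⟩ := hstd.nonempty_standardEtalePresentation
  let ρ : B →ₐ[A] P.P.Ring :=
    P.equivRing.toAlgHom.comp (IsScalarTower.toAlgHom A B (Localization.Away f))
  let : Q₀.asIdeal.IsPrime := Q₀.2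
  obtain ⟨Qf, hQf⟩ : ∃ Qf : PrimeSpectrum (Localization.Away f),
      PrimeSpectrum.comap (algebraMap B (Localization.Away f)) Qf = Q₀ := by
    show Q₀ ∈ Set.range _
    rw [PrimeSpectrum.localization_away_comap_range (Localization.Away f) f]
    exact hf
  let Q : Ideal P.P.Ring := Qf.asIdeal.comap P.equivRing.symm.toAlgHom.toRingHom
  have hQρ : Q.comap ρ.toRingHom = Q₀.asIdeal := by
    rw [← hQf]
    ext x
    simp [Q, ρ]
  obtain ⟨T, _, _, hfree, hfin, hinj, hT⟩ :=
    exists_finite_free_dominating P.P Q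
  let π₀ : Spec (CommRingCat.of T) ⟶ Spec A := Spec.map (CommRingCat.ofHom (algebraMap A T))
  have : IsFinite π₀ := (IsFinite.SpecMap_iff _).2 (RingHom.finite_algebraMap.2 hfin)
  have : Flat π₀ := (HasRingHomProperty.Spec_iff (P := @Flat)).2
    (RingHom.flat_algebraMap_iff.2 inferInstance)
  have : LocallyOfFinitePresentation π₀ := (HasRingHomProperty.Spec_iff
    (P := @LocallyOfFinitePresentation)).2 (RingHom.finitePresentation_algebraMap.2
      (have := Module.finitePresentation_of_projective A T; Algebra.FinitePresentation.of_finitePresentation A T))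
  have : Surjective π₀ := ⟨fun a => by
    obtain ⟨b, hb⟩ := RingHom.IsIntegral.comap_surjective
      (RingHom.Finite.to_isIntegral (RingHom.finite_algebraMap.2 hfin : (algebraMap A T).Finite))
      hinj a
    exact ⟨b, hb⟩⟩
  refine ⟨V, Spec (CommRingCat.of T), π₀ ≫ hV.isoSpec.inv, hsV, hV, inferInstance, inferInstance,
    inferInstance, inferInstance, fun t ht => ?_⟩
  have ht' : hV.fromSpec (π₀ t) = s := ht
  have hp : π₀ t = Spec.map φ Q₀ := by
    refine hV.fromSpec.isOpenEmbedding.injective (ht'.trans ?_)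
    rw [← Scheme.Hom.comp_apply, hV.SpecMap_appLE_fromSpec e hW hWV, Scheme.Hom.comp_apply,
      hW.fromSpec_primeIdealOf, hu]
  obtain ⟨w, hw, σ, hσ⟩ := hT t.asIdeal (by
    have h1 := congrArg PrimeSpectrum.asIdeal hp
    refine h1.trans ?_
    change Q₀.asIdeal.comap φ.hom = _
    rw [← hQρ, Ideal.comap_comap]
    exact congrArg (fun g => Ideal.comap g Q) ρ.comp_algebraMap)
  let j : Spec (CommRingCat.of (Localization.Away w)) ⟶ Spec (CommRingCat.of T) :=
    Spec.map (CommRingCat.ofHom (algebraMap T (Localization.Away w)))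
  have : IsOpenImmersion j := IsOpenImmersion.of_isLocalization w
  let m : Spec (CommRingCat.of (Localization.Away w)) ⟶ U :=
    Spec.map (CommRingCat.ofHom (σ.comp ρ).toRingHom) ≫ hW.fromSpec
  have hme : m ≫ e = j ≫ π₀ ≫ hV.fromSpec := by
    dsimp only [m, j, π₀]
    rw [Category.assoc, ← hV.SpecMap_appLE_fromSpec e hW hWV, ← Category.assoc, ← Category.assoc,
      ← Spec.map_comp, ← Spec.map_comp]
    congr 2
    ext a
    exact ((σ.comp ρ).commutes a).trans (IsScalarTower.algebraMap_apply A T _ a)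
  have htj : t ∈ j.opensRange := by
    show t ∈ Set.range (PrimeSpectrum.comap (algebraMap T (Localization.Away w)))
    rw [PrimeSpectrum.localization_away_comap_range (Localization.Away w) w]
    exact hw
  refine ⟨j.opensRange, j.isoOpensRange.inv ≫ m, htj, ?_, fun ht => ?_⟩
  · rw [Category.assoc, hme, ← Category.assoc, Scheme.Hom.isoOpensRange_inv_comp]
    simp only [Category.assoc, IsAffineOpen.fromSpec]
  · rw [Scheme.Hom.comp_apply]
    generalize hy : j.isoOpensRange.inv ⟨t, ht⟩ = y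
    have hjy : j y = t := by
      rw [← hy, ← Scheme.Hom.comp_apply, Scheme.Hom.isoOpensRange_inv_comp]
      rfl
    have h1 := hσ y.asIdeal y.2 (congrArg PrimeSpectrum.asIdeal hjy)
    show hW.fromSpec (Spec.map (CommRingCat.ofHom (σ.comp ρ).toRingHom) y) = u
    have h2 : Spec.map (CommRingCat.ofHom (σ.comp ρ).toRingHom) y = Q₀ := by
      refine PrimeSpectrum.ext (Eq.trans ?_ hQρ)
      change y.asIdeal.comap (σ.comp ρ).toRingHom = _
      rw [← h1]
      rfl
    rw [h2]
    exact hW.fromSpec_primeIdealOf ⟨u, huW⟩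

end Groth.Agent.FlatMor12
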