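import Mathlib.RingTheory.Etale.StandardEtale
import Mathlib.RingTheory.Unramified.LocalStructure
import Mathlib.RingTheory.Localization.BaseChange
import Mathlib.AlgebraicGeometry.Morphisms.Etale
import Mathlib.AlgebraicGeometry.Fiber

/-! Lifting étale neighbourhoods from a fibre. -/

universe u

set_option autoImplicit false
set_option backward.isDefEq.respectTransparency false

open Polynomial TensorProduct CategoryTheory

namespace Groth.Agent.FlatMor12

attribute [local instance] Algebra.TensorProduct.rightAlgebra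

/-- Clearing denominators in finitely many elements. -/
theorem exists_common_denom {B T : Type u} [CommRing B] [CommRing T] [Algebra B T] (M : Submonoid B)
    (hT : ∀ z : T, ∃ m ∈ M, ∃ b, algebraMap B T m * z = algebraMap B T b) (s : Finset T) :
    ∃ m ∈ M, ∀ z ∈ s, ∃ b, algebraMap B T m * z = algebraMap B T b := by
  classical
  induction s using Finset.induction with
  | empty => exact ⟨1, M.one_mem, by simp⟩
  | @insert z s _ ih =>
    obtain ⟨m, hm, h⟩ := ih
    obtain ⟨n, hn, b, hb⟩ := hT z
    refine ⟨m * n, M.mul_mem hm hn, fun w hw => ?_⟩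
    rcases Finset.mem_insert.1 hw with rfl | hw
    · exact ⟨m * b, by rw [map_mul, map_mul, mul_assoc, hb]⟩
    · obtain ⟨c, hc⟩ := h w hw
      exact ⟨n * c, by rw [map_mul, map_mul, mul_comm (algebraMap B T m), mul_assoc, hc]⟩

/-- Lifting a standard étale algebra to a localisation. -/
theorem exists_etale_lift_standard {B T : Type u} [CommRing B] [CommRing T] [Algebra B T] (M : Submonoid B)
    (hu : ∀ m ∈ M, IsUnit (algebraMap B T m))
    (hT : ∀ z : T, ∃ m ∈ M, ∃ b, algebraMap B T m * z = algebraMap B T b)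
    (C : Type u) [CommRing C] [Algebra T C] [Algebra.IsStandardEtale T C] [Algebra B C] [IsScalarTower B T C] :
    ∃ (L : Type u) (_ : CommRing L) (_ : Algebra B L) (_ : Algebra L C) (_ : IsScalarTower B L C),
      Algebra.Etale B L ∧ Algebra.IsPushout B T L C := by
  classical
  obtain ⟨P₀⟩ := (‹Algebra.IsStandardEtale T C›).nonempty_standardEtalePresentation
  obtain ⟨m, hm, hden⟩ := exists_common_denom M hT (P₀.f.coeffs ∪ P₀.g.coeffs)
  let Bm := Localization.Away m
  let φ : Bm →+* T := IsLocalization.Away.lift m (g := algebraMap B T) (hu m hm)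
  let _ : Algebra Bm T := φ.toAlgebra
  have : IsScalarTower B Bm T := .of_algebraMap_eq fun b => (IsLocalization.Away.lift_eq m _ b).symm
  let _ : Algebra Bm C := ((algebraMap T C).comp φ).toAlgebra
  have : IsScalarTower Bm T C := .of_algebraMap_eq' rfl
  have : IsScalarTower B Bm C := .of_algebraMap_eq fun b => by
    show _ = algebraMap T C (φ (algebraMap B Bm b))
    rw [IsLocalization.Away.lift_eq, ← IsScalarTower.algebraMap_apply]
  have hc : ∀ z ∈ P₀.f.coeffs ∪ P₀.g.coeffs, z ∈ φ.rangeS := fun z hz => by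
    obtain ⟨b, hb⟩ := hden z hz
    refine ⟨IsLocalization.Away.invSelf m * algebraMap B Bm b, ?_⟩
    have h1 : φ (algebraMap B Bm m) * φ (IsLocalization.Away.invSelf m) = 1 := by
      rw [← map_mul, IsLocalization.Away.mul_invSelf, map_one]
    rw [IsLocalization.Away.lift_eq] at h1
    rw [map_mul, IsLocalization.Away.lift_eq, ← hb, ← mul_assoc, mul_comm _ (algebraMap B T m), h1, one_mul]
  have hlift : ∀ (p : T[X]), (∀ z ∈ p.coeffs, z ∈ φ.rangeS) → p ∈ Polynomial.lifts φ := fun p hp => by
    rw [Polynomial.lifts_iff_coeff_lifts]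
    intro n
    by_cases hn : p.coeff n = 0
    · exact hn ▸ ⟨0, map_zero φ⟩
    · exact hp _ (Polynomial.coeff_mem_coeffs hn)
  obtain ⟨F, hF, -, hFm⟩ := Polynomial.lifts_and_natDegree_eq_and_monic
    (hlift P₀.f fun z hz => hc z (Finset.mem_union_left _ hz)) P₀.monic_f
  obtain ⟨G, hG⟩ := (Polynomial.mem_lifts _).1 (hlift P₀.g fun z hz => hc z (Finset.mem_union_right _ hz))
  let P : StandardEtalePair Bm := ⟨F, hFm, G * F.derivative, G, 0, 1, by ring⟩
  let P₁ := P.map (algebraMap Bm T)
  have hf₁ : P₁.f = P₀.f := hF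
  have hg₁ : P₁.g = P₀.g * P₀.f.derivative := by
    show (G * F.derivative).map φ = _
    rw [Polynomial.map_mul, hG, ← Polynomial.derivative_map, hF]
  have h1 : P₁.HasMap P₀.x := by
    rw [StandardEtalePair.HasMap, hf₁, hg₁, map_mul]
    exact ⟨P₀.hasMap.1, P₀.hasMap.2.mul P₀.hasMap.isUnit_derivative_f⟩
  have h2 : P₀.P.HasMap P₁.X := by
    have h := P₁.hasMap_X
    rw [StandardEtalePair.HasMap, hf₁, hg₁, map_mul] at h
    exact ⟨h.1, isUnit_of_mul_isUnit_left h.2⟩
  let e : P₁.Ring ≃ₐ[T] C := AlgEquiv.ofAlgHom (P₁.lift P₀.x h1)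
    ((P₀.P.lift P₁.X h2).comp P₀.equivRing.toAlgHom)
    (P₀.hom_ext (by simp)) (P₁.hom_ext (by simp))
  have h3 : P.HasMap P₀.x := by
    have := h1
    rw [StandardEtalePair.HasMap] at this
    simpa [StandardEtalePair.HasMap, P₁] using this
  let ψ : P.Ring →ₐ[Bm] C := P.lift P₀.x h3
  let _ : Algebra P.Ring C := ψ.toRingHom.toAlgebra
  have : IsScalarTower Bm P.Ring C := .of_algebraMap_eq fun r => (ψ.commutes r).symm
  let _ : Algebra B P.Ring := ((algebraMap Bm P.Ring).comp (algebraMap B Bm)).toAlgebra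
  have : IsScalarTower B Bm P.Ring := .of_algebraMap_eq' rfl
  have : IsScalarTower B P.Ring C := .of_algebraMap_eq fun b => by
    rw [IsScalarTower.algebraMap_apply B Bm P.Ring, ← IsScalarTower.algebraMap_apply Bm P.Ring C,
      ← IsScalarTower.algebraMap_apply B Bm C]
  have : Algebra.Etale B Bm := Algebra.Etale.of_isLocalizationAway m
  have : Algebra.Etale B P.Ring := Algebra.Etale.comp B Bm P.Ring
  refine ⟨P.Ring, inferInstance, inferInstance, inferInstance, inferInstance, inferInstance, ?_⟩
  have : IsLocalization (Algebra.algebraMapSubmonoid T (Submonoid.powers m)) T :=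
    IsLocalization.of_le_isUnit_of_bijective (by
      rintro x ⟨_, ⟨y, hy, rfl⟩, hx⟩
      obtain ⟨n, rfl⟩ := (Submonoid.mem_powers_iff y m).1 hy
      rw [← hx, Algebra.algebraMap_self, RingHom.id_apply]
      show IsUnit (algebraMap B T (m ^ n))
      rw [map_pow]
      exact (hu m hm).pow n) Function.bijective_id
  have hp₁ : Algebra.IsPushout B T Bm T := Algebra.isPushout_of_isLocalization (Submonoid.powers m) Bm T T
  -- the presentation of the base change
  let Q : StandardEtalePresentation Bm P.Ring :=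
    ⟨P, P.X, P.hasMap_X, by simpa [StandardEtalePair.lift_X_left] using Function.bijective_id⟩
  let Q' := Q.baseChange (T := T)
  let ε : T ⊗[Bm] P.Ring ≃ₐ[T] C := Q'.equivRing.trans e
  have hε : ∀ y, ε (1 ⊗ₜ y) = ψ y := by
    suffices (ε.toAlgHom.restrictScalars Bm).comp Algebra.TensorProduct.includeRight = ψ from
      fun y => AlgHom.congr_fun this y
    refine P.hom_ext ?_
    show e (Q'.equivRing (1 ⊗ₜ P.X)) = _
    rw [show Q'.equivRing (1 ⊗ₜ P.X) = P₁.X from Q'.equivRing_x]
    simp [e, ψ]
  have hp₂ : Algebra.IsPushout Bm T P.Ring C := Algebra.IsPushout.of_equiv (R := Bm) (R' := T) (S := P.Ring) ε (RingHom.ext fun y => hε y)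
  have := hp₁.symm
  exact ((Algebra.IsPushout.comp_iff B Bm T T).2 hp₂.symm).symm

end Groth.Agent.FlatMor12
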