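import Groth.Agent.SerreDual.ExtShGlobal
import Groth.Agent.SerreDual.ExtShCoherent
import Groth.Agent.SerreDual.ExtShTwist
import Groth.Agent.TwistLib.TwistInv
import Groth.Agent.TwistLib.G.Inv
import Groth.Agent.Coherent.Serre.Vanishing
import Groth.Agent.Coherent.ProjSpaceFinite

/-!
# `Ext` is the module of sections of sheaf `Ext` after a large twist, over a Noetherian base ring
-/

set_option autoImplicit false
set_option linter.style.haveILetI false
set_option backward.isDefEq.respectTransparency.types false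
set_option backward.isDefEq.respectTransparency false

universe u

open CategoryTheory CategoryTheory.Abelian CategoryTheory.Limits AlgebraicGeometry Opposite TopologicalSpace
open Groth.Agent Groth.Agent.Coherent Groth.Agent.EulerLib Groth.Agent.PicLib Groth.Agent.AmpleLib Groth.Agent.SerreDual

namespace Groth.Agent.FlatMor12.ExtShNoeth

variable {X : Scheme.{u}} (k : Type u) [CommRing k] [X.Over (Spec (CommRingCat.of k))]

theorem linear_internalHom (F : X.Modules) : (internalHomFunctor F).Linear k := by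
  refine ⟨fun {M N} f c => Scheme.Modules.hom_ext _ _ fun U => ConcreteCategory.hom_ext _ _ fun ψ => ?_⟩
  refine Eq.trans ?_ (KLin.smul_app_apply c ((internalHomFunctor F).map f) U ψ).symm
  refine locHom_ext (φ := secHom _) (ψ := secHom _) fun W hW a => ?_
  refine (ev_internalHomMap F (c • f) ψ W hW a).trans ?_
  refine (KLin.smul_app_apply c f W _).trans ?_
  refine Eq.trans ?_ (ev_smul _ (secHom _) W hW a).symm
  refine congr (congrArg _ ?_) (ev_internalHomMap F f ψ W hW a).symm
  exact (ConcreteCategory.congr_hom (X.presheaf.map_comp (homOfLE (le_top (a := U))).op (homOfLE hW).op) _)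

/-- `Ext(O, M)` is cohomology, linearly. -/
noncomputable def extHHLinA (M : X.Modules) (q : ℕ) [HasExt.{u} X.Modules] :
    Ext ((freeModOn X).obj ⊤) M q ≃ₗ[k] Coh.HH X M q :=
  { SerreDual.extHH M q with
    map_smul' := fun c x => by
      show SerreDual.extHH M q (c • x) = c • SerreDual.extHH M q x
      rw [Ext.smul_eq_comp_mk₀, SerreDual.extHH_natural, KLin.smul_id]
      show _ = Sheaf.H.map (Coh.smulAb M (Coh.toGlobal (X ↘ Spec (CommRingCat.of k)) c)) q _
      congr 1 }

/-- Morphisms as maps from `O` to the internal Hom, linearly. -/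
noncomputable def homToIntHom (F N : X.Modules) :
    (F ⟶ N) →ₗ[k] ((freeModOn X).obj ⊤ ⟶ (internalHomFunctor F).obj N) where
  toFun f := idHom F ≫ (internalHomFunctor F).map f
  map_add' f g := by
    haveI : (internalHomFunctor F).Additive := additive_internalHomFunctor F
    rw [Functor.map_add, Preadditive.comp_add]
  map_smul' c f := by
    haveI := linear_internalHom k F
    rw [Functor.map_smul, Linear.comp_smul]
    rfl

variable [HasExt.{u} X.Modules]

/-- `Ext^m(F, G)` is the space of sections of `Ext^m`-sheaf if the lower ones are acyclic. -/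
theorem nonempty_ext_linearEquiv_homology {F G : X.Modules} (I : InjectiveResolution G) (m : ℕ)
    {M : X.Modules} (eM : (homCx F I).homology m ≅ M)
    (hH : ∀ q, q < m → ∀ p, Subsingleton (Coh.HH X ((homCx F I).homology q) (p + 1))) :
    Nonempty (Ext F G m ≃ₗ[k] Coh.HH X M 0) := by
  let O := (freeModOn X).obj (⊤ : X.Opens)
  let K := homCx F I
  let fin := (Linear.homCongr k (Iso.refl O) eM).trans
    ((Ext.linearEquiv₀ (R := k) (X := O) (Y := M)).symm.trans (extHHLinA k M 0))
  suffices h : Nonempty (Ext F G m ≃ₗ[k] (O ⟶ K.homology m)) from h.elim fun e => ⟨e.trans fin⟩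
  rcases m with - | m
  · obtain ⟨e₀⟩ := nonempty_homology_zero_iso F I
    exact ⟨(Ext.linearEquiv₀ (R := k)).trans
      ((LinearEquiv.ofBijective (homToIntHom k F G) (bijective_idHom_comp F G)).trans
        (Linear.homCongr k (Iso.refl O) e₀.symm))⟩
  have hK : ∀ j p, Subsingleton (Ext O (K.X j) (p + 1)) := fun j p => by
    haveI := I.injective j
    exact subsingleton_ext_internalHom_injective F (I.cocomplex.X j) p
  have hH' : ∀ q, q < m + 1 → ∀ p, Subsingleton (Ext O (K.homology q) (p + 1)) := fun q hq p => by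
    haveI := hH q hq p
    exact (extHH _ (p + 1)).toEquiv.subsingleton
  let Z : Submodule k (F ⟶ I.cocomplex.X (m + 1)) :=
    LinearMap.ker (Linear.rightComp k F (I.cocomplex.d (m + 1) (m + 2)))
  have hd : ∀ (f : F ⟶ I.cocomplex.X (m + 1)) (j : ℕ),
      homToIntHom k F (I.cocomplex.X (m + 1)) f ≫ K.d (m + 1) j =
        homToIntHom k F (I.cocomplex.X j) (f ≫ I.cocomplex.d (m + 1) j) := fun f j => by
    show (idHom F ≫ (internalHomFunctor F).map f) ≫ (internalHomFunctor F).map (I.cocomplex.d (m + 1) j) = _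
    rw [Category.assoc, ← Functor.map_comp]
    rfl
  have hz : ∀ f : Z, homToIntHom k F _ f.1 ≫ K.d (m + 1) (m + 2) = 0 := fun f => by
    rw [hd, show f.1 ≫ I.cocomplex.d (m + 1) (m + 2) = 0 from f.2, map_zero]
  let A : Z →ₗ[k] Ext F G (m + 1) :=
    { toFun := fun f => I.extMk f.1 (m + 2) rfl f.2
      map_add' := fun f g => (I.add_extMk f.1 g.1 (m + 2) rfl f.2 g.2).symm
      map_smul' := fun c f => by
        show I.extMk (c • f.1) (m + 2) rfl _ = c • I.extMk f.1 (m + 2) rfl f.2
        calc I.extMk (c • f.1) (m + 2) rfl _ = I.extMk ((c • 𝟙 F) ≫ f.1) (m + 2) rfl (by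
              rw [Category.assoc, show f.1 ≫ I.cocomplex.d (m + 1) (m + 2) = 0 from f.2, comp_zero]) := by
              simp only [Linear.smul_comp, Category.id_comp]
          _ = (Ext.mk₀ (c • 𝟙 F)).comp (I.extMk f.1 (m + 2) rfl f.2) (zero_add _) :=
              (I.mk₀_comp_extMk f.1 (m + 2) rfl f.2 (c • 𝟙 F)).symm
          _ = c • I.extMk f.1 (m + 2) rfl f.2 := by
              rw [Ext.mk₀_smul, Ext.smul_comp, Ext.mk₀_id_comp] }
  let B : Z →ₗ[k] (O ⟶ K.homology (m + 1)) :=
    { toFun := fun f => K.liftCycles (homToIntHom k F _ f.1) (m + 2) (by simp) (hz f) ≫ K.homologyπ (m + 1)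
      map_add' := fun f g => by
        rw [← Preadditive.add_comp]
        congr 1
        rw [← cancel_mono (K.iCycles (m + 1)), Preadditive.add_comp]
        simp only [HomologicalComplex.liftCycles_i]
        exact map_add (homToIntHom k F _) f.1 g.1
      map_smul' := fun c f => by
        show _ = c • (_ ≫ _)
        rw [← Linear.smul_comp]
        congr 1
        rw [← cancel_mono (K.iCycles (m + 1)), Linear.smul_comp]
        simp only [HomologicalComplex.liftCycles_i]
        exact map_smul (homToIntHom k F _) c f.1 }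
  have hA : Function.Surjective A := fun x => by
    obtain ⟨f, hf, rfl⟩ := I.extMk_surjective x (m + 2) rfl
    exact ⟨⟨f, hf⟩, rfl⟩
  have hB : Function.Surjective B := fun φ => by
    obtain ⟨c, hc⟩ := exists_lift_cycles hK hH' φ
    obtain ⟨f, hf⟩ := (bijective_idHom_comp F (I.cocomplex.X (m + 1))).2 (c ≫ K.iCycles (m + 1))
    have hfd : f ≫ I.cocomplex.d (m + 1) (m + 2) = 0 := by
      apply (bijective_idHom_comp F (I.cocomplex.X (m + 2))).1
      refine (hd f (m + 2)).symm.trans ?_
      rw [show homToIntHom k F _ f = c ≫ K.iCycles (m + 1) from hf, Category.assoc, K.iCycles_d, comp_zero]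
      exact (map_zero (homToIntHom k F (I.cocomplex.X (m + 2)))).symm
    refine ⟨⟨f, hfd⟩, ?_⟩
    show K.liftCycles _ _ _ _ ≫ K.homologyπ (m + 1) = φ
    rw [← hc]
    congr 1
    rw [← cancel_mono (K.iCycles (m + 1)), HomologicalComplex.liftCycles_i]
    exact hf
  have hker : LinearMap.ker A = LinearMap.ker B := by
    ext f
    rw [LinearMap.mem_ker, LinearMap.mem_ker]
    constructor
    · intro h
      obtain ⟨g, hg⟩ := (I.extMk_eq_zero_iff f.1 (m + 2) rfl f.2 m rfl).1 h
      show K.liftCycles _ _ _ _ ≫ K.homologyπ (m + 1) = 0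
      have e : K.liftCycles (homToIntHom k F _ f.1) (m + 2) (by simp) (hz f) =
          homToIntHom k F _ g ≫ K.toCycles m (m + 1) := by
        rw [← cancel_mono (K.iCycles (m + 1)), HomologicalComplex.liftCycles_i, Category.assoc, K.toCycles_i,
          ← hg]
        show idHom F ≫ (internalHomFunctor F).map (g ≫ I.cocomplex.d m (m + 1)) =
          (idHom F ≫ (internalHomFunctor F).map g) ≫ (internalHomFunctor F).map (I.cocomplex.d m (m + 1))
        rw [Functor.map_comp, Category.assoc]
      rw [e, Category.assoc, K.toCycles_comp_homologyπ, comp_zero]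
    · intro h
      obtain ⟨g', hg'⟩ := exists_boundary hK hH' _ h
      obtain ⟨g, hg⟩ := (bijective_idHom_comp F (I.cocomplex.X m)).2 g'
      refine (I.extMk_eq_zero_iff f.1 (m + 2) rfl f.2 m rfl).2 ⟨g, ?_⟩
      apply (bijective_idHom_comp F (I.cocomplex.X (m + 1))).1
      have h2 := congrArg (· ≫ K.iCycles (m + 1)) hg'
      simp only [Category.assoc, K.toCycles_i, HomologicalComplex.liftCycles_i] at h2
      refine Eq.trans ?_ h2
      rw [← hg]
      show idHom F ≫ (internalHomFunctor F).map (g ≫ I.cocomplex.d m (m + 1)) =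
        (idHom F ≫ (internalHomFunctor F).map g) ≫ (internalHomFunctor F).map (I.cocomplex.d m (m + 1))
      rw [Functor.map_comp, Category.assoc]
  exact ⟨((A.quotKerEquivOfSurjective hA).symm.trans (Submodule.quotEquivOfEq _ _ hker)).trans
    (B.quotKerEquivOfSurjective hB)⟩


section Proj

variable (n : ℕ) (R : Type u) [CommRing R]

theorem exists_degree_one (x : ProjectiveSpectrum (CohB1.polyGrading n R)) :
    ∃ f ∈ CohB1.polyGrading n R 1, f ∉ x.asHomogeneousIdeal.toIdeal := by
  obtain ⟨i, hi⟩ := Opens.mem_iSup.1 ((projPowCover n R).cover.ge (Opens.mem_top (α := CohB1.ProjSpace n R) x))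
  exact ⟨_, ProjLib.X_mem_polyGrading n R i, hi⟩

theorem isInvertible_twist' (d : ℤ) : PicF.IsInvertible (Twist.twistProjSpace n R d) :=
  TwistLib.isInvertible_twist (exists_degree_one n R) d

theorem isAmple_one : CohB1.IsAmple (Twist.twistProjSpace n R 1) :=
  haveI := Classical.decEq (MvPolynomial (Fin (n + 1)) R)
  TwistLib.G.isAmple_twist_one (𝒜 := CohB1.polyGrading n R)
    (Finset.univ.image MvPolynomial.X) (by
      intro g hg
      obtain ⟨j, -, rfl⟩ := Finset.mem_image.1 hg
      exact MvPolynomial.isHomogeneous_X _ j)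
    (by
      rw [Finset.coe_image, Finset.coe_univ, Set.image_univ]
      refine le_antisymm (ProjLib.irrelevant_le_span_X n _) (Ideal.span_le.2 ?_)
      rintro _ ⟨j, rfl⟩
      exact HomogeneousIdeal.mem_irrelevant_of_mem (CohB1.polyGrading n _) Nat.one_pos
        (MvPolynomial.isHomogeneous_X _ j))

/-- For large twists `Ext^m(F, G(d))` is the module of sections of sheaf `Ext`, over a Noetherian base. -/
theorem eventually_ext_equiv_sections [IsNoetherianRing R] {X : Scheme.{u}} [X.Over (Spec (CommRingCat.of R))]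
    (ι : X ⟶ CohB1.ProjSpace n R) [IsClosedImmersion ι]
    (hι : ι ≫ CohB1.ProjSpace.toSpec n R = X ↘ Spec (CommRingCat.of R))
    [HasExt.{u} X.Modules] {F G : X.Modules} (hF : Coh.IsCoh F) (hG : Coh.IsCoh G) (m : ℕ) :
    ∃ N : ℕ, ∀ d : ℕ, N ≤ d → ∀ (J : InjectiveResolution
        (CohB1.tensorMod G ((Scheme.Modules.pullback ι).obj (Twist.twistProjSpace n R (d : ℤ)))))
      (M : X.Modules), ((homCx F J).homology m ≅ M) →
      Nonempty (Ext F (CohB1.tensorMod G ((Scheme.Modules.pullback ι).obj (Twist.twistProjSpace n R (d : ℤ)))) m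
        ≃ₗ[R] Coh.HH X M 0) := by
  classical
  haveI := isProper_projSpace_toSpec n R
  haveI : IsProper (X ↘ Spec (CommRingCat.of R)) := hι ▸ inferInstance
  haveI : IsLocallyNoetherian X := LocallyOfFiniteType.isLocallyNoetherian (X ↘ Spec (CommRingCat.of R))
  haveI := SerreDual.hasInjectiveResolutions_modules X
  let I := injectiveResolution G
  have hL : CohB1.IsAmple ((Scheme.Modules.pullback ι).obj (Twist.twistProjSpace n R 1)) :=
    AmpleLib.isAmple_pullback_of_isAffineHom ι (isAmple_one n R)
  choose N hN using fun q =>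
    Coherent.Serre.exists_subsingleton_HH_twist (A := R) hL _ (SerreDual.isCoh_homology hF hG I q)
  refine ⟨(Finset.range m).sup N, fun d hd J M eM => nonempty_ext_linearEquiv_homology R J m eM fun q hq p => ?_⟩
  obtain ⟨t⟩ : Nonempty ((Scheme.Modules.pullback ι).obj (Twist.twistProjSpace n R (d : ℤ)) ≅
      CohB1.tensorPow ((Scheme.Modules.pullback ι).obj (Twist.twistProjSpace n R 1)) d) := by
    obtain ⟨e⟩ := TwistLib.nonempty_twist_pow_iso (exists_degree_one n R) d
    let e' : Twist.twistProjSpace n R (d : ℤ) ≅ CohB1.tensorPow (Twist.twistProjSpace n R 1) d := e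
    obtain ⟨f, -⟩ := exists_pullPowIso ι (isInvertible_twist' n R 1) d
    exact ⟨(Scheme.Modules.pullback ι).mapIso e' ≪≫ f⟩
  obtain ⟨e⟩ : Nonempty (CohB1.tensorMod ((Scheme.Modules.pullback ι).obj (Twist.twistProjSpace n R (d : ℤ)))
      ((Scheme.Modules.pullback ι).obj (Twist.twistProjSpace n R (-(d : ℤ)))) ≅ Coh.structureModule X) := by
    obtain ⟨e⟩ := TwistLib.nonempty_tensor_twist_iso (exists_degree_one n R) (show (d : ℤ) + -(d : ℤ) = 0 by ring)
    obtain ⟨b⟩ := TwistLib.nonempty_twist_zero_iso (𝒜 := CohB1.polyGrading n R)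
    obtain ⟨e₁⟩ := exists_pullTensorIso ι (isInvertible_twist' n R (d : ℤ)) (isInvertible_twist' n R (-(d : ℤ)))
    obtain ⟨e₂⟩ := exists_pullStructureIso ι
    exact ⟨e₁.symm ≪≫ (Scheme.Modules.pullback ι).mapIso (e ≪≫ b) ≪≫ e₂⟩
  obtain ⟨w⟩ := nonempty_homology_twist (PicLoc.isInvertible_pullback ι (isInvertible_twist' n R (d : ℤ)))
    (PicLoc.isInvertible_pullback ι (isInvertible_twist' n R (-(d : ℤ)))) e F I J q
  have h0 := hN q d ((Finset.le_sup (Finset.mem_range.2 hq)).trans hd) (p + 1) (Nat.succ_pos p)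
  exact Coherent.Serre.HH_subsingleton_of_iso R (AmpleLib.tensorIso (Iso.refl _) t.symm ≪≫ w.symm) (p + 1) h0

end Proj

end Groth.Agent.FlatMor12.ExtShNoeth
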