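import Groth.Agent.FlatMor12.FibreFlatAlg
import Mathlib.RingTheory.Extension.Presentation.Core
import Mathlib.RingTheory.TensorProduct.DirectLimitFG
import Mathlib.RingTheory.Adjoin.FG

/-! The fibre criterion of flatness for finitely presented algebras. -/

universe u

set_option autoImplicit false
set_option backward.isDefEq.respectTransparency false

open TensorProduct Function IsLocalRing

namespace Groth.Agent.FlatMor12

attribute [local instance] Algebra.TensorProduct.rightAlgebra

variable {A B C : Type u} [CommRing A] [CommRing B] [CommRing C] [Algebra A B] [Algebra A C]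
  [Algebra B C] [IsScalarTower A B C]

theorem exists_fp_model [Algebra.FinitePresentation A B] :
    ∃ (R : Type u) (_ : CommRing R) (_ : IsNoetherianRing R) (_ : Algebra R A)
      (B₀ : Type u) (_ : CommRing B₀) (_ : Algebra R B₀) (_ : Algebra.FiniteType R B₀),
      Nonempty (A ⊗[R] B₀ ≃ₐ[A] B) :=
  let P := Algebra.Presentation.ofFinitePresentation A B
  ⟨P.Core, inferInstance, Algebra.FiniteType.isNoetherianRing ℤ P.Core, inferInstance,
    P.ModelOfHasCoeffs P.Core, inferInstance, inferInstance, inferInstance,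
    ⟨P.tensorModelOfHasCoeffsEquiv P.Core⟩⟩

theorem exists_model_step (A₁ B₁ : Type u) [CommRing A₁] [IsNoetherianRing A₁] [Algebra A₁ A]
    [CommRing B₁] [Algebra A₁ B₁] [Algebra.FiniteType A₁ B₁] [Algebra B₁ B] [Algebra B₁ C]
    [IsScalarTower B₁ B C] (eB : A ⊗[A₁] B₁ ≃ₐ[A] B) (heB : ∀ x, eB (1 ⊗ₜ x) = algebraMap B₁ B x)
    {ι σ : Type} [Finite ι] [Finite σ] (Q : Algebra.Presentation B C ι σ) [Q.HasCoeffs B₁] :
    ∃ (R : Type u) (_ : CommRing R) (_ : IsNoetherianRing R) (_ : Algebra R A)
      (B₀ : Type u) (_ : CommRing B₀) (_ : Algebra R B₀) (_ : Algebra.FiniteType R B₀)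
      (C₀ : Type u) (_ : CommRing C₀) (_ : Algebra R C₀) (_ : Algebra.FiniteType R C₀)
      (β : B₀ →ₐ[R] C₀) (eB : A ⊗[R] B₀ ≃ₐ[A] B) (eC : A ⊗[R] C₀ ≃ₐ[A] C),
      ∀ b, eC (1 ⊗ₜ β b) = algebraMap B C (eB (1 ⊗ₜ b)) := by
  let C₁ := Q.ModelOfHasCoeffs B₁
  let e' : B ⊗[B₁] C₁ ≃ₐ[B] C := Q.tensorModelOfHasCoeffsEquiv B₁
  have : Algebra.FiniteType A₁ C₁ := Algebra.FiniteType.trans (S := B₁) inferInstance inferInstance
  let _ : Algebra A₁ B := ((algebraMap A B).comp (algebraMap A₁ A)).toAlgebra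
  let _ : Algebra A₁ C := ((algebraMap A C).comp (algebraMap A₁ A)).toAlgebra
  have : IsScalarTower A₁ A B := .of_algebraMap_eq fun _ => rfl
  have : IsScalarTower A₁ A C := .of_algebraMap_eq fun _ => rfl
  have : IsScalarTower A₁ B C := .of_algebraMap_eq fun a =>
    IsScalarTower.algebraMap_apply A B C _
  have : IsScalarTower A₁ B₁ B := .of_algebraMap_eq fun a => by
    rw [← heB, ← Algebra.TensorProduct.tmul_one_eq_one_tmul]
    exact ((eB.commutes (algebraMap A₁ A a)).symm.trans
      (congrArg eB (Algebra.TensorProduct.algebraMap_apply (S := A) (algebraMap A₁ A a))))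
  have hpB : Algebra.IsPushout A₁ A B₁ B :=
    Algebra.IsPushout.of_equiv eB (RingHom.ext fun x => heB x)
  let _ : Algebra C₁ C :=
    (e'.toAlgHom.toRingHom.comp Algebra.TensorProduct.includeRight.toRingHom).toAlgebra
  have hj : ∀ x : B₁, algebraMap B₁ C x = algebraMap C₁ C (algebraMap B₁ C₁ x) := fun x => by
    show _ = e' (1 ⊗ₜ algebraMap B₁ C₁ x)
    rw [← Algebra.TensorProduct.tmul_one_eq_one_tmul, IsScalarTower.algebraMap_apply B₁ B C]
    exact (e'.commutes _).symm
  have : IsScalarTower B₁ C₁ C := .of_algebraMap_eq hj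
  have hpC : Algebra.IsPushout B₁ B C₁ C :=
    Algebra.IsPushout.of_equiv (S' := B ⊗[B₁] C₁) e' (RingHom.ext fun x => rfl)
  have : IsScalarTower A₁ C₁ C := IsScalarTower.of_algebraMap_eq (R := A₁) (S := C₁) (A := C) fun a => by
    rw [IsScalarTower.algebraMap_apply A₁ B₁ C₁, ← hj, IsScalarTower.algebraMap_apply B₁ B C,
      ← IsScalarTower.algebraMap_apply A₁ B₁ B, ← IsScalarTower.algebraMap_apply A₁ B C]
  have : Algebra.IsPushout A₁ B₁ A B := hpB.symm
  have hpT : Algebra.IsPushout A₁ C₁ A C :=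
    (Algebra.IsPushout.comp_iff A₁ B₁ A B (T := C₁) (T' := C)).2 hpC.symm
  have : Algebra.IsPushout A₁ A C₁ C := hpT.symm
  exact ⟨A₁, inferInstance, inferInstance, inferInstance, B₁, inferInstance, inferInstance,
    inferInstance, C₁, inferInstance, inferInstance, inferInstance,
    IsScalarTower.toAlgHom A₁ B₁ C₁, eB, Algebra.IsPushout.equiv A₁ A C₁ C, fun b => by
      rw [Algebra.IsPushout.equiv_tmul, map_one, one_mul, heB, ← IsScalarTower.algebraMap_apply B₁ B C, hj]
      rfl⟩

/-- Noetherian model of a map of finitely presented algebras. -/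
theorem exists_model_algHom [Algebra.FinitePresentation A B] [Algebra.FinitePresentation B C] :
    ∃ (R : Type u) (_ : CommRing R) (_ : IsNoetherianRing R) (_ : Algebra R A)
      (B₀ : Type u) (_ : CommRing B₀) (_ : Algebra R B₀) (_ : Algebra.FiniteType R B₀)
      (C₀ : Type u) (_ : CommRing C₀) (_ : Algebra R C₀) (_ : Algebra.FiniteType R C₀)
      (β : B₀ →ₐ[R] C₀) (eB : A ⊗[R] B₀ ≃ₐ[A] B) (eC : A ⊗[R] C₀ ≃ₐ[A] C),
      ∀ b, eC (1 ⊗ₜ β b) = algebraMap B C (eB (1 ⊗ₜ b)) := by
  classical
  obtain ⟨R, _, _, _, B₀, _, _, _, ⟨e⟩⟩ := exists_fp_model (A := A) (B := B)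
  let Q := Algebra.Presentation.ofFinitePresentation B C
  have hfin : Q.coeffs.Finite := Q.finite_coeffs
  choose S hS z hz using fun b : B => TensorProduct.Algebra.exists_of_fg (e.symm b)
  let A₁ : Subalgebra R A := hfin.toFinset.sup S
  have hA₁ : A₁.FG :=
    Finset.sup_induction Subalgebra.fg_bot (fun a ha b hb => Subalgebra.FG.sup ha hb) fun k _ => hS k
  have : Algebra.FiniteType R A₁ := A₁.fg_iff_finiteType.1 hA₁
  have : IsNoetherianRing A₁ := Algebra.FiniteType.isNoetherianRing R A₁
  let B₁ := A₁ ⊗[R] B₀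
  let u : B₁ →ₐ[A₁] B := (e.toAlgHom.restrictScalars A₁).comp
    (Algebra.TensorProduct.map (Algebra.ofId A₁ A) (AlgHom.id R B₀))
  have hu : ∀ x, u x = e (Algebra.TensorProduct.map A₁.val (AlgHom.id R B₀) x) := fun x => by
    show e (Algebra.TensorProduct.map (Algebra.ofId A₁ A) (AlgHom.id R B₀) x) = _
    congr 1
  let eB : A ⊗[A₁] (A₁ ⊗[R] B₀) ≃ₐ[A] B := (Algebra.TensorProduct.cancelBaseChange R A₁ A A B₀).trans e
  let _ : Algebra B₁ B := u.toRingHom.toAlgebra
  let _ : Algebra B₁ C := ((algebraMap B C).comp u.toRingHom).toAlgebra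
  have : IsScalarTower B₁ B C := .of_algebraMap_eq fun _ => rfl
  have : Q.HasCoeffs B₁ := by
    refine ⟨fun b hb => ?_⟩
    have hle : S b ≤ A₁ := Finset.le_sup (hfin.mem_toFinset.2 hb)
    refine ⟨Algebra.TensorProduct.map (Subalgebra.inclusion hle) (AlgHom.id R B₀) (z b), ?_⟩
    show u _ = b
    rw [hu, ← AlgHom.comp_apply, ← Algebra.TensorProduct.map_comp, AlgHom.id_comp,
      Subalgebra.val_comp_inclusion]
    apply e.symm.injective
    rw [AlgEquiv.symm_apply_apply, ← hz b]
    induction z b using TensorProduct.induction_on with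
    | zero => simp
    | add x y hx hy => simp only [map_add, hx, hy]
    | tmul a b => rfl
  have heB : ∀ x, eB (1 ⊗ₜ x) = algebraMap B₁ B x := fun x => by
    show eB (1 ⊗ₜ x) = u x
    induction x using TensorProduct.induction_on with
    | zero => simp
    | add x y hx hy => simp only [tmul_add, map_add, hx, hy]
    | tmul c b =>
      rw [hu, Algebra.TensorProduct.map_tmul, AlgHom.id_apply]
      show e _ = e _
      congr 1
      simp [smul_tmul', Algebra.smul_def]
  have : Algebra.FiniteType A₁ B₁ := Algebra.FiniteType.baseChange (A := B₀) A₁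
  exact exists_model_step A₁ (A₁ ⊗[R] B₀) eB heB Q

/-- The fibre criterion of flatness (EGA IV 11.3.10) for finitely presented algebras. -/
theorem flat_of_fibre_affine [Algebra.FinitePresentation A B] [Algebra.FinitePresentation B C]
    (q : Ideal C) [q.IsPrime] (hflat : Module.Flat A (Localization.AtPrime q))
    (hfib : (Algebra.TensorProduct.map (AlgHom.id A (q.comap (algebraMap A C)).ResidueField)
      (IsScalarTower.toAlgHom A B C)).Flat) :
    ((algebraMap C (Localization.AtPrime q)).comp (algebraMap B C)).Flat := by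
  obtain ⟨R, _, _, _, B₀, _, _, _, C₀, _, _, _, β, eB, eC, hβ⟩ :=
    exists_model_algHom (A := A) (B := B) (C := C)
  let p := q.comap (algebraMap A C)
  let K := p.ResidueField
  let q' : Ideal (A ⊗[R] C₀) := q.comap eC
  have : q'.IsPrime := Ideal.IsPrime.comap _
  let Lq := Localization.AtPrime q
  have hmap : q'.primeCompl.map (eC : A ⊗[R] C₀ ≃ₐ[A] C).toAlgHom = q.primeCompl := by
    ext x
    refine ⟨?_, fun hx => ⟨eC.symm x, ?_, eC.apply_symm_apply x⟩⟩
    · rintro ⟨y, hy, rfl⟩
      exact hy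
    · show eC (eC.symm x) ∉ q
      rwa [eC.apply_symm_apply]
  let eL : Localization.AtPrime q' ≃ₐ[A] Lq :=
    IsLocalization.algEquivOfAlgEquiv (A := A) (Localization.AtPrime q') Lq eC hmap
  have hflat' : Module.Flat A (Localization.AtPrime q') :=
    Module.Flat.of_linearEquiv eL.toLinearEquiv
  let eKC : K ⊗[R] C₀ ≃ₐ[K] K ⊗[A] C :=
    (Algebra.TensorProduct.cancelBaseChange R A K K C₀).symm.trans
      (Algebra.TensorProduct.congr AlgEquiv.refl eC)
  let eKB : K ⊗[R] B₀ ≃ₐ[K] K ⊗[A] B :=
    (Algebra.TensorProduct.cancelBaseChange R A K K B₀).symm.trans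
      (Algebra.TensorProduct.congr AlgEquiv.refl eB)
  have hC : ∀ k c, eKC (k ⊗ₜ c) = k ⊗ₜ eC (1 ⊗ₜ c) := fun k c => by simp [eKC]
  have hB : ∀ k b, eKB (k ⊗ₜ b) = k ⊗ₜ eB (1 ⊗ₜ b) := fun k b => by simp [eKB]
  -- a prime of the fibre over `q`
  let ρ₀ : K →ₐ[A] q.ResidueField :=
    { Ideal.ResidueField.map p q (algebraMap A C) rfl with
      commutes' := fun a => by
        show Ideal.ResidueField.map p q (algebraMap A C) rfl (algebraMap A p.ResidueField a) = _
        rw [Ideal.ResidueField.map_algebraMap, ← IsScalarTower.algebraMap_apply] }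
  let ρ : K ⊗[A] C →ₐ[A] q.ResidueField :=
    Algebra.TensorProduct.lift ρ₀ (IsScalarTower.toAlgHom A C _) fun _ _ => Commute.all _ _
  let qK : Ideal (K ⊗[A] C) := RingHom.ker ρ
  have : qK.IsPrime := RingHom.ker_isPrime _
  let L := Localization.AtPrime qK
  let ψK : K ⊗[R] C₀ →+* L := (algebraMap (K ⊗[A] C) L).comp eKC.toAlgHom.toRingHom
  have hψ : ψK.Flat := RingHom.Flat.comp (.of_bijective eKC.bijective)
    (RingHom.flat_algebraMap_iff.2 (IsLocalization.flat L qK.primeCompl))
  let κ : A →ₐ[R] K := IsScalarTower.toAlgHom R A K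
  have hcomp : ∀ x, eKC (Algebra.TensorProduct.map κ (AlgHom.id R C₀) x) = 1 ⊗ₜ[A] eC x := fun x => by
    induction x using TensorProduct.induction_on with
    | zero => simp
    | add u v hu hv => simp only [map_add, tmul_add, hu, hv]
    | tmul a c =>
      rw [Algebra.TensorProduct.map_tmul, AlgHom.id_apply, hC,
        show (a ⊗ₜ[R] c : A ⊗[R] C₀) = a • (1 ⊗ₜ[R] c) by simp [smul_tmul'], map_smul,
        ← smul_tmul, Algebra.smul_def, mul_one]
      rfl
  have hqK : ((maximalIdeal L).comap ψK).comap (Algebra.TensorProduct.map κ (AlgHom.id R C₀)) = q' := by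
    ext x
    rw [Ideal.mem_comap, Ideal.mem_comap]
    show algebraMap (K ⊗[A] C) L (eKC (Algebra.TensorProduct.map κ (AlgHom.id R C₀) x)) ∈ maximalIdeal L ↔ eC x ∈ q
    rw [IsLocalization.AtPrime.to_map_mem_maximal_iff L qK, hcomp, RingHom.mem_ker]
    simp [ρ]
  have hfib' : (ψK.comp (Algebra.TensorProduct.map (AlgHom.id R K) β).toRingHom).Flat := by
    have : ψK.comp (Algebra.TensorProduct.map (AlgHom.id R K) β).toRingHom =
        ((algebraMap (K ⊗[A] C) L).comp
          (Algebra.TensorProduct.map (AlgHom.id A K) (IsScalarTower.toAlgHom A B C)).toRingHom).comp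
          eKB.toAlgHom.toRingHom := by
      refine RingHom.ext fun x => ?_
      show algebraMap _ L (eKC (Algebra.TensorProduct.map (AlgHom.id R K) β x)) =
        algebraMap _ L (Algebra.TensorProduct.map (AlgHom.id A K) (IsScalarTower.toAlgHom A B C) (eKB x))
      congr 1
      induction x using TensorProduct.induction_on with
      | zero => simp
      | add u v hu hv => simp only [map_add, hu, hv]
      | tmul k b => simp [hC, hB, hβ]
    rw [this]
    exact RingHom.Flat.comp (.of_bijective eKB.bijective) (RingHom.Flat.comp hfib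
      (RingHom.flat_algebraMap_iff.2 (IsLocalization.flat L qK.primeCompl)))
  have key := flat_of_fibre (β := β) q' hflat' K κ L ψK hψ hqK hfib'
  have heq : (algebraMap C Lq).comp (algebraMap B C) =
      (eL.toAlgHom.toRingHom.comp ((algebraMap (A ⊗[R] C₀) (Localization.AtPrime q')).comp
        (Algebra.TensorProduct.map (AlgHom.id R A) β).toRingHom)).comp eB.symm.toAlgHom.toRingHom := by
    refine RingHom.ext fun x => ?_
    obtain ⟨x, rfl⟩ := eB.surjective x
    show algebraMap C Lq (algebraMap B C (eB x)) =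
      eL (algebraMap _ (Localization.AtPrime q')
        (Algebra.TensorProduct.map (AlgHom.id R A) β (eB.symm (eB x))))
    rw [eB.symm_apply_apply]
    simp only [eL, IsLocalization.algEquivOfAlgEquiv_eq]
    congr 1
    induction x using TensorProduct.induction_on with
    | zero => simp
    | add u v hu hv => simp only [map_add, hu, hv]
    | tmul a b =>
      rw [Algebra.TensorProduct.map_tmul, AlgHom.id_apply,
        show (a ⊗ₜ[R] b : A ⊗[R] B₀) = a • (1 ⊗ₜ[R] b) by simp [smul_tmul'],
        show (a ⊗ₜ[R] β b : A ⊗[R] C₀) = a • (1 ⊗ₜ[R] β b) by simp [smul_tmul'],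
        map_smul eB, map_smul eC, hβ]
      exact map_smul (IsScalarTower.toAlgHom A B C) a _
  rw [heq]
  exact RingHom.Flat.comp (.of_bijective eB.symm.bijective)
    (RingHom.Flat.comp key (.of_bijective eL.bijective))

end Groth.Agent.FlatMor12
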