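import Groth.Agent.FlatCrit.Inj
import Groth.Agent.EGA43.FlatDescent.Global
import Mathlib.RingTheory.TensorProduct.Quotient
import Mathlib.RingTheory.RingHom.Flat

/-! The fibre criterion of flatness (EGA IV 11.3.10), ring level, any base. -/

universe u

set_option autoImplicit false
set_option backward.isDefEq.respectTransparency false

open TensorProduct Function IsLocalRing

namespace Groth.Agent.FlatMor12

section Noetherian

variable {A B C : Type u} [CommRing A] [CommRing B] [CommRing C] [Algebra A B] [Algebra A C]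
  [Algebra B C] [IsScalarTower A B C] [IsNoetherianRing B] [IsNoetherianRing C]

/-- Fibre criterion over Noetherian rings, the hypothesis being stated on a flat extension `L` of
the fibre local ring. -/
theorem flat_of_fibre_noetherian (q : Ideal C) [q.IsPrime]
    [Module.Flat A (Localization.AtPrime q)]
    (L : Type u) [CommRing L] [IsLocalRing L] (ψ : C →+* L) (hq : (maximalIdeal L).comap ψ = q)
    (hI : ((q.comap (algebraMap A C)).map (algebraMap A B)).map (algebraMap B C) ≤ RingHom.ker ψ)
    (hC : (Ideal.Quotient.lift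
      (((q.comap (algebraMap A C)).map (algebraMap A B)).map (algebraMap B C)) ψ
      fun _ h => hI h).Flat)
    (hB : ((Ideal.Quotient.lift
      (((q.comap (algebraMap A C)).map (algebraMap A B)).map (algebraMap B C)) ψ
      fun _ h => hI h).comp (Ideal.quotientMap _ (algebraMap B C) Ideal.le_comap_map :
        B ⧸ (q.comap (algebraMap A C)).map (algebraMap A B) →+* _)).Flat) :
    Module.Flat B (Localization.AtPrime q) := by
  set p := q.comap (algebraMap A C)
  set I := p.map (algebraMap A B) with hIdef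
  set IC := I.map (algebraMap B C)
  let c := Localization.AtPrime q
  let c' := c ⧸ IC.map (algebraMap C c)
  let _ : Algebra (C ⧸ IC) L := (Ideal.Quotient.lift IC ψ fun _ h => hI h).toAlgebra
  have hu : ∀ s : q.primeCompl, IsUnit (ψ s) := fun s => by
    by_contra h
    exact s.2 (hq ▸ (mem_maximalIdeal _).2 h)
  let ψc : c →+* L := IsLocalization.lift (M := q.primeCompl) hu
  have hIc : IC.map (algebraMap C c) ≤ RingHom.ker ψc := Ideal.map_le_iff_le_comap.2 fun x hx => by
    simpa [ψc] using hI hx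
  let ψ' : c' →+* L := Ideal.Quotient.lift _ ψc fun _ h => hIc h
  let _ : Algebra c' L := ψ'.toAlgebra
  have : IsScalarTower (C ⧸ IC) c' L := IsScalarTower.of_algebraMap_eq fun x => by
    obtain ⟨x, rfl⟩ := Ideal.Quotient.mk_surjective x
    show ψ x = ψ' (Ideal.Quotient.mk _ (algebraMap C c x))
    exact ((Ideal.Quotient.lift_mk _ ψc _).trans (IsLocalization.lift_eq hu x)).symm
  have hc : Module.Flat c' L :=
    (Module.flat_iff_of_isLocalization c' (Algebra.algebraMapSubmonoid (C ⧸ IC) q.primeCompl) L).2 hC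
  have hloc : IsLocalHom (algebraMap c' L) := ⟨fun x hx => by
    obtain ⟨x, rfl⟩ := Ideal.Quotient.mk_surjective x
    refine IsUnit.map _ ?_
    obtain ⟨⟨a, s⟩, rfl⟩ := IsLocalization.mk'_surjective q.primeCompl x
    have ha : a ∉ q := fun ha => by
      have h1 : IsUnit (ψc (IsLocalization.mk' c a s)) := hx
      have h2 : IsUnit (ψc (IsLocalization.mk' c a s) * ψ s) := h1.mul (hu s)
      rw [show ψ s = ψc (algebraMap C c s) from (IsLocalization.lift_eq hu _).symm, ← map_mul,
        IsLocalization.mk'_spec, IsLocalization.lift_eq] at h2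
      exact (mem_maximalIdeal _).1 (hq ▸ ha : a ∈ (maximalIdeal L).comap ψ) h2
    exact (IsLocalization.AtPrime.isUnit_mk'_iff c q a s).2 ha⟩
  have : Nontrivial c' := Ideal.Quotient.nontrivial_iff.2 fun h => by
    exact (RingHom.ker_ne_top ψc) (top_le_iff.1 (h ▸ hIc))
  have : IsLocalRing c' := IsLocalRing.of_surjective' _ Ideal.Quotient.mk_surjective
  have : Module.FaithfullyFlat c' L := Module.FaithfullyFlat.of_flat_of_isLocalHom (A := c') (B := L)
  let _ : Algebra (B ⧸ I) (C ⧸ IC) :=
    (Ideal.quotientMap _ (algebraMap B C) Ideal.le_comap_map : B ⧸ I →+* _).toAlgebra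
  let _ : Algebra (B ⧸ I) c' := ((algebraMap (C ⧸ IC) c').comp (algebraMap (B ⧸ I) (C ⧸ IC))).toAlgebra
  let _ : Algebra (B ⧸ I) L := ((algebraMap c' L).comp (algebraMap (B ⧸ I) c')).toAlgebra
  have : IsScalarTower (B ⧸ I) c' L := .of_algebraMap_eq fun _ => rfl
  have : Module.Flat (B ⧸ I) L := by
    rw [← RingHom.flat_algebraMap_iff]
    convert! hB using 1
    ext x
    show ψ' (Ideal.Quotient.mk _ (algebraMap C c (algebraMap B C x))) = ψ (algebraMap B C x)
    exact (Ideal.Quotient.lift_mk _ ψc _).trans (IsLocalization.lift_eq hu _)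
  have hflat : Module.Flat (B ⧸ I) c' :=
    FlatCrit.flat_of_flat_of_faithfullyFlat (R := B ⧸ I) (S := c') (M := L)
  have heq : I.map (algebraMap B c) = IC.map (algebraMap C c) := by
    rw [show IC = I.map (algebraMap B C) from rfl, Ideal.map_map (algebraMap B C),
      ← IsScalarTower.algebraMap_eq]
  refine FlatCrit.flat_of_rTensor_injective (S := c) (M := c) I ?_ ?_ ?_
  · rw [IsLocalRing.jacobson_eq_maximalIdeal ⊥ bot_ne_top, heq,
      ← Localization.AtPrime.map_eq_maximalIdeal]
    refine Ideal.map_mono (Ideal.map_le_iff_le_comap.2 (Ideal.map_le_iff_le_comap.2 fun x hx => ?_))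
    show algebraMap B C (algebraMap A B x) ∈ q
    rw [← IsScalarTower.algebraMap_apply]; exact hx
  · exact FlatCrit.rTensor_map_injective
      (Module.Flat.rTensor_preserves_injective_linearMap _ p.subtype_injective)
  · refine FlatCrit.quotFlat_of_flat I ?_
    have : IsScalarTower B (B ⧸ I) c' := .of_algebraMap_eq fun b => by
      show Ideal.Quotient.mk _ (algebraMap B c b) = Ideal.Quotient.mk _ (algebraMap C c (algebraMap B C b))
      rw [← IsScalarTower.algebraMap_apply]
    let e₀ : c' ≃ₗ[B] (B ⧸ I) ⊗[B] c := (Ideal.quotientEquivAlgOfEq B heq.symm).toLinearEquiv ≪≫ₗ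
      (Algebra.TensorProduct.quotIdealMapEquivQuotTensor c I).toLinearEquiv.restrictScalars B
    let e : c' ≃ₗ[B ⧸ I] (B ⧸ I) ⊗[B] c :=
      LinearEquiv.extendScalarsOfSurjective Ideal.Quotient.mk_surjective e₀
    exact Module.Flat.of_linearEquiv e.symm

end Noetherian

section BaseChange

/-- Flatness at a prime passes to pushouts. -/
theorem flat_localization_of_isPushout {B₁ B C₁ C : Type u} [CommRing B₁] [CommRing B] [CommRing C₁]
    [CommRing C] [Algebra B₁ B] [Algebra B₁ C₁] [Algebra B C] [Algebra C₁ C] [Algebra B₁ C]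
    [IsScalarTower B₁ B C] [IsScalarTower B₁ C₁ C] [Algebra.IsPushout B₁ B C₁ C]
    (q : Ideal C) [q.IsPrime] (q₁ : Ideal C₁) [q₁.IsPrime] (hq : q.comap (algebraMap C₁ C) = q₁)
    (h : Module.Flat B₁ (Localization.AtPrime q₁)) :
    ((algebraMap C (Localization.AtPrime q)).comp (algebraMap B C)).Flat := by
  let e := Algebra.IsPushout.equiv B₁ B C₁ C
  let c₁ := Localization.AtPrime q₁
  let Lq := Localization.AtPrime q
  let _ : Algebra (B ⊗[B₁] C₁) (B ⊗[B₁] c₁) :=
    (Algebra.TensorProduct.map (AlgHom.id B₁ B) (IsScalarTower.toAlgHom B₁ C₁ c₁)).toAlgebra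
  have : IsScalarTower B (B ⊗[B₁] C₁) (B ⊗[B₁] c₁) :=
    .of_algebraMap_eq fun b => by simp [RingHom.algebraMap_toAlgebra]
  have := IsLocalization.tensorProduct_tensorProduct_right B₁ B q₁.primeCompl c₁
    (by ext; simp [RingHom.algebraMap_toAlgebra])
  let h₁ : C₁ →ₐ[B₁] Lq :=
    { (algebraMap C Lq).comp (algebraMap C₁ C) with
      commutes' := fun x => congr(algebraMap C Lq $((IsScalarTower.algebraMap_apply B₁ C₁ C x).symm)) }
  let gc : c₁ →ₐ[B₁] Lq := IsLocalization.liftAlgHom (M := q₁.primeCompl) (f := h₁) fun s =>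
    IsLocalization.map_units (M := q.primeCompl) Lq
      ⟨algebraMap C₁ C s, fun hs => s.2 (hq ▸ hs : (s : C₁) ∈ q₁)⟩
  let g : (B ⊗[B₁] c₁) →ₐ[B] Lq :=
    Algebra.TensorProduct.lift (Algebra.ofId B Lq) gc fun _ _ => Commute.all _ _
  let _ : Algebra (B ⊗[B₁] c₁) Lq := g.toRingHom.toAlgebra
  let _ : Algebra (B ⊗[B₁] C₁) Lq := ((algebraMap C Lq).comp e.toAlgHom.toRingHom).toAlgebra
  have : IsScalarTower (B ⊗[B₁] C₁) (B ⊗[B₁] c₁) Lq := .of_algebraMap_eq fun x => by
    show algebraMap C Lq (e x) =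
      g (Algebra.TensorProduct.map (AlgHom.id B₁ B) (IsScalarTower.toAlgHom B₁ C₁ c₁) x)
    induction x using TensorProduct.induction_on with
    | zero => simp
    | add u v hu hv => simp only [map_add, hu, hv]
    | tmul b c =>
      simp [e, Algebra.IsPushout.equiv_tmul, g, gc, h₁, c₁, Algebra.ofId_apply, Algebra.smul_def,
        RingHom.algebraMap_toAlgebra, IsScalarTower.algebraMap_apply B C Lq]
  have : Module.Flat (B ⊗[B₁] C₁) Lq := by
    rw [← RingHom.flat_algebraMap_iff]
    exact RingHom.Flat.comp (.of_bijective e.bijective)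
      (RingHom.flat_algebraMap_iff.2 (IsLocalization.flat Lq q.primeCompl))
  have hT : Module.Flat (B ⊗[B₁] c₁) Lq :=
    (Module.flat_iff_of_isLocalization (B ⊗[B₁] c₁)
      (q₁.primeCompl.map (Algebra.TensorProduct.includeRight (R := B₁) (A := B))) Lq).2 inferInstance
  have : IsScalarTower B (B ⊗[B₁] c₁) Lq := .of_algebraMap_eq fun b => (g.commutes b).symm
  rw [← IsScalarTower.algebraMap_eq]
  exact RingHom.flat_algebraMap_iff.2 (Module.Flat.trans B (B ⊗[B₁] c₁) Lq)

end BaseChange

section General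

variable {R A B₀ C₀ : Type u} [CommRing R] [IsNoetherianRing R] [CommRing A] [Algebra R A]
  [CommRing B₀] [Algebra R B₀] [Algebra.FiniteType R B₀]
  [CommRing C₀] [Algebra R C₀] [Algebra.FiniteType R C₀] (β : B₀ →ₐ[R] C₀)

attribute [local instance] EGA43.FlatDescent.bcModule

theorem flat_field_of_injective {D K : Type u} [CommRing D] [IsDomain D] [Field K] (f : D →+* K)
    (hf : Injective f) : f.Flat := by
  let _ := f.toAlgebra
  have : FaithfulSMul D K := (faithfulSMul_iff_algebraMap_injective D K).2 hf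
  let _ := FractionRing.liftAlgebra D K
  exact Module.Flat.trans D (FractionRing D) K

/-- `(D ⊗ E) / p → K ⊗ E` is flat when `p` is the kernel of `D → K`. -/
theorem flat_lift_fibre {R D K E : Type u} [CommRing R] [CommRing D] [Algebra R D] [Field K]
    [Algebra R K] [CommRing E] [Algebra R E] (φ : D →ₐ[R] K) (p : Ideal D) (hp : RingHom.ker φ = p)
    (J : Ideal (D ⊗[R] E)) (hJd : J = p.map Algebra.TensorProduct.includeLeftRingHom)
    (hJ : ∀ x ∈ J, (Algebra.TensorProduct.map φ (AlgHom.id R E)).toRingHom x = 0) :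
    (Ideal.Quotient.lift J (Algebra.TensorProduct.map φ (AlgHom.id R E)).toRingHom hJ).Flat := by
  have : p.IsPrime := hp ▸ RingHom.ker_isPrime φ
  let π : D →ₐ[R] D ⧸ p := Ideal.Quotient.mkₐ R p
  let φ₁ : (D ⧸ p) →ₐ[R] K := Ideal.Quotient.liftₐ p φ fun a ha => by rwa [← hp] at ha
  have hφ₁ : (φ₁ : D ⧸ p →+* K).Flat := flat_field_of_injective _
    (RingHom.lift_injective_of_ker_le_ideal p (fun a ha => by rwa [← hp] at ha) hp.le)
  let f := Algebra.TensorProduct.map π (AlgHom.id R E)
  have hfs : Surjective f := TensorProduct.map_surjective Ideal.Quotient.mk_surjective surjective_id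
  have hfk : RingHom.ker f = J := by
    rw [hJd]
    refine (Algebra.TensorProduct.rTensor_ker π Ideal.Quotient.mk_surjective).trans ?_
    rw [show RingHom.ker π = p from Ideal.Quotient.mkₐ_ker R p]
    rfl
  let e : (D ⊗[R] E) ⧸ J →+* (D ⧸ p) ⊗[R] E := Ideal.Quotient.lift J f.toRingHom fun x hx => by
    rw [← hfk] at hx; exact hx
  have he : Bijective e := ⟨RingHom.lift_injective_of_ker_le_ideal J _ hfk.le,
    Ideal.Quotient.lift_surjective_of_surjective _ _ hfs⟩
  have hg : (Algebra.TensorProduct.map φ₁ (AlgHom.id R E)).Flat :=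
    RingHom.Flat.tensorProductMap (S := R) hφ₁ (RingHom.Flat.id _)
  have hcomp : Ideal.Quotient.lift J (Algebra.TensorProduct.map φ (AlgHom.id R E)).toRingHom hJ =
      (Algebra.TensorProduct.map φ₁ (AlgHom.id R E)).toRingHom.comp e := by
    refine Ideal.Quotient.ringHom_ext (RingHom.ext fun x => ?_)
    simp only [RingHom.comp_apply, Ideal.Quotient.lift_mk, e]
    induction x using TensorProduct.induction_on with
    | zero => simp
    | add u v hu hv => simp only [map_add, hu, hv]
    | tmul a b => rfl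
  rw [hcomp]
  exact RingHom.Flat.comp (.of_bijective he) hg

theorem flatAt_self_iff (q : Ideal (A ⊗[R] C₀)) [q.IsPrime] :
    EGA43.FlatDescent.FlatAt R C₀ C₀ A q ↔ Module.Flat A (Localization.AtPrime q) := by
  have he : ∀ (t x : A ⊗[R] C₀),
      @HSMul.hSMul _ _ _ (@instHSMul _ _ (EGA43.FlatDescent.bcModule R C₀ C₀ A).toSMul) t x = t * x := by
    intro t x
    exact @EGA43.FlatDescent.map_smul_of_tmul R C₀ C₀ A _ _ _ _ _ _ _ _ _ (A ⊗[R] C₀) (A ⊗[R] C₀) _ _
      Semiring.toModule (RingHom.id _) (AddMonoidHom.id _) (fun a p c m => by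
        simp [EGA43.FlatDescent.bc_smul_tmul]) t x
  exact @EGA43.FlatDescent.flat_localized_iff A (A ⊗[R] C₀) (A ⊗[R] C₀) (A ⊗[R] C₀) (A ⊗[R] C₀)
    _ _ _ _ _ _ _ (EGA43.FlatDescent.bcModule R C₀ C₀ A) _ _ _ Semiring.toModule _
    (RingHom.id _) surjective_id (LinearEquiv.refl A _) he q _ (by simpa using ‹q.IsPrime›)

variable {β}

/-- Fibre criterion of flatness (EGA IV 11.3.10) over an arbitrary base, in model form. -/
theorem flat_of_fibre (q : Ideal (A ⊗[R] C₀)) [q.IsPrime]
    (hflat : Module.Flat A (Localization.AtPrime q))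
    (K : Type u) [Field K] [Algebra R K] (κ : A →ₐ[R] K)
    (L : Type u) [CommRing L] [IsLocalRing L] (ψK : K ⊗[R] C₀ →+* L) (hψK : ψK.Flat)
    (hqK : ((maximalIdeal L).comap ψK).comap (Algebra.TensorProduct.map κ (AlgHom.id R C₀)) = q)
    (hfib : (ψK.comp (Algebra.TensorProduct.map (AlgHom.id R K) β).toRingHom).Flat) :
    ((algebraMap (A ⊗[R] C₀) (Localization.AtPrime q)).comp
      (Algebra.TensorProduct.map (AlgHom.id R A) β).toRingHom).Flat := by
  let qK : Ideal (K ⊗[R] C₀) := (maximalIdeal L).comap ψK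
  have : qK.IsPrime := Ideal.IsPrime.comap _
  obtain ⟨A₁, hA₁, hst⟩ :=
    EGA43.FlatDescent.exists_stage_flatAt q ((flatAt_self_iff q).2 hflat)
  have : Algebra.FiniteType R A₁ := A₁.fg_iff_finiteType.1 hA₁
  have : IsNoetherianRing A₁ := Algebra.FiniteType.isNoetherianRing R A₁
  set σ := Algebra.TensorProduct.map A₁.val (AlgHom.id R C₀) with hσ
  set q₁ := q.comap σ
  have := (flatAt_self_iff q₁).1 hst
  let B₁ := A₁ ⊗[R] B₀
  let C₁ := A₁ ⊗[R] C₀
  let _ : Algebra B₁ C₁ := (Algebra.TensorProduct.map (AlgHom.id A₁ A₁) β).toAlgebra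
  have : IsScalarTower A₁ B₁ C₁ := by
    refine IsScalarTower.of_algebraMap_eq (R := A₁) (S := B₁) (A := C₁) fun a => ?_
    exact ((Algebra.TensorProduct.map (AlgHom.id A₁ A₁) β).commutes a).symm
  have : Algebra.FiniteType A₁ B₁ := Algebra.FiniteType.baseChange (A := B₀) A₁
  have : Algebra.FiniteType A₁ C₁ := Algebra.FiniteType.baseChange (A := C₀) A₁
  have : IsNoetherianRing B₁ := Algebra.FiniteType.isNoetherianRing A₁ B₁
  have : IsNoetherianRing C₁ := Algebra.FiniteType.isNoetherianRing A₁ C₁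
  set p₁ := q₁.comap (algebraMap A₁ C₁)
  have hp₁ : p₁ = RingHom.ker (κ.comp A₁.val) := by
    have hbot : qK.comap (algebraMap K (K ⊗[R] C₀)) = ⊥ :=
      (Ideal.eq_bot_or_top _).resolve_right (Ideal.IsPrime.comap _).ne_top
    ext a
    rw [RingHom.mem_ker, ← Ideal.mem_bot, ← hbot]
    simp [p₁, q₁, ← hqK, qK, σ, C₁]
  have : p₁.IsPrime := Ideal.IsPrime.comap _
  -- the maps to the fibre
  let μB : B₁ →+* K ⊗[R] B₀ :=
    (Algebra.TensorProduct.map (κ.comp A₁.val) (AlgHom.id R B₀)).toRingHom
  let μC : C₁ →+* K ⊗[R] C₀ :=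
    (Algebra.TensorProduct.map (κ.comp A₁.val) (AlgHom.id R C₀)).toRingHom
  let ψ : C₁ →+* L := ψK.comp μC
  have hIB : ∀ (E : Type u) [CommRing E] [Algebra R E] (x : A₁ ⊗[R] E),
      x ∈ p₁.map Algebra.TensorProduct.includeLeftRingHom →
      Algebra.TensorProduct.map (κ.comp A₁.val) (AlgHom.id R E) x = 0 := by
    intro E _ _ x hx
    have : p₁.map Algebra.TensorProduct.includeLeftRingHom ≤
        RingHom.ker (Algebra.TensorProduct.map (κ.comp A₁.val) (AlgHom.id R E)).toRingHom := by
      refine Ideal.map_le_iff_le_comap.2 fun a ha => ?_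
      rw [hp₁, RingHom.mem_ker] at ha
      rw [Ideal.mem_comap, RingHom.mem_ker]
      simp [show κ (a : A) = 0 from ha]
    exact this hx
  have hIBC : (p₁.map (algebraMap A₁ B₁)).map (algebraMap B₁ C₁) =
      p₁.map Algebra.TensorProduct.includeLeftRingHom := by
    rw [Ideal.map_map, ← IsScalarTower.algebraMap_eq]
    rfl
  have hIC : ∀ x ∈ (p₁.map (algebraMap A₁ B₁)).map (algebraMap B₁ C₁), μC x = 0 :=
    fun x hx => hIB C₀ x (hIBC ▸ hx)
  have hkey : Module.Flat B₁ (Localization.AtPrime q₁) := by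
    refine flat_of_fibre_noetherian (A := A₁) q₁ L ψ ?_ (fun x hx => ?_) ?_ ?_
    · rw [← Ideal.comap_comap, show (maximalIdeal L).comap ψK = qK from rfl]
      rw [show q₁ = qK.comap μC from ?_]
      simp only [q₁, ← hqK, qK, σ]
      rw [show μC = (Algebra.TensorProduct.map κ (AlgHom.id R C₀)).toRingHom.comp
        (Algebra.TensorProduct.map A₁.val (AlgHom.id R C₀)).toRingHom from ?_, ← Ideal.comap_comap]
      · rfl
      · exact RingHom.ext fun x => by
          show Algebra.TensorProduct.map (κ.comp A₁.val) (AlgHom.id R C₀) x = _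
          induction x using TensorProduct.induction_on with
          | zero => simp
          | add u v hu hv => simp only [map_add, hu, hv]
          | tmul a b => rfl
    · show ψK (μC x) = 0
      rw [hIC x hx, map_zero]
    · convert! RingHom.Flat.comp (flat_lift_fibre (κ.comp A₁.val) p₁ hp₁.symm _ hIBC hIC) hψK
      exact Ideal.Quotient.ringHom_ext (RingHom.ext fun x => rfl)
    · convert! RingHom.Flat.comp (flat_lift_fibre (κ.comp A₁.val) p₁ hp₁.symm
        (p₁.map (algebraMap A₁ B₁)) rfl fun x hx => hIB B₀ x hx) hfib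
      refine Ideal.Quotient.ringHom_ext (RingHom.ext fun x => ?_)
      show ψK (μC (algebraMap B₁ C₁ x)) =
        ψK (Algebra.TensorProduct.map (AlgHom.id R K) β (μB x))
      congr 1
      show μC (Algebra.TensorProduct.map (AlgHom.id A₁ A₁) β x) =
        Algebra.TensorProduct.map (AlgHom.id R K) β (μB x)
      induction x using TensorProduct.induction_on with
      | zero => simp
      | add u v hu hv => simp only [map_add, hu, hv]
      | tmul a b => rfl
  -- base change to `A`
  let B := A ⊗[R] B₀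
  let C := A ⊗[R] C₀
  let _ : Algebra B₁ B := (Algebra.TensorProduct.map A₁.val (AlgHom.id R B₀)).toAlgebra
  let _ : Algebra C₁ C := σ.toAlgebra
  let _ : Algebra B C := (Algebra.TensorProduct.map (AlgHom.id A A) β).toAlgebra
  let _ : Algebra B₁ C := ((algebraMap B C).comp (algebraMap B₁ B)).toAlgebra
  have : IsScalarTower B₁ B C := .of_algebraMap_eq fun _ => rfl
  have : IsScalarTower B₁ C₁ C := .of_algebraMap_eq fun x => by
    show Algebra.TensorProduct.map (AlgHom.id A A) β
      (Algebra.TensorProduct.map A₁.val (AlgHom.id R B₀) x) =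
      σ (Algebra.TensorProduct.map (AlgHom.id A₁ A₁) β x)
    induction x using TensorProduct.induction_on with
    | zero => simp
    | add u v hu hv => simp only [map_add, hu, hv]
    | tmul a b => rfl
  have : IsScalarTower A₁ B₁ B := by
    refine IsScalarTower.of_algebraMap_eq (R := A₁) (S := B₁) (A := B) fun a => ?_
    rfl
  have : IsScalarTower A₁ C₁ C := by
    refine IsScalarTower.of_algebraMap_eq (R := A₁) (S := C₁) (A := C) fun a => ?_
    rfl
  have : IsScalarTower A B C := by
    refine IsScalarTower.of_algebraMap_eq (R := A) (S := B) (A := C) fun a => ?_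
    exact ((Algebra.TensorProduct.map (AlgHom.id A A) β).commutes a).symm
  have : IsScalarTower A₁ B C := IsScalarTower.of_algebraMap_eq (R := A₁) (S := B) (A := C) fun a => by
    show algebraMap A C (a : A) = algebraMap B C (algebraMap A B (a : A))
    rw [← IsScalarTower.algebraMap_apply]
  have hpB : Algebra.IsPushout A₁ B₁ A B :=
    (Algebra.IsPushout.tensorProduct_tensorProduct R B₀ A₁ A (RingHom.ext fun b => rfl)).symm
  have hpC : Algebra.IsPushout A₁ C₁ A C :=
    (Algebra.IsPushout.tensorProduct_tensorProduct R C₀ A₁ A (RingHom.ext fun b => rfl)).symm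
  have hp : Algebra.IsPushout B₁ C₁ B C :=
    (Algebra.IsPushout.comp_iff A₁ B₁ A B (T := C₁) (T' := C)).1 hpC
  have : Algebra.IsPushout B₁ B C₁ C := hp.symm
  exact flat_localization_of_isPushout q q₁ rfl hkey

end General

end Groth.Agent.FlatMor12
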