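import Groth.Agent.FlatMorDim.Valuation
import Mathlib.RingTheory.KrullDimension.Regular
import Mathlib.AlgebraicGeometry.Morphisms.FiniteType

/-! Generizations of fibre-generic points are fibre-generic over a valuation ring. -/

universe u

set_option autoImplicit false
set_option backward.isDefEq.respectTransparency false

open TensorProduct Function AlgebraicGeometry CategoryTheory

namespace Groth.Agent.FlatMor12

open Groth.Agent Groth.Agent.EGA43.FibDepth

attribute [local instance] Algebra.TensorProduct.rightAlgebra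

variable {A R : Type u} [CommRing A] [CommRing R] [Algebra A R] [Algebra.FiniteType A R]

theorem fibre_trd_lt {q' q : PrimeSpectrum R} (hle : q'.asIdeal ≤ q.asIdeal) (hne : q' ≠ q)
    (hp : q.asIdeal.comap (algebraMap A R) = q'.asIdeal.comap (algebraMap A R)) :
    trd A q < trd A q' := by
  let p := q.asIdeal.comap (algebraMap A R)
  let C := p.Fiber R
  obtain ⟨Q', hQ'⟩ := exists_prime_over (A := A) (p := p) C q' hp
  obtain ⟨Q, hQ⟩ := exists_prime_over (A := A) (p := p) C q rfl
  have hle' : Q'.asIdeal ≤ Q.asIdeal := le_of_comap_le (R := R) p (by rw [hQ', hQ]; exact hle)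
  obtain ⟨c, hc, hc'⟩ : ∃ c ∈ Q.asIdeal, c ∉ Q'.asIdeal := by
    by_contra h
    push Not at h
    exact hne (by rw [← hQ, ← hQ', PrimeSpectrum.ext (le_antisymm hle' h)])
  have h1 := ringKrullDim_quotient_eq_trd (R := R) p Q'
  have h2 := ringKrullDim_quotient_eq_trd (R := R) p Q
  rw [hQ'] at h1
  rw [hQ] at h2
  have h3 := ringKrullDim_quotient_succ_le_of_nonZeroDivisor (R := C ⧸ Q'.asIdeal)
    (r := Ideal.Quotient.mk _ c)
    (mem_nonZeroDivisors_of_ne_zero fun h => hc' (Ideal.Quotient.eq_zero_iff_mem.1 h))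
  have h4 : ringKrullDim (C ⧸ Q.asIdeal) ≤
      ringKrullDim ((C ⧸ Q'.asIdeal) ⧸ Ideal.span {Ideal.Quotient.mk Q'.asIdeal c}) := by
    refine ringKrullDim_le_of_surjective (Ideal.Quotient.lift _ (Ideal.Quotient.factor hle') ?_) ?_
    · intro a ha
      obtain ⟨b, rfl⟩ := Ideal.mem_span_singleton'.1 ha
      rw [map_mul, Ideal.Quotient.factor_mk, Ideal.Quotient.eq_zero_iff_mem.2 hc, mul_zero]
    · exact Ideal.Quotient.lift_surjective_of_surjective _ _ (Ideal.Quotient.factor_surjective hle')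
  have := (add_le_add h4 le_rfl).trans h3
  rw [h1, h2] at this
  exact_mod_cast this

theorem trd_le_of_fibreGeneric {q'' q : PrimeSpectrum R} (hle : q''.asIdeal ≤ q.asIdeal)
    (hq : ∀ q' : PrimeSpectrum R, q'.asIdeal ≤ q.asIdeal →
      q'.asIdeal.comap (algebraMap A R) = q.asIdeal.comap (algebraMap A R) → q' = q) :
    trd A q'' ≤ trd A q :=
  ((PrimeSpectrum.le_iff_specializes q'' q).1 hle).mem_open (isOpen_trd_le (trd A q))
    (fun q' h h' => (hq q' h h').symm ▸ le_rfl) q'' le_rfl rfl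

theorem fibreGeneric_of_le [IsDomain A] [ValuationRing A] {q' q : PrimeSpectrum R}
    (hle : q'.asIdeal ≤ q.asIdeal)
    (hq : ∀ y : PrimeSpectrum R, y.asIdeal ≤ q.asIdeal →
      y.asIdeal.comap (algebraMap A R) = q.asIdeal.comap (algebraMap A R) → y = q) :
    ∀ y : PrimeSpectrum R, y.asIdeal ≤ q'.asIdeal →
      y.asIdeal.comap (algebraMap A R) = q'.asIdeal.comap (algebraMap A R) → y = q' := by
  intro y hy hp
  by_contra hne
  have h1 : trd A q' < trd A y := fibre_trd_lt hy hne hp.symm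
  have h2 : trd A y ≤ trd A q := trd_le_of_fibreGeneric (hy.trans hle) hq
  let p' := q'.asIdeal.comap (algebraMap A R)
  let A' := A ⧸ p'
  let R' := R ⧸ q'.asIdeal
  let f : A' →+* R' := Ideal.quotientMap q'.asIdeal (algebraMap A R) le_rfl
  let _ : Algebra A' R' := f.toAlgebra
  have : IsScalarTower A A' R' := .of_algebraMap_eq fun a => rfl
  have hinj : Injective (algebraMap A' R') := Ideal.quotientMap_injective
  have := (faithfulSMul_iff_algebraMap_injective A' R').2 hinj
  have : Module.IsTorsionFree A' R' := inferInstance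
  have : ValuationRing A' := Function.Surjective.valuationRing (Ideal.Quotient.mk p') Ideal.Quotient.mk_surjective
  have : Module.Flat A' R' := Module.Flat.flat_iff_torsion_eq_bot_of_isBezout.2
    (Submodule.isTorsionFree_iff_torsion_eq_bot.1 ‹_›)
  have : Algebra.FiniteType A' R' := Algebra.FiniteType.of_restrictScalars_finiteType A A' R'
  let ι : R →ₐ[A] R' := Ideal.Quotient.mkₐ A q'.asIdeal
  have hι : ι.toRingHom.SurjectiveOnStalks := RingHom.surjectiveOnStalks_of_surjective Ideal.Quotient.mk_surjective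
  let Q : PrimeSpectrum R' := ⟨q.asIdeal.map (Ideal.Quotient.mk q'.asIdeal),
    Ideal.map_isPrime_of_surjective Ideal.Quotient.mk_surjective (by rw [Ideal.mk_ker]; exact hle)⟩
  have hQ : PrimeSpectrum.comap ι.toRingHom Q = q := PrimeSpectrum.ext (by
    show (q.asIdeal.map (Ideal.Quotient.mk q'.asIdeal)).comap (Ideal.Quotient.mk q'.asIdeal) = _
    rw [Ideal.comap_map_of_surjective _ Ideal.Quotient.mk_surjective, ← RingHom.ker_eq_comap_bot,
      Ideal.mk_ker, sup_eq_left]
    exact hle)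
  let ξ : PrimeSpectrum R' := ⟨⊥, Ideal.isPrime_bot⟩
  have hξ : PrimeSpectrum.comap ι.toRingHom ξ = q' := PrimeSpectrum.ext Ideal.mk_ker
  obtain ⟨Q', -, hQ'bot, hQQ'⟩ := FlatMorDim.exists_le_trd_le (A := A') Q ⊥ bot_le
  have h3 : trd A' Q' ≤ trd A' ξ :=
    trd_mono (q' := ξ) bot_le (hQ'bot.trans ((RingHom.injective_iff_ker_eq_bot _).1 hinj).symm)
  have e1 := trd_comap_of_surjectiveOnStalks ι hι Q
  have e2 := trd_comap_of_surjectiveOnStalks ι hι ξ
  rw [hQ] at e1
  rw [hξ] at e2
  have e3 := FlatMorDim.trd_of_surjective (A := A) (A' := A') Ideal.Quotient.mk_surjective Q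
  have e4 := FlatMorDim.trd_of_surjective (A := A) (A' := A') Ideal.Quotient.mk_surjective ξ
  omega

theorem scheme_fibreGeneric_of_specializes (V : CommRingCat.{u}) [IsDomain V] [ValuationRing V]
    {X : Scheme.{u}} (φ : X ⟶ Spec V) [LocallyOfFiniteType φ] {x x' : X} (hgen : x' ⤳ x)
    (hx : ∀ y : X, y ⤳ x → φ y = φ x → y = x) :
    ∀ y : X, y ⤳ x' → φ y = φ x' → y = x' := by
  intro y hy hyφ
  obtain ⟨U, hU, hxU, -⟩ := exists_isAffineOpen_mem_and_subset (x := x) (U := ⊤) (Set.mem_univ _)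
  let ψ := Spec.preimage (hU.fromSpec ≫ φ)
  have hψ : Spec.map ψ = hU.fromSpec ≫ φ := Spec.map_preimage _
  let _ : Algebra V Γ(X, U) := ψ.hom.toAlgebra
  have : LocallyOfFiniteType (Spec.map ψ) := by rw [hψ]; infer_instance
  have : Algebra.FiniteType V Γ(X, U) := (HasRingHomProperty.Spec_iff (P := @LocallyOfFiniteType)).1 this
  obtain ⟨q, rfl⟩ : x ∈ Set.range hU.fromSpec := by rw [hU.range_fromSpec]; exact hxU
  obtain ⟨q', rfl⟩ : x' ∈ Set.range hU.fromSpec := by
    rw [hU.range_fromSpec]; exact hgen.mem_open U.2 hxU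
  obtain ⟨qy, rfl⟩ : y ∈ Set.range hU.fromSpec := by
    rw [hU.range_fromSpec]; exact (hy.trans hgen).mem_open U.2 hxU
  have hemb := hU.fromSpec.isOpenEmbedding
  have key : ∀ a b : PrimeSpectrum Γ(X, U), φ (hU.fromSpec a) = φ (hU.fromSpec b) ↔
      a.asIdeal.comap (algebraMap V Γ(X, U)) = b.asIdeal.comap (algebraMap V Γ(X, U)) := by
    intro a b
    rw [← Scheme.Hom.comp_apply, ← Scheme.Hom.comp_apply, ← hψ]
    exact PrimeSpectrum.ext_iff
  have le_iff : ∀ a b : PrimeSpectrum Γ(X, U), hU.fromSpec a ⤳ hU.fromSpec b ↔ a.asIdeal ≤ b.asIdeal :=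
    fun a b => hemb.isInducing.specializes_iff.trans (PrimeSpectrum.le_iff_specializes a b).symm
  have := fibreGeneric_of_le (A := V) ((le_iff _ _).1 hgen)
    (fun a ha hp => hemb.injective (hx _ ((le_iff _ _).2 ha) ((key _ _).2 hp)))
    qy ((le_iff _ _).1 hy) ((key _ _).1 hyφ)
  rw [this]

end Groth.Agent.FlatMor12
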