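import Groth.Agent.FlatMor12.GenericSmooth
import Groth.Agent.FlatLocal.FlatBaseChangeAt
import Groth.Agent.CAlgH.RegularBase
import Groth.Agent.CAlgH.RegularFieldExt
import Groth.Agent.CAlgH3.RegularHom
import Groth.Agent.CommAlg6.FibreAt
import Groth.Agent.CommAlg6.NormalTensorField
import Groth.Agent.Desc19b.Target
import Groth.Agent.HenselLib.NormalHens
import Mathlib

/-!
# Morphisms with geometrically regular / normal fibres: affine criterion, base change, descent
-/

set_option autoImplicit false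
set_option maxHeartbeats 1000000
set_option backward.isDefEq.respectTransparency false

universe u

open CategoryTheory CategoryTheory.Limits AlgebraicGeometry TensorProduct

namespace Groth.Agent.FlatMor12.FibreProp

/-- A field valued point with residue extension essentially of finite type. -/
def EFT {Y : Scheme.{u}} {K : Type u} [Field K] (g : Spec (CommRingCat.of K) ⟶ Y) : Prop :=
  ∃ (y : Y) (ψ : Y.residueField y ⟶ CommRingCat.of K),
    ψ.hom.EssFiniteType ∧ g = Spec.map ψ ≫ Y.fromSpecResidueField y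

theorem EFT.comp {Y Y' : Scheme.{u}} {K : Type u} [Field K] {g₀ : Spec (CommRingCat.of K) ⟶ Y'} (h : EFT g₀)
    (g : Y' ⟶ Y) (hres : ∀ y', (g.residueFieldMap y').hom.EssFiniteType) : EFT (g₀ ≫ g) := by
  obtain ⟨y, ψ, hψ, rfl⟩ := h
  refine ⟨g y, g.residueFieldMap y ≫ ψ, ?_, ?_⟩
  · rw [CommRingCat.hom_comp]; exact (hres y).comp hψ
  · rw [Spec.map_comp, Category.assoc, Category.assoc, Scheme.Hom.SpecMap_residueFieldMap_fromSpecResidueField]

/-- The map to the residue field of a point in an affine open. -/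
noncomputable def toResidue {Y : Scheme.{u}} (V : Y.Opens) (y : Y) (hy : y ∈ V) : Γ(Y, V) ⟶ Y.residueField y :=
  Y.presheaf.germ V y hy ≫ Y.residue y

theorem specMap_toResidue {Y : Scheme.{u}} {V : Y.Opens} (hV : IsAffineOpen V) (y : Y) (hy : y ∈ V) :
    Spec.map (toResidue V y hy) ≫ hV.fromSpec = Y.fromSpecResidueField y := by
  rw [toResidue, Spec.map_comp, Category.assoc]
  show _ ≫ hV.fromSpecStalk hy = _
  rw [hV.fromSpecStalk_eq_fromSpecStalk hy]
  rfl

theorem essFiniteType_toResidue {Y : Scheme.{u}} {V : Y.Opens} (hV : IsAffineOpen V) (y : Y) (hy : y ∈ V) :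
    (toResidue V y hy).hom.EssFiniteType := by
  rw [toResidue, CommRingCat.hom_comp]
  refine RingHom.EssFiniteType.comp ?_ (RingHom.FiniteType.of_surjective _ (Y.residue_surjective y)).essFiniteType
  letI : Algebra Γ(Y, V) (Y.presheaf.stalk y) := (Y.presheaf.germ V y hy).hom.toAlgebra
  haveI : IsLocalization.AtPrime (Y.presheaf.stalk y) (hV.primeIdealOf ⟨y, hy⟩).asIdeal :=
    hV.isLocalization_stalk ⟨y, hy⟩
  exact RingHom.essFiniteType_algebraMap.2
    (Algebra.EssFiniteType.of_isLocalization _ (hV.primeIdealOf ⟨y, hy⟩).asIdeal.primeCompl)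

/-- A property of schemes which is local, matches a ring property and descends. -/
structure LocalProp where
  SP : Scheme.{u} → Prop
  RP : ∀ (A : Type u) [CommRing A], Prop
  of_openImmersion : ∀ {W Z : Scheme.{u}} (j : W ⟶ Z) [IsOpenImmersion j], SP Z → SP W
  of_cover : ∀ {Z : Scheme.{u}}, (∀ z : Z, ∃ (W : Scheme.{u}) (j : W ⟶ Z) (_ : IsOpenImmersion j),
    z ∈ Set.range j ∧ SP W) → SP Z
  spec_iff : ∀ (A : Type u) [CommRing A], SP (Spec (CommRingCat.of A)) ↔ RP A
  descend : ∀ {W Z : Scheme.{u}} (f : W ⟶ Z) [Flat f] [Surjective f] [QuasiCompact f], SP W → SP Z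

theorem LocalProp.of_iso (L : LocalProp.{u}) {W Z : Scheme.{u}} (e : W ≅ Z) (h : L.SP Z) : L.SP W :=
  L.of_openImmersion e.hom h

/-- Flat, with all fibre rings over fields essentially of finite type having `L`. -/
def HomP (L : LocalProp.{u}) (R S : Type u) [CommRing R] [CommRing S] [Algebra R S] : Prop :=
  Module.Flat R S ∧ ∀ (K : Type u) [Field K] [Algebra R K], Algebra.EssFiniteType R K → L.RP (S ⊗[R] K)

/-- Flat, with all fibres over field valued points essentially of finite type having `L`. -/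
def Good (L : LocalProp.{u}) {X Y : Scheme.{u}} (f : X ⟶ Y) : Prop :=
  Flat f ∧ ∀ (K : Type u) [Field K] (g : Spec (CommRingCat.of K) ⟶ Y), EFT g → L.SP (pullback f g)

/-- The affine piece of a fibre. -/
theorem exists_piece {X Y : Scheme.{u}} (f : X ⟶ Y) (R S K : Type u) [CommRing R] [CommRing S] [CommRing K]
    [Algebra R S] [Algebra R K] (jU : Spec (CommRingCat.of S) ⟶ X) [IsOpenImmersion jU]
    (jV : Spec (CommRingCat.of R) ⟶ Y) [Mono jV] (hcomm : jU ≫ f = Spec.map (CommRingCat.ofHom (algebraMap R S)) ≫ jV)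
    (g : Spec (CommRingCat.of K) ⟶ Y) (hg : g = Spec.map (CommRingCat.ofHom (algebraMap R K)) ≫ jV) :
    ∃ (j : Spec (CommRingCat.of (S ⊗[R] K)) ⟶ pullback f g) (_ : IsOpenImmersion j),
      ∀ z, pullback.fst f g z ∈ Set.range jU → z ∈ Set.range j := by
  subst hg
  let g := Spec.map (CommRingCat.ofHom (algebraMap R K)) ≫ jV
  have sq := GenericSmooth.isPullback_comp_mono (IsPullback.of_hasPullback (Spec.map (CommRingCat.ofHom (algebraMap R S)))
    (Spec.map (CommRingCat.ofHom (algebraMap R K)))) jV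
  rw [← hcomm] at sq
  let e : Spec (CommRingCat.of (S ⊗[R] K)) ≅ pullback jU (pullback.fst f g) :=
    (pullbackSpecIso R S K).symm ≪≫ sq.isoPullback ≪≫ (pullbackRightPullbackFstIso f g jU).symm
  refine ⟨e.hom ≫ pullback.snd jU (pullback.fst f g), inferInstance, fun z hz => ?_⟩
  obtain ⟨w, hw⟩ : z ∈ Set.range (pullback.snd jU (pullback.fst f g)) := by
    rw [Scheme.Pullback.range_snd]; exact hz
  obtain ⟨v, rfl⟩ := e.hom.surjective w
  exact ⟨v, by rw [Scheme.Hom.comp_apply]; exact hw⟩

/-- The affine criterion. -/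
theorem affineLocally_iff (L : LocalProp.{u}) {X Y : Scheme.{u}} (f : X ⟶ Y) :
    (∀ (U : X.Opens) (V : Y.Opens) (_ : IsAffineOpen U) (_ : IsAffineOpen V) (hUV : U ≤ f ⁻¹ᵁ V),
      letI := (f.appLE V U hUV).hom.toAlgebra
      HomP L Γ(Y, V) Γ(X, U)) ↔ Good L f := by
  constructor
  · intro h
    refine ⟨(HasRingHomProperty.iff_appLE (P := @Flat)).2 fun V U e => ?_, fun K _ g hg => ?_⟩
    · letI := (f.appLE V.1 U.1 e).hom.toAlgebra
      exact RingHom.flat_algebraMap_iff.2 (h U.1 V.1 U.2 V.2 e).1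
    obtain ⟨y, ψ, hψ, rfl⟩ := hg
    refine L.of_cover fun z => ?_
    let x := pullback.fst f (Spec.map ψ ≫ Y.fromSpecResidueField y) z
    have hx : f x = y := by
      show (pullback.fst f (Spec.map ψ ≫ Y.fromSpecResidueField y) ≫ f) z = y
      rw [pullback.condition, ← Category.assoc, Scheme.Hom.comp_apply]
      exact Y.fromSpecResidueField_apply y _
    obtain ⟨_, ⟨V, hV, rfl⟩, hyV, -⟩ := Y.isBasis_affineOpens.exists_subset_of_mem_open (Set.mem_univ y) isOpen_univ
    obtain ⟨_, ⟨U, hU, rfl⟩, hxU, hUV⟩ := X.isBasis_affineOpens.exists_subset_of_mem_open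
      (show x ∈ f ⁻¹ᵁ V by show f x ∈ V; rw [hx]; exact hyV) (f ⁻¹ᵁ V).2
    let φ : Γ(Y, V) ⟶ CommRingCat.of K := toResidue V y hyV ≫ ψ
    letI : Algebra Γ(Y, V) Γ(X, U) := (f.appLE V U hUV).hom.toAlgebra
    letI : Algebra Γ(Y, V) K := φ.hom.toAlgebra
    have hK : Algebra.EssFiniteType Γ(Y, V) K := RingHom.essFiniteType_algebraMap.1 (by
      show φ.hom.EssFiniteType
      rw [CommRingCat.hom_comp]
      exact (essFiniteType_toResidue hV y hyV).comp hψ)
    haveI : IsOpenImmersion hU.fromSpec := hU.isOpenImmersion_fromSpec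
    haveI : IsOpenImmersion hV.fromSpec := hV.isOpenImmersion_fromSpec
    obtain ⟨j, hj, hrange⟩ := exists_piece f Γ(Y, V) Γ(X, U) K hU.fromSpec hV.fromSpec
      (IsAffineOpen.SpecMap_appLE_fromSpec f hV hU hUV).symm (Spec.map ψ ≫ Y.fromSpecResidueField y) (by
        show _ = Spec.map φ ≫ hV.fromSpec
        rw [Spec.map_comp, Category.assoc, specMap_toResidue])
    exact ⟨_, j, hj, hrange z (by rw [hU.range_fromSpec]; exact hxU),
      (L.spec_iff _).2 ((h U V hU hV hUV).2 K hK)⟩
  · rintro ⟨hf, hG⟩ U V hU hV hUV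
    letI : Algebra Γ(Y, V) Γ(X, U) := (f.appLE V U hUV).hom.toAlgebra
    refine ⟨RingHom.flat_algebraMap_iff.1 (HasRingHomProperty.iff_appLE.1 hf ⟨V, hV⟩ ⟨U, hU⟩ hUV), ?_⟩
    intro K _ _ hK
    let φ : Γ(Y, V) ⟶ CommRingCat.of K := CommRingCat.ofHom (algebraMap Γ(Y, V) K)
    let g : Spec (CommRingCat.of K) ⟶ Y := Spec.map φ ≫ hV.fromSpec
    haveI : IsOpenImmersion hU.fromSpec := hU.isOpenImmersion_fromSpec
    haveI : IsOpenImmersion hV.fromSpec := hV.isOpenImmersion_fromSpec
    have hg : EFT g := by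
      obtain ⟨⟨y, ψ⟩, hyψ⟩ := (Scheme.SpecToEquivOfField K Y).symm.surjective g
      replace hyψ : Spec.map ψ ≫ Y.fromSpecResidueField y = g := hyψ
      have hyV : y ∈ V := by
        have h1 : g (IsLocalRing.closedPoint K) = y := by
          rw [← hyψ, Scheme.Hom.comp_apply]; exact Y.fromSpecResidueField_apply y _
        have h2 : g (IsLocalRing.closedPoint K) ∈ Set.range hV.fromSpec := ⟨_, rfl⟩
        rwa [hV.range_fromSpec, h1] at h2
      refine ⟨y, ψ, ?_, hyψ.symm⟩
      have h3 : toResidue V y hyV ≫ ψ = φ := by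
        apply Spec.map_injective
        rw [← cancel_mono hV.fromSpec, Spec.map_comp, Category.assoc, specMap_toResidue]
        exact hyψ
      have h4 : (toResidue V y hyV ≫ ψ).hom.EssFiniteType := by
        rw [h3]; exact RingHom.essFiniteType_algebraMap.2 hK
      rw [CommRingCat.hom_comp] at h4
      exact RingHom.EssFiniteType.of_comp _ h4
    obtain ⟨j, hj, -⟩ := exists_piece f Γ(Y, V) Γ(X, U) K hU.fromSpec hV.fromSpec
      (IsAffineOpen.SpecMap_appLE_fromSpec f hV hU hUV).symm g rfl
    exact (L.spec_iff _).1 (L.of_openImmersion j (hG K g hg))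

/-- Base change along a morphism with residue extensions essentially of finite type. -/
theorem Good.baseChange {L : LocalProp.{u}} {X Y X' Y' : Scheme.{u}} {f : X ⟶ Y} {f' : X' ⟶ Y'} {g' : X' ⟶ X}
    {g : Y' ⟶ Y} (hc : IsPullback g' f' f g) (hres : ∀ y', (g.residueFieldMap y').hom.EssFiniteType)
    (h : Good L f) : Good L f' := by
  refine ⟨MorphismProperty.of_isPullback hc h.1, fun K _ g₀ hg₀ => ?_⟩
  exact L.of_iso ((IsPullback.of_hasPullback f' g₀).paste_horiz hc).isoPullback (h.2 K (g₀ ≫ g) (hg₀.comp g hres))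

/-- Descent along a surjective flat morphism locally of finite type. -/
theorem Good.descend {L : LocalProp.{u}} {X Y X' Y' : Scheme.{u}} {f : X ⟶ Y} {f' : X' ⟶ Y'} {g' : X' ⟶ X}
    {g : Y' ⟶ Y} (hc : IsPullback g' f' f g) [Flat g] [Surjective g] (h : Good L f') : Good L f := by
  haveI := h.1
  haveI : Flat (pullback.snd f g) := by
    rw [← hc.isoPullback_inv_snd]; infer_instance
  refine ⟨(Flat.iff_flat_stalkMap _).2 fun x => ?_, fun K _ g₀ hg₀ => ?_⟩
  · obtain ⟨y', hy'⟩ := g.surjective (f x)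
    obtain ⟨w, hw, -⟩ := Scheme.Pullback.exists_preimage_pullback (f := f) (g := g) x y' hy'.symm
    rw [← hw]
    exact FlatLocal.flat_stalkMap_of_baseChange f g w (Flat.stalkMap g _) (Flat.stalkMap _ w)
  obtain ⟨y, ψ, hψ, rfl⟩ := hg₀
  obtain ⟨y', rfl⟩ := g.surjective y
  let k : Type u := Y.residueField (g y')
  let K' : Type u := Y'.residueField y'
  letI : Algebra k K := ψ.hom.toAlgebra
  letI : Algebra k K' := (g.residueFieldMap y').hom.toAlgebra
  haveI : Algebra.EssFiniteType k K := RingHom.essFiniteType_algebraMap.1 hψ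
  haveI : Nontrivial (K' ⊗[k] K) := Algebra.TensorProduct.nontrivial_of_algebraMap_injective_of_isDomain k K' K
    (algebraMap k K').injective (algebraMap k K).injective
  obtain ⟨m, hm⟩ := Ideal.exists_maximal (K' ⊗[k] K)
  letI := Ideal.Quotient.field m
  let L' : Type u := (K' ⊗[k] K) ⧸ m
  let ψ₁ : Y'.residueField y' ⟶ CommRingCat.of L' :=
    CommRingCat.ofHom ((Ideal.Quotient.mk m).comp (algebraMap K' (K' ⊗[k] K)))
  let ξ : CommRingCat.of K ⟶ CommRingCat.of L' :=
    CommRingCat.ofHom ((Ideal.Quotient.mk m).comp (Algebra.TensorProduct.includeRight : K →ₐ[k] K' ⊗[k] K).toRingHom)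
  have hψ₁ : ψ₁.hom.EssFiniteType :=
    RingHom.EssFiniteType.comp (RingHom.essFiniteType_algebraMap.2 inferInstance)
      (RingHom.FiniteType.of_surjective _ Ideal.Quotient.mk_surjective).essFiniteType
  have hcomp : g.residueFieldMap y' ≫ ψ₁ = ψ ≫ ξ := by
    refine CommRingCat.hom_ext (RingHom.ext fun a => congrArg (Ideal.Quotient.mk m) ?_)
    show (algebraMap k K' a) ⊗ₜ[k] (1 : K) = (1 : K') ⊗ₜ[k] (algebraMap k K a)
    rw [Algebra.algebraMap_eq_smul_one, Algebra.algebraMap_eq_smul_one, tmul_smul, TensorProduct.smul_tmul']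
  have h1 : L.SP (pullback f' (Spec.map ψ₁ ≫ Y'.fromSpecResidueField y')) := h.2 L' _ ⟨y', ψ₁, hψ₁, rfl⟩
  let g₀ := Spec.map ψ ≫ Y.fromSpecResidueField (g y')
  have hg₁ : (Spec.map ψ₁ ≫ Y'.fromSpecResidueField y') ≫ g = Spec.map ξ ≫ g₀ := by
    rw [Category.assoc, ← Scheme.Hom.SpecMap_residueFieldMap_fromSpecResidueField, ← Category.assoc,
      ← Spec.map_comp, hcomp, Spec.map_comp, Category.assoc]
  have h2 : L.SP (pullback f (Spec.map ξ ≫ g₀)) :=
    L.of_iso (pullback.congrHom rfl hg₁.symm ≪≫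
      ((IsPullback.of_hasPullback f' (Spec.map ψ₁ ≫ Y'.fromSpecResidueField y')).paste_horiz hc).isoPullback.symm) h1
  let r : pullback f (Spec.map ξ ≫ g₀) ⟶ pullback f g₀ :=
    pullback.lift (pullback.fst _ _) (pullback.snd _ _ ≫ Spec.map ξ) (by rw [Category.assoc]; exact pullback.condition)
  have hr : IsPullback r (pullback.snd f (Spec.map ξ ≫ g₀)) (pullback.snd f g₀) (Spec.map ξ) :=
    IsPullback.of_right (h₁₂ := pullback.fst f g₀)
      (by rw [pullback.lift_fst]; exact IsPullback.of_hasPullback f (Spec.map ξ ≫ g₀))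
      (pullback.lift_snd _ _ _) (IsPullback.of_hasPullback f g₀)
  haveI : Flat (Spec.map ξ) := by
    refine (HasRingHomProperty.Spec_iff (P := @Flat)).2 ?_
    letI : Algebra K L' := ξ.hom.toAlgebra
    exact RingHom.flat_algebraMap_iff.2 Module.Flat.of_free
  haveI : Surjective (Spec.map ξ) :=
    ⟨fun p => ⟨IsLocalRing.closedPoint L', (inferInstance : Subsingleton (PrimeSpectrum K)).elim _ _⟩⟩
  haveI : Flat r := MorphismProperty.of_isPullback hr.flip ‹Flat (Spec.map ξ)›
  haveI : Surjective r := MorphismProperty.of_isPullback hr.flip ‹Surjective (Spec.map ξ)›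
  haveI : QuasiCompact r := MorphismProperty.of_isPullback hr.flip (inferInstance : QuasiCompact (Spec.map ξ))
  exact L.descend r h2

section Regular

theorem isRegularLocalRing_stalk_spec_iff (A : Type u) [CommRing A] [IsNoetherianRing A] :
    (∀ z : Spec (CommRingCat.of A), IsRegularLocalRing ((Spec (CommRingCat.of A)).presheaf.stalk z)) ↔
      IsRegularRing A := by
  rw [isRegularRing_iff]
  refine ⟨fun h p hp => ?_, fun h z => ?_⟩
  · haveI : IsRegularLocalRing ((AlgebraicGeometry.structurePresheafInCommRingCat A).stalk ⟨p, hp⟩) := h ⟨p, hp⟩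
    exact IsRegularLocalRing.of_ringEquiv (StructureSheaf.stalkIso A ⟨p, hp⟩).toRingEquiv.symm
  · haveI := h z.asIdeal
    exact IsRegularLocalRing.of_ringEquiv (StructureSheaf.stalkIso A z).toRingEquiv

/-- Locally Noetherian with regular local rings. -/
def regularProp : LocalProp.{u} where
  SP Z := IsLocallyNoetherian Z ∧ ∀ z : Z, IsRegularLocalRing (Z.presheaf.stalk z)
  RP A _ := IsRegularRing A
  of_openImmersion j _ h :=
    haveI := h.1
    ⟨isLocallyNoetherian_of_isOpenImmersion j, fun w =>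
      haveI := h.2 (j w)
      IsRegularLocalRing.of_ringEquiv (asIso (j.stalkMap w)).commRingCatIsoToRingEquiv⟩
  of_cover {Z} h := by
    choose W j hj hmem hW using h
    have hN : IsLocallyNoetherian Z := by
      haveI : ∀ z, IsLocallyNoetherian (W z) := fun z => (hW z).1
      let 𝒰 : Z.OpenCover := Scheme.Cover.mkOfCovers Z W j (fun z => ⟨z, hmem z⟩) hj
      exact (isLocallyNoetherian_iff_openCover 𝒰).2 fun z => (hW z).1
    refine ⟨hN, fun z => ?_⟩
    obtain ⟨w, hw⟩ := hmem z
    haveI := (hW z).2 w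
    haveI := hj z
    rw [← hw]
    exact IsRegularLocalRing.of_ringEquiv (asIso ((j z).stalkMap w)).commRingCatIsoToRingEquiv.symm
  spec_iff A _ := by
    refine ⟨fun h => ?_, fun h => ?_⟩
    · haveI := h.1
      haveI : IsNoetherianRing A := isLocallyNoetherian_Spec.1 h.1
      exact (isRegularLocalRing_stalk_spec_iff A).1 h.2
    · haveI := h
      exact ⟨inferInstance, (isRegularLocalRing_stalk_spec_iff A).2 h⟩
  descend {W Z} f _ _ _ h := by
    haveI := h.1
    haveI : IsLocallyNoetherian Z := Desc19b.isLocallyNoetherian_of_fpqc f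
    refine ⟨inferInstance, fun z => ?_⟩
    obtain ⟨w, rfl⟩ := f.surjective z
    haveI := h.2 w
    letI := (f.stalkMap w).hom.toAlgebra
    haveI : IsLocalHom (algebraMap (Z.presheaf.stalk (f w)) (W.presheaf.stalk w)) :=
      inferInstanceAs (IsLocalHom (f.stalkMap w).hom)
    haveI : Module.Flat (Z.presheaf.stalk (f w)) (W.presheaf.stalk w) := Flat.stalkMap f w
    exact CAlgH3.isRegularLocalRing_of_flat (W.presheaf.stalk w)

theorem homP_regular_iff (R S : Type u) [CommRing R] [CommRing S] [Algebra R S] :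
    HomP regularProp R S ↔ CAlg.IsRegularHom R S := by
  rw [CAlgH.isRegularHom_iff_fields]
  refine and_congr_right' ⟨fun h K _ _ hK => ?_, fun h K _ _ hK => ?_⟩
  · haveI : IsRegularRing (S ⊗[R] K) := h K hK
    exact IsRegularRing.of_ringEquiv (Algebra.TensorProduct.comm R S K).toRingEquiv
  · haveI := h K hK
    exact IsRegularRing.of_ringEquiv (Algebra.TensorProduct.comm R K S).toRingEquiv

end Regular

section Normal

theorem normal_stalk_of_equiv {A B : Type u} [CommRing A] [CommRing B] (e : A ≃+* B)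
    (h : IsDomain A ∧ IsIntegrallyClosed A) : IsDomain B ∧ IsIntegrallyClosed B := by
  obtain ⟨_, _⟩ := h
  exact ⟨e.symm.injective.isDomain, IsIntegrallyClosed.of_equiv e⟩

/-- All local rings are normal domains. -/
def normalProp : LocalProp.{u} where
  SP Z := ∀ z : Z, IsDomain (Z.presheaf.stalk z) ∧ IsIntegrallyClosed (Z.presheaf.stalk z)
  RP A _ := EGA4.IsNormalRing A
  of_openImmersion j _ h w :=
    normal_stalk_of_equiv (asIso (j.stalkMap w)).commRingCatIsoToRingEquiv (h (j w))
  of_cover {Z} h z := by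
    obtain ⟨W, j, hj, ⟨w, rfl⟩, hW⟩ := h z
    exact normal_stalk_of_equiv (asIso (j.stalkMap w)).commRingCatIsoToRingEquiv.symm (hW w)
  spec_iff A _ :=
    ⟨fun h p hp => normal_stalk_of_equiv (StructureSheaf.stalkIso A ⟨p, hp⟩).toRingEquiv.symm (h ⟨p, hp⟩),
      fun h z => normal_stalk_of_equiv (StructureSheaf.stalkIso A z).toRingEquiv (h z.asIdeal)⟩
  descend {W Z} f _ _ _ h z := by
    obtain ⟨w, rfl⟩ := f.surjective z
    obtain ⟨_, _⟩ := h w
    letI := (f.stalkMap w).hom.toAlgebra
    haveI : IsLocalHom (algebraMap (Z.presheaf.stalk (f w)) (W.presheaf.stalk w)) :=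
      inferInstanceAs (IsLocalHom (f.stalkMap w).hom)
    haveI : Module.Flat (Z.presheaf.stalk (f w)) (W.presheaf.stalk w) := Flat.stalkMap f w
    haveI : Module.FaithfullyFlat (Z.presheaf.stalk (f w)) (W.presheaf.stalk w) :=
      Module.FaithfullyFlat.of_flat_of_isLocalHom
    exact HenselLib.normalDomain_of_faithfullyFlat _ (W.presheaf.stalk w)

theorem homP_normal_iff (R S : Type u) [CommRing R] [CommRing S] [Algebra R S] :
    HomP normalProp R S ↔ EGA4.IsNormalHom R S := by
  refine and_congr_right' ⟨fun h p _ k' _ _ _ => ?_, fun h K _ _ _ => ?_⟩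
  · letI : Algebra R k' := ((algebraMap p.ResidueField k').comp (algebraMap R p.ResidueField)).toAlgebra
    haveI : IsScalarTower R p.ResidueField k' := IsScalarTower.of_algebraMap_eq fun _ => rfl
    exact CommAlg6.isNormalRing_of_ringEquiv
      ((Algebra.TensorProduct.comm R S k').toRingEquiv.trans
        (Algebra.TensorProduct.cancelBaseChange R p.ResidueField k' k' S).toRingEquiv.symm)
      (h k' (Algebra.EssFiniteType.comp R p.ResidueField k'))
  · let p := RingHom.ker (algebraMap R K)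
    haveI : p.IsPrime := RingHom.ker_isPrime _
    letI : Algebra p.ResidueField K :=
      (Ideal.ResidueField.lift p (algebraMap R K) le_rfl fun x hx => isUnit_iff_ne_zero.mpr hx).toAlgebra
    haveI : IsScalarTower R p.ResidueField K :=
      IsScalarTower.of_algebraMap_eq fun x => (Ideal.ResidueField.lift_algebraMap p _ _ _ x).symm
    have hK : EGA4.IsNormalRing K := fun q _ => by
      haveI : IsDomain (Localization.AtPrime q) :=
        IsLocalization.isDomain_localization (Ideal.primeCompl_le_nonZeroDivisors q)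
      exact ⟨inferInstance,
        isIntegrallyClosed_of_isLocalization (Localization.AtPrime q) q.primeCompl (Ideal.primeCompl_le_nonZeroDivisors q)⟩
    have h1 := CommAlg6.NormalTensor.isNormalRing_tensor_of_isGeomNormal p.ResidueField (p.Fiber S) K (h p) hK
    exact CommAlg6.isNormalRing_of_ringEquiv
      (((Algebra.TensorProduct.comm p.ResidueField (p.Fiber S) K).toRingEquiv.trans
        (Algebra.TensorProduct.cancelBaseChange R p.ResidueField K K S).toRingEquiv).trans
          (Algebra.TensorProduct.comm R K S).toRingEquiv) h1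

end Normal

end Groth.Agent.FlatMor12.FibreProp
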