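import Groth.Agent.FlatMorH1.Apps
import Groth.Agent.PicLib.FormalGen
import Groth.Agent.PicLib.BasisOn
import Groth.Agent.Coherent.CohBC.SectionSpread
import Groth.Agent.AmpleLib.Compose

/-!
# Invertible modules trivial on a fibre of dimension at most one without `H¹`

A trivialisation on the fibre lifts to a generating section over a neighbourhood.
-/

set_option autoImplicit false
set_option backward.isDefEq.respectTransparency false
set_option backward.isDefEq.respectTransparency.types false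
set_option maxHeartbeats 800000
set_option linter.style.haveILetI false

universe u

open CategoryTheory CategoryTheory.Limits AlgebraicGeometry Opposite TopologicalSpace
open Groth.Agent.Coherent Groth.Agent.PicLib Groth.Agent.AmpleLib

namespace Groth.Agent.FlatMor12.FibreTrivial

section Closed

variable {A B : Type u} [CommRing A] [CommRing B] [Algebra A B] [IsNoetherianRing A]
  {X : Scheme.{u}} [X.Over (Spec (CommRingCat.of A))] [IsProper (X ↘ Spec (CommRingCat.of A))]
  {X' : Scheme.{u}} [X'.Over (Spec (CommRingCat.of B))] (g : X' ⟶ X)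

attribute [local instance] Groth.Agent.Coherent.hasFiniteBiproducts

/-- Sections lift along the base change to a quotient when the fibres are small and `H¹` vanishes there. -/
theorem surjective_pullSec_closed
    (hd : ∀ y, topologicalKrullDim ↥((X ↘ Spec (CommRingCat.of A)).fiber y) ≤ (1 : ℕ))
    (h : IsPullback g (X' ↘ Spec (CommRingCat.of B)) (X ↘ Spec (CommRingCat.of A))
      (Spec.map (CommRingCat.ofHom (algebraMap A B))))
    (hs : Function.Surjective (algebraMap A B)) {L : X.Modules} (hL : PicF.IsInvertible L)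
    (h1 : Subsingleton (Coh.HH X' ((Scheme.Modules.pullback g).obj L) 1)) :
    Function.Surjective (pullSec g (L := L) (U := ⊤)) := by
  classical
  haveI : IsClosedImmersion g := FlatMorH1.isClosedImmersion_of_pullback A B g h hs
  let φ := baseHom A X
  have hLc := isCoh_of_isInvertible hL
  haveI : Coh.IsQCoh L := hLc.1
  haveI : Coh.IsQCoh ((Scheme.Modules.pullback g).obj L) := EGA43.InjFibre.isQCoh_pullback g L
  haveI hPq : Coh.IsQCoh ((Coh.push g).obj ((Scheme.Modules.pullback g).obj L)) := isQCoh_push g _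
  haveI : Epi (clUnit g L) := epi_clUnit g
  let I : Ideal A := RingHom.ker (algebraMap A B)
  obtain ⟨r, a, ha⟩ := Submodule.fg_iff_exists_fin_generating_family.1 (IsNoetherian.noetherian I)
  have hmem : ∀ i, a i ∈ I := fun i => ha.le (Submodule.subset_span ⟨i, rfl⟩)
  have hglob : ∀ i, g.appTop (baseHom A X (a i)) = 0 := fun i => by
    rw [show baseHom A X (a i) = Coh.toGlobal (X ↘ Spec (CommRingCat.of A)) (a i) from rfl,
      Coherent.appTop_toGlobal g h (a i), RingHom.mem_ker.1 (hmem i), map_zero]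
  have hz : ∀ i, Formal.smulMod A L (a i) ≫ clUnit g L = 0 := fun i =>
    Scheme.Modules.hom_ext _ _ fun U => ConcreteCategory.hom_ext _ _ fun m => by
      show pullSec g ((Formal.smulMod A L (a i)).app U m) = _
      rw [smulMod_app, pullSec_smul]
      have hn : g.app U (X.presheaf.map (homOfLE (le_top (a := U))).op (baseHom A X (a i))) =
          X'.presheaf.map ((Opens.map g.base).map (homOfLE (le_top (a := U)))).op (g.appTop (baseHom A X (a i))) :=
        ConcreteCategory.congr_hom (g.naturality (homOfLE (le_top (a := U))).op) _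
      rw [hn, hglob, map_zero, zero_smul]
      rfl
  let K := kernel (clUnit g L)
  let ψ : Fin r → (L ⟶ K) := fun i => kernel.lift _ _ (hz i)
  let Φ : (⨁ fun _ : Fin r => L) ⟶ K := biproduct.desc ψ
  -- `Φ` is an epimorphism
  haveI : Epi Φ := by
    refine epi_of_locally_surjective _ fun W m y hy => ?_
    obtain ⟨U₀, hy₀, e, he⟩ := exists_isGen hL y
    obtain ⟨U, hU, hyU, hUW⟩ := exists_isAffineOpen_mem_and_subset (x := y) (U := W ⊓ U₀) ⟨hy, hy₀⟩
    have hU₁ : U ≤ W := fun z hz => (hUW hz).1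
    have heU := he.restrict (show U ≤ U₀ from fun z hz => (hUW hz).2)
    refine ⟨U, hU₁, hyU, ?_⟩
    generalize resM L (show U ≤ U₀ from fun z hz => (hUW hz).2) e = eU at heU
    let m' : Γ(L, U) := (kernel.ι (clUnit g L)).app U (resM K hU₁ m)
    obtain ⟨c, hc⟩ := (heU U le_rfl).2 m'
    beta_reduce at hc
    rw [resM_self] at hc
    have h0 : pullSec g m' = 0 :=
      congrArg (fun z : K ⟶ _ => z.app U (resM K hU₁ m)) (kernel.condition (clUnit g L))
    rw [← hc, pullSec_smul] at h0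
    have hc0 : g.app U c = 0 := by
      refine ((isGen_pullSec g heU hL) _ le_rfl).1 ?_
      show g.app U c • resM _ le_rfl _ = (0 : Γ(X', _)) • resM _ le_rfl _
      rw [resM_self, h0, zero_smul]
    have hp : IsBCPushout g (Coh.toGlobal (X ↘ Spec (CommRingCat.of A)))
        (Coh.toGlobal (X' ↘ Spec (CommRingCat.of B))) U := isBCPushout_of_isPullback g h hU
    have hker := FlatMorH1.ker_le_map_of_isPushout hp hs (RingHom.mem_ker.2 hc0)
    rw [show RingHom.ker (CommRingCat.ofHom (algebraMap A B)).hom = I from rfl, ← ha, Submodule.span,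
      ] at hker
    suffices hb : ∃ b, (Φ ≫ kernel.ι (clUnit g L)).app U b = c • eU by
      obtain ⟨b, hb⟩ := hb
      exact ⟨b, app_injective_of_mono (kernel.ι (clUnit g L)) U (hb.trans hc)⟩
    clear hc0 hc h0 m'
    rw [← Submodule.span, ← Ideal.span, Ideal.map_span] at hker
    induction hker using Submodule.span_induction with
    | mem z hz =>
      obtain ⟨_, ⟨i, rfl⟩, rfl⟩ := hz
      refine ⟨(biproduct.ι (fun _ : Fin r => L) i).app U eU, ?_⟩
      refine (congrArg (fun z : L ⟶ L => z.app U eU)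
        (show biproduct.ι (fun _ : Fin r => L) i ≫ Φ ≫ kernel.ι _ = Formal.smulMod A L (a i) by
          rw [biproduct.ι_desc_assoc]; exact kernel.lift_ι _ _ _)).trans ?_
      rw [smulMod_app]
      rfl
    | zero => exact ⟨0, by rw [map_zero, zero_smul]⟩
    | add x z _ _ hx hz =>
      obtain ⟨b, hb⟩ := hx
      obtain ⟨b', hb'⟩ := hz
      exact ⟨b + b', by rw [map_add, hb, hb', add_smul]⟩
    | smul d x _ hx =>
      obtain ⟨b, hb⟩ := hx
      exact ⟨d • b, by rw [Scheme.Modules.Hom.app_smul, hb, smul_eq_mul, mul_smul]⟩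
  let S : ShortComplex X.Modules := ShortComplex.mk (kernel.ι (clUnit g L)) (clUnit g L) (kernel.condition _)
  have hS : S.ShortExact := { exact := ShortComplex.exact_kernel (clUnit g L) }
  let T : ShortComplex X.Modules := ShortComplex.mk (kernel.ι Φ) Φ (kernel.condition _)
  have hT : T.ShortExact := { exact := ShortComplex.exact_kernel Φ }
  haveI hKq : Coh.IsQCoh K := isQCoh_kernel _
  haveI : Coh.IsQCoh (⨁ fun _ : Fin r => L) := isQCoh_biproduct _ fun _ => inferInstance
  haveI hKΦ : Coh.IsQCoh (kernel Φ) := isQCoh_kernel Φ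
  haveI h2 : Subsingleton (HA φ (kernel Φ) (⊤ : X.Opens) 2) := by
    haveI := DualLib.RelMod.subsingleton_HH_of_fibres (A := A) hd (kernel Φ) 2 (by norm_num)
    exact (HHA (A := A) (kernel Φ) 2).symm.toEquiv.subsingleton
  haveI h3 : Subsingleton (HA φ S.X₃ (⊤ : X.Opens) 1) := by
    haveI : Subsingleton (Coh.HH X S.X₃ 1) :=
      (HHAffinePushEquiv g ((Scheme.Modules.pullback g).obj L) 1).symm.toEquiv.subsingleton
    exact (HHA (A := A) S.X₃ 1).symm.toEquiv.subsingleton
  -- every class of the kernel is a combination of the classes `ψ i`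
  have hgen : ∀ x : HA φ K (⊤ : X.Opens) 1, ∃ z : Fin r → HA φ L (⊤ : X.Opens) 1,
      x = ∑ i, postA φ (ψ i) ⊤ 1 (z i) := fun x => by
    obtain ⟨y, rfl⟩ : ∃ y, postA φ Φ ⊤ 1 y = x := (exact_postA_deltaA φ hT ⊤ 1 x).1 (Subsingleton.elim _ _)
    refine ⟨fun i => postA φ (biproduct.π (fun _ : Fin r => L) i) ⊤ 1 y, ?_⟩
    have key : ∀ s : Finset (Fin r),
        postA φ ((∑ i ∈ s, biproduct.π (fun _ : Fin r => L) i ≫ ψ i)) ⊤ 1 y =
          ∑ i ∈ s, postA φ (ψ i) ⊤ 1 (postA φ (biproduct.π (fun _ : Fin r => L) i) ⊤ 1 y) := fun s => by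
      induction s using Finset.induction with
      | empty => rw [Finset.sum_empty, Finset.sum_empty]; exact postHM_zero 1 ⊤ y
      | insert b s hb ih =>
        rw [Finset.sum_insert hb, Finset.sum_insert hb]
        refine (postHM_add _ _ 1 ⊤ y).trans ?_
        exact congrArg₂ (· + ·) (postHM_comp (biproduct.π (fun _ : Fin r => L) b) (ψ b) 1 ⊤ y) ih
    rw [← key]
    exact congrArg (fun F => postA φ F ⊤ 1 y) biproduct.desc_eq
  have hι : ∀ (i : Fin r) (z : HA φ L (⊤ : X.Opens) 1),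
      postA φ (kernel.ι (clUnit g L)) ⊤ 1 (postA φ (ψ i) ⊤ 1 z) = a i • z := fun i z => by
    refine (postHM_comp (ψ i) (kernel.ι (clUnit g L)) 1 ⊤ z).symm.trans ?_
    rw [kernel.lift_ι]
    exact postA_smulMod L (a i) 1 z
  have hdiv : (⊤ : Submodule A (HA φ L (⊤ : X.Opens) 1)) ≤ I • ⊤ := fun x _ => by
    obtain ⟨w, rfl⟩ := (exact_postA φ hS ⊤ 1 x).1 (Subsingleton.elim _ _)
    obtain ⟨z, rfl⟩ := hgen w
    rw [map_sum]
    exact Submodule.sum_mem _ fun i _ => (hι i (z i)).symm ▸ Submodule.smul_mem_smul (hmem i) trivial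
  haveI : Module.Finite A (HA φ L (⊤ : X.Opens) 1) :=
    finCoh_of_isProper (X ↘ Spec (CommRingCat.of A)) L hLc 1
  obtain ⟨b, hb1, hb0⟩ := Submodule.exists_sub_one_mem_and_smul_eq_zero_of_fg_of_le_smul I
    (⊤ : Submodule A (HA φ L (⊤ : X.Opens) 1)) Module.Finite.fg_top hdiv
  have hbK : ∀ x : HA φ K (⊤ : X.Opens) 1, b • x = 0 := fun x => by
    obtain ⟨z, rfl⟩ := hgen x
    rw [Finset.smul_sum]
    exact Finset.sum_eq_zero fun i _ => by rw [← map_smul, hb0 (z i) trivial, map_zero]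
  intro σ
  let σ' : GA φ S.X₃ := σ
  obtain ⟨t, ht⟩ := (deltaG_eq_zero_iff φ hS (b • σ')).1
    (by rw [map_smul]; exact hbK _)
  refine ⟨t, ?_⟩
  have hb' : algebraMap A B b = 1 := by
    have := RingHom.mem_ker.1 hb1
    rwa [map_sub, map_one, sub_eq_zero] at this
  refine (ht : pullSec g (t : Γ(L, ⊤)) = _).trans ?_
  show g.app ⊤ (baseHom A X b) • (σ : Γ((Scheme.Modules.pullback g).obj L, g ⁻¹ᵁ ⊤)) = σ
  rw [show g.app ⊤ (baseHom A X b) = g.appTop (Coh.toGlobal (X ↘ Spec (CommRingCat.of A)) b) from rfl,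
    Coherent.appTop_toGlobal g h b, hb', map_one]
  exact one_smul _ σ

end Closed

section Near

variable {X Y : Scheme.{u}} (f : X ⟶ Y) [IsProper f] [IsLocallyNoetherian Y]

/-- An invertible module trivial on the fibre over a closed point is trivial near it. -/
theorem exists_isGen_near (hd : ∀ y : Y, topologicalKrullDim ↥(f.fiber y) ≤ (1 : ℕ)) (y : Y)
    (hy : IsClosed ({y} : Set Y)) (h1 : FlatMorH1.NoH1 (f.fiber y)) {L : X.Modules} (hL : PicF.IsInvertible L)
    (e : (Scheme.Modules.pullback (f.fiberι y)).obj L ≅ Coh.structureModule (f.fiber y)) :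
    ∃ W : Y.Opens, y ∈ W ∧ ∃ s : Γ(L, f ⁻¹ᵁ W), IsGen L (f ⁻¹ᵁ W) s := by
  obtain ⟨V, hV, hyV, -⟩ := exists_isAffineOpen_mem_and_subset (x := y) (U := (⊤ : Y.Opens)) trivial
  haveI : IsNoetherianRing Γ(Y, V) := IsLocallyNoetherian.component_noetherian ⟨V, hV⟩
  haveI : IsClosedImmersion (Y.fromSpecResidueField y) := isClosed_singleton_iff_isClosedImmersion.1 hy
  let q : Spec (Y.residueField y) ⟶ Spec Γ(Y, V) :=
    IsOpenImmersion.lift hV.fromSpec (Y.fromSpecResidueField y)
      (by rw [Scheme.range_fromSpecResidueField, hV.range_fromSpec]; exact Set.singleton_subset_iff.2 hyV)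
  have hq : q ≫ hV.fromSpec = Y.fromSpecResidueField y := IsOpenImmersion.lift_fac _ _ _
  haveI : IsClosedImmersion (q ≫ hV.fromSpec) := by rw [hq]; infer_instance
  haveI : IsClosedImmersion q := IsClosedImmersion.of_comp q hV.fromSpec
  letI : Algebra Γ(Y, V) (Y.residueField y) := (Spec.preimage q).hom.toAlgebra
  have hqm : Spec.map (CommRingCat.ofHom (algebraMap Γ(Y, V) (Y.residueField y))) = q := Spec.map_preimage q
  have hs : Function.Surjective (algebraMap Γ(Y, V) (Y.residueField y)) := by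
    haveI : IsClosedImmersion (Spec.map (CommRingCat.ofHom (algebraMap Γ(Y, V) (Y.residueField y)))) := by
      rw [hqm]; infer_instance
    have h2 := (IsClosedImmersion.isAffine_surjective_of_isAffine
      (Spec.map (CommRingCat.ofHom (algebraMap Γ(Y, V) (Y.residueField y))))).2
    intro z
    obtain ⟨t, ht⟩ := h2 ((Scheme.ΓSpecIso (Y.residueField y)).inv z)
    refine ⟨(Scheme.ΓSpecIso Γ(Y, V)).hom t, ?_⟩
    refine (ConcreteCategory.congr_hom (Scheme.ΓSpecIso_naturality
      (CommRingCat.ofHom (algebraMap Γ(Y, V) (Y.residueField y)))) t).symm.trans ?_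
    exact (congrArg (Scheme.ΓSpecIso (Y.residueField y)).hom ht).trans (Iso.inv_hom_id_apply _ z)
  let X₁ := (f ⁻¹ᵁ V).toScheme
  let π := (f ∣_ V) ≫ hV.isoSpec.hom
  have hsq := FlatMorH1.isPullback_preimage (f := f) hV
  letI : X₁.Over (Spec (CommRingCat.of Γ(Y, V))) := ⟨π⟩
  haveI : IsProper π := MorphismProperty.of_isPullback (P := @IsProper) hsq inferInstance
  haveI : IsProper (X₁ ↘ Spec (CommRingCat.of Γ(Y, V))) := inferInstanceAs (IsProper π)
  letI : (f.fiber y).Over (Spec (CommRingCat.of (Y.residueField y))) := ⟨f.fiberToSpecResidueField y⟩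
  have w : f.fiberι y ≫ f = (f.fiberToSpecResidueField y ≫ q) ≫ hV.fromSpec := by
    rw [Category.assoc, hq]; exact pullback.condition
  let g : f.fiber y ⟶ X₁ := hsq.lift (f.fiberι y) (f.fiberToSpecResidueField y ≫ q) w
  have hg : g ≫ (f ⁻¹ᵁ V).ι = f.fiberι y := hsq.lift_fst _ _ w
  have h : IsPullback g (f.fiberToSpecResidueField y) π q :=
    IsPullback.of_right (by rw [hg, hq]; exact IsPullback.of_hasPullback f _) (hsq.lift_snd _ _ w) hsq
  rw [← hqm] at h
  have hd₁ : ∀ z, topologicalKrullDim ↥(π.fiber z) ≤ (1 : ℕ) := FlatMorH1.fiber_dim_le_baseChange hsq hd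
  let L₁ := (Scheme.Modules.pullback (f ⁻¹ᵁ V).ι).obj L
  have hL₁ : PicF.IsInvertible L₁ := PicLoc.isInvertible_pullback _ hL
  let e₁ : (Scheme.Modules.pullback g).obj L₁ ≅ Coh.structureModule (f.fiber y) :=
    (Scheme.Modules.pullbackComp g (f ⁻¹ᵁ V).ι).app L ≪≫ eqToIso (by rw [hg]) ≪≫ e
  have h1' : Subsingleton (Coh.HH (f.fiber y) ((Scheme.Modules.pullback g).obj L₁) 1) :=
    (((Sheaf.functorH (Opens.grothendieckTopology (f.fiber y)) 1).mapIso
      ((SheafOfModules.toSheaf (f.fiber y).ringCatSheaf).mapIso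
        e₁)).addCommGroupIsoToAddEquiv).toEquiv.subsingleton_congr.2 h1
  have hsurj := surjective_pullSec_closed (A := Γ(Y, V)) (B := Y.residueField y) g hd₁ h hs hL₁ h1'
  obtain ⟨t, ht⟩ := hsurj (e₁.inv.app ⊤ (oneSec ⊤))
  have hgl : ∀ z, g z ∈ glocus L₁ t := fun z => by
    show z ∈ g ⁻¹ᵁ glocus L₁ t
    rw [← glocus_pullSec g hL₁, ht]
    have : (⊤ : (f.fiber y).Opens) ≤ glocus _ (e₁.inv.app ⊤ (oneSec ⊤)) :=
      (le_glocus_iff _ _).2 (by rw [resM_self]; exact isGen_app_iso e₁.symm (isGen_oneSec ⊤))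
    exact this trivial
  let Z : Set X := ((f ⁻¹ᵁ V).ι ''ᵁ glocus L₁ t : Set X)ᶜ
  have hZ : IsClosed (f '' Z) := f.isClosedMap _ ((f ⁻¹ᵁ V).ι ''ᵁ glocus L₁ t).isOpen.isClosed_compl
  have hyZ : y ∉ f '' Z := by
    rintro ⟨x, hxZ, hxy⟩
    obtain ⟨z, hz⟩ : x ∈ Set.range (f.fiberι y) := (Scheme.Hom.range_fiberι f y).ge hxy
    exact hxZ ⟨g z, hgl z, by rw [← hz, ← hg]; rfl⟩
  refine ⟨⟨(f '' Z)ᶜ, hZ.isOpen_compl⟩, hyZ, ?_⟩
  set W : Y.Opens := ⟨(f '' Z)ᶜ, hZ.isOpen_compl⟩ with hW
  have hle : f ⁻¹ᵁ W ≤ (f ⁻¹ᵁ V).ι ''ᵁ glocus L₁ t := fun x hx => by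
    by_contra hx'
    exact hx ⟨x, hx', rfl⟩
  have hleV : f ⁻¹ᵁ W ≤ f ⁻¹ᵁ V := fun x hx => by
    obtain ⟨z, -, rfl⟩ := hle hx
    exact z.2
  obtain ⟨m, hm⟩ := CohBC.exists_pullSec_ι L (resM L₁ (le_top (a := (f ⁻¹ᵁ V).ι ⁻¹ᵁ (f ⁻¹ᵁ V))) t)
  refine ⟨resM L hleV m, AmpleLib.isGen_of_pullSec (f ⁻¹ᵁ V).ι hL (hleV.trans (Scheme.Opens.opensRange_ι _).ge) ?_⟩
  rw [← resM_pullSec, hm, resM_resM]
  refine (le_glocus_iff _ _).1 fun z hz => ?_
  obtain ⟨z', hz', hzz⟩ := hle hz
  exact (f ⁻¹ᵁ V).ι.isOpenEmbedding.injective hzz ▸ hz'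

/-- Its direct image is invertible there. -/
theorem isInvertible_pushforward [CompactSpace Y] (hO : ∀ U : Y.Opens, IsIso (f.app U))
    (hd : ∀ y : Y, topologicalKrullDim ↥(f.fiber y) ≤ (1 : ℕ))
    (h1 : ∀ y, FlatMorH1.NoH1 (f.fiber y)) {L : X.Modules} (hL : PicF.IsInvertible L)
    (htriv : ∀ y : Y, Nonempty ((Scheme.Modules.pullback (f.fiberι y)).obj L ≅ Coh.structureModule (f.fiber y))) :
    PicF.IsInvertible ((Scheme.Modules.pushforward f).obj L) := by
  refine isInvertible_of_gens fun y => ?_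
  obtain ⟨y₀, hy₀, hcl⟩ := (isClosed_closure (s := ({y} : Set Y))).exists_closed_singleton
    (Set.Nonempty.closure ⟨y, rfl⟩)
  obtain ⟨e⟩ := htriv y₀
  obtain ⟨W, hW, s, hgen⟩ := exists_isGen_near f hd y₀ hcl (h1 y₀) hL e
  refine ⟨W, (specializes_iff_mem_closure.2 hy₀).mem_open W.isOpen hW, s, fun T hT => ?_⟩
  have := hO T
  exact (hgen (f ⁻¹ᵁ T) ((Opens.map f.base).map (homOfLE hT)).le).comp (ConcreteCategory.bijective_of_isIso (f.app T))

end Near

end Groth.Agent.FlatMor12.FibreTrivial
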