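import Groth.Agent.FlatMor12.PureSubscheme
import Groth.Agent.Props12.FinLocFree
import Groth.Agent.Coherent.CohOps
import Groth.Agent.Coherent.QcohOps
import Groth.Agent.EGA43.QcohFP
import Groth.Prelude.Def_FlatMod2

/-! Finite flat modules are locally free iff closed generalization-stable sets are open. -/

set_option autoImplicit false
set_option backward.isDefEq.respectTransparency false
universe u

open CategoryTheory AlgebraicGeometry TopologicalSpace Opposite

namespace Groth.Agent.FlatMor12.FiniteFlatLocFree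

variable {X : Scheme.{u}}

theorem free_stalk (F : X.Modules) [Coh.IsQCoh F] (hT : CohB1.IsFT F) (hF : FlatMod.IsFlat F) (x : X) :
    Module.Free (X.presheaf.stalk x) (F.presheaf.stalk x) := by
  haveI := Props12.finite_stalk_of_isFT F hT x
  haveI : Module.Flat (X.presheaf.stalk x) (F.presheaf.stalk x) := hF x
  exact Module.free_of_flat_of_isLocalRing

theorem finrank_stalk_eq (F : X.Modules) [Coh.IsQCoh F] (hT : CohB1.IsFT F) (hF : FlatMod.IsFlat F)
    {U : X.Opens} (hU : IsAffineOpen U) {x : X} (hx : x ∈ U) :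
    Module.finrank (X.presheaf.stalk x) (F.presheaf.stalk x) =
      Module.rankAtStalk (R := Γ(X, U)) Γ(F, U) (hU.primeIdealOf ⟨x, hx⟩) := by
  have := Coherent.finite_sections F (hM := Coherent.locallyFinGen_of_isFT F hT) hU
  have := Props12.flat_sections_of_isFlat F hF hU
  have := free_stalk F hT hF x
  have := Props12.finite_stalk_of_isFT F hT x
  let _ := (X.presheaf.germ U x hx).hom.toAlgebra
  let _ := Module.compHom (F.presheaf.stalk x) (X.presheaf.germ U x hx).hom
  have : IsScalarTower Γ(X, U) (X.presheaf.stalk x) (F.presheaf.stalk x) :=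
    IsScalarTower.of_algebraMap_smul fun _ _ => rfl
  let φ : Γ(F, U) →ₗ[Γ(X, U)] F.presheaf.stalk x :=
    { toFun := F.presheaf.germ U x hx
      map_add' := map_add _
      map_smul' := QCohLoc.germ_smul' (M := F) hx }
  have := EGA43.QcohFP.isLocalizedModule_germ F hU hx φ fun _ => rfl
  haveI : IsLocalization (hU.primeIdealOf ⟨x, hx⟩).asIdeal.primeCompl (X.presheaf.stalk x) :=
    hU.isLocalization_stalk ⟨x, hx⟩
  have hb : IsBaseChange (X.presheaf.stalk x) φ :=
    IsLocalizedModule.isBaseChange (hU.primeIdealOf ⟨x, hx⟩).asIdeal.primeCompl _ φ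
  have h1 := Module.rankAtStalk_isBaseChange hb (IsLocalRing.closedPoint (X.presheaf.stalk x))
  rw [Module.rankAtStalk_eq_finrank_of_free] at h1
  refine h1.trans (congrArg _ (PrimeSpectrum.ext ?_))
  exact IsLocalization.AtPrime.comap_maximalIdeal (X.presheaf.stalk x) _

theorem finLocFree_of_open (h : ∀ Z : Set X, IsClosed Z → StableUnderGeneralization Z → IsOpen Z)
    (F : X.Modules) [Coh.IsQCoh F] (hT : CohB1.IsFT F) (hF : FlatMod.IsFlat F) :
    FlatMod.IsFinLocFree F := by
  let r : X → ℕ := fun x => Module.finrank (X.presheaf.stalk x) (F.presheaf.stalk x)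
  refine Props12.isFinLocFree_of_rank_locallyConstant F hT (free_stalk F hT hF) ?_
  show IsLocallyConstant r
  have hc : ∀ n, IsClosed {x | n ≤ r x} := by
    intro n
    rw [← isOpen_compl_iff, isOpen_iff_forall_mem_open]
    intro x hx
    have := free_stalk F hT hF x
    have := Props12.finite_stalk_of_isFT F hT x
    obtain ⟨W, hW, hxW, -, s, hs⟩ := Props12.exists_nhd_generators F hT (Opens.mem_top x)
      (Module.finBasis (X.presheaf.stalk x) (F.presheaf.stalk x)) (Module.Basis.span_eq _).ge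
    refine ⟨W, fun y hy hn => hx (show n ≤ r x from le_trans (show n ≤ r y from hn) ?_), W.2, hxW⟩
    have h1 := finrank_range_le_card (R := X.presheaf.stalk y) fun i => F.presheaf.germ W y hy (s i)
    rw [Fintype.card_fin] at h1
    refine le_trans (le_of_eq ?_) h1
    show Module.finrank _ (F.presheaf.stalk y) = Module.finrank _ (Submodule.span _ _)
    rw [eq_top_iff.2 (Props12.span_germ_eq_top F hW hs hy), finrank_top]
  have hg : ∀ n, StableUnderGeneralization {x | n ≤ r x} := by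
    intro n x y hyx hx
    obtain ⟨_, ⟨U, hU, rfl⟩, hxU, -⟩ :=
      X.isBasis_affineOpens.exists_subset_of_mem_open (Set.mem_univ x) isOpen_univ
    have hyU : y ∈ U := hyx.mem_open U.2 hxU
    have := Coherent.finite_sections F (hM := Coherent.locallyFinGen_of_isFT F hT) hU
    have := Props12.flat_sections_of_isFlat F hF hU
    have hle : hU.primeIdealOf ⟨y, hyU⟩ ≤ hU.primeIdealOf ⟨x, hxU⟩ := by
      rw [PrimeSpectrum.le_iff_specializes, ← hU.fromSpec.isOpenEmbedding.isInducing.specializes_iff,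
        hU.fromSpec_primeIdealOf, hU.fromSpec_primeIdealOf]
      exact hyx
    simp only [Set.mem_setOf_eq, r, finrank_stalk_eq F hT hF hU hxU] at hx
    simp only [Set.mem_setOf_eq, r, finrank_stalk_eq F hT hF hU hyU,
      Module.rankAtStalk_eq_of_le_of_finite_of_flat _ hle]
    exact hx
  refine IsLocallyConstant.iff_isOpen_fiber.2 fun n => ?_
  rw [show r ⁻¹' {n} = {x | n ≤ r x} ∩ {x | n + 1 ≤ r x}ᶜ by
    ext x; simp only [Set.mem_preimage, Set.mem_singleton_iff, Set.mem_inter_iff, Set.mem_setOf_eq,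
      Set.mem_compl_iff]; omega]
  exact (h _ (hc n) (hg n)).inter (hc (n + 1)).isOpen_compl

theorem open_of_finLocFree
    (h : ∀ F : X.Modules, Coh.IsQCoh F → CohB1.IsFT F → FlatMod.IsFlat F → FlatMod.IsFinLocFree F)
    (Z : Set X) (hc : IsClosed Z) (hg : StableUnderGeneralization Z) : IsOpen Z := by
  obtain ⟨I, hI, hIZ⟩ := PureSubscheme.surjOn (X := X) (a := ⟨Z, hc⟩) hg
  replace hIZ : (I.support : Set X) = Z := congrArg (fun W : Closeds X => (W : Set X)) hIZ
  subst hIZ
  let M := (Coh.push I.subschemeι).obj (Coh.structureModule I.subscheme)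
  haveI : Coh.IsQCoh (Coh.structureModule I.subscheme) := Coherent.isQCoh_structureModule
  haveI hq : Coh.IsQCoh M := Coherent.isQCoh_push I.subschemeι _
  let q : ∀ U : X.affineOpens, Γ(X, U) →ₗ[Γ(X, U)] Γ(M, U.1) := fun U =>
    LinearMap.toSpanSingleton Γ(X, U) Γ(M, U.1) ((1 : Γ(I.subscheme, I.subschemeι ⁻¹ᵁ U.1)) :)
  have hq1 : ∀ (U : X.affineOpens) (r : Γ(X, U)),
      (q U r : Γ(I.subscheme, I.subschemeι ⁻¹ᵁ U.1)) = I.subschemeι.app U r := fun U r =>
    (show (q U r : Γ(I.subscheme, I.subschemeι ⁻¹ᵁ U.1)) = I.subschemeι.app U r * 1 from rfl).trans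
      (_root_.mul_one (I.subschemeι.app U r : Γ(I.subscheme, I.subschemeι ⁻¹ᵁ U.1)))
  have hsur : ∀ U, Function.Surjective (q U) := fun U t => by
    obtain ⟨r, hr⟩ := I.subschemeι_app_surjective U t
    exact ⟨r, (hq1 U r).trans hr⟩
  have hker : ∀ U : X.affineOpens, LinearMap.ker (q U) = I.ideal U := fun U => by
    ext r
    rw [LinearMap.mem_ker, ← I.ker_subschemeι_app U, RingHom.mem_ker, ← hq1 U r]
  let e : ∀ U : X.affineOpens, (Γ(X, U) ⧸ I.ideal U) ≃ₗ[Γ(X, U)] Γ(M, U.1) := fun U =>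
    (Submodule.quotEquivOfEq _ _ (hker U).symm).trans ((q U).quotKerEquivOfSurjective (hsur U))
  have hFT : CohB1.IsFT M := by
    refine ((Coherent.isCoh_iff_finite_sections M).2 ⟨hq, fun U hU => ?_⟩).2
    exact .of_surjective (q ⟨U, hU⟩) (hsur ⟨U, hU⟩)
  have hflat : FlatMod.IsFlat M := fun x => by
    obtain ⟨_, ⟨U, hU, rfl⟩, hxU, -⟩ :=
      X.isBasis_affineOpens.exists_subset_of_mem_open (Set.mem_univ x) isOpen_univ
    haveI : Module.Flat Γ(X, U) (Γ(X, U) ⧸ I.ideal ⟨U, hU⟩) := PureSubscheme.pure_of_flat hI ⟨U, hU⟩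
    haveI : Module.Flat Γ(X, U) Γ(M, U) := .of_linearEquiv (e ⟨U, hU⟩).symm
    exact Props12.flat_stalk_of_flat_sections M hU hxU
  have hlf := h M hq hFT hflat
  have hfp := Props12.isFP_of_isFinLocFree M hlf
  rw [isOpen_iff_forall_mem_open]
  intro x hx
  obtain ⟨_, ⟨U, hU, rfl⟩, hxU, -⟩ :=
    X.isBasis_affineOpens.exists_subset_of_mem_open (Set.mem_univ x) isOpen_univ
  haveI : Module.Flat Γ(X, U) (Γ(X, U) ⧸ I.ideal ⟨U, hU⟩) := PureSubscheme.pure_of_flat hI ⟨U, hU⟩
  haveI : Module.FinitePresentation Γ(X, U) Γ(M, U) := EGA43.QcohFP.finitePresentation_sections M hfp hU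
  haveI : Module.FinitePresentation Γ(X, U) (Γ(X, U) ⧸ I.ideal ⟨U, hU⟩) :=
    Module.FinitePresentation.of_equiv (e ⟨U, hU⟩).symm
  haveI hproj : Module.Projective Γ(X, U) (Γ(X, U) ⧸ I.ideal ⟨U, hU⟩) :=
    Module.Flat.projective_of_finitePresentation
  have h32 : Module.Projective Γ(X, U) (Γ(X, U) ⧸ I.ideal ⟨U, hU⟩) → (I.ideal ⟨U, hU⟩).Pure ∧
      IsOpen (PrimeSpectrum.zeroLocus (I.ideal ⟨U, hU⟩ : Set Γ(X, U))) :=
    ((CAlgMisc2.tfae_pure (I.ideal ⟨U, hU⟩)).out 3 2).1
  have ho := (h32 hproj).2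
  refine ⟨hU.fromSpec '' PrimeSpectrum.zeroLocus (I.ideal ⟨U, hU⟩ : Set Γ(X, U)), ?_,
    hU.fromSpec.isOpenEmbedding.isOpenMap _ ho, ?_⟩
  · rw [hU.fromSpec_image_zeroLocus, ← I.coe_support_inter ⟨U, hU⟩]
    exact Set.inter_subset_left
  · rw [hU.fromSpec_image_zeroLocus, ← I.coe_support_inter ⟨U, hU⟩]
    exact ⟨hx, hxU⟩

end Groth.Agent.FlatMor12.FiniteFlatLocFree
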