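import Groth.Agent.FlatMorStrata.BaseChange
import Groth.Prelude.Def_FlatCA

/-! Flatness over ideals is stable under base change (module on a pushout algebra). -/

set_option autoImplicit false
set_option backward.isDefEq.respectTransparency false

universe u

open TensorProduct

namespace Groth.Agent.FlatMor12.FlatAtBC

variable {R S R' S' : Type u} [CommRing R] [CommRing S] [CommRing R'] [CommRing S']
    [Algebra R S] [Algebra R R'] [Algebra S S'] [Algebra R' S'] [Algebra R S'] [IsScalarTower R S S']
    [IsScalarTower R R' S'] [Algebra.IsPushout R S R' S']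
    {M M' : Type u} [AddCommGroup M] [Module S M] [Module R M] [IsScalarTower R S M]
    [AddCommGroup M'] [Module S' M'] [Module R' M'] [IsScalarTower R' S' M'] [Module S M'] [IsScalarTower S S' M']

theorem flatAt_baseChange (f : M →ₗ[S] M') (hf : IsBaseChange S' f) (q : Ideal S') [q.IsPrime]
    (h : FlatCA.FlatAt R (q.comap (algebraMap S S')) M) : FlatCA.FlatAt R' q M' := by
  haveI hpo : Algebra.IsPushout R R' S S' := Algebra.IsPushout.symm ‹Algebra.IsPushout R S R' S'›
  letI : Module R M' := Module.compHom M' (algebraMap R R')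
  haveI : IsScalarTower R R' M' := IsScalarTower.of_algebraMap_smul fun _ _ => rfl
  have hcompat : ∀ (r : R) (x : M'), r • x = algebraMap R S r • x := fun r x => by
    show algebraMap R R' r • x = _
    rw [← IsScalarTower.algebraMap_smul S' (algebraMap R R' r) x,
      ← IsScalarTower.algebraMap_apply R R' S', IsScalarTower.algebraMap_apply R S S',
      IsScalarTower.algebraMap_smul]
  let μ : M →ₗ[R] M' :=
    { toFun := f, map_add' := f.map_add,
      map_smul' := fun r m => by
        rw [← IsScalarTower.algebraMap_smul S r m, f.map_smul, RingHom.id_apply, hcompat] }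
  let e := (Algebra.IsPushout.cancelBaseChange R R' S S' M).symm.trans (hf.equiv.restrictScalars R')
  have hμ : IsBaseChange R' μ := IsBaseChange.of_equiv e fun m => by
    show hf.equiv ((Algebra.IsPushout.cancelBaseChange R R' S S' M).symm (1 ⊗ₜ m)) = f m
    rw [Algebra.IsPushout.cancelBaseChange_symm_tmul, map_one, IsBaseChange.equiv_tmul, one_smul]
  haveI : Module.Flat R (LocalizedModule (q.comap (algebraMap S S')).primeCompl M) := h
  exact FlatMorStrata.flat_localized_baseChange μ hμ
    (fun b m => (f.map_smul b m).trans (IsScalarTower.algebraMap_smul S' b (f m)).symm)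
    (q.comap (algebraMap S S')).primeCompl q.primeCompl fun t ht => ht

theorem flatAt_over_ideals (I : Ideal R) (I' : Ideal R') (hII' : I.map (algebraMap R R') ≤ I')
    (f : M →ₗ[S] M') (hf : IsBaseChange S' f) (J : Ideal S)
    (h : ∀ (q : Ideal S) [q.IsPrime], I.map (algebraMap R S) ⊔ J ≤ q → FlatCA.FlatAt R q M)
    (q : Ideal S') [q.IsPrime] (hq : I'.map (algebraMap R' S') ⊔ J.map (algebraMap S S') ≤ q) :
    FlatCA.FlatAt R' q M' := by
  refine flatAt_baseChange f hf q (h _ (sup_le ?_ (Ideal.map_le_iff_le_comap.1 (le_sup_right.trans hq))))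
  rw [← Ideal.map_le_iff_le_comap, Ideal.map_map, ← IsScalarTower.algebraMap_eq,
    IsScalarTower.algebraMap_eq R R' S', ← Ideal.map_map]
  exact (Ideal.map_mono hII').trans (le_sup_left.trans hq)

end Groth.Agent.FlatMor12.FlatAtBC
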