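import Groth.Agent.FlatMor12.FlatteningUniversal
import Groth.Agent.EGA43.FlatOpen
import Mathlib.RingTheory.LocalRing.ResidueField.Ideal
import Mathlib.RingTheory.Flat.Localization

/-!
# Descent of flatness at a prime along a flat local base change
-/

set_option autoImplicit false
set_option backward.isDefEq.respectTransparency false
set_option linter.style.haveILetI false

universe u

open TensorProduct IsLocalRing Function

namespace Groth.Agent.FlatMor12.FlatAtDescent

open EGA43

attribute [local instance] FlatDescent.bcModule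

variable {R : Type u} [CommRing R] {S : Type u} [CommRing S] [Algebra R S]

/-- A pair of primes over the same prime comes from a prime of the tensor product. -/
theorem exists_prime_over {L : Type u} [CommRing L] [Algebra R L] (P : Ideal L) [P.IsPrime]
    (q : Ideal S) [q.IsPrime] (h : P.comap (algebraMap R L) = q.comap (algebraMap R S)) :
    ∃ Q : Ideal (L ⊗[R] S), Q.IsPrime ∧
      Q.comap (Algebra.TensorProduct.includeLeft : L →ₐ[R] L ⊗[R] S).toRingHom = P ∧
      Q.comap (Algebra.TensorProduct.includeRight : S →ₐ[R] L ⊗[R] S).toRingHom = q := by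
  let p := q.comap (algebraMap R S)
  let _ : Algebra p.ResidueField P.ResidueField := (Ideal.ResidueField.map p P _ h.symm).toAlgebra
  let _ : Algebra p.ResidueField q.ResidueField := (Ideal.ResidueField.map p q _ rfl).toAlgebra
  have : IsScalarTower R p.ResidueField P.ResidueField := IsScalarTower.of_algebraMap_eq fun r => by
    rw [RingHom.algebraMap_toAlgebra, Ideal.ResidueField.map_algebraMap, ← IsScalarTower.algebraMap_apply]
  have : IsScalarTower R p.ResidueField q.ResidueField := IsScalarTower.of_algebraMap_eq fun r => by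
    rw [RingHom.algebraMap_toAlgebra, Ideal.ResidueField.map_algebraMap, ← IsScalarTower.algebraMap_apply]
  let W := P.ResidueField ⊗[p.ResidueField] q.ResidueField
  let a : L →ₐ[R] W := (Algebra.TensorProduct.includeLeft : P.ResidueField →ₐ[R] W).comp
    (IsScalarTower.toAlgHom R L P.ResidueField)
  let b : S →ₐ[R] W :=
    ((Algebra.TensorProduct.includeRight : q.ResidueField →ₐ[p.ResidueField] W).restrictScalars R).comp
      (IsScalarTower.toAlgHom R S q.ResidueField)
  let g : L ⊗[R] S →ₐ[R] W := Algebra.TensorProduct.lift a b fun _ _ => Commute.all _ _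
  have : Module.Free p.ResidueField q.ResidueField := Module.Free.of_divisionRing _ _
  have : Module.Flat p.ResidueField q.ResidueField := Module.Flat.of_free
  have : Nontrivial W := Algebra.TensorProduct.nontrivial_of_algebraMap_injective_of_flat_right p.ResidueField P.ResidueField q.ResidueField
    (algebraMap p.ResidueField P.ResidueField).injective
  obtain ⟨Q, hQ⟩ := Ideal.exists_maximal W
  refine ⟨Q.comap g.toRingHom, inferInstance, ?_, ?_⟩
  · rw [Ideal.comap_comap]
    have e : g.toRingHom.comp (Algebra.TensorProduct.includeLeft : L →ₐ[R] L ⊗[R] S).toRingHom =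
        (Algebra.TensorProduct.includeLeft : P.ResidueField →ₐ[R] W).toRingHom.comp (algebraMap L P.ResidueField) :=
      RingHom.ext fun x => by simp [g, a]; rfl
    rw [e, ← Ideal.comap_comap]
    rw [Ideal.eq_bot_of_prime (I := Q.comap (Algebra.TensorProduct.includeLeft : P.ResidueField →ₐ[R] W).toRingHom)]
    exact P.ker_algebraMap_residueField
  · rw [Ideal.comap_comap]
    have e : g.toRingHom.comp (Algebra.TensorProduct.includeRight : S →ₐ[R] L ⊗[R] S).toRingHom =
        (Algebra.TensorProduct.includeRight : q.ResidueField →ₐ[p.ResidueField] W).toRingHom.comp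
          (algebraMap S q.ResidueField) :=
      RingHom.ext fun x => by simp [g, b]; rfl
    rw [e, ← Ideal.comap_comap]
    rw [Ideal.eq_bot_of_prime (I := Q.comap (Algebra.TensorProduct.includeRight : q.ResidueField →ₐ[p.ResidueField] W).toRingHom)]
    exact q.ker_algebraMap_residueField

variable {M : Type u} [AddCommGroup M] [Module S M] [Module R M] [IsScalarTower R S M]

/-- Flatness at a prime descends along a flat ring map. -/
theorem flatAt_descend {L : Type u} [CommRing L] [Algebra R L] [Module.Flat R L]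
    (QT : Ideal (L ⊗[R] S)) [QT.IsPrime] (q : Ideal S) [q.IsPrime]
    (hq : QT.comap (Algebra.TensorProduct.includeRight : S →ₐ[R] L ⊗[R] S).toRingHom = q)
    (h : FlatDescent.FlatAt R S M L QT) : FlatCA.FlatAt R q M := by
  refine (@Module.Flat.iff_rTensor_preserves_injective_linearMap R (LocalizedModule q.primeCompl M) _ _ _).2
    fun X Y _ _ _ _ i hi => FlatOpen.rTensor_injective_localized i _ fun z hz => ?_
  let i' : L ⊗[R] X →ₗ[L] L ⊗[R] Y := i.baseChange L
  have hi' : Injective i' := Module.Flat.lTensor_preserves_injective_linearMap i hi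
  let jX : X →ₗ[R] L ⊗[R] X := TensorProduct.mk R L X 1
  let jY : Y →ₗ[R] L ⊗[R] Y := TensorProduct.mk R L Y 1
  have hx : (i'.restrictScalars R).lTensor M (jX.lTensor M z) = 0 := by
    have hc : (i'.restrictScalars R).comp jX = jY.comp i := LinearMap.ext fun x => rfl
    rw [← LinearMap.comp_apply, ← LinearMap.lTensor_comp, hc, LinearMap.lTensor_comp, LinearMap.comp_apply]
    rw [show i.lTensor M z = 0 from hz, map_zero]
  obtain ⟨t, ht, htz⟩ := h.exists_act_eq_zero i' hi' (jX.lTensor M z) hx
  let θ : S →ₗ[R] M ⊗[R] X := (LinearMap.toSpanSingleton S (M ⊗[R] X) z).restrictScalars R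
  let sw : L ⊗[R] (M ⊗[R] X) ≃ₗ[R] M ⊗[R] (L ⊗[R] X) := TensorProduct.leftComm R L M X
  have hact : ∀ u : L ⊗[R] S, FlatDescent.act R S M L (L ⊗[R] X) u (jX.lTensor M z) = sw (θ.lTensor L u) := by
    intro u
    induction u using TensorProduct.induction_on with
    | zero => simp
    | add u v hu hv => rw [map_add, LinearMap.add_apply, hu, hv, map_add, map_add]
    | tmul l s =>
      show _ = sw (l ⊗ₜ (s • z))
      clear htz hx hz
      induction z using TensorProduct.induction_on with
      | zero => simp
      | add z₁ z₂ h₁ h₂ => simp only [map_add, smul_add, TensorProduct.tmul_add, h₁, h₂]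
      | tmul m x =>
        simp [jX, sw, FlatDescent.act_tmul, TensorProduct.smul_tmul']
  have hex : Exact ((LinearMap.ker θ).subtype.lTensor L) (θ.lTensor L) :=
    Module.Flat.lTensor_exact L θ.exact_subtype_ker_map
  obtain ⟨w, hw⟩ := (hex t).1 (sw.injective (by rw [← hact, htz, map_zero]))
  by_contra hne
  refine ht (hw ▸ ?_)
  have hle : ∀ s : S, θ s = 0 → s ∈ q := fun s hs => by_contra fun hsq => hne ⟨s, hsq, hs⟩
  clear hw
  induction w using TensorProduct.induction_on with
  | zero => simp
  | add u v hu hv => rw [map_add]; exact QT.add_mem hu hv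
  | tmul l s =>
    rw [LinearMap.lTensor_tmul, Submodule.subtype_apply,
      show l ⊗ₜ[R] (s : S) = (l ⊗ₜ[R] (1 : S)) * ((1 : L) ⊗ₜ[R] (s : S)) by
        rw [Algebra.TensorProduct.tmul_mul_tmul, mul_one, one_mul]]
    exact QT.mul_mem_left _ (hq.ge (hle _ (LinearMap.mem_ker.1 s.2)))

variable {R' S' M' : Type u} [CommRing R'] [CommRing S'] [Algebra R R'] [Algebra S S'] [Algebra R' S']
  [Algebra R S'] [IsScalarTower R S S'] [IsScalarTower R R' S'] [Algebra.IsPushout R S R' S']
  [AddCommGroup M'] [Module S' M'] [Module R' M'] [IsScalarTower R' S' M'] [Module S M'] [IsScalarTower S S' M']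
  (f : M →ₗ[S] M') (hf : IsBaseChange S' f)

include hf in
/-- Flatness over ideals descends. -/
theorem flatAt_over_ideals (I : Ideal R) (I' : Ideal R') (J : Ideal S)
    (hsurj : ∀ (p : Ideal R) [p.IsPrime], I ≤ p → ∃ (p' : Ideal R') (_ : p'.IsPrime), I' ≤ p' ∧ p'.comap (algebraMap R R') = p)
    (hflat : ∀ (p' : Ideal R') [p'.IsPrime], I' ≤ p' → Module.Flat R (Localization.AtPrime p'))
    (h : (∀ (q : Ideal S') [q.IsPrime], I'.map (algebraMap R' S') ⊔ J.map (algebraMap S S') ≤ q → FlatCA.FlatAt R' q M'))
    (q : Ideal S) [q.IsPrime] (hq : I.map (algebraMap R S) ⊔ J ≤ q) : FlatCA.FlatAt R q M := by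
  obtain ⟨p', _, hIp', hp'⟩ := hsurj (q.comap (algebraMap R S)) (Ideal.map_le_iff_le_comap.1 (le_sup_left.trans hq))
  let L := Localization.AtPrime p'
  have : Module.Flat R L := hflat p' hIp'
  have hP : (maximalIdeal L).comap (algebraMap R L) = q.comap (algebraMap R S) := by
    rw [IsScalarTower.algebraMap_eq R R' L, ← Ideal.comap_comap, ← Ideal.under_def R', IsLocalization.AtPrime.under_maximalIdeal L p', hp']
  obtain ⟨QT, hQT, hQTl, hQTr⟩ := exists_prime_over (maximalIdeal L) q hP
  obtain ⟨ψ, hψ, htr⟩ := FlatteningUniversal.exists_transport (R := R) (R' := R') f hf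
  let φ : R' →ₐ[R] L := IsScalarTower.toAlgHom R R' L
  let Q := QT.comap (Algebra.TensorProduct.map φ (AlgHom.id R S))
  have hQ : Q.IsPrime := inferInstance
  let q' : Ideal S' := Q.comap ψ.symm.toRingEquiv.toRingHom
  have hq'Q : q'.comap ψ.toRingEquiv.toRingHom = Q := by
    ext z
    show ψ.symm (ψ z) ∈ Q ↔ _
    rw [ψ.symm_apply_apply]
  refine flatAt_descend QT q hQTr (FlatDescent.FlatAt.of_hom φ ?_)
  have := (htr q').1 (h q' ?_)
  · convert this using 1
    exact hq'Q.symm
  refine sup_le (Ideal.map_le_iff_le_comap.2 fun a ha => ?_) (Ideal.map_le_iff_le_comap.2 fun s hs => ?_)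
  · show ψ.symm (algebraMap R' S' a) ∈ Q
    rw [ψ.symm.commutes]
    show Algebra.TensorProduct.map φ (AlgHom.id R S) (a ⊗ₜ[R] (1 : S)) ∈ QT
    rw [Algebra.TensorProduct.map_tmul, map_one]
    refine hQTl.ge ?_
    exact (IsLocalization.AtPrime.under_maximalIdeal L p').ge (hIp' ha)
  · show ψ.symm (algebraMap S S' s) ∈ Q
    rw [show algebraMap S S' s = ψ ((1 : R') ⊗ₜ[R] s) by rw [hψ, one_smul], ψ.symm_apply_apply]
    show Algebra.TensorProduct.map φ (AlgHom.id R S) ((1 : R') ⊗ₜ[R] s) ∈ QT
    rw [Algebra.TensorProduct.map_tmul, map_one]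
    exact hQTr.ge (hq (Ideal.mem_sup_right hs))

end Groth.Agent.FlatMor12.FlatAtDescent
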