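import Groth.Agent.EGA43.DimFormula.Sub
import Groth.Agent.EGA43.DimFormula.UnivDim
import Groth.Agent.EGA43.Chevalley.Tfae
import Groth.Agent.ProjLib.BlowUpBasics
import Groth.Agent.DimLib.Components
import Mathlib.AlgebraicGeometry.Morphisms.UniversallyOpen

/-! Flat morphisms all of whose generic fibre dimensions agree are universally equidimensional. -/

set_option autoImplicit false
set_option backward.isDefEq.respectTransparency false
set_option backward.isDefEq.respectTransparency.types false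
set_option linter.style.haveILetI false

universe u

open CategoryTheory CategoryTheory.Limits AlgebraicGeometry TopologicalSpace

namespace Groth.Agent.FlatMor12

open Groth.Agent FlatMorWeight EGA43.DimFormula

/-- A flat lft morphism to a locally Noetherian scheme whose maximal points all have transcendence
degree `r` over the base is universally equidimensional of dimension `r`. -/
theorem flat_univ_equidim {W S' S'' : Scheme.{u}} [IsLocallyNoetherian S'] (f : W ⟶ S') [Flat f]
    [LocallyOfFiniteType f] (r : ℕ) (hr : ∀ ξ : W, IsMaximalPt ξ → trdAt f ξ = r) (g : S'' ⟶ S') :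
    (∀ w : ↥(pullback f g), FlatMor.fibreDimAt (pullback.snd f g) w = r) ∧
      ∀ C ∈ irreducibleComponents ↥(pullback f g),
        closure ((pullback.snd f g).base '' C) ∈ irreducibleComponents ↥S'' := by
  refine ⟨fun w => ?_, fun C hC => ?_⟩
  · obtain ⟨z, -, -, hmax, hd⟩ := EGA43.Chevalley.exists_maximal_fibreDimAt (pullback.snd f g) w
    obtain ⟨he, hmax'⟩ := trdAt_pullback_of_maximal f g z hmax
    obtain ⟨η, hη, V, hV, hgen⟩ := exists_isMaximalPt_specializes (f (pullback.fst f g z))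
    have hopen : EGA43.IsOpenAt f.base (pullback.fst f g z) := by
      haveI : LocallyOfFinitePresentation f := inferInstance
      exact fun U hU => by
        obtain ⟨O, hOU, hO, hzO⟩ := mem_nhds_iff.1 hU
        exact mem_nhds_iff.2 ⟨_, Set.image_mono hOU, f.isOpenMap O hO, Set.mem_image_of_mem _ hzO⟩
    obtain ⟨ξ, hξ, -, -, hd'⟩ := exists_maximal_of_isOpenAt f hmax' hopen
      (isMaximalPt_of_isGenericPoint hV hgen) hη
    rw [hd, ← hr ξ hξ, hd']
    exact congrArg (fun n : ℕ => (n : WithBot ℕ∞)) he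
  · obtain ⟨η, hgen, hmax⟩ := DimLib.exists_genericPoint_of_mem_components hC
    have hfη : IsMaximalPt (pullback.snd f g η) :=
      IsMaximalPt.map_flat (pullback.snd f g) fun z hz => (hmax z hz).symm
    rw [(hgen.image (pullback.snd f g).continuous).def.symm]
    exact DimLib.closure_mem_components fun z hz => (hfη z hz).symm

theorem trdAt_genericPoint_eq {X S Z : Scheme.{u}} (p : X ⟶ S) [LocallyOfFiniteType p] (z : X)
    (r : ℕ) (hr : topologicalKrullDim ↥(closure ({p.asFiber z} : Set ↥(p.fiber (p z)))) = r)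
    (ι : Z ⟶ X) [IsClosedImmersion ι] (z₀ : Z) (hz₀ : ι z₀ = z) : trdAt (ι ≫ p) z₀ = r := by
  haveI : LocallyOfFiniteType (p.fiberToSpecResidueField (p z)) :=
    inferInstanceAs (LocallyOfFiniteType (pullback.snd p (S.fromSpecResidueField (p z))))
  rw [DimLib.topologicalKrullDim_eq_ptDim_of_isGenericPoint (k := S.residueField (p z))
    (p.fiberToSpecResidueField (p z)) isGenericPoint_closure, EGA43.FibDepth.ptDim_fiber,
    p.fiberι_asFiber] at hr
  rw [trdAt_comp, hz₀]
  exact_mod_cast hr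

/-- An effective Cartier divisor avoids all maximal points. -/
theorem notMem_support_of_isMaximalPt {X : Scheme.{u}} (I : X.IdealSheafData) (hI : BlowUp.IsEffCartierIdeal I)
    {η : X} (hη : IsMaximalPt η) : η ∉ I.support := by
  intro hmem
  obtain ⟨W, hηW, d, hd, hdI⟩ := hI η
  obtain ⟨P, hP⟩ : η ∈ Set.range W.2.fromSpec := W.2.range_fromSpec.ge hηW
  have hmin : P.asIdeal ∈ minimalPrimes Γ(X, W.1) := by
    refine ⟨⟨P.isPrime, bot_le⟩, fun q hq hle => ?_⟩
    let Q : Spec Γ(X, W.1) := (⟨q, hq.1⟩ : PrimeSpectrum Γ(X, W.1))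
    have hQP : Q ⤳ P := (PrimeSpectrum.le_iff_specializes (⟨q, hq.1⟩ : PrimeSpectrum Γ(X, W.1)) P).1 hle
    have e : Q = P := W.2.fromSpec.isEmbedding.injective ((hη _ (hP ▸ hQP.map W.2.fromSpec.continuous)).trans hP.symm)
    rw [← e]
  have hdP : d ∈ P.asIdeal := by
    obtain ⟨P', hP', hPe⟩ : η ∈ W.2.fromSpec '' PrimeSpectrum.zeroLocus (I.ideal W : Set Γ(X, W.1)) := by
      rw [W.2.fromSpec_image_zeroLocus, ← I.coe_support_inter W]
      exact ⟨hmem, hηW⟩
    have := W.2.fromSpec.isEmbedding.injective (hPe.trans hP.symm)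
    subst this
    exact hP' (hdI.ge (Ideal.mem_span_singleton_self d))
  exact Set.disjoint_left.1 (Ideal.disjoint_nonZeroDivisors_of_mem_minimalPrimes hmin) hdP hd

theorem mem_support_of_killedByPowerNear {X : Scheme.{u}} (E 𝒥 : X.IdealSheafData)
    (h𝒥 : ∀ (V : X.affineOpens) (a : Γ(X, V.1)), a ∈ 𝒥.ideal V ↔
      BlowUp.KilledByPowerNear E (Coh.structureModule X) V a) {x : X} (hx : x ∉ E.support) :
    x ∈ 𝒥.support := by
  obtain ⟨_, ⟨V, hV, rfl⟩, hxV, hle⟩ :=
    X.isBasis_affineOpens.exists_subset_of_mem_open (show x ∈ (E.support : Set X)ᶜ from hx)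
      E.support.isClosed.isOpen_compl
  have htop : E.ideal ⟨V, hV⟩ = ⊤ := by
    by_contra hne
    obtain ⟨m, hm, hmle⟩ := Ideal.exists_le_maximal _ hne
    let z : Spec (CommRingCat.of Γ(X, V)) := (⟨m, hm.isPrime⟩ : PrimeSpectrum Γ(X, V))
    have hz : hV.fromSpec z ∈ X.zeroLocus (U := V) (E.ideal ⟨V, hV⟩ : Set Γ(X, V)) ∩ V :=
      (hV.fromSpec_image_zeroLocus _).le ⟨z, hmle, rfl⟩
    rw [← E.coe_support_inter ⟨V, hV⟩] at hz
    exact hle hz.2 hz.1
  rw [Scheme.IdealSheafData.mem_support_iff_of_mem (U := ⟨V, hV⟩) hxV, Scheme.mem_zeroLocus_iff]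
  intro a ha hxa
  obtain ⟨n, hn⟩ := (h𝒥 ⟨V, hV⟩ a).1 ha
  have h1 : (1 : Γ(X, V)) ∈ (E ^ n).ideal ⟨V, hV⟩ := by
    rw [Scheme.IdealSheafData.ideal_pow, Pi.pow_apply, htop, Ideal.top_pow]
    exact Submodule.mem_top
  have : a = 0 := by
    have := hn 1 h1
    rwa [one_smul] at this
  subst this
  rw [Scheme.basicOpen_zero] at hxa
  exact hxa

/-- A blow-up maps maximal points to maximal points. -/
theorem isMaximalPt_map_blowUp {S S' : Scheme.{u}} {b : S' ⟶ S} {I : S.IdealSheafData}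
    (hb : BlowUp.IsBlowUp b I) {s' : S'} (hs' : IsMaximalPt s') : IsMaximalPt (b s') := by
  intro z hz
  let W : S.Opens := ⟨(I.support : Set S)ᶜ, I.support.isClosed.isOpen_compl⟩
  have hW : b s' ∈ W := fun h => notMem_support_of_isMaximalPt _ hb.1 hs'
    (by rw [Scheme.IdealSheafData.support_comap]; exact h)
  have hzW : z ∈ W := hz.mem_open W.isOpen hW
  haveI : IsIso (b ∣_ W) := ProjLib.isIso_morphismRestrict hb W disjoint_compl_right
  have key : ∀ a, (b ∣_ W) a = (⟨b a.1, a.2⟩ : W) := fun a =>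
    Subtype.ext (by simpa using congr($(morphismRestrict_ι b W) a))
  obtain ⟨a, ha⟩ := (b ∣_ W).homeomorph.surjective ⟨z, hzW⟩
  have h1 : (b ∣_ W) a ⤳ (b ∣_ W) ⟨s', hW⟩ := by
    rw [key ⟨s', hW⟩, show (b ∣_ W) a = (⟨z, hzW⟩ : W) from ha]
    exact Topology.IsInducing.subtypeVal.specializes_iff.1 hz
  have h2 : a.1 ⤳ s' := ((b ∣_ W).homeomorph.isInducing.specializes_iff.1 h1).map continuous_subtype_val
  have e : z = b a.1 := by
    have := (key a).symm.trans ha
    exact congrArg Subtype.val this.symm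
  rw [e, hs' _ h2]

/-- Transcendence degree at a maximal point of a closed subscheme of `Z ×_S S'`. -/
theorem trdAt_eq_of_over_maximal {Z S S' W : Scheme.{u}} (q : Z ⟶ S) [LocallyOfFiniteType q] (g : S' ⟶ S)
    (j : W ⟶ pullback q g) [IsClosedImmersion j] (z₀ : Z) (hz₀ : ∀ t : Z, z₀ ⤳ t)
    {ξ : W} (hξ : IsMaximalPt ξ)
    (hs : IsMaximalPt (g ((j ≫ pullback.snd q g) ξ)))
    (hsub : ∀ p, pullback.snd q g p = (j ≫ pullback.snd q g) ξ → p ∈ Set.range j) :
    trdAt (j ≫ pullback.snd q g) ξ = trdAt q z₀ := by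
  have hp : ∀ w, w ⤳ j ξ → pullback.snd q g w = pullback.snd q g (j ξ) → w = j ξ := fun w hw hwe => by
    obtain ⟨a, rfl⟩ := hsub w (hwe.trans (Scheme.Hom.comp_apply j _ ξ).symm)
    rw [hξ a (j.isEmbedding.isInducing.specializes_iff.1 hw)]
  obtain ⟨he, hmax⟩ := trdAt_pullback_of_maximal q g (j ξ) hp
  have hgs : g ((j ≫ pullback.snd q g) ξ) = q (pullback.fst q g (j ξ)) := by
    rw [Scheme.Hom.comp_apply, ← Scheme.Hom.comp_apply, ← pullback.condition, Scheme.Hom.comp_apply]
  have hq : q z₀ = q (pullback.fst q g (j ξ)) :=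
    ((hgs ▸ hs) _ ((hz₀ _).map q.continuous))
  rw [trdAt_comp, he, ← hmax z₀ (hz₀ _) hq]

end Groth.Agent.FlatMor12
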