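import Groth.Agent.EGA43.FibDepth.Fibre
import Groth.Agent.EGA43.FibDepth.Points
import Mathlib.RingTheory.LocalRing.Module
import Mathlib.RingTheory.AlgebraicIndependent.AlgebraicClosure
import Mathlib.RingTheory.AlgebraicIndependent.TranscendenceBasis
import Mathlib.RingTheory.Flat.Localization
import Mathlib.RingTheory.Flat.Stability
import Groth.Agent.FlatMorDim.FlatLift

/-! Generisations along a map flat at a point do not lose transcendence degree (generalising `FlatMorDim.exists_le_trd_le`). -/

set_option autoImplicit false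
set_option backward.isDefEq.respectTransparency false
universe u
open TensorProduct Function
open Groth.Agent Groth.Agent.FlatMorDim Groth.Agent.EGA43.FibDepth

namespace Groth.Agent.FlatMor12

variable {A R : Type u} [CommRing A] [CommRing R] [Algebra A R]

/-- The core: over a domain. -/
theorem exists_le_trd_le_of_isDomain' [IsDomain A] [Algebra.FiniteType A R]
    (q : PrimeSpectrum R) [Module.Flat A (Localization.AtPrime q.asIdeal)] :
    ∃ q' : PrimeSpectrum R, q'.asIdeal ≤ q.asIdeal ∧ q'.asIdeal.comap (algebraMap A R) = ⊥ ∧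
      trd A q ≤ trd A q' := by
  let p := q.asIdeal.comap (algebraMap A R)
  let L := Localization.AtPrime p
  let M := Localization.AtPrime q.asIdeal
  let _ : Algebra L M := (Localization.localRingHom p q.asIdeal (algebraMap A R) rfl).toAlgebra
  have : IsScalarTower A L M := .of_algebraMap_eq fun a => by
    rw [RingHom.algebraMap_toAlgebra, Localization.localRingHom_to_map,
      IsScalarTower.algebraMap_apply A R M]
  have : Module.Flat A M := inferInstanceAs (Module.Flat A (Localization.AtPrime q.asIdeal))
  have : Module.Flat L M := (Module.flat_iff_of_isLocalization L p.primeCompl M).2 inferInstance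
  have : IsLocalHom (algebraMap L M) :=
    Localization.isLocalHom_localRingHom p q.asIdeal (algebraMap A R) rfl
  have halg : (inferInstance : Algebra p.ResidueField q.asIdeal.ResidueField) =
      (Ideal.ResidueField.map p q.asIdeal (algebraMap A R) rfl).toAlgebra :=
    Algebra.algebra_ext _ _ fun x => RingHom.congr_fun (f :=
      algebraMap p.ResidueField q.asIdeal.ResidueField)
      (g := Ideal.ResidueField.map p q.asIdeal (algebraMap A R) rfl)
      (Ideal.ResidueField.ringHom_ext (RingHom.ext fun a => by
        simp [Ideal.ResidueField.map_algebraMap, ← IsScalarTower.algebraMap_apply])) x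
  have : FaithfulSMul p.ResidueField q.asIdeal.ResidueField :=
    (faithfulSMul_iff_algebraMap_injective _ _).2 (RingHom.injective _)
  obtain ⟨T, hT⟩ := exists_isTranscendenceBasis p.ResidueField q.asIdeal.ResidueField
  have hfin : T.Finite := by
    have h := trdeg_residueField_lt (A := A) p q.asIdeal rfl
    rw [← halg, ← hT.cardinalMk_eq_trdeg] at h
    exact Cardinal.lt_aleph0_iff_set_finite.1 h
  have hd : trd A q = (Cardinal.mk T).toNat := by
    rw [hT.cardinalMk_eq_trdeg]
    show Cardinal.toNat (@Algebra.trdeg p.ResidueField q.asIdeal.ResidueField _ _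
      (Ideal.ResidueField.map p q.asIdeal (algebraMap A R) rfl).toAlgebra) = _
    rw [← halg]
  have := hfin.fintype
  choose t ht using fun i : T => IsLocalRing.residue_surjective (R := M) (i : q.asIdeal.ResidueField)
  -- monomials in `t` are linearly independent over `L`
  have hinj : AlgebraicIndependent L t := by
    rw [algebraicIndependent_iff_injective_aeval]
    let v : (T →₀ ℕ) → M := fun e => MvPolynomial.aeval t (MvPolynomial.monomial e (1 : L))
    have hv : LinearIndependent L v := by
      refine Module.IsLocalRing.linearIndependent_of_flat v ?_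
      let Φ : p.ResidueField ⊗[L] M →ₗ[p.ResidueField] q.asIdeal.ResidueField :=
        (Algebra.TensorProduct.lift (Algebra.ofId p.ResidueField q.asIdeal.ResidueField)
          (IsScalarTower.toAlgHom L M q.asIdeal.ResidueField) fun _ _ => .all _ _).toLinearMap
      refine LinearIndependent.of_comp Φ ?_
      have h1 := hT.1
      rw [algebraicIndependent_iff_injective_aeval] at h1
      have h2 := (MvPolynomial.basisMonomials T p.ResidueField).linearIndependent.map'
        (MvPolynomial.aeval ((↑) : T → q.asIdeal.ResidueField)).toLinearMap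
        (LinearMap.ker_eq_bot.2 h1)
      convert h2 using 1
      all_goals try rfl
      ext e
      simp only [Φ, v, comp_apply, MvPolynomial.coe_basisMonomials, AlgHom.toLinearMap_apply,
        mk_apply, Algebra.TensorProduct.lift_tmul, map_one, one_mul]
      show algebraMap p.ResidueField q.asIdeal.ResidueField 1 *
        algebraMap M q.asIdeal.ResidueField _ = _
      rw [map_one, one_mul, MvPolynomial.aeval_monomial, MvPolynomial.aeval_monomial,
        map_one, map_one, one_mul, one_mul, map_finsuppProd]
      refine Finsupp.prod_congr fun i _ => ?_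
      rw [map_pow]
      exact congrArg (· ^ e i) (ht i)
    intro P Q h
    have key : ∀ P, MvPolynomial.aeval t P =
        Finsupp.linearCombination L v ((MvPolynomial.basisMonomials T L).repr P) := by
      intro P
      induction P using MvPolynomial.induction_on' with
      | monomial e c =>
        rw [show MvPolynomial.monomial e c = c • MvPolynomial.basisMonomials T L e by
          simp [MvPolynomial.smul_monomial]]
        rw [map_smul, map_smul, map_smul, Module.Basis.repr_self, Finsupp.linearCombination_single,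
          one_smul]
        simp [v]
      | add P Q hP hQ => simp only [map_add, hP, hQ]
    rw [key, key] at h
    exact (MvPolynomial.basisMonomials T L).repr.injective (hv h)
  have : IsDomain L := IsLocalization.isDomain_localization p.primeCompl_le_nonZeroDivisors
  obtain ⟨Q, hQ, hQ'⟩ := Ideal.exists_comap_eq_of_mem_minimalPrimes
    (f := (MvPolynomial.aeval t : MvPolynomial T L →ₐ[L] M).toRingHom) (I := (⊥ : Ideal M))
    (⊥ : Ideal (MvPolynomial T L)) (by
      rw [show Ideal.comap (MvPolynomial.aeval t : MvPolynomial T L →ₐ[L] M).toRingHom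
          (⊥ : Ideal M) = ⊥ from
        (RingHom.injective_iff_ker_eq_bot (MvPolynomial.aeval t : MvPolynomial T L →ₐ[L] M).toRingHom).1
          hinj, Ideal.minimalPrimes_eq_subsingleton_self]
      rfl)
  have := hQ
  let q' : PrimeSpectrum R := ⟨Q.comap (algebraMap R M), inferInstance⟩
  have hle : q'.asIdeal ≤ q.asIdeal := fun r hr => by
    by_contra h
    exact hQ.ne_top (Ideal.eq_top_of_isUnit_mem _ hr
      (IsLocalization.map_units M (⟨r, h⟩ : q.asIdeal.primeCompl)))
  have hp' : q'.asIdeal.comap (algebraMap A R) = ⊥ := by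
    refine le_bot_iff.1 fun a ha => ?_
    have h' : algebraMap L M (algebraMap A L a) ∈ Q := by
      rw [← IsScalarTower.algebraMap_apply, IsScalarTower.algebraMap_apply A R M]; exact ha
    have h'' : (MvPolynomial.C (algebraMap A L a) : MvPolynomial T L) ∈ (⊥ : Ideal _) := by
      rw [← hQ'.2, Ideal.mem_comap]
      show MvPolynomial.aeval t (MvPolynomial.C _) ∈ Q
      rwa [MvPolynomial.aeval_C]
    rw [Ideal.mem_bot, MvPolynomial.C_eq_zero] at h''
    exact (IsLocalization.injective L p.primeCompl_le_nonZeroDivisors) (h''.trans (map_zero _).symm)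
  refine ⟨q', hle, hp', ?_⟩
  let p' := q'.asIdeal.comap (algebraMap A R)
  let _ : Algebra p'.ResidueField q'.asIdeal.ResidueField :=
    (Ideal.ResidueField.map p' q'.asIdeal (algebraMap A R) rfl).toAlgebra
  have : IsScalarTower A p'.ResidueField q'.asIdeal.ResidueField :=
    .of_algebraMap_eq fun a => by
      rw [RingHom.algebraMap_toAlgebra, Ideal.ResidueField.map_algebraMap,
        IsScalarTower.algebraMap_apply A R q'.asIdeal.ResidueField]
  have : Algebra.IsAlgebraic A p'.ResidueField := ⟨fun z => by
    obtain ⟨a, b, hb, rfl⟩ := IsFractionRing.div_surjective (A ⧸ p') z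
    obtain ⟨a, rfl⟩ := Ideal.Quotient.mk_surjective a
    obtain ⟨b, rfl⟩ := Ideal.Quotient.mk_surjective b
    have hb' : algebraMap (A ⧸ p') p'.ResidueField (Ideal.Quotient.mk p' b) ≠ 0 :=
      (map_ne_zero_iff _ (IsFractionRing.injective (A ⧸ p') p'.ResidueField)).2
        (nonZeroDivisors.ne_zero hb)
    exact isAlgebraic_of_mul_eq (a := a) (b := b) hb' (div_mul_cancel₀ _ hb')⟩
  -- `R_q → κ(q')` has kernel `Q`
  let g : M →+* q'.asIdeal.ResidueField :=
    IsLocalization.lift (M := q.asIdeal.primeCompl) (g := algebraMap R q'.asIdeal.ResidueField)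
      fun y => IsUnit.mk0 _ fun h => y.2 (hle (Ideal.algebraMap_residueField_eq_zero.1 h))
  have hg : ∀ m, g m = 0 → m ∈ Q := by
    intro m hm
    obtain ⟨⟨r, s⟩, rfl⟩ := IsLocalization.mk'_surjective q.asIdeal.primeCompl m
    rw [IsLocalization.lift_mk'_spec, mul_zero] at hm
    exact IsLocalization.mk'_mem_iff.2
      (show r ∈ q'.asIdeal from Ideal.algebraMap_residueField_eq_zero.1 hm)
  have hgA : ∀ a, g (algebraMap A M a) = algebraMap A q'.asIdeal.ResidueField a := fun a => by
    rw [IsScalarTower.algebraMap_apply A R M, IsLocalization.lift_eq,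
      ← IsScalarTower.algebraMap_apply]
  let gA : M →ₐ[A] q'.asIdeal.ResidueField := { g with commutes' := hgA }
  have hind : AlgebraicIndependent A (gA ∘ t) := by
    rw [algebraicIndependent_iff]
    intro P hP
    rw [show MvPolynomial.aeval (gA ∘ t) = gA.comp (MvPolynomial.aeval t) from
      (MvPolynomial.comp_aeval t gA).symm] at hP
    have h1 := hg _ hP
    have h2 : MvPolynomial.map (algebraMap A L) P ∈ (⊥ : Ideal (MvPolynomial T L)) := by
      rw [← hQ'.2, Ideal.mem_comap]
      show MvPolynomial.aeval t _ ∈ Q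
      rwa [MvPolynomial.aeval_map_algebraMap]
    rw [Ideal.mem_bot] at h2
    exact MvPolynomial.map_injective _
      (IsLocalization.injective L p.primeCompl_le_nonZeroDivisors) (h2.trans (map_zero _).symm)
  have h := (AlgebraicIndependent.extendScalars (S := p'.ResidueField) hind).cardinalMk_le_trdeg
  rw [hd]
  exact Cardinal.toNat_le_toNat h (trdeg_residueField_lt (A := A) p' q'.asIdeal rfl)

theorem flat_tensor_localization {A' : Type u} [CommRing A'] [Algebra A A'] (q : Ideal R) [q.IsPrime]
    [Module.Flat A (Localization.AtPrime q)] (Q : Ideal (A' ⊗[A] R)) [Q.IsPrime]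
    (hQ : Q.comap (Algebra.TensorProduct.includeRight (R := A) (A := A') (B := R)).toRingHom = q)
    (hι : Surjective (Algebra.TensorProduct.includeRight (R := A) (A := A') (B := R))) :
    Module.Flat A' (Localization.AtPrime Q) := by
  let M := Localization.AtPrime q
  let M' := Localization.AtPrime Q
  let T := A' ⊗[A] M
  let ι : R →ₐ[A] A' ⊗[A] R := Algebra.TensorProduct.includeRight
  let j : M →ₐ[A] M' := IsLocalization.liftAlgHom (M := q.primeCompl)
    (f := ((Algebra.ofId (A' ⊗[A] R) M').restrictScalars A).comp ι) fun y => IsLocalization.map_units M'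
      (⟨ι y, fun h => y.2 (hQ.le h)⟩ : Q.primeCompl)
  let φ : T →ₐ[A'] M' := Algebra.TensorProduct.lift (Algebra.ofId A' M') j fun _ _ => .all _ _
  let w : A' ⊗[A] R →ₐ[A'] T := Algebra.TensorProduct.map (AlgHom.id A' A') (IsScalarTower.toAlgHom A R M)
  let ψ : M' →ₐ[A'] T := IsLocalization.liftAlgHom (M := Q.primeCompl) (f := w) fun y => by
    obtain ⟨r, hr⟩ := hι y.1
    have hr' : r ∉ q := fun h => y.2 (hr ▸ (hQ.ge h : ι r ∈ Q))
    rw [← hr]
    exact (IsLocalization.map_units M (⟨r, hr'⟩ : q.primeCompl)).map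
      (Algebra.TensorProduct.includeRight (R := A) (A := A') (B := M))
  have hj : ∀ r, j (algebraMap R M r) = algebraMap (A' ⊗[A] R) M' (ι r) := fun r =>
    IsLocalization.lift_eq _ r
  have hψ : ∀ x, ψ (algebraMap (A' ⊗[A] R) M' x) = w x := fun x => IsLocalization.lift_eq _ x
  have h1 : φ.comp ψ = AlgHom.id A' M' := by
    apply IsLocalization.algHom_ext Q.primeCompl
    refine Algebra.TensorProduct.ext (AlgHom.ext fun a => ?_) (AlgHom.ext fun r => ?_)
    · show φ (ψ (algebraMap (A' ⊗[A] R) M' (a ⊗ₜ 1))) = algebraMap (A' ⊗[A] R) M' (a ⊗ₜ 1)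
      have : (a ⊗ₜ[A] (1 : R)) = algebraMap A' (A' ⊗[A] R) a := rfl
      rw [this, ← IsScalarTower.algebraMap_apply, AlgHom.commutes, AlgHom.commutes]
    · show φ (ψ (algebraMap (A' ⊗[A] R) M' (ι r))) = algebraMap (A' ⊗[A] R) M' (ι r)
      rw [hψ]
      show Algebra.TensorProduct.lift _ _ _ ((1 : A') ⊗ₜ[A] algebraMap R M r) = _
      rw [Algebra.TensorProduct.lift_tmul, map_one, one_mul, hj]
  have h2 : ψ.comp φ = AlgHom.id A' T := by
    refine Algebra.TensorProduct.ext (AlgHom.ext fun a => ((ψ.comp φ).commutes a).trans rfl) ?_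
    refine IsLocalization.algHom_ext q.primeCompl (AlgHom.ext fun r => ?_)
    show ψ (φ ((1 : A') ⊗ₜ[A] algebraMap R M r)) = (1 : A') ⊗ₜ[A] algebraMap R M r
    rw [show φ ((1 : A') ⊗ₜ[A] algebraMap R M r) = j (algebraMap R M r) by
      exact (Algebra.TensorProduct.lift_tmul _ _ _ _ _).trans (by rw [map_one, one_mul]), hj, hψ]
    rfl
  exact Module.Flat.of_linearEquiv (AlgEquiv.ofAlgHom ψ φ h2 h1).toLinearEquiv

/-- **Generisations along a flat map do not lose transcendence degree.** -/
theorem exists_le_trd_le' [Algebra.FiniteType A R] (q : PrimeSpectrum R) [Module.Flat A (Localization.AtPrime q.asIdeal)]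
    (p' : Ideal A) [p'.IsPrime] (hle : p' ≤ q.asIdeal.comap (algebraMap A R)) :
    ∃ q' : PrimeSpectrum R, q'.asIdeal ≤ q.asIdeal ∧ q'.asIdeal.comap (algebraMap A R) = p' ∧
      trd A q ≤ trd A q' := by
  let R' := (A ⧸ p') ⊗[A] R
  let ι : R →ₐ[A] R' := Algebra.TensorProduct.includeRight
  have hι : Surjective ι := fun z => by
    induction z using TensorProduct.induction_on with
    | zero => exact ⟨0, map_zero _⟩
    | add a b ha hb =>
      obtain ⟨a, rfl⟩ := ha
      obtain ⟨b, rfl⟩ := hb
      exact ⟨a + b, map_add _ _ _⟩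
    | tmul c r =>
      obtain ⟨a, rfl⟩ := Ideal.Quotient.mk_surjective c
      exact ⟨a • r, by
        show (1 : A ⧸ p') ⊗ₜ[A] (a • r) = _
        rw [tmul_smul, smul_tmul', Algebra.smul_def, mul_one]; rfl⟩
  let Ψ : R' →ₐ[A] R ⧸ q.asIdeal := Algebra.TensorProduct.lift
    (Ideal.Quotient.liftₐ p' (Algebra.ofId A _) fun a ha => Ideal.Quotient.eq_zero_iff_mem.2 (hle ha))
    (Ideal.Quotient.mkₐ A _) fun _ _ => .all _ _
  let q₁ : PrimeSpectrum R' := ⟨RingHom.ker Ψ, RingHom.ker_isPrime _⟩
  have hq₁ : PrimeSpectrum.comap ι.toRingHom q₁ = q := by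
    refine PrimeSpectrum.ext (Ideal.ext fun r => ?_)
    show Ψ ((1 : A ⧸ p') ⊗ₜ[A] r) = 0 ↔ _
    rw [Algebra.TensorProduct.lift_tmul, map_one, one_mul]
    exact Ideal.Quotient.eq_zero_iff_mem
  have hsos : ι.toRingHom.SurjectiveOnStalks := RingHom.surjectiveOnStalks_of_surjective hι
  haveI : q₁.asIdeal.IsPrime := q₁.isPrime
  have := flat_tensor_localization (A' := A ⧸ p') q.asIdeal q₁.asIdeal
    (congrArg PrimeSpectrum.asIdeal hq₁) hι
  obtain ⟨q₁', hle', hbot, htr⟩ := exists_le_trd_le_of_isDomain' (A := A ⧸ p') q₁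
  refine ⟨PrimeSpectrum.comap ι.toRingHom q₁', ?_, ?_, ?_⟩
  · rw [← hq₁]; exact Ideal.comap_mono hle'
  · show (q₁'.asIdeal.comap ι.toRingHom).comap (algebraMap A R) = p'
    rw [Ideal.comap_comap]
    show q₁'.asIdeal.comap ((ι : R →+* R').comp (algebraMap A R)) = p'
    rw [ι.comp_algebraMap,
      IsScalarTower.algebraMap_eq A (A ⧸ p') R', ← Ideal.comap_comap, hbot,
      ← RingHom.ker_eq_comap_bot]
    exact Ideal.mk_ker
  · rw [← hq₁, trd_comap_of_surjectiveOnStalks ι hsos, trd_comap_of_surjectiveOnStalks ι hsos,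
      trd_of_surjective (A' := A ⧸ p') Ideal.Quotient.mk_surjective,
      trd_of_surjective (A' := A ⧸ p') Ideal.Quotient.mk_surjective]
    exact htr

end Groth.Agent.FlatMor12
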