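import Groth.Agent.FlatMor12.FlatteningUniversal
import Groth.Agent.FlatMor12.FlatAtColimit

/-!
# Universality of the flattening ideal for finite type algebras
-/

set_option autoImplicit false
set_option backward.isDefEq.respectTransparency false
set_option linter.unusedSectionVars false

universe u

open TensorProduct IsLocalRing Function

namespace Groth.Agent.FlatMor12.FlatteningFiniteType

open EGA43 FlatteningIdeal

attribute [local instance] FlatDescent.bcModule

variable {R : Type u} [CommRing R] [IsLocalRing R] [IsNoetherianRing R] {S : Type u} [CommRing S]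
  [Algebra R S] [Algebra.FiniteType R S]
  {M : Type u} [AddCommGroup M] [Module S M] [Module R M] [IsScalarTower R S M] [Module.Finite S M]

theorem le_ker_of_flatAt {R' : Type u} [CommRing R'] [IsLocalRing R'] [Algebra R R']
    [IsLocalHom (algebraMap R R')] {I : Ideal R} (hmin : ∀ J, Good R S M J → I ≤ J)
    (h : ∀ (Q : Ideal (R' ⊗[R] S)) [Q.IsPrime],
      Q.comap (Algebra.TensorProduct.includeLeft : R' →ₐ[R] R' ⊗[R] S).toRingHom = maximalIdeal R' →
      FlatDescent.FlatAt R S M R' Q) :
    I ≤ RingHom.ker (algebraMap R R') := by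
  classical
  let ι := {B : Subalgebra R R' // B.FG}
  let G : ι → Type u := fun B => B.1
  let g : ∀ i j : ι, i ≤ j → G i →ₐ[R] G j := fun i j hij => Subalgebra.inclusion hij
  let _ : ∀ i : ι, Algebra (G i) R' := fun i => Subalgebra.toAlgebra i.1
  have : ∀ i : ι, IsScalarTower R (G i) R' := fun i => Subalgebra.isScalarTower_mid i.1
  have hdir : IsDirected ι (· ≤ ·) :=
    ⟨fun i j => ⟨⟨i.1 ⊔ j.1, i.2.sup j.2⟩, show i.1 ≤ i.1 ⊔ j.1 from le_sup_left, show j.1 ≤ i.1 ⊔ j.1 from le_sup_right⟩⟩
  have hc : FlatCA.IsDirectedColimitRing G (fun i j h => (g i j h).toRingHom) R' := by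
    refine ⟨hdir, ⟨⟨⊥, Subalgebra.fg_bot⟩⟩, fun i => rfl, fun _ _ _ _ _ => rfl, fun _ _ _ => rfl,
      fun a => ?_, fun i x hx => ⟨i, le_rfl, ?_⟩⟩
    · exact ⟨⟨Algebra.adjoin R {a}, Subalgebra.fg_def.2 ⟨{a}, Set.finite_singleton a, rfl⟩⟩,
        ⟨a, Algebra.self_mem_adjoin_singleton R a⟩, rfl⟩
    · exact Subtype.ext hx
  let Il : ∀ i, Ideal (G i) := fun i => (maximalIdeal R').comap (algebraMap (G i) R')
  have hIl : ∀ i j (hij : i ≤ j), (Il i).map (g i j hij).toRingHom ≤ Il j := fun i j hij =>
    Ideal.map_le_iff_le_comap.2 fun a ha => ha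
  have : Algebra.FinitePresentation R S := Algebra.FinitePresentation.of_finiteType.1 inferInstance
  have : IsNoetherianRing S := Algebra.FiniteType.isNoetherianRing R S
  have : Module.FinitePresentation S M := Module.finitePresentation_of_finite S M
  have hS : FlatCA.EssFinitePresentation R S :=
    ⟨S, inferInstance, inferInstance, Algebra.id S, inferInstance, ⊥, inferInstance,
      IsLocalization.of_le_isUnit (S := ⊥) fun x hx => by
        rw [Submonoid.mem_bot] at hx
        rw [hx]; exact isUnit_one⟩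
  obtain ⟨i, hi⟩ := FlatAtColimit.exists_badIdeal_eq_top M g hc Il hIl ⊥ hS fun Q _ hQI _ => h Q (by
    refine le_antisymm (le_maximalIdeal (inferInstance : (Q.comap (Algebra.TensorProduct.includeLeft : R' →ₐ[R] R' ⊗[R] S).toRingHom).IsPrime).ne_top)
      fun a ha => ?_
    obtain ⟨j, x, rfl⟩ := hc.2.2.2.2.2.1 a
    exact hQI j (Ideal.mem_map_of_mem _ ha))
  let P := Il i
  have hP : P.IsPrime := inferInstance
  let L := Localization.AtPrime P
  have : Algebra.FiniteType R (G i) := i.1.fg_iff_finiteType.1 i.2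
  have : IsNoetherianRing (G i) := Algebra.FiniteType.isNoetherianRing R (G i)
  have : IsNoetherianRing L := IsLocalization.isNoetherianRing P.primeCompl L inferInstance
  have : IsLocalHom (algebraMap R L) := ⟨fun r hr => by
    by_contra hne
    have h1 : algebraMap R (G i) r ∈ P := by
      show algebraMap (G i) R' (algebraMap R (G i) r) ∈ maximalIdeal R'
      rw [← IsScalarTower.algebraMap_apply]
      exact map_nonunit _ r hne
    rw [IsScalarTower.algebraMap_apply R (G i) L] at hr
    exact (IsLocalization.AtPrime.isUnit_to_map_iff L P _).1 hr h1⟩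
  have hflat : ∀ (Q : Ideal (L ⊗[R] S)) [Q.IsPrime],
      Q.comap (Algebra.TensorProduct.includeLeft : L →ₐ[R] L ⊗[R] S).toRingHom = maximalIdeal L →
      FlatDescent.FlatAt R S M L Q := fun Q _ hQ => by
    let φ : G i →ₐ[R] L := IsScalarTower.toAlgHom R (G i) L
    have hQ' : (Q.comap (Algebra.TensorProduct.map φ (AlgHom.id R S))).IsPrime := Ideal.IsPrime.comap _
    refine FlatDescent.FlatAt.of_hom (q := Q) φ ?_
    refine FlatAtColimit.flatAt_of_badIdeal_eq_top M Il ⊥ hi _ (fun a ha => ?_) bot_le
    show Algebra.TensorProduct.map φ (AlgHom.id R S) (a ⊗ₜ[R] (1 : S)) ∈ Q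
    rw [Algebra.TensorProduct.map_tmul, map_one]
    refine hQ.ge ?_
    exact (IsLocalization.AtPrime.to_map_mem_maximal_iff L P a).2 ha
  intro r hr
  have hmem : ∀ n : ℕ, algebraMap R L r ∈ maximalIdeal L ^ n := by
    intro n
    have := hmin _ (FlatteningUniversal.good_of_flatAt_tensor hflat n) hr
    rw [RingHom.mem_ker, IsScalarTower.algebraMap_apply R L (L ⧸ maximalIdeal L ^ (n + 1))] at this
    exact Ideal.pow_le_pow_right (Nat.le_succ n) (Ideal.Quotient.eq_zero_iff_mem.1 this)
  have h0 : algebraMap R L r = 0 :=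
    Ideal.mem_bot.1 (Ideal.iInf_pow_eq_bot_of_isLocalRing (maximalIdeal L) (maximalIdeal.isMaximal L).ne_top ▸
      Ideal.mem_iInf.2 hmem)
  rw [IsScalarTower.algebraMap_apply R (G i) L, IsLocalization.map_eq_zero_iff P.primeCompl L] at h0
  obtain ⟨⟨u, hu⟩, hur⟩ := h0
  have hur' := congrArg (algebraMap (G i) R') hur
  rw [map_mul, map_zero, ← IsScalarTower.algebraMap_apply] at hur'
  have hu' : IsUnit (algebraMap (G i) R' u) := by
    by_contra hne
    exact hu hne
  exact hu'.mul_right_eq_zero.1 hur'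

end Groth.Agent.FlatMor12.FlatteningFiniteType
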