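import Groth.Prelude.Def_FlatCA
import Groth.Agent.FlatCrit.Tor
import Groth.Agent.FlatCrit.Inj
import Groth.Agent.S6893
import Groth.Agent.EGA43.CurveApprox
import Mathlib.RingTheory.AdicCompletion.Basic
import Mathlib.LinearAlgebra.TensorProduct.Quotient

/-!
# The flattening ideal over a complete local ring
-/

set_option autoImplicit false
set_option backward.isDefEq.respectTransparency false
set_option linter.style.haveILetI false

universe u

open TensorProduct IsLocalRing Function

namespace Groth.Agent.FlatMor12.FlatteningIdeal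

open FlatCrit

section QuotFlatLemmas

variable {R : Type u} [CommRing R] {M : Type u} [AddCommGroup M] [Module R M]

theorem quotFlat_mono {I J : Ideal R} (hIJ : I ≤ J) (h : QuotFlat R M I) : QuotFlat R M J :=
  fun _ _ _ _ _ _ i hB hi => h i (fun r hr b => hB r (hIJ hr) b) hi

/-- `QuotFlat` over a quotient ring. -/
theorem quotFlat_quotient (I J : Ideal R) (hIJ : I ≤ J) (h : QuotFlat R M J) :
    QuotFlat (R ⧸ I) ((R ⧸ I) ⊗[R] M) (J.map (Ideal.Quotient.mk I)) := by
  intro A B _ _ _ _ i' hB hi
  let _ : Module R A := Module.compHom A (algebraMap R (R ⧸ I))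
  let _ : Module R B := Module.compHom B (algebraMap R (R ⧸ I))
  have : IsScalarTower R (R ⧸ I) A := IsScalarTower.of_algebraMap_smul fun _ _ => rfl
  have : IsScalarTower R (R ⧸ I) B := IsScalarTower.of_algebraMap_smul fun _ _ => rfl
  let i : A →ₗ[R] B := i'.restrictScalars R
  have hi2 : Injective (i.rTensor M) := h i (fun r hr b => by
    rw [← algebraMap_smul (R ⧸ I) r b]
    exact hB _ (Ideal.mem_map_of_mem _ hr) b) hi
  let eA := AlgebraTensorModule.cancelBaseChange R (R ⧸ I) (R ⧸ I) A M
  let eB := AlgebraTensorModule.cancelBaseChange R (R ⧸ I) (R ⧸ I) B M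
  have hcomm : ∀ x, i.rTensor M (eA x) = eB (i'.rTensor _ x) := by
    intro x
    induction x with
    | zero => simp
    | add x y hx hy => simp [hx, hy]
    | tmul a y =>
      induction y with
      | zero => simp
      | add x y hx hy => simp [tmul_add, hx, hy]
      | tmul c m =>
        simp only [eA, eB, AlgebraTensorModule.cancelBaseChange_tmul, LinearMap.rTensor_tmul]
        rw [← map_smul i']
        rfl
  intro x y hxy
  exact eA.injective (hi2 (by rw [hcomm, hcomm, hxy]))

theorem flat_of_quotFlat {I : Ideal R} (h : QuotFlat R M I) : Module.Flat (R ⧸ I) ((R ⧸ I) ⊗[R] M) := by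
  have h0 := quotFlat_quotient I I le_rfl h
  rw [Ideal.map_quotient_self] at h0
  rw [Module.Flat.iff_rTensor_preserves_injective_linearMap]
  intro A B _ _ _ _ i hi
  exact h0 i (fun r hr b => by rw [(Ideal.mem_bot).1 hr, zero_smul]) hi

theorem quotFlat_iff (I : Ideal R) : QuotFlat R M I ↔ Module.Flat (R ⧸ I) ((R ⧸ I) ⊗[R] M) :=
  ⟨flat_of_quotFlat, quotFlat_of_flat I⟩

theorem quotFlat_inf {I J : Ideal R} (hI : QuotFlat R M I) (hJ : QuotFlat R M J) : QuotFlat R M (I ⊓ J) := by
  have := flat_of_quotFlat hI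
  have := flat_of_quotFlat hJ
  exact quotFlat_of_flat _ (S6893.result M I J)

/-- A finite module over a Noetherian local algebra which is flat modulo all `I + 𝔞ⁿ` is flat modulo `I`. -/
theorem quotFlat_of_forall_pow [IsNoetherianRing R] {T : Type u} [CommRing T] [Algebra R T]
    [IsNoetherianRing T] [Module T M] [IsScalarTower R T M] [Module.Finite T M] (I a : Ideal R)
    (hjac : a.map (algebraMap R T) ≤ Ideal.jacobson ⊥) (h : ∀ n : ℕ, QuotFlat R M (I ⊔ a ^ n)) :
    QuotFlat R M I := by
  refine quotFlat_of_flat I ?_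
  let J : Ideal T := I.map (algebraMap R T)
  let R' := R ⧸ I
  let T' := T ⧸ J
  let P : Submodule T M := J • ⊤
  let N := M ⧸ P
  let _ : Algebra R' T' := (Ideal.quotientMap J (algebraMap R T) Ideal.le_comap_map).toAlgebra
  let _ : Module T' N := inferInstanceAs (Module (T ⧸ J) (M ⧸ J • (⊤ : Submodule T M)))
  let _ : Module R' N := Module.compHom N (algebraMap R' T')
  have : IsScalarTower R' T' N := IsScalarTower.of_algebraMap_smul fun _ _ => rfl
  have : IsScalarTower T T' N := IsScalarTower.of_algebraMap_smul fun t x => rfl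
  have hsmul : ∀ (r : R) (x : N), (Ideal.Quotient.mk I r) • x = r • x := fun r x => by
    show Ideal.quotientMap J (algebraMap R T) Ideal.le_comap_map (Ideal.Quotient.mk I r) • x = r • x
    rw [Ideal.quotientMap_mk]
    exact (algebraMap_smul T' (algebraMap R T r) x).trans (algebraMap_smul T r x)
  have : IsScalarTower R R' N := IsScalarTower.of_algebraMap_smul fun r x => hsmul r x
  have hP : P.restrictScalars R = I • (⊤ : Submodule R M) := by
    rw [← Submodule.restrictScalars_top (S := R) (R := T) (M := M), ← Ideal.smul_restrictScalars]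
  let e₀ : ((R ⧸ I) ⊗[R] M) ≃ₗ[R] N :=
    (quotTensorEquivQuotSMul M I).trans ((Submodule.quotEquivOfEq _ _ hP.symm).trans
      (Submodule.Quotient.restrictScalarsEquiv R P))
  have hlin : ∀ (c : R') (x : (R ⧸ I) ⊗[R] M), e₀ (c • x) = c • e₀ x := fun c x => by
    obtain ⟨r, rfl⟩ := Ideal.Quotient.mk_surjective c
    rw [hsmul, ← map_smul e₀ r x]
    congr 1
  let e : ((R ⧸ I) ⊗[R] M) ≃ₗ[R'] N :=
    LinearEquiv.ofBijective ({ toFun := e₀, map_add' := map_add e₀, map_smul' := hlin } : ((R ⧸ I) ⊗[R] M) →ₗ[R'] N)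
      e₀.bijective
  have : Module.Finite T' N := Module.Finite.of_restrictScalars_finite T T' N
  have hflat : Module.Flat R' N := by
    refine FlatCrit.flat_of_quotFlat_pow (S := T') (a.map (Ideal.Quotient.mk I)) ?_ fun n => ?_
    · have hsurj : Surjective (Ideal.Quotient.mk J) := Ideal.Quotient.mk_surjective
      rw [Ideal.map_map, show (algebraMap R' T').comp (Ideal.Quotient.mk I) =
        (Ideal.Quotient.mk J).comp (algebraMap R T) from RingHom.ext fun r => Ideal.quotientMap_mk (f := algebraMap R T) (H := Ideal.le_comap_map)]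
      rw [← Ideal.map_map]
      refine (Ideal.map_mono hjac).trans (Ideal.map_le_iff_le_comap.2 ?_)
      rw [Ideal.comap_jacobson_of_surjective hsurj]
      exact Ideal.jacobson_mono bot_le
    · rw [← Ideal.map_pow]
      have h1 := quotFlat_quotient I (I ⊔ a ^ n) le_sup_left (h n)
      rw [Ideal.map_sup, Ideal.map_quotient_self, bot_sup_eq] at h1
      exact h1.of_linearEquiv e
  exact Module.Flat.of_linearEquiv e

end QuotFlatLemmas

section Goodness

variable (R : Type u) [CommRing R] [IsLocalRing R] (S : Type u) [CommRing S] [Algebra R S]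
  (M : Type u) [AddCommGroup M] [Module S M] [Module R M] [IsScalarTower R S M]

/-- The ideals modulo which `M` is flat at all points over the closed point. -/
def Good (J : Ideal R) : Prop :=
  ∀ (q : Ideal S) [q.IsPrime], q.comap (algebraMap R S) = maximalIdeal R →
    QuotFlat R (LocalizedModule q.primeCompl M) J

theorem good_iff (J : Ideal R) : Good R S M J ↔
    ∀ (q : Ideal S) [q.IsPrime], q.comap (algebraMap R S) = maximalIdeal R →
      Module.Flat (R ⧸ J) ((R ⧸ J) ⊗[R] LocalizedModule q.primeCompl M) :=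
  ⟨fun h q _ hq => flat_of_quotFlat (h q hq), fun h q _ hq => quotFlat_of_flat J (h q hq)⟩

variable {R S M}

theorem good_mono {I J : Ideal R} (hIJ : I ≤ J) (h : Good R S M I) : Good R S M J :=
  fun q _ hq => quotFlat_mono hIJ (h q hq)

theorem good_inf {I J : Ideal R} (hI : Good R S M I) (hJ : Good R S M J) : Good R S M (I ⊓ J) :=
  fun q _ hq => quotFlat_inf (hI q hq) (hJ q hq)

variable [IsNoetherianRing R]

/-- Among good ideals containing `𝔪ⁿ` there is a smallest one. -/
theorem exists_least (n : ℕ) : ∃ J : Ideal R, maximalIdeal R ^ n ≤ J ∧ Good R S M J ∧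
    ∀ K : Ideal R, maximalIdeal R ^ n ≤ K → Good R S M K → J ≤ K := by
  let mk := Ideal.Quotient.mk (maximalIdeal R ^ n)
  have : IsArtinianRing (R ⧸ maximalIdeal R ^ n) := EGA43.CurveApprox.isArtinian_quot_pow n
  let T : Set (Ideal (R ⧸ maximalIdeal R ^ n)) := {K | Good R S M (K.comap mk)}
  have hT : T.Nonempty := ⟨⊤, fun q _ hq => by rw [Ideal.comap_top]; exact quotFlat_top⟩
  obtain ⟨K₀, hK₀, hmin⟩ := WellFounded.has_min (IsWellFounded.wf : WellFounded
    ((· < ·) : Ideal (R ⧸ maximalIdeal R ^ n) → Ideal (R ⧸ maximalIdeal R ^ n) → Prop)) T hT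
  have hker : maximalIdeal R ^ n ≤ K₀.comap mk := by
    refine fun x hx => ?_
    show mk x ∈ K₀
    rw [Ideal.Quotient.eq_zero_iff_mem.2 hx]
    exact K₀.zero_mem
  refine ⟨K₀.comap mk, hker, hK₀, fun K hK hgood => ?_⟩
  have hKc : (K.map mk).comap mk = K := by
    rw [Ideal.comap_map_of_surjective _ Ideal.Quotient.mk_surjective, ← RingHom.ker_eq_comap_bot, Ideal.mk_ker]
    exact sup_eq_left.2 hK
  have hmem : K₀ ⊓ K.map mk ∈ T := by
    show Good R S M _
    rw [Ideal.comap_inf, hKc]
    exact good_inf hK₀ hgood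
  have hle : K₀ ≤ K.map mk := by
    by_contra hcon
    exact hmin _ hmem (inf_lt_left.2 hcon)
  exact (Ideal.comap_mono hle).trans hKc.le

variable [IsAdicComplete (maximalIdeal R) R] [IsNoetherianRing S] [Module.Finite S M]

/-- The smallest good ideal. -/
theorem exists_smallest : ∃ I : Ideal R, I ≤ maximalIdeal R ∧ Good R S M I ∧
    ∀ J : Ideal R, Good R S M J → I ≤ J := by
  choose In hIn hgood hleast using fun n => exists_least (R := R) (S := S) (M := M) n
  set m := maximalIdeal R
  have hanti : ∀ k l, k ≤ l → In l ≤ In k := fun k l hkl =>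
    hleast l _ ((Ideal.pow_le_pow_right hkl).trans (hIn k)) (hgood k)
  have hstep : ∀ k l, k ≤ l → In k ≤ In l ⊔ m ^ k := fun k l hkl =>
    hleast k _ le_sup_right (good_mono le_sup_left (hgood l))
  let I : Ideal R := ⨅ n, In n
  have hsucc : ∀ (k : ℕ) (x : R), ∃ y : R, x ∈ In k → y ∈ In (k + 1) ∧ y - x ∈ m ^ k := fun k x => by
    by_cases hx : x ∈ In k
    · obtain ⟨y, hy, z, hz, rfl⟩ := Submodule.mem_sup.1 (hstep k (k + 1) (Nat.le_succ k) hx)
      exact ⟨y, fun _ => ⟨hy, by simpa using (m ^ k).neg_mem hz⟩⟩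
    · exact ⟨0, fun h => absurd h hx⟩
  choose next hnext using hsucc
  have hI : ∀ n, In n ≤ I ⊔ m ^ n := by
    intro n x hx
    let seq : ℕ → R := fun j => Nat.rec x (fun j y => next (n + j) y) j
    have hseq : ∀ j, seq j ∈ In (n + j) := by
      intro j
      induction j with
      | zero => exact hx
      | succ j ih => exact (hnext (n + j) _ ih).1
    have hdiff : ∀ j l, j ≤ l → seq l - seq j ∈ m ^ (n + j) := by
      intro j l hjl
      induction l, hjl using Nat.le_induction with
      | base => simp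
      | succ l hl ih =>
        have h1 := Ideal.pow_le_pow_right (show n + j ≤ n + l by omega) (hnext (n + l) _ (hseq l)).2
        have : seq (l + 1) - seq j = (seq (l + 1) - seq l) + (seq l - seq j) := by ring
        rw [this]
        exact add_mem h1 ih
    obtain ⟨L, hL⟩ := IsPrecomplete.prec (I := m) (M := R) inferInstance (f := seq) fun {a c} hac => by
      rw [SModEq.sub_mem, smul_eq_mul, Ideal.mul_top]
      have := Ideal.pow_le_pow_right (show a ≤ n + a by omega) (hdiff a c hac)
      simpa using (m ^ a).neg_mem this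
    have hL' : ∀ j, seq j - L ∈ m ^ j := fun j => by
      have := hL j
      rwa [SModEq.sub_mem, smul_eq_mul, Ideal.mul_top] at this
    have hLI : L ∈ I := by
      rw [Submodule.mem_iInf]
      intro k
      have h1 : seq k ∈ In k := hanti k (n + k) (by omega) (hseq k)
      have h2 : seq k - L ∈ In k := hIn k (hL' k)
      simpa using (In k).sub_mem h1 h2
    have h0 : x - L ∈ m ^ n := by
      have h1 : seq n - x ∈ m ^ n := by simpa [seq] using hdiff 0 n (Nat.zero_le n)
      simpa using (m ^ n).sub_mem (hL' n) h1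
    exact Submodule.mem_sup.2 ⟨L, hLI, x - L, h0, by ring⟩
  refine ⟨I, (iInf_le _ 1).trans ?_, fun q _ hq => ?_, fun J hJ => ?_⟩
  · refine hleast 1 m (by rw [pow_one]) fun q _ _ => quotFlat_of_field m
  · let T := Localization.AtPrime q
    have hb := IsLocalizedModule.isBaseChange q.primeCompl T (LocalizedModule.mkLinearMap q.primeCompl M)
    have : Module.Finite T (LocalizedModule q.primeCompl M) := Module.Finite.equiv hb.equiv
    have : IsNoetherianRing T := IsLocalization.isNoetherianRing q.primeCompl T inferInstance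
    refine quotFlat_of_forall_pow (T := T) I m ?_ fun n => ?_
    · rw [IsLocalRing.jacobson_eq_maximalIdeal ⊥ bot_ne_top, IsScalarTower.algebraMap_eq R S T,
        ← Ideal.map_map, ← IsLocalization.AtPrime.map_eq_maximalIdeal q T]
      refine Ideal.map_mono (Ideal.map_le_iff_le_comap.2 hq.ge)
    · exact quotFlat_mono (hI n) (hgood n q hq)
  · by_cases hJt : J = ⊤
    · rw [hJt]; exact le_top
    intro x hx
    have h1 : ∀ n, x ∈ J ⊔ m ^ n := fun n =>
      hleast n _ le_sup_right (good_mono le_sup_left hJ) ((Submodule.mem_iInf _).1 hx n)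
    have hK : ⨅ n, ((maximalIdeal R).map (Ideal.Quotient.mk J)) ^ n = ⊥ := by
      haveI : Nontrivial (R ⧸ J) := Ideal.Quotient.nontrivial_iff.2 hJt
      haveI : IsLocalRing (R ⧸ J) :=
        IsLocalRing.of_surjective' (Ideal.Quotient.mk J) Ideal.Quotient.mk_surjective
      refine Ideal.iInf_pow_eq_bot_of_isLocalRing _ fun h => ?_
      have := Ideal.comap_map_of_surjective (Ideal.Quotient.mk J) Ideal.Quotient.mk_surjective (maximalIdeal R)
      rw [h, Ideal.comap_top, ← RingHom.ker_eq_comap_bot, Ideal.mk_ker,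
        sup_eq_left.2 (le_maximalIdeal hJt)] at this
      exact (maximalIdeal.isMaximal R).ne_top this.symm
    refine Ideal.Quotient.eq_zero_iff_mem.1 (Ideal.mem_bot.1 ?_)
    rw [← hK, Ideal.mem_iInf]
    intro n
    rw [← Ideal.map_pow]
    have := Ideal.mem_map_of_mem (Ideal.Quotient.mk J) (h1 n)
    rwa [Ideal.map_sup, Ideal.map_quotient_self, bot_sup_eq] at this

end Goodness

end Groth.Agent.FlatMor12.FlatteningIdeal
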