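import Groth.Prelude.Def_Mor2
import Groth.Agent.FlatMor12.EtaleSlice
import Groth.Agent.FlatMor12.EtaleDominate

/-! fppf coverings are refined by Zariski / finite locally free towers. -/

set_option autoImplicit false
set_option backward.isDefEq.respectTransparency false

universe w u

namespace Groth.Agent.FlatMor12

open AlgebraicGeometry CategoryTheory CategoryTheory.Limits

theorem exists_fppf_tower {S : Scheme.{u}} (E : PreZeroHypercover.{w} S)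
    (hflat : ∀ i, Flat (E.f i)) (hfp : ∀ i, LocallyOfFinitePresentation (E.f i))
    (hsurj : ∀ s : S, ∃ (i : E.I₀) (x : E.X i), E.f i x = s) (s : S) :
    ∃ (U : S.Opens) (W : Scheme.{u}) (π : W ⟶ U.toScheme), s ∈ U ∧ Mor2.IsFinLocFree π ∧ Surjective π ∧
      ∀ w : W, ∃ (W' : W.Opens) (T : Scheme.{u}) (ρ : T ⟶ W'.toScheme) (i : E.I₀) (r : T ⟶ E.X i),
        w ∈ W' ∧ Mor2.IsFinLocFree ρ ∧ Surjective ρ ∧ r ≫ E.f i = ρ ≫ W'.ι ≫ π ≫ U.ι := by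
  obtain ⟨i, x, hx⟩ := hsurj s
  have := hflat i
  have := hfp i
  obtain ⟨S', V, e, π, he, ⟨u, hu⟩, hπs, hπf, hπfl, hπfp, r, hr⟩ :=
    exists_etale_finite_slice (E.f i) s x hx
  obtain ⟨U₀, T₁, π₁, hsU, -, hπ₁s, hπ₁f, hπ₁fl, hπ₁fp, hcov⟩ :=
    exists_finite_free_over_etale_nbhd e u s hu
  -- the points of `T₁` that are covered
  let G : T₁.Opens := ⨆ (W : T₁.Opens) (_ : ∃ h : (W : Scheme.{u}) ⟶ S', h ≫ e = W.ι ≫ π₁ ≫ U₀.ι), W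
  let O : (U₀ : Scheme.{u}).Opens :=
    ⟨(π₁ '' (G : Set T₁)ᶜ)ᶜ, (π₁.isClosedMap _ G.isOpen.isClosed_compl).isOpen_compl⟩
  have hsO : (⟨s, hsU⟩ : (U₀ : Scheme.{u})) ∈ O := by
    rintro ⟨t, ht, hts⟩
    obtain ⟨W, h, htW, hh, -⟩ := hcov t (congrArg U₀.ι hts)
    exact ht (TopologicalSpace.Opens.mem_iSup.2 ⟨W, TopologicalSpace.Opens.mem_iSup.2 ⟨⟨h, hh⟩, htW⟩⟩)
  let ψ := U₀.ι.isoImage O
  have : Surjective (π₁ ∣_ O) := IsZariskiLocalAtTarget.restrict hπ₁s O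
  refine ⟨U₀.ι ''ᵁ O, (π₁ ⁻¹ᵁ O).toScheme, π₁ ∣_ O ≫ ψ.hom, ⟨⟨s, hsU⟩, hsO, rfl⟩,
    ⟨inferInstance, inferInstance, inferInstance⟩, inferInstance, fun w => ?_⟩
  have hwG : (π₁ ⁻¹ᵁ O).ι w ∈ G := by
    by_contra hc
    exact w.2 ⟨_, hc, rfl⟩
  obtain ⟨W, hW⟩ := TopologicalSpace.Opens.mem_iSup.1 hwG
  obtain ⟨⟨h, hh⟩, hwW⟩ := TopologicalSpace.Opens.mem_iSup.1 hW
  let W' : (π₁ ⁻¹ᵁ O).toScheme.Opens := (π₁ ⁻¹ᵁ O).ι ⁻¹ᵁ W
  let h' : W'.toScheme ⟶ S' := (π₁ ⁻¹ᵁ O).ι ∣_ W ≫ h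
  refine ⟨W', pullback π h', pullback.snd π h', i, pullback.fst π h' ≫ r, hwW,
    ⟨inferInstance, inferInstance, inferInstance⟩, inferInstance, ?_⟩
  rw [Category.assoc, hr, pullback.condition_assoc]
  congr 1
  simp only [h', Category.assoc, hh, morphismRestrict_ι_assoc, ψ, Scheme.Hom.isoImage_hom_ι]
  rfl

end Groth.Agent.FlatMor12
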