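import Groth.Agent.FlatMor12.DivSections
import Groth.Agent.FSchLib.Systems
import Groth.Agent.TwistLib.G.Map
import Mathlib.RingTheory.DiscreteValuationRing.Basic

/-!
# Bases of a finite locally free module from bases of its inverse images
-/

set_option autoImplicit false
set_option backward.isDefEq.respectTransparency.types false

universe u

open CategoryTheory CategoryTheory.Limits AlgebraicGeometry Opposite TopologicalSpace
open Groth.Agent.Coherent Groth.Agent.PicLib

namespace Groth.Agent.FlatMor12.FreeCharts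

variable {X T : Scheme.{u}} {I J : Type u} [Fintype I] [Fintype J]

theorem isBasisOn_res {M : X.Modules} {U V : X.Opens}
    {e : I → Γ(M, U)} (hb : IsBasisOn M U e) (h : V ≤ U) : IsBasisOn M V fun i => resM M h (e i) := by
  intro W hW
  convert hb (hW.trans h) using 1
  funext c
  exact Finset.sum_congr rfl fun i _ => by rw [resM_resM]

theorem isBasisOn_comp_equiv {M : X.Modules} {U : X.Opens} {e : I → Γ(M, U)} (hb : IsBasisOn M U e)
    (σ : J ≃ I) : IsBasisOn M U fun j => e (σ j) := by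
  intro V hV
  convert (hb hV).comp (Equiv.arrowCongr σ (Equiv.refl Γ(X, V))).bijective using 1
  funext c
  exact Fintype.sum_equiv σ _ _ fun j => by simp [Equiv.arrowCongr]

theorem card_eq_of_isBasisOn {M : X.Modules} {U V W : X.Opens} {e : I → Γ(M, U)} {d : J → Γ(M, V)}
    (he : IsBasisOn M U e) (hd : IsBasisOn M V d) (h₁ : W ≤ U) (h₂ : W ≤ V) {p : X} (hp : p ∈ W) :
    Fintype.card I = Fintype.card J := by
  classical
  have : Nonempty W := ⟨⟨p, hp⟩⟩
  let a := LinearEquiv.ofBijective (Fintype.linearCombination Γ(X, W) fun i => resM M h₁ (e i)) (he h₁)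
  let b := LinearEquiv.ofBijective (Fintype.linearCombination Γ(X, W) fun i => resM M h₂ (d i)) (hd h₂)
  exact card_eq_of_linearEquiv Γ(X, W) (a ≪≫ₗ b.symm)

/-- An invertible change of coordinates gives a basis. -/
theorem isBasisOn_of_matrix [DecidableEq I] {M : X.Modules} {U W : X.Opens} (hW : W ≤ U) {e : I → Γ(M, U)}
    (he : IsBasisOn M U e) (θ : I → Γ(M, W)) (P : Matrix I I Γ(X, W))
    (hθ : ∀ j, θ j = ∑ i, P i j • resM M hW (e i)) (hP : IsUnit P.det) : IsBasisOn M W θ := by
  intro V hV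
  let P' := P.map (X.presheaf.map (homOfLE hV).op).hom
  have hP' : IsUnit P' := by
    rw [Matrix.isUnit_iff_isUnit_det]
    have := hP.map (X.presheaf.map (homOfLE hV).op).hom
    rwa [RingHom.map_det] at this
  have h1 : Function.Bijective P'.mulVec := by
    obtain ⟨Q, hQ⟩ := hP'.exists_right_inv
    obtain ⟨Q', hQ'⟩ := hP'.exists_left_inv
    refine ⟨fun v w h => ?_, fun v => ⟨Q.mulVec v, ?_⟩⟩
    · have := congrArg Q'.mulVec h
      simpa [Matrix.mulVec_mulVec, hQ'] using this
    · simp [Matrix.mulVec_mulVec, hQ]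
  convert (he (hV.trans hW)).comp h1 using 1
  funext c
  simp only [Function.comp_apply, Matrix.mulVec, dotProduct, Finset.sum_smul]
  rw [Finset.sum_comm]
  refine Finset.sum_congr rfl fun j _ => ?_
  rw [hθ, map_sum, Finset.smul_sum]
  refine Finset.sum_congr rfl fun i _ => ?_
  rw [resM_smul, resM_resM, smul_smul, mul_comm]
  rfl

/-- A module isomorphic to a free one has a basis. -/
theorem exists_isBasisOn_top {P : T.Modules} {r : ℕ} (ψ₀ : P ≅ FlatMod.freeMod T r) :
    ∃ t : ULift.{u} (Fin r) → Γ(P, ⊤), IsBasisOn P ⊤ t := by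
  classical
  let ψ := ψ₀ ≪≫ (Props12.freeModIso T r).symm
  refine ⟨fun i => unitVal (freeInj i ≫ ψ.inv) ⊤, fun V hV => ?_⟩
  have h2 := (freeSectionsEquiv (X := T) (I := ULift.{u} (Fin r)) V).symm.bijective
  have h3 := ConcreteCategory.bijective_of_isIso (C := AddCommGrpCat) (ψ.inv.app V)
  convert h3.comp h2 using 1
  funext c
  rw [Function.comp_apply, freeMod_app]
  refine Finset.sum_congr rfl fun i _ => ?_
  rw [resM_unitVal]
  congr 1
  exact (congrFun ((freeSectionsEquiv (I := ULift.{u} (Fin r)) V).apply_symm_apply c) i).symm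

theorem pullSec_sum {K : Type*} (σ : T ⟶ X) {M : X.Modules} {U : X.Opens} (s : Finset K) (g : K → Γ(M, U)) :
    pullSec σ (∑ i ∈ s, g i) = ∑ i ∈ s, pullSec σ (g i) :=
  map_sum (((Scheme.Modules.pullbackPushforwardAdjunction σ).unit.app M).app U).hom g s

/-- A basis of the inverse image on a subscheme lifts to a basis near each of its points. -/
theorem exists_chart (σ : T ⟶ X) {E : X.Modules} (hE : FlatMod.IsFinLocFree E)
    {t : I → Γ((Scheme.Modules.pullback σ).obj E, ⊤)} (ht : IsBasisOn _ ⊤ t) {W₀ : X.Opens}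
    (hs : ∀ U : X.Opens, IsAffineOpen U → U ≤ W₀ → Function.Surjective (σ.app U))
    {z' : T} (hz : σ z' ∈ W₀) :
    ∃ (W : X.Opens) (θ : I → Γ(E, W)), σ z' ∈ W ∧ W ≤ W₀ ∧ IsBasisOn E W θ ∧
      ∀ i, pullSec σ (θ i) = resM _ le_top (t i) := by
  classical
  obtain ⟨U₀, ρn, e₀, hzU₀, he₀⟩ := exists_isBasisOn hE (σ z')
  obtain ⟨U, hU, hzU, hUle⟩ := exists_isAffineOpen_mem_and_subset (x := σ z') (U := U₀ ⊓ W₀) ⟨hzU₀, hz⟩
  have heU := isBasisOn_res he₀ (fun y hy => (hUle hy).1 : U ≤ U₀)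
  have hcard : Fintype.card I = Fintype.card (ULift.{u} (Fin ρn)) :=
    card_eq_of_isBasisOn ht (heU.pull σ) (le_top : σ ⁻¹ᵁ U ≤ ⊤) le_rfl (p := z') hzU
  have he := isBasisOn_comp_equiv heU (Fintype.equivOfCardEq hcard)
  generalize (fun j => resM E (fun y hy => (hUle hy).1 : U ≤ U₀) (e₀ (Fintype.equivOfCardEq hcard j))) = e at he
  have hp := he.pull σ
  have hsur := hs U hU (fun y hy => (hUle hy).2)
  -- lift the coordinates
  choose P hP using fun i j => hsur (hp.coef le_rfl (resM _ le_top (t j)) i)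
  let θ : I → Γ(E, U) := fun j => ∑ i, P i j • e i
  have hθ : ∀ j, pullSec σ (θ j) = resM _ le_top (t j) := fun j => by
    rw [pullSec_sum, ← hp.coef_spec le_rfl (resM _ le_top (t j))]
    refine Finset.sum_congr rfl fun i _ => ?_
    rw [pullSec_smul, hP, resM_self]
  have ht' := isBasisOn_res ht (le_top : σ ⁻¹ᵁ U ≤ ⊤)
  let Q : Matrix I I Γ(T, σ ⁻¹ᵁ U) := fun j k => ht'.coef le_rfl (pullSec σ (e k)) j
  have hPQ : (Matrix.of P).map (σ.app U).hom * Q = 1 := by
    ext i k
    have hk := ht'.coef_spec le_rfl (pullSec σ (e k))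
    simp only [resM_self] at hk
    have h1 : hp.coef le_rfl (pullSec σ (e k)) =
        fun i => ∑ j, ht'.coef le_rfl (pullSec σ (e k)) j * σ.app U (P i j) := by
      refine hp.coef_eq _ ?_
      conv_rhs => rw [← hk]
      simp only [← hθ, θ, pullSec_sum, pullSec_smul, Finset.smul_sum, Finset.sum_smul, smul_smul, resM_self]
      rw [Finset.sum_comm]
    have h2 := hp.coef_self le_rfl k
    rw [resM_self] at h2
    have h3 := congrFun (h1.symm.trans h2) i
    rw [Matrix.mul_apply, Matrix.one_apply, ← h3]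
    exact Finset.sum_congr rfl fun j _ => mul_comm _ _
  have hdet : IsUnit (σ.app U (Matrix.of P).det) := by
    have := congrArg Matrix.det hPQ
    rw [Matrix.det_mul, Matrix.det_one] at this
    show IsUnit ((σ.app U).hom _)
    rw [RingHom.map_det]
    exact IsUnit.of_mul_eq_one _ this
  have hzb : σ z' ∈ X.basicOpen (Matrix.of P).det := by
    show z' ∈ σ ⁻¹ᵁ X.basicOpen _
    rw [Scheme.preimage_basicOpen, T.basicOpen_of_isUnit hdet]
    exact hzU
  let W := X.basicOpen (Matrix.of P).det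
  have hW : W ≤ U := X.basicOpen_le _
  refine ⟨W, fun j => resM E hW (θ j), hzb, hW.trans fun y hy => (hUle hy).2,
    isBasisOn_of_matrix hW he _ ((Matrix.of P).map (X.presheaf.map (homOfLE hW).op).hom) (fun j => ?_) ?_,
    fun j => ?_⟩
  · show resM E hW (∑ i, P i j • e i) = _
    rw [map_sum]
    exact Finset.sum_congr rfl fun i _ => resM_smul _ _ _ _
  · have h := RingedSpace.isUnit_res_basicOpen X.toRingedSpace (Matrix.of P).det
    have h' : IsUnit ((X.presheaf.map (homOfLE hW).op).hom (Matrix.of P).det) := h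
    rwa [RingHom.map_det] at h'
  · show pullSec σ (resM E hW (θ j)) = _
    rw [← resM_pullSec, hθ, resM_resM]

/-- A module with a basis near every point, made of global sections, is free. -/
theorem nonempty_iso_freeMod {M : X.Modules} {n : ℕ} (s : ULift.{u} (Fin n) → Γ(M, ⊤))
    (h : ∀ p : X, ∃ V : X.Opens, p ∈ V ∧ IsBasisOn M V fun i => resM M le_top (s i)) :
    Nonempty (M ≅ FlatMod.freeMod X n) := by
  classical
  let φ : Coherent.freeMod X (ULift.{u} (Fin n)) ⟶ M := freeDesc fun i => unitDesc M (s i)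
  have : IsIso φ := by
    refine TwistLib.G.isIso_of_bijective_on_basis φ (fun B => IsBasisOn M B fun i => resM M le_top (s i))
      (fun V y hy => ?_) fun B hB => ?_
    · obtain ⟨V', hyV', hV'⟩ := h y
      refine ⟨V ⊓ V', ?_, ⟨hy, hyV'⟩, inf_le_left⟩
      have h1 := isBasisOn_res hV' (inf_le_right : V ⊓ V' ≤ V')
      simpa only [resM_resM] using h1
    · have h2 := (hB le_rfl).comp (freeSectionsEquiv (X := X) (I := ULift.{u} (Fin n)) B).bijective
      refine (funext fun a => ?_ : ⇑(φ.app B) = _) ▸ h2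
      rw [Function.comp_apply, freeMod_app]
      refine Finset.sum_congr rfl fun i _ => ?_
      rw [freeInj_freeDesc, unitVal_unitDesc, resM_resM]
      rfl
  exact ⟨(asIso φ).symm ≪≫ Props12.freeModIso _ n⟩

variable {R : Type u} [CommRing R] [X.Over (Spec (CommRingCat.of R))]

open DivSections

theorem mem_basicOpen_iff (a : R) (z : X) :
    z ∈ X.basicOpen (baseHom R X a) ↔ a ∉ ((X ↘ Spec (CommRingCat.of R)) z).asIdeal := by
  have h : X.basicOpen (baseHom R X a) = (X ↘ Spec (CommRingCat.of R)) ⁻¹ᵁ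
      ((Spec (CommRingCat.of R)).basicOpen ((Scheme.ΓSpecIso (CommRingCat.of R)).inv a)) :=
    (Scheme.preimage_basicOpen _ _).symm
  rw [h, basicOpen_eq_of_affine]
  rfl

/-- Sections agreeing on the subscheme cut out by `ϖ ^ n` are congruent modulo `ϖ ^ n`. -/
theorem div_sub_of_pullSec_eq (ϖ : R) (n : ℕ) (σ : T ⟶ X)
    {p : T ⟶ Spec (CommRingCat.of (R ⧸ Ideal.span {ϖ ^ n}))}
    (hσ : IsPullback σ p (X ↘ Spec (CommRingCat.of R))
      (Spec.map (CommRingCat.ofHom (Ideal.Quotient.mk (Ideal.span {ϖ ^ n})))))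
    {E : X.Modules} (hE : FlatMod.IsFinLocFree E) {U : X.Opens} {a b : Γ(E, U)}
    (h : pullSec σ a = pullSec σ b) : Div ϖ E n (a - b) := by
  classical
  let ι := Spec.map (CommRingCat.ofHom (Ideal.Quotient.mk (Ideal.span {ϖ ^ n})))
  have : IsClosedImmersion ι := IsClosedImmersion.spec_of_surjective _ Ideal.Quotient.mk_surjective
  have : IsClosedImmersion σ := MorphismProperty.of_isPullback hσ.flip (inferInstanceAs (IsClosedImmersion ι))
  refine Div.of_local fun x hx => ?_
  obtain ⟨U₁, m, e, hx₁, he⟩ := exists_isBasisOn hE x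
  obtain ⟨W, hW, hxW, hWle⟩ := exists_isAffineOpen_mem_and_subset (x := x) (U := U ⊓ U₁) ⟨hx, hx₁⟩
  have hWU : W ≤ U := fun z hz => (hWle hz).1
  have hWU₁ : W ≤ U₁ := fun z hz => (hWle hz).2
  refine ⟨W, hWU, hxW, div_of_coef he hWU₁ fun i => ?_⟩
  generalize hd : resM E hWU (a - b) = d
  have hd0 : pullSec σ d = 0 := by
    subst hd
    rw [map_sub]
    refine (map_sub (((Scheme.Modules.pullbackPushforwardAdjunction σ).unit.app E).app W).hom _ _).trans ?_
    show pullSec σ _ - pullSec σ _ = 0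
    rw [← resM_pullSec, ← resM_pullSec, h]
    exact sub_eq_zero_of_eq rfl
  have hc0 : ∀ i, σ.app W (he.coef hWU₁ d i) = 0 := by
    have h1 := (he.pull σ).coef_eq ((Opens.map σ.base).map (homOfLE hWU₁)).le (x := (0 : Γ((Scheme.Modules.pullback σ).obj E, σ ⁻¹ᵁ W)))
      (c := fun i => σ.app W (he.coef hWU₁ d i)) (by
        rw [← hd0]
        conv_rhs => rw [← he.coef_spec hWU₁ d]
        rw [pullSec_sum]
        exact Finset.sum_congr rfl fun j _ => by rw [pullSec_smul, resM_pullSec])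
    have h2 := (he.pull σ).coef_eq ((Opens.map σ.base).map (homOfLE hWU₁)).le (x := (0 : Γ((Scheme.Modules.pullback σ).obj E, σ ⁻¹ᵁ W)))
      (c := fun _ => 0) (by simp)
    exact fun i => congrFun (h1.symm.trans h2) i
  have h1 : he.coef hWU₁ d i ∈ (σ.ker).ideal ⟨W, hW⟩ := by
    rw [Scheme.Hom.ker_apply]
    exact hc0 i
  rw [FSchLib.ker_of_isPullback hσ, FSchLib.ideal_comap_eq_map _ _ ⟨W, hW⟩ ⟨⊤, isAffineOpen_top _⟩ le_top] at h1
  have h2 : (ι.ker).ideal ⟨⊤, isAffineOpen_top _⟩ =
      (Ideal.span {ϖ ^ n}).map (Scheme.ΓSpecIso (CommRingCat.of R)).inv.hom := by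
    rw [Scheme.Hom.ker_apply]
    ext z
    obtain ⟨r, rfl⟩ := (ConcreteCategory.bijective_of_isIso (Scheme.ΓSpecIso (CommRingCat.of R)).inv).2 z
    rw [RingHom.mem_ker, Ideal.mem_map_iff_of_surjective _
      (ConcreteCategory.bijective_of_isIso (Scheme.ΓSpecIso (CommRingCat.of R)).inv).2]
    have e : ι.appTop ((Scheme.ΓSpecIso (CommRingCat.of R)).inv r) =
        (Scheme.ΓSpecIso (CommRingCat.of (R ⧸ Ideal.span {ϖ ^ n}))).inv (Ideal.Quotient.mk _ r) :=
      (congr($(Scheme.ΓSpecIso_inv_naturality (CommRingCat.ofHom (Ideal.Quotient.mk (Ideal.span {ϖ ^ n})))) r)).symm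
    show ι.appTop _ = 0 ↔ _
    rw [e]
    constructor
    · intro h0
      exact ⟨r, Ideal.Quotient.eq_zero_iff_mem.1 ((ConcreteCategory.bijective_of_isIso
        (Scheme.ΓSpecIso (CommRingCat.of (R ⧸ Ideal.span {ϖ ^ n}))).inv).1 (h0.trans (map_zero _).symm)), rfl⟩
    · rintro ⟨r', hr', h0⟩
      obtain rfl : r' = r := (ConcreteCategory.bijective_of_isIso (Scheme.ΓSpecIso (CommRingCat.of R)).inv).1 h0
      rw [Ideal.Quotient.eq_zero_iff_mem.2 hr', map_zero]
  rw [h2, Ideal.map_map, Ideal.map_span, Set.image_singleton, Ideal.mem_span_singleton'] at h1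
  obtain ⟨w, hw⟩ := h1
  refine fun y hy => ⟨W, le_rfl, hy, (show Γ(Coh.structureModule X, W) from w), ?_⟩
  rw [resM_self]
  show _ = ρ W ϖ ^ n * w
  rw [← hw, mul_comm, ← map_pow]
  rfl

end Groth.Agent.FlatMor12.FreeCharts
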