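import Groth.Agent.FlatMor12.FreeCharts
import Groth.Agent.Coherent.FinitePres
import Groth.Agent.Coherent.ProperFinite
import Mathlib.LinearAlgebra.FreeModule.PID

/-!
# Freeness from the generic fibre and a fixed infinitesimal neighbourhood of the special fibre
-/

set_option autoImplicit false
set_option backward.isDefEq.respectTransparency.types false

universe u

open CategoryTheory CategoryTheory.Limits AlgebraicGeometry Opposite TopologicalSpace
open Groth.Agent.Coherent Groth.Agent.PicLib
open Groth.Agent.FlatMor12.DivSections Groth.Agent.FlatMor12.FreeCharts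

namespace Groth.Agent.FlatMor12.FreeTruncated

variable {R : Type u} [CommRing R] {X : Scheme.{u}} [X.Over (Spec (CommRingCat.of R))]

local notation "φ" => baseHom R X

/-- A torsion bound for the functions on a noetherian scheme. -/
theorem exists_tb [IsLocallyNoetherian X] [CompactSpace X] (ϖ : R) :
    ∃ t, TB ϖ (Coh.structureModule X) t := by
  obtain ⟨s, hs, e⟩ := isCompact_and_isOpen_iff_finite_and_eq_biUnion_affineOpens.1
    ⟨(isCompact_univ : IsCompact ((⊤ : X.Opens) : Set X)), (⊤ : X.Opens).2⟩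
  have := hs.to_subtype
  have := Fintype.ofFinite s
  have hU : ∀ U : X.affineOpens, ∃ t, ∀ (a : Γ(X, U.1)) (k : ℕ), ρ U.1 ϖ ^ k * a = 0 → ρ U.1 ϖ ^ t * a = 0 := by
    intro U
    have : IsNoetherianRing Γ(X, U.1) := IsLocallyNoetherian.component_noetherian U
    let K : ℕ →o Ideal Γ(X, U.1) :=
      ⟨fun n => LinearMap.ker (LinearMap.mul Γ(X, U.1) Γ(X, U.1) (ρ U.1 ϖ ^ n)), fun m n h a ha => by
        have ha' : ρ U.1 ϖ ^ m * a = 0 := ha
        show ρ U.1 ϖ ^ n * a = 0
        rw [← Nat.sub_add_cancel h, pow_add, mul_assoc, ha', mul_zero]⟩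
    obtain ⟨t, ht⟩ := monotone_stabilizes_iff_noetherian.mpr inferInstance K
    refine ⟨t, fun a k ha => ?_⟩
    rcases le_total k t with h | h
    · exact K.monotone h (show a ∈ K k from ha)
    · exact (ht k h).symm.le (show a ∈ K k from ha)
  choose t ht using hU
  refine ⟨Finset.univ.sup fun i : s => t i.1, fun U x k hx => Props12.eq_of_nhds _ _ _ fun p hp => ?_⟩
  obtain ⟨V, hV, hpV⟩ : ∃ V ∈ s, p ∈ V.1 := by
    obtain ⟨V, hV, h⟩ := Set.mem_iUnion₂.1 (e.le (show p ∈ ((⊤ : X.Opens) : Set X) from trivial))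
    exact ⟨V, hV, h⟩
  have hle : t V ≤ Finset.univ.sup fun i : s => t i.1 :=
    Finset.le_sup (f := fun i : s => t i.1) (Finset.mem_univ ⟨V, hV⟩)
  obtain ⟨g, hgle, hpg⟩ := V.2.exists_basicOpen_le (V := U) ⟨p, hp⟩ hpV
  refine ⟨_, hgle, hpg, ?_⟩
  let W := X.basicOpen g
  have := V.2.isLocalization_basicOpen g
  obtain ⟨n, a, ha⟩ := IsLocalization.Away.surj g (X.presheaf.map (homOfLE hgle).op (show Γ(X, U) from x))
  generalize hy : X.presheaf.map (homOfLE hgle).op (show Γ(X, U) from x) = y at ha
  have hky : ρ W ϖ ^ k * y = 0 := by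
    have := congrArg (resM (Coh.structureModule X) hgle) hx
    rw [resM_smul, map_pow, ρ_res, map_zero] at this
    rw [← hy]; exact this
  have hg : IsUnit (algebraMap Γ(X, V.1) Γ(X, W) g) := IsLocalization.Away.algebraMap_isUnit g
  have hρ : algebraMap Γ(X, V.1) Γ(X, W) (ρ V.1 ϖ) = ρ W ϖ := ρ_res (X.basicOpen_le g) ϖ
  have h0 : algebraMap Γ(X, V.1) Γ(X, W) (ρ V.1 ϖ ^ k * a) = 0 := by
    rw [map_mul, map_pow, hρ, ← ha, ← mul_assoc, hky, zero_mul]
  obtain ⟨⟨_, l, rfl⟩, hl⟩ := (IsLocalization.map_eq_zero_iff (Submonoid.powers g) _ _).1 h0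
  have h1 := congrArg (algebraMap Γ(X, V.1) Γ(X, W))
    (ht V (g ^ l * a) k (by rw [← hl]; show _ = g ^ l * _; ring))
  rw [map_mul, map_pow, hρ, map_mul, map_pow, map_zero, ← ha] at h1
  have h2 : ρ W ϖ ^ t V * y = 0 := by
    refine ((hg.pow l).mul (hg.pow n)).mul_left_eq_zero.1 ?_
    rw [← h1]; ring
  have h3 : ρ W ϖ ^ (Finset.univ.sup fun i : s => t i.1) * y = 0 := by
    rw [← Nat.sub_add_cancel hle, pow_add, mul_assoc, h2, mul_zero]
  rw [← hy] at h3
  rw [resM_smul, map_pow, ρ_res, map_zero]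
  exact h3

/-- Functions compatible modulo a high power of `ϖ` are congruent to a global one modulo a lower power. -/
theorem exists_lift [IsNoetherianRing R] [IsProper (X ↘ Spec (CommRingCat.of R))] (ϖ : R) :
    ∃ c : ℕ, ∀ (n : ℕ) (W : X → X.Opens) (_ : ∀ x, x ∈ W x) (f : ∀ x, Γ(Coh.structureModule X, W x)),
      (∀ x x', Div ϖ (Coh.structureModule X) (n + 1 + c)
        (resM (Coh.structureModule X) (inf_le_left : W x ⊓ W x' ≤ W x) (f x) -
          resM (Coh.structureModule X) inf_le_right (f x'))) →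
      ∃ g : Γ(Coh.structureModule X, ⊤), ∀ x,
        Div ϖ (Coh.structureModule X) (n + 1) (resM _ le_top g - f x) := by
  have : IsLocallyNoetherian X := LocallyOfFiniteType.isLocallyNoetherian (X ↘ Spec (CommRingCat.of R))
  let I : Ideal R := Ideal.span {ϖ}
  let M := Coh.structureModule X
  have hcoh : Coh.IsCoh M := isCoh_structureModule X
  have : Coh.IsQCoh M := hcoh.1
  obtain ⟨c, hc⟩ := exists_range_eq (A := R) I hcoh 0
  refine ⟨c, fun n W hW f hf => ?_⟩
  obtain ⟨(s : Γ(Formal.modPow I (n + c + 1) M, ⊤)), hs, -⟩ := TopCat.Sheaf.existsUnique_gluing'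
    (⟨(Formal.modPow I (n + c + 1) M).presheaf, (Formal.modPow I (n + c + 1) M).isSheaf⟩ : TopCat.Sheaf Ab X)
    W ⊤ (fun y => homOfLE le_top) (fun y _ => Opens.mem_iSup.2 ⟨y, hW y⟩)
    (fun y => (Formal.modPowπ I (n + c + 1) M).app (W y) (f y)) (fun y y' => by
      show resM _ inf_le_left _ = resM _ inf_le_right _
      rw [← app_resM, ← app_resM, ← sub_eq_zero, ← map_sub]
      exact modPowπ_app_eq_zero ((hf y y').mono (by omega)))
  let E : ∀ N : X.Modules, Coh.HH X N 0 ≃ₗ[R] GA φ N := fun N => (HHA (A := R) N 0).trans (secA φ N)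
  have hEnat : ∀ {P Q : X.Modules} (g : P ⟶ Q) (x : Coh.HH X P 0),
      E Q (Sheaf.H.map ((SheafOfModules.toSheaf _).map g) 0 x) = mapGA φ g (E P x) := fun g x =>
    (congrArg (secA φ _) (HHA_natural _ g 0 x)).trans (secA_natural φ g _)
  obtain ⟨m₀, hm₀⟩ := (hc n (n + c) (Nat.le_add_right n c) le_rfl).le ⟨(E _).symm s, rfl⟩
  let τ : Formal.modPow I (n + c + 1) M ⟶ Formal.modPow I (n + 1) M :=
    (Formal.completion I M).map (homOfLE (Nat.le_add_right n c)).op
  have hm : (Formal.modPowπ I (n + 1) M).app ⊤ (show Γ(M, ⊤) from E M m₀) = τ.app ⊤ s := by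
    refine ((hEnat _ _).symm.trans ((congrArg (E _) hm₀).trans ((hEnat τ _).trans ?_)))
    show mapGA φ τ (E (Formal.modPow I (n + c + 1) M)
      ((E (Formal.modPow I (n + c + 1) M)).symm (show GA φ _ from s))) = _
    rw [LinearEquiv.apply_symm_apply]
    rfl
  refine ⟨(show Γ(M, ⊤) from E M m₀), fun z => div_of_modPowπ_app_eq_zero ?_⟩
  rw [map_sub, sub_eq_zero, app_resM, hm, ← app_resM, show resM _ (le_top (a := W z)) s = _ from hs z]
  exact congr(($(modPowπ_completion_map I M (Nat.le_add_right n c))).app (W z) (f z))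

theorem localizesOn_of_basis {X : Scheme.{u}} {I : Type u} [Fintype I] {L : X.Modules} {U : X.Opens} (hU : IsAffineOpen U)
    {e : I → Γ(L, U)} (hb : IsBasisOn L U e) : LocalizesOn L U := by
  classical
  have := isQCoh_structureModule (X := X)
  refine ⟨fun f s => ?_, fun f t ht => ?_⟩
  · choose n t ht using fun i => qcoh_exists_pow_smul hU (Coh.structureModule X) f
      (hb.coef (X.basicOpen_le f) s i)
    let t' : I → Γ(X, U) := t
    refine ⟨Finset.univ.sup n, ∑ i, (f ^ (Finset.univ.sup n - n i) * t' i) • e i, ?_⟩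
    rw [map_sum]
    conv_rhs => rw [← hb.coef_spec (X.basicOpen_le f) s, Finset.smul_sum]
    refine Finset.sum_congr rfl fun i _ => ?_
    rw [resM_smul, smul_smul]
    congr 1
    rw [map_mul]
    refine (congrArg (X.presheaf.map (homOfLE (X.basicOpen_le f)).op
      (f ^ (Finset.univ.sup n - n i)) * ·) (ht i)).trans ?_
    refine (mul_assoc (G := Γ(X, X.basicOpen f)) _ _ (hb.coef (X.basicOpen_le f) s i)).symm.trans ?_
    rw [← map_mul, ← pow_add, Nat.sub_add_cancel (Finset.le_sup (f := n) (Finset.mem_univ i))]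
  · choose n hn using fun i => qcoh_exists_pow_smul_eq_zero hU (Coh.structureModule X) f
      (hb.coef le_rfl t i) (by
        have h0 : hb.coef (X.basicOpen_le f) (resM L (X.basicOpen_le f) t) = fun i =>
            X.presheaf.map (homOfLE (X.basicOpen_le f)).op (hb.coef le_rfl t i) := hb.coef_res le_rfl _ t
        have hz : hb.coef (X.basicOpen_le f) (resM L (X.basicOpen_le f) t) = 0 :=
          hb.coef_eq _ (by rw [ht]; simp)
        exact (congrFun h0 i).symm.trans (congrFun hz i))
    refine ⟨Finset.univ.sup n, ?_⟩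
    conv_lhs => rw [← hb.coef_spec le_rfl t, Finset.smul_sum]
    refine Finset.sum_eq_zero fun i _ => ?_
    rw [smul_smul]
    obtain ⟨k, hk⟩ := Nat.exists_eq_add_of_le (Finset.le_sup (f := n) (Finset.mem_univ i))
    have h' : f ^ n i * (hb.coef le_rfl t i) = 0 := hn i
    rw [hk, add_comm (n i) k, pow_add, mul_assoc, h', mul_zero, zero_smul]

theorem isCoh_of_isFinLocFree' {X : Scheme.{u}} [IsLocallyNoetherian X] {E : X.Modules}
    (hE : FlatMod.IsFinLocFree E) : Coh.IsCoh E := by
  have h : ∀ x : X, ∃ (U : X.Opens) (n : ℕ) (e : ULift.{u} (Fin n) → Γ(E, U)),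
      x ∈ U ∧ IsAffineOpen U ∧ IsBasisOn E U e := fun x => by
    obtain ⟨U, n, e, hx, hb⟩ := exists_isBasisOn hE x
    obtain ⟨V, hV, hxV, hVU⟩ := Opens.isBasis_iff_nbhd.mp X.isBasis_affineOpens hx
    exact ⟨V, n, fun i => resM E hVU (e i), hxV, hV, isBasisOn_res hb hVU⟩
  choose U n e hx hU hb using h
  have : Coh.IsQCoh E :=
    isQCoh_of_localizesOn E U hU (fun x => ⟨x, hx x⟩) fun x => localizesOn_of_basis (hU x) (hb x)
  exact (isCoh_iff_isFP E).2 (Props12.isFP_of_isFinLocFree E hE)

variable [IsDomain R] [IsDiscreteValuationRing R]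

theorem finrank_le_of_inj {M N : Type u} [AddCommGroup M] [Module R M] [AddCommGroup N] [Module R N]
    [Module.Finite R N] (L : M →ₗ[R] N) (h : Function.Injective L) :
    Module.finrank R M ≤ Module.finrank R N := LinearMap.finrank_le_finrank_of_injective h

/-- An endomorphism injective modulo the maximal ideal is bijective. -/
theorem bijective_of_injective_mod {M N : Type u} [AddCommGroup M] [Module R M] [Module.Finite R M]
    [Module.Free R M] [AddCommGroup N] [Module R N] [Module.Finite R N] [Module.Free R N]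
    (hr : Module.finrank R M = Module.finrank R N) {ϖ : R} (hϖ : Irreducible ϖ) (L : M →ₗ[R] N)
    (hL : ∀ x, (∃ y, L x = ϖ • y) → ∃ x', x = ϖ • x') : Function.Bijective L := by
  classical
  let e : M ≃ₗ[R] (Fin (Module.finrank R M) → R) := (Module.finBasis R M).equivFun
  let e' : N ≃ₗ[R] (Fin (Module.finrank R M) → R) := (Module.finBasisOfFinrankEq R N hr.symm).equivFun
  let L' := e'.toLinearMap ∘ₗ L ∘ₗ e.symm.toLinearMap
  let P := LinearMap.toMatrix' L'
  let q := IsLocalRing.residue R
  have hq : ∀ a, q a = 0 ↔ ϖ ∣ a := fun a => by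
    rw [IsLocalRing.residue_eq_zero_iff, hϖ.maximalIdeal_eq, Ideal.mem_span_singleton]
  have hP : IsUnit (P.map q) := by
    rw [← Matrix.mulVec_injective_iff_isUnit]
    intro v w hvw
    obtain ⟨v, rfl⟩ : ∃ v' : _ → R, q ∘ v' = v :=
      ⟨fun i => (IsLocalRing.residue_surjective (v i)).choose,
        funext fun i => (IsLocalRing.residue_surjective (v i)).choose_spec⟩
    obtain ⟨w, rfl⟩ : ∃ w' : _ → R, q ∘ w' = w :=
      ⟨fun i => (IsLocalRing.residue_surjective (w i)).choose,
        funext fun i => (IsLocalRing.residue_surjective (w i)).choose_spec⟩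
    have hd : ∀ i, ϖ ∣ L' (v - w) i := fun i => by
      rw [← hq, ← LinearMap.toMatrix'_mulVec, RingHom.map_mulVec,
        show q ∘ (v - w) = q ∘ v - q ∘ w from funext fun i => map_sub q _ _, Matrix.mulVec_sub]
      exact sub_eq_zero_of_eq (congrFun hvw i)
    choose y hy using hd
    obtain ⟨x', hx'⟩ := hL (e.symm (v - w)) ⟨e'.symm y, e'.injective (by
      rw [map_smul, LinearEquiv.apply_symm_apply]
      exact funext hy)⟩
    funext i
    have h1 : v i - w i = ϖ * e x' i := by
      have := congrFun (congrArg e hx') i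
      rwa [LinearEquiv.apply_symm_apply, map_smul] at this
    have h2 : q (v i - w i) = 0 := (hq _).2 ⟨_, h1⟩
    rwa [map_sub, sub_eq_zero] at h2
  have hdet : IsUnit P.det := by
    have h := (Matrix.isUnit_iff_isUnit_det _).1 hP
    rw [← RingHom.mapMatrix_apply, ← RingHom.map_det] at h
    exact isUnit_of_map_unit q _ h
  have hb : Function.Bijective L' := by
    obtain ⟨Q, hQ⟩ := ((Matrix.isUnit_iff_isUnit_det P).2 hdet).exists_right_inv
    obtain ⟨Q', hQ'⟩ := ((Matrix.isUnit_iff_isUnit_det P).2 hdet).exists_left_inv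
    refine ⟨fun v w h => ?_, fun v => ⟨Q.mulVec v, ?_⟩⟩
    · have := congrArg Q'.mulVec
        ((LinearMap.toMatrix'_mulVec L' v).trans (h.trans (LinearMap.toMatrix'_mulVec L' w).symm))
      rwa [Matrix.mulVec_mulVec, Matrix.mulVec_mulVec, hQ', Matrix.one_mulVec, Matrix.one_mulVec] at this
    · rw [← LinearMap.toMatrix'_mulVec, Matrix.mulVec_mulVec, hQ, Matrix.one_mulVec]
  have : (e'.symm ∘ L' ∘ e : M → N) = L := funext fun x => by simp [L']
  rw [← this]
  exact e'.symm.bijective.comp (hb.comp e.bijective)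

variable {ϖ : R} (hϖ : Irreducible ϖ) [IsProper (X ↘ Spec (CommRingCat.of R))]
  {t : ℕ} {M : X.Modules}

theorem finite_divG (hM : Coh.IsCoh M) (m : ℕ) : Module.Finite R (divG ϖ M m) := by
  have h := finCoh_of_isProper (X ↘ Spec (CommRingCat.of R)) M hM 0
  have : Module.Finite R (GA φ M) := Module.Finite.equiv (secA φ M)
  exact inferInstance

include hϖ in
theorem isTorsionFree_divG (hT : TB ϖ M t) : Module.IsTorsionFree R (divG ϖ M t) := by
  refine Module.IsTorsionFree.mk fun a ha x y hxy => ?_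
  obtain ⟨k, v, rfl⟩ := IsDiscreteValuationRing.eq_unit_mul_pow_irreducible ha.ne_zero hϖ
  have h2 : ϖ ^ k • (x - y) = 0 := by
    have h1 : ((v : R) * ϖ ^ k) • (x - y) = 0 := by rw [smul_sub]; exact sub_eq_zero_of_eq hxy
    rwa [mul_smul, (IsUnit.smul_eq_zero v.isUnit)] at h1
  rw [← sub_eq_zero]
  refine Subtype.ext (eq_zero_of_div_of_pow_smul hT (k := k) (x - y).2 ?_)
  rw [← map_pow, ← GA_smul]
  exact congrArg Subtype.val h2

/-- Bases near every point, congruent modulo a high power of `ϖ`, with a common one on the generic fibre,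
come from global sections. -/
theorem exists_global_basis {t c : ℕ} (hϖ : Irreducible ϖ) (hT : TB ϖ (Coh.structureModule X) t)
    (hc : ∀ (n : ℕ) (W : X → X.Opens) (_ : ∀ x, x ∈ W x) (f : ∀ x, Γ(Coh.structureModule X, W x)),
      (∀ x x', Div ϖ (Coh.structureModule X) (n + 1 + c)
        (resM (Coh.structureModule X) (inf_le_left : W x ⊓ W x' ≤ W x) (f x) -
          resM (Coh.structureModule X) inf_le_right (f x'))) →
      ∃ g : Γ(Coh.structureModule X, ⊤), ∀ x,
        Div ϖ (Coh.structureModule X) (n + 1) (resM _ le_top g - f x))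
    {E : X.Modules} (hE : FlatMod.IsFinLocFree E) {I : Type u} [Fintype I]
    (W : X → X.Opens) (hW : ∀ x, x ∈ W x) (θ : ∀ x, I → Γ(E, W x)) (hb : ∀ x, IsBasisOn E (W x) (θ x))
    (hcong : ∀ x x' i, Div ϖ E (2 * t + 1 + c)
      (resM E (inf_le_left : W x ⊓ W x' ≤ W x) (θ x i) - resM E inf_le_right (θ x' i)))
    (b : I → Γ(E, X.basicOpen (baseHom R X ϖ))) (hbb : IsBasisOn E _ b) :
    ∃ s : I → Γ(E, ⊤), ∀ p, ∃ (V : X.Opens) (x : X) (hV : V ≤ W x), p ∈ V ∧
      ∀ i, Div ϖ E 1 (resM E le_top (s i) - resM E hV (θ x i)) := by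
  classical
  have : IsLocallyNoetherian X := LocallyOfFiniteType.isLocallyNoetherian (X ↘ Spec (CommRingCat.of R))
  have : CompactSpace X := QuasiCompact.compactSpace_of_compactSpace (X ↘ Spec (CommRingCat.of R))
  have : X.IsSeparated := ⟨by
    rw [show terminal.from X = (X ↘ Spec (CommRingCat.of R)) ≫ terminal.from _ from terminal.hom_ext _ _]
    infer_instance⟩
  have hcE := isCoh_of_isFinLocFree' hE
  have : Coh.IsQCoh E := hcE.1
  have hcO := isCoh_structureModule X
  have : Coh.IsQCoh (Coh.structureModule X) := hcO.1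
  have hTE := tb_of_isFinLocFree hE hT
  have := finite_divG (ϖ := ϖ) hcE t
  have := finite_divG (ϖ := ϖ) hcO t
  have := isTorsionFree_divG hϖ hTE
  have := isTorsionFree_divG hϖ hT
  let O := Coh.structureModule X
  let A := divG ϖ O t
  let M := divG ϖ E t
  let f := baseHom R X ϖ
  let D := X.basicOpen f
  have hcpt : IsCompact ((⊤ : X.Opens) : Set X) := isCompact_univ
  have hsep : IsQuasiSeparated ((⊤ : X.Opens) : Set X) := isQuasiSeparated_univ
  have hfD : IsUnit (ρ D ϖ) := RingedSpace.isUnit_res_basicOpen X.toRingedSpace f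
  have hres0 : ∀ {N : X.Modules} (_ : TB ϖ N t) [Coh.IsQCoh N] (y : divG ϖ N t),
      resM N (le_top : D ≤ ⊤) (sec y) = 0 → y = 0 := fun {N} hN _ y hy => by
    obtain ⟨k, hk⟩ := qcqs_exists_pow_smul_eq_zero N hcpt f (sec y) hy
    exact Subtype.ext (eq_zero_of_div_of_pow_smul hN (k := k) y.2 (by rw [ρ_top]; exact hk))
  -- the two ranks agree
  have hext : ∀ {N : X.Modules} [Coh.IsQCoh N] (a : Γ(N, D)),
      ∃ (k : ℕ) (g : divG ϖ N t), resM N le_top (sec g) = ρ D ϖ ^ k • a := fun {N} _ a => by
    obtain ⟨k, g, hg⟩ := qcqs_exists_pow_smul N hcpt hsep f a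
    refine ⟨t + k, ⟨(ρ (⊤ : X.Opens) ϖ ^ t : Γ(X, ⊤)) • g, div_smul_pow g⟩, ?_⟩
    show resM N le_top ((ρ (⊤ : X.Opens) ϖ ^ t : Γ(X, ⊤)) • g) = _
    rw [resM_smul, map_pow, ρ_res, hg, pow_add, mul_smul, map_pow]
    rfl
  have hle₁ : Module.finrank R (I → A) ≤ Module.finrank R M := by
    choose k g hg using fun i => hext (N := E) (b i)
    let u : (I → A) →ₗ[R] M :=
      { toFun := fun a => ∑ i, (⟨(show Γ(X, ⊤) from sec (a i)) • (sec (g i)),
          (g i).2.smul _⟩ : M)
        map_add' := fun a a' => by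
          rw [← Finset.sum_add_distrib]
          exact Finset.sum_congr rfl fun i _ => sec_ext (add_smul (show Γ(X, ⊤) from sec (a i)) _ _)
        map_smul' := fun r a => by
          rw [RingHom.id_apply, Finset.smul_sum]
          refine Finset.sum_congr rfl fun i _ => sec_ext ?_
          exact mul_smul (baseHom R X r) (show Γ(X, ⊤) from sec (a i)) _ }
    refine finrank_le_of_inj u ((injective_iff_map_eq_zero u).2 fun a ha => funext fun i => hres0 hT (a i) ?_)
    let c : I → Γ(X, D) := fun i => (show Γ(X, D) from resM O le_top (sec (a i))) * ρ D ϖ ^ k i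
    have h1 : (fun i => c i) = fun _ => (0 : Γ(X, D)) := by
      refine (hbb le_rfl).1 ?_
      simp only [resM_self, zero_smul, Finset.sum_const_zero]
      have h2 : resM E (le_top : D ≤ ⊤) (sec (u a)) = 0 := by rw [ha, sec_zero, map_zero]
      refine Eq.trans ?_ h2
      have h3 : (sec (u a)) = ∑ i, (show Γ(X, ⊤) from sec (a i)) • (sec (g i)) :=
        (sec_sum _ _).trans rfl
      rw [h3, map_sum]
      refine Finset.sum_congr rfl fun i _ => ?_
      rw [resM_smul, hg, smul_smul]
      rfl
    exact (hfD.pow (k i)).mul_left_eq_zero.1 (congrFun h1 i)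
  have hle₂ : Module.finrank R M ≤ Module.finrank R (I → A) := by
    let bM := Module.Free.chooseBasis R M
    choose k g hg using fun p : _ × I => hext (N := O)
      (show Γ(O, D) from hbb.coef le_rfl (resM E le_top (sec (bM p.1))) p.2)
    obtain ⟨N, hN⟩ : ∃ N, ∀ p, k p ≤ N := ⟨Finset.univ.sup k, fun p => Finset.le_sup (Finset.mem_univ p)⟩
    let v : M →ₗ[R] (I → A) := bM.constr R fun m i => ϖ ^ (N - k (m, i)) • g (m, i)
    have hv : ∀ z : M, ∀ i, resM O le_top (sec (v z i)) =
        ρ D ϖ ^ N • (show Γ(O, D) from hbb.coef le_rfl (resM E le_top (sec z)) i) := by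
      intro z
      induction (bM.span_eq.ge (Submodule.mem_top : z ∈ ⊤)) using Submodule.span_induction with
      | mem y hy =>
        obtain ⟨m, rfl⟩ := hy
        intro i
        rw [show v (bM m) i = ϖ ^ (N - k (m, i)) • g (m, i) from congrFun (bM.constr_basis R _ m) i,
          sec_smul, resM_smul, hg, ρ_res, map_pow, smul_smul, ← pow_add, Nat.sub_add_cancel (hN _)]
      | zero =>
        intro i
        rw [map_zero, Pi.zero_apply, sec_zero, sec_zero, map_zero, map_zero,
          hbb.coef_eq le_rfl (x := (0 : Γ(E, D))) (c := fun _ => 0) (by simp)]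
        exact (smul_zero _).symm
      | add y y' _ _ hy hy' =>
        intro i
        rw [map_add, Pi.add_apply, sec_add, map_add, hy i, hy' i, sec_add, map_add, hbb.coef_add]
        exact (smul_add _ _ _).symm
      | smul r y _ hy =>
        intro i
        rw [map_smul, Pi.smul_apply]
        rw [sec_smul, resM_smul, hy i, sec_smul, resM_smul, hbb.coef_smul, ρ_res, smul_comm]
        rfl
    refine finrank_le_of_inj v ((injective_iff_map_eq_zero v).2 fun z hz => hres0 hTE z ?_)
    rw [← hbb.coef_spec le_rfl (resM E le_top (sec z))]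
    refine Finset.sum_eq_zero fun i _ => ?_
    have := hv z i
    rw [hz] at this
    have h0 : hbb.coef le_rfl (resM E le_top (sec z)) i = (0 : Γ(X, D)) :=
      (hfD.pow N).mul_right_eq_zero.1 (this.symm.trans (map_zero _))
    exact (congrArg (· • _) h0).trans (zero_smul _ _)
  have hrank : Module.finrank R M = Module.finrank R (I → A) := le_antisymm hle₂ hle₁
  -- the coordinates modulo `ϖ ^ (2 t + 1)`
  let coord : M → ∀ x, I → Γ(O, W x) := fun z x i =>
    (show Γ(O, W x) from (hb x).coef le_rfl (resM E le_top (sec z)) i)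
  have hex : ∀ z : M, ∃ g : I → A, ∀ x i,
      Div ϖ O (2 * t + 1) (resM O le_top (sec (g i)) - coord z x i) := by
    intro z
    have key : ∀ i, ∃ g : Γ(O, ⊤), ∀ x, Div ϖ O (2 * t + 1) (resM O le_top g - coord z x i) := fun i => by
      refine hc (2 * t) W hW (fun x => coord z x i) fun x x' => ?_
      let V := W x ⊓ W x'
      let ζ := resM E (le_top : V ≤ ⊤) (sec z)
      let a := (hb x).coef (inf_le_left : V ≤ W x) ζ
      let a' := (hb x').coef (inf_le_right : V ≤ W x') ζ
      have ha : resM O (inf_le_left : V ≤ W x) (coord z x i) = (show Γ(O, V) from a i) := by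
        show _ = (show Γ(O, V) from (hb x).coef _ ζ i)
        have := congrFun ((hb x).coef_res le_rfl (inf_le_left : V ≤ W x)
          (resM E le_top (sec z))) i
        rw [resM_resM] at this
        exact this.symm
      have ha' : resM O (inf_le_right : V ≤ W x') (coord z x' i) = (show Γ(O, V) from a' i) := by
        show _ = (show Γ(O, V) from (hb x').coef _ ζ i)
        have := congrFun ((hb x').coef_res le_rfl (inf_le_right : V ≤ W x')
          (resM E le_top (sec z))) i
        rw [resM_resM] at this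
        exact this.symm
      rw [ha, ha']
      let d := ∑ j, (a j - a' j) • resM E (inf_le_left : V ≤ W x) (θ x j)
      have hd : Div ϖ E (2 * t + 1 + c) d := by
        have e : d = -∑ j, a' j • (resM E inf_le_left (θ x j) - resM E inf_le_right (θ x' j)) := by
          simp only [d, a, a', sub_smul, smul_sub, Finset.sum_sub_distrib, IsBasisOn.coef_spec]
          abel
        rw [e]
        exact (Div.sum _ fun j _ => (hcong x x' j).smul _).neg
      have := coef_div (hb x) (inf_le_left : V ≤ W x) hd i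
      rwa [(hb x).coef_eq inf_le_left (c := fun j => a j - a' j) rfl] at this
    choose g hg using key
    refine ⟨fun i => ⟨g i, Div.of_local fun p _ => ⟨W p, le_top, hW p, ?_⟩⟩, fun x i => hg i x⟩
    have h1 := ((hg i p).mono (show t ≤ 2 * t + 1 by omega)).add (coef_div (hb p) le_rfl (z.2.res le_top) i)
    convert h1 using 1
    exact (sub_add_cancel _ _).symm
  let bM := Module.Free.chooseBasis R M
  choose g hg using fun m => hex (bM m)
  let L : M →ₗ[R] (I → A) := bM.constr R g
  have hL : ∀ z x i, Div ϖ O (2 * t + 1) (resM O le_top (sec (L z i)) - coord z x i) := by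
    intro z
    induction (bM.span_eq.ge (Submodule.mem_top : z ∈ ⊤)) using Submodule.span_induction with
    | mem y hy =>
      obtain ⟨m, rfl⟩ := hy
      intro x i
      rw [show L (bM m) = g m from bM.constr_basis R _ m]
      exact hg m x i
    | zero =>
      intro x i
      have e : coord 0 x i = 0 := congrFun ((hb x).coef_eq le_rfl (c := fun _ => 0)
        (x := resM E le_top (sec (0 : M))) (by simp [sec_zero])) i
      rw [map_zero, e, sub_zero, Pi.zero_apply, sec_zero, map_zero]
      exact Div.zero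
    | add y y' _ _ hy hy' =>
      intro x i
      have e : coord (y + y') x i = coord y x i + coord y' x i := by
        show (show Γ(O, W x) from (hb x).coef _ (resM E le_top (sec (y + y'))) i) = _
        rw [sec_add, map_add, (hb x).coef_add]
        rfl
      rw [map_add, e, Pi.add_apply, sec_add, map_add, add_sub_add_comm]
      exact (hy x i).add (hy' x i)
    | smul r y _ hy =>
      intro x i
      have e : coord (r • y) x i = ρ (W x) r • coord y x i := by
        show (show Γ(O, W x) from (hb x).coef _ (resM E le_top (sec (r • y))) i) = _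
        rw [sec_smul, resM_smul, ρ_res, (hb x).coef_smul]
        rfl
      rw [map_smul, e, Pi.smul_apply, sec_smul, resM_smul, ρ_res, ← smul_sub]
      exact (hy x i).smul _
  have hinj : ∀ z, (∃ y, L z = ϖ • y) → ∃ z', z = ϖ • z' := by
    rintro z ⟨y, hy⟩
    have hz : Div ϖ E (t + 1) (sec z) := Div.of_local fun p _ => by
      refine ⟨W p, le_top, hW p, div_of_coef (hb p) le_rfl fun i => ?_⟩
      have h1 : Div ϖ O (t + 1) (resM O (le_top : W p ≤ ⊤) (sec (L z i))) := by
        refine Div.res ?_ le_top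
        rw [hy, Pi.smul_apply, sec_smul]
        intro p' hp'
        obtain ⟨V, hV, hpV, w, hw⟩ := (y i).2 p' hp'
        refine ⟨V, hV, hpV, w, ?_⟩
        rw [resM_ρ_smul, show resM O hV (sec (y i)) = _ from hw, smul_smul, ← pow_succ']
      have h2 := h1.sub ((hL z p i).mono (show t + 1 ≤ 2 * t + 1 by omega))
      rwa [sub_sub_cancel] at h2
    obtain ⟨y', hy1, hy2⟩ := exists_div_pow_smul hTE hz
    refine ⟨⟨y', hy1⟩, sec_ext (?_ : sec z = sec _)⟩
    rw [sec_smul, sec_mk]
    rw [pow_one] at hy2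
    exact hy2.symm
  have hLb := bijective_of_injective_mod hrank hϖ L hinj
  -- divide by `ϖ ^ t` and glue
  have hone : Div ϖ O t (show Γ(O, ⊤) from (ρ (⊤ : X.Opens) ϖ ^ t : Γ(X, ⊤))) := by
    convert div_smul_pow (ϖ := ϖ) (m := t) (M := O) (show Γ(O, ⊤) from (1 : Γ(X, ⊤))) using 1
    exact (mul_one (ρ (⊤ : X.Opens) ϖ ^ t : Γ(X, ⊤))).symm
  choose z hz using fun j => hLb.2 (Pi.single j ⟨_, hone⟩)
  have hzθ : ∀ j x, Div ϖ E (2 * t + 1) (resM E le_top (sec (z j)) - ρ (W x) ϖ ^ t • θ x j) := by
    intro j x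
    refine div_of_coef (hb x) le_rfl fun i => ?_
    have h := (hL (z j) x i).neg
    rw [hz, neg_sub] at h
    convert h using 1
    show (hb x).coef le_rfl _ i = coord (z j) x i -
      resM O le_top (sec (Pi.single (M := fun _ => A) j ⟨_, hone⟩ i))
    refine congrFun ((hb x).coef_eq le_rfl (c := fun i => coord (z j) x i -
      resM O le_top (sec (Pi.single (M := fun _ => A) j ⟨_, hone⟩ i))) ?_) i
    refine Eq.trans (Finset.sum_congr rfl fun i _ => sub_smul
      (show Γ(X, W x) from coord (z j) x i)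
      (show Γ(X, W x) from resM O le_top (sec (Pi.single (M := fun _ => A) j ⟨_, hone⟩ i))) _) ?_
    rw [Finset.sum_sub_distrib]
    congr 1
    · exact (hb x).coef_spec le_rfl _
    · rw [Finset.sum_eq_single j (fun i _ hi => ?_) (fun h => absurd (Finset.mem_univ j) h),
        Pi.single_eq_same]
      · show X.presheaf.map _ (ρ ⊤ ϖ ^ t) • _ = _
        rw [map_pow, ρ_res, resM_self]
      · rw [Pi.single_eq_of_ne hi]
        exact (congrArg (· • _) (map_zero _)).trans (zero_smul _ _)
  let Q : I → ∀ ⦃V : X.Opens⦄, Γ(E, V) → Prop := fun j V s => ∃ (x : X) (h : V ≤ W x),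
    Div ϖ E (t + 1) (s - resM E h (θ x j)) ∧ ρ V ϖ ^ t • s = resM E le_top (sec (z j))
  have hglue : ∀ j, ∃ s : Γ(E, ⊤), ∀ p ∈ (⊤ : X.Opens), ∃ (V : X.Opens) (h : V ≤ ⊤), p ∈ V ∧ Q j (resM E h s) :=
    fun j => DivSections.exists_glue E (Q j)
      (by
        intro V V' _ h s hs
        obtain ⟨x, hx, h1, h2⟩ := hs
        refine ⟨x, h.trans hx, ?_, ?_⟩
        · have := h1.res h
          rwa [map_sub, resM_resM] at this
        · have := congrArg (resM E h) h2
          rwa [resM_smul, map_pow, ρ_res, resM_resM] at this)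
      (by
        intro V _ s s' hs hs'
        obtain ⟨x, hx, h1, h2⟩ := hs
        obtain ⟨x', hx', h1', h2'⟩ := hs'
        refine sub_eq_zero.1 (eq_zero_of_div_of_pow_smul hTE (k := t) ?_ ?_)
        · have h3 := ((hcong x x' j).res (le_inf hx hx')).mono (show t ≤ 2 * t + 1 + c by omega)
          rw [map_sub, resM_resM, resM_resM] at h3
          convert ((h1.mono (Nat.le_succ t)).sub (h1'.mono (Nat.le_succ t))).add h3 using 1
          abel
        · rw [smul_sub, h2, h2', sub_self])
      (fun p _ => by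
        obtain ⟨V, hV, hpV, w, hw⟩ := hzθ j p p (hW p)
        refine ⟨V, le_top, hpV, resM E hV (θ p j) + ρ V ϖ ^ (t + 1) • w, p, hV, ?_, ?_⟩
        · rw [add_sub_cancel_left]; exact div_smul_pow w
        · rw [map_sub, resM_resM, resM_smul, map_pow, ρ_res, sub_eq_iff_eq_add] at hw
          rw [hw, smul_add, smul_smul, ← pow_add, add_comm (ρ V ϖ ^ (2 * t + 1) • w),
            show t + (t + 1) = 2 * t + 1 by omega])
  choose s hs using hglue
  refine ⟨s, fun p => ?_⟩
  choose V hV hpV x hx h1 _ using fun j => hs j p trivial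
  let V₀ : X.Opens := W p ⊓ Finset.univ.inf V
  have hle : ∀ j, V₀ ≤ V j := fun j => inf_le_right.trans (Finset.inf_le (Finset.mem_univ j))
  refine ⟨V₀, p, inf_le_left, ⟨hW p, ?_⟩, fun j => ?_⟩
  · have : p ∈ ((Finset.univ.inf V : X.Opens) : Set X) := by
      rw [Opens.coe_finset_inf]
      simp only [Finset.inf_eq_iInf, Function.comp_apply, Set.iInf_eq_iInter, Set.mem_iInter]
      exact fun j _ => hpV j
    exact this
  · have e1 := ((h1 j).res (hle j)).mono (show 1 ≤ t + 1 by omega)
    have e2 := ((hcong (x j) p j).res (le_inf ((hle j).trans (hx j)) (inf_le_left : V₀ ≤ W p))).mono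
      (show 1 ≤ 2 * t + 1 + c by omega)
    rw [map_sub, resM_resM, resM_resM] at e1 e2
    convert e1.add e2 using 1
    abel

include hϖ in
/-- Global sections congruent to local bases form a basis. -/
theorem exists_isBasisOn_near {E : X.Modules} {I : Type u} [Fintype I]
    {W : X → X.Opens} {θ : ∀ x, I → Γ(E, W x)} (hb : ∀ x, IsBasisOn E (W x) (θ x))
    {s : I → Γ(E, ⊤)} (h : ∀ p, ∃ (V : X.Opens) (x : X) (hV : V ≤ W x), p ∈ V ∧
      ∀ i, Div ϖ E 1 (resM E le_top (s i) - resM E hV (θ x i))) (p : X) :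
    ∃ V : X.Opens, p ∈ V ∧ IsBasisOn E V fun i => resM E le_top (s i) := by
  classical
  let G : Set X := {p | ∃ V : X.Opens, p ∈ V ∧ IsBasisOn E V fun i => resM E le_top (s i)}
  have hG : IsOpen G := isOpen_iff_forall_mem_open.2 fun q ⟨V, hq, hV⟩ =>
    ⟨V, fun y hy => ⟨V, hy, hV⟩, V.2, hq⟩
  let π := X ↘ Spec (CommRingCat.of R)
  have hsp : ∀ q : X, ϖ ∈ (π q).asIdeal → q ∈ G := fun q hq => by
    obtain ⟨V, x, hV, hqV, hd⟩ := h q
    let P : Matrix I I Γ(X, V) := fun i j => (hb x).coef hV (resM E le_top (s j)) i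
    let ev := (X.evaluation V q hqV).hom
    have hP : ev.mapMatrix P = 1 := by
      ext i j
      have h1 := coef_div (hb x) hV (hd j) i
      obtain ⟨V', hV', hqV', w, hw⟩ := h1 q hqV
      have h2 : (hb x).coef hV (resM E le_top (s j) - resM E hV (θ x j)) i =
          P i j - if i = j then 1 else 0 := by
        have e := (hb x).coef_add hV (resM E le_top (s j) - resM E hV (θ x j)) (resM E hV (θ x j))
        rw [sub_add_cancel, (hb x).coef_self hV j] at e
        have e' := congrFun e i
        simp only [Pi.add_apply] at e'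
        exact eq_sub_of_add_eq e'.symm
      generalize hd' : (hb x).coef hV (resM E le_top (s j) - resM E hV (θ x j)) i = d at h2 hw
      have h3 : ev d = 0 := by
        show X.evaluation V q hqV d = 0
        rw [Scheme.evaluation_eq_zero_iff_notMem_basicOpen]
        intro hmem
        have h5 : q ∈ X.basicOpen (X.presheaf.map (homOfLE hV').op d) := by
          rw [X.basicOpen_res]; exact ⟨hqV', hmem⟩
        rw [show X.presheaf.map (homOfLE hV').op d = ρ V' ϖ ^ 1 * (show Γ(X, V') from w) from hw, pow_one] at h5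
        rw [show q ∈ X.basicOpen ((ρ V' ϖ) * (show Γ(X, V') from w)) ↔ _ from by rw [X.basicOpen_mul]] at h5
        have h6 := h5.1
        rw [show (ρ V' ϖ : Γ(X, V')) = X.presheaf.map (homOfLE le_top).op (baseHom R X ϖ) from rfl,
          X.basicOpen_res] at h6
        exact (mem_basicOpen_iff ϖ q).1 h6.2 hq
      rw [h2, map_sub, sub_eq_zero] at h3
      rw [RingHom.mapMatrix_apply, Matrix.map_apply, Matrix.one_apply, h3]
      split_ifs <;> simp
    have hdet : q ∈ X.basicOpen P.det := by
      rw [← Scheme.evaluation_ne_zero_iff_mem_basicOpen _ _ hqV]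
      show ev P.det ≠ 0
      rw [RingHom.map_det, hP, Matrix.det_one]
      exact one_ne_zero
    have hle : X.basicOpen P.det ≤ V := X.basicOpen_le _
    refine ⟨X.basicOpen P.det, hdet, isBasisOn_of_matrix (hle.trans hV) (hb x) _
      (P.map (X.presheaf.map (homOfLE hle).op).hom) (fun j => ?_) ?_⟩
    · conv_lhs => rw [← resM_resM E (le_top : V ≤ ⊤) hle, ← (hb x).coef_spec hV (resM E le_top (s j))]
      rw [map_sum]
      exact Finset.sum_congr rfl fun i _ => by rw [resM_smul, resM_resM]; rfl
    · have h' : IsUnit ((X.presheaf.map (homOfLE hle).op).hom P.det) :=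
        RingedSpace.isUnit_res_basicOpen X.toRingedSpace P.det
      rwa [RingHom.map_det] at h'
  by_contra hp
  have hcl : IsClosed (π '' Gᶜ) := π.isClosedMap _ hG.isClosed_compl
  obtain ⟨q, hq, hq'⟩ := (IsLocalRing.specializes_closedPoint (π p)).mem_closed hcl ⟨p, hp, rfl⟩
  refine hq (hsp q ?_)
  rw [hq']
  show ϖ ∈ IsLocalRing.maximalIdeal R
  rw [hϖ.maximalIdeal_eq]
  exact Ideal.mem_span_singleton_self ϖ

end Groth.Agent.FlatMor12.FreeTruncated
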