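import Groth.Agent.FlatMor12.Radicial
import Groth.Agent.EGA43.Unibranch.Criterion
import Groth.Agent.UnivHomeo.Scheme
import Groth.Agent.Props12.Stalks

/-!
# Geometrically unibranch points under integral birational morphisms
-/

set_option autoImplicit false
set_option backward.isDefEq.respectTransparency false

universe u

open CategoryTheory CategoryTheory.Limits AlgebraicGeometry IsLocalRing Topology

namespace Groth.Agent.FlatMor12.GeomUnibranchBirational

open Groth.Agent

section Algebra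

variable {A B : Type u} [CommRing A] [IsLocalRing A] [CommRing B] [Algebra A B] [Algebra.IsIntegral A B]

theorem minimalPrimes_mem_nilradical {R : Type u} [CommRing R] (h : (minimalPrimes R).Subsingleton) {p : Ideal R}
    (hp : p ∈ minimalPrimes R) : nilradical R = p := by
  rw [nilradical, Ideal.zero_eq_bot, ← Ideal.sInf_minimalPrimes]
  have : (⊥ : Ideal R).minimalPrimes = {p} := h.eq_singleton_of_mem hp
  rw [this, sInf_singleton]

theorem comap_maximal_eq (M : Ideal B) [M.IsMaximal] : M.comap (algebraMap A B) = maximalIdeal A :=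
  IsLocalRing.eq_maximalIdeal (Ideal.isMaximal_comap_of_isIntegral_of_isMaximal M)

/-- Residual bijectivity at the minimal primes. -/
def Bir (A B : Type u) [CommRing A] [CommRing B] [Algebra A B] : Prop :=
  ∀ Q : Ideal B, Q ∈ minimalPrimes B → ∀ b : B, ∃ a s : A,
    algebraMap A B s ∉ Q ∧ algebraMap A B s * b - algebraMap A B a ∈ Q

/-- Purely inseparable residue extension at a prime over the closed point. -/
def Insep (A : Type u) [CommRing A] {B : Type u} [CommRing B] [Algebra A B] (M : Ideal B) : Prop :=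
  ∀ x : B ⧸ M, ∃ n : ℕ, x ^ ringExpChar (B ⧸ M) ^ n ∈ ((Ideal.Quotient.mk M).comp (algebraMap A B)).range

theorem isGeomUnibranch_of_radicial [IsLocalRing B]
    (hsurj : ∀ p ∈ minimalPrimes A, ∃ Q ∈ minimalPrimes B, Q.comap (algebraMap A B) = p)
    (hmaps : ∀ Q ∈ minimalPrimes B, Q.comap (algebraMap A B) ∈ minimalPrimes A)
    (hbir : Bir A B) (hins : Insep A (maximalIdeal B)) (hB : CAlg2.IsGeomUnibranch B) :
    CAlg2.IsGeomUnibranch A := by
  obtain ⟨C, _, _, _, _, _, _, hker, hbirC, hinsC⟩ := EGA43.Unibranch.exists_normalization hB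
  have hPp : (nilradical B).IsPrime := hker ▸ RingHom.ker_isPrime _
  have hmin : nilradical B ∈ minimalPrimes B := ⟨⟨hPp, bot_le⟩, fun P hP _ => nilradical_le_prime P (H := hP.1)⟩
  have hsub : (minimalPrimes A).Subsingleton := by
    intro p hp p' hp'
    obtain ⟨Q, hQ, rfl⟩ := hsurj p hp
    obtain ⟨Q', hQ', rfl⟩ := hsurj p' hp'
    have e : ∀ Q ∈ minimalPrimes B, Q = nilradical B := fun Q hQ =>
      le_antisymm (hQ.2 ⟨hPp, bot_le⟩ (nilradical_le_prime Q (H := hQ.1.1))) (nilradical_le_prime Q (H := hQ.1.1))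
    rw [e Q hQ, e Q' hQ']
  have hnilA : nilradical A = (nilradical B).comap (algebraMap A B) :=
    minimalPrimes_mem_nilradical hsub (hmaps _ hmin)
  letI : Algebra A C := ((algebraMap B C).comp (algebraMap A B)).toAlgebra
  have : IsScalarTower A B C := .of_algebraMap_eq fun _ => rfl
  have : Algebra.IsIntegral A C := Algebra.IsIntegral.trans B
  have hmap : ∀ a, algebraMap A C a = algebraMap B C (algebraMap A B a) := fun _ => rfl
  have hmk : ∀ {a a' : B}, a - a' ∈ nilradical B → algebraMap B C a = algebraMap B C a' := fun h => by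
    rw [← sub_eq_zero, ← map_sub]
    exact RingHom.mem_ker.1 (hker.symm ▸ h)
  refine EGA43.Unibranch.isGeomUnibranch_of_normalization (C := C) ?_ (fun c => ?_) fun x => ?_
  · ext a
    rw [RingHom.mem_ker, hmap, hnilA, Ideal.mem_comap, ← hker, RingHom.mem_ker]
  · obtain ⟨t, ht, b, hb⟩ := hbirC c
    obtain ⟨a₁, s₁, hs₁, h₁⟩ := hbir _ hmin t
    obtain ⟨a₂, s₂, hs₂, h₂⟩ := hbir _ hmin b
    have ha₁ : algebraMap A B a₁ ∉ nilradical B := fun h =>
      (hPp.mem_or_mem (by simpa using (nilradical B).add_mem h₁ h : algebraMap A B s₁ * t ∈ nilradical B)).elim hs₁ ht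
    refine ⟨a₁ * s₂, ?_, s₁ * a₂, ?_⟩
    · rw [hnilA, Ideal.mem_comap, map_mul]
      exact fun h => (hPp.mem_or_mem h).elim ha₁ hs₂
    · simp only [map_mul, hmap]
      rw [← hmk h₁, ← hmk h₂]
      simp only [map_mul]
      linear_combination (algebraMap B C (algebraMap A B s₁) * algebraMap B C (algebraMap A B s₂)) * hb
  · obtain ⟨n, b, hb⟩ := hinsC x
    obtain ⟨k, a, ha⟩ := hins (Ideal.Quotient.mk _ b)
    have hloc : maximalIdeal B ≤ (maximalIdeal C).comap (algebraMap B C) :=
      (IsLocalRing.eq_maximalIdeal (Ideal.isMaximal_comap_of_isIntegral_of_isMaximal (maximalIdeal C))).ge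
    let q := Ideal.quotientMap (maximalIdeal C) (algebraMap B C) hloc
    letI := Ideal.Quotient.field (maximalIdeal B)
    letI := Ideal.Quotient.field (maximalIdeal C)
    haveI : ExpChar (C ⧸ maximalIdeal C) (ringExpChar (B ⧸ maximalIdeal B)) :=
      expChar_of_injective_ringHom q.injective _
    refine ⟨n + k, a, ?_⟩
    rw [pow_add, pow_mul, ← hb, ringExpChar.eq (C ⧸ maximalIdeal C) (ringExpChar (B ⧸ maximalIdeal B))]
    have := congrArg q ha
    rw [map_pow] at this
    exact this

theorem local_and_unibranch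
    (huniq : ∀ Q ∈ minimalPrimes B, Q.comap (algebraMap A B) ∈ minimalPrimes A)
    (hinj : ∀ Q ∈ minimalPrimes B, ∀ Q' ∈ minimalPrimes B,
      Q.comap (algebraMap A B) = Q'.comap (algebraMap A B) → Q = Q')
    (hne : Nontrivial B) (hbir : Bir A B) (hA : CAlg2.IsGeomUnibranch A) :
    ∃ _ : IsLocalRing B, Insep A (maximalIdeal B) ∧ CAlg2.IsGeomUnibranch B := by
  obtain ⟨C, _, _, _, _, _, _, hker, hbirC, hinsC⟩ := EGA43.Unibranch.exists_normalization hA
  have hPp : (nilradical A).IsPrime := hker ▸ RingHom.ker_isPrime _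
  have hA1 : ∀ p ∈ minimalPrimes A, p = nilradical A := fun p hp =>
    le_antisymm (hp.2 ⟨hPp, bot_le⟩ (nilradical_le_prime p (H := hp.1.1))) (nilradical_le_prime p (H := hp.1.1))
  have hsub : (minimalPrimes B).Subsingleton := fun Q hQ Q' hQ' =>
    hinj Q hQ Q' hQ' ((hA1 _ (huniq Q hQ)).trans (hA1 _ (huniq Q' hQ')).symm)
  obtain ⟨m, hm⟩ := Ideal.exists_maximal B
  obtain ⟨Q, hQ, -⟩ := Ideal.exists_minimalPrimes_le (I := (⊥ : Ideal B)) (J := m) bot_le
  have hQn : nilradical B = Q := minimalPrimes_mem_nilradical hsub hQ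
  have hQc : Q.comap (algebraMap A B) = nilradical A := hA1 _ (huniq Q hQ)
  have hQp : Q.IsPrime := hQ.1.1
  let L := FractionRing C
  let θ : A →+* L := (algebraMap C L).comp (algebraMap A C)
  have hθ : ∀ a, θ a = 0 ↔ algebraMap A B a ∈ Q := fun a => by
    rw [← Ideal.mem_comap, hQc, ← hker, RingHom.mem_ker]
    exact map_eq_zero_iff _ (IsFractionRing.injective C L)
  have hd : ∀ b : B, ∃ z : L, ∀ a s : A, algebraMap A B s * b - algebraMap A B a ∈ Q → θ s * z = θ a := by
    intro b
    obtain ⟨a₀, s₀, hs₀, h₀⟩ := hbir Q hQ b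
    have hs₀' : θ s₀ ≠ 0 := fun h => hs₀ ((hθ _).1 h)
    refine ⟨θ a₀ / θ s₀, fun a s h => ?_⟩
    rw [mul_div_assoc', div_eq_iff hs₀', ← sub_eq_zero, ← map_mul, ← map_mul, ← map_sub, hθ, map_sub, map_mul, map_mul]
    convert Q.sub_mem (Q.mul_mem_left (algebraMap A B s₀) h) (Q.mul_mem_left (algebraMap A B s) h₀) using 1
    ring
  choose z hz using hd
  have huz : ∀ (b : B) (w : L) (a s : A), algebraMap A B s ∉ Q → algebraMap A B s * b - algebraMap A B a ∈ Q →
      θ s * w = θ a → z b = w := fun b w a s hs h hw =>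
    mul_left_cancel₀ (fun h0 => hs ((hθ _).1 h0)) ((hz b a s h).trans hw.symm)
  have hzA : ∀ a, z (algebraMap A B a) = θ a := fun a =>
    huz _ _ a 1 (by rw [map_one]; exact fun h => hQp.ne_top ((Ideal.eq_top_iff_one _).2 h)) (by simp) (by simp)
  let ψ : B →+* L :=
    { toFun := z
      map_one' := by have := hzA 1; rwa [map_one, map_one] at this
      map_zero' := by have := hzA 0; rwa [map_zero, map_zero] at this
      map_mul' := fun x y => by
        obtain ⟨a, s, hs, h⟩ := hbir Q hQ x
        obtain ⟨a', s', hs', h'⟩ := hbir Q hQ y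
        refine huz _ _ (a * a') (s * s') (by rw [map_mul]; exact fun hh => (hQp.mem_or_mem hh).elim hs hs') ?_ ?_
        · convert Q.add_mem (Q.mul_mem_left (algebraMap A B s' * y) h) (Q.mul_mem_left (algebraMap A B a) h') using 1
          simp only [map_mul]; ring
        · rw [map_mul, map_mul, ← hz x a s h, ← hz y a' s' h']; ring
      map_add' := fun x y => by
        obtain ⟨a, s, hs, h⟩ := hbir Q hQ x
        obtain ⟨a', s', hs', h'⟩ := hbir Q hQ y
        refine huz _ _ (a * s' + a' * s) (s * s') (by rw [map_mul]; exact fun hh => (hQp.mem_or_mem hh).elim hs hs') ?_ ?_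
        · convert Q.add_mem (Q.mul_mem_left (algebraMap A B s') h) (Q.mul_mem_left (algebraMap A B s) h') using 1
          simp only [map_mul, map_add]; ring
        · rw [map_mul, map_add, map_mul, map_mul, ← hz x a s h, ← hz y a' s' h']; ring }
  have hψA : ∀ a, ψ (algebraMap A B a) = θ a := hzA
  have hmem : ∀ b, ψ b ∈ (algebraMap C L).range := fun b => by
    refine IsIntegrallyClosed.isIntegral_iff.1 ?_
    exact (Algebra.IsIntegral.isIntegral (R := A) b).map_of_comp_eq (algebraMap A C) ψ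
      (RingHom.ext fun a => (hψA a).symm)
  choose ι hι using hmem
  have hinjC := IsFractionRing.injective C L
  let ιH : B →+* C :=
    { toFun := ι
      map_one' := hinjC (by rw [hι, map_one, map_one])
      map_zero' := hinjC (by rw [hι, map_zero, map_zero])
      map_mul' := fun x y => hinjC (by rw [hι, map_mul, map_mul, hι, hι])
      map_add' := fun x y => hinjC (by rw [hι, map_add, map_add, hι, hι]) }
  have hιA : ∀ a, ιH (algebraMap A B a) = algebraMap A C a := fun a => hinjC ((hι _).trans (hψA a))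
  letI : Algebra B C := ιH.toAlgebra
  haveI : IsScalarTower A B C := .of_algebraMap_eq fun a => (hιA a).symm
  haveI : Algebra.IsIntegral B C := Algebra.IsIntegral.tower_top A
  have hkerB : RingHom.ker (algebraMap B C) = nilradical B := by
    ext b
    rw [RingHom.mem_ker, hQn, ← map_eq_zero_iff _ hinjC]
    show algebraMap C L (ι b) = 0 ↔ _
    rw [hι]
    obtain ⟨a, s, hs, h⟩ := hbir Q hQ b
    have hs' : θ s ≠ 0 := fun h0 => hs ((hθ _).1 h0)
    show z b = 0 ↔ _
    rw [← mul_right_inj' hs' (c := (0 : L)), mul_zero, hz b a s h, hθ]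
    constructor
    · intro ha
      exact (hQp.mem_or_mem (by simpa using Q.add_mem h ha : algebraMap A B s * b ∈ Q)).resolve_left hs
    · intro hb
      have := Q.sub_mem (Q.mul_mem_left (algebraMap A B s) hb) h
      rwa [sub_sub_cancel] at this
  have hM : ∀ M : Ideal B, M.IsMaximal → M = (maximalIdeal C).comap (algebraMap B C) := fun M hMm => by
    obtain ⟨P, -, hP, hPc⟩ := Ideal.exists_ideal_over_prime_of_isIntegral M (⊥ : Ideal C)
      (by rw [← RingHom.ker_eq_comap_bot, hkerB]; exact nilradical_le_prime M)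
    have : P.IsMaximal := Ideal.isMaximal_of_isIntegral_of_isMaximal_comap P (hPc ▸ hMm)
    rw [← IsLocalRing.eq_maximalIdeal this]
    exact hPc.symm
  haveI : IsLocalRing B := IsLocalRing.of_unique_max_ideal ⟨m, hm, fun M hMm => (hM M hMm).trans (hM m hm).symm⟩
  refine ⟨inferInstance, ?_, EGA43.Unibranch.isGeomUnibranch_of_normalization (C := C) hkerB (fun c => ?_) fun x => ?_⟩
  · intro x
    let q := Ideal.quotientMap (maximalIdeal C) (algebraMap B C) (hM (maximalIdeal B) inferInstance).le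
    letI := Ideal.Quotient.field (maximalIdeal B)
    letI := Ideal.Quotient.field (maximalIdeal C)
    haveI : ExpChar (C ⧸ maximalIdeal C) (ringExpChar (B ⧸ maximalIdeal B)) :=
      expChar_of_injective_ringHom q.injective _
    obtain ⟨n, a, ha⟩ := hinsC (q x)
    refine ⟨n, a, q.injective ?_⟩
    rw [map_pow, ← ringExpChar.eq (C ⧸ maximalIdeal C) (ringExpChar (B ⧸ maximalIdeal B)), ← ha]
    exact congrArg (Ideal.Quotient.mk (maximalIdeal C)) (hιA a)
  · obtain ⟨s, hs, a, ha⟩ := hbirC c
    refine ⟨algebraMap A B s, ?_, algebraMap A B a, ?_⟩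
    · rw [hQn, ← Ideal.mem_comap, hQc]; exact hs
    · rw [← IsScalarTower.algebraMap_apply, ← IsScalarTower.algebraMap_apply]; exact ha
  · obtain ⟨n, a, ha⟩ := hinsC x
    exact ⟨n, algebraMap A B a, (congrArg (Ideal.Quotient.mk (maximalIdeal C)) (hιA a)).trans ha⟩

end Algebra

section SpecLevel

open Groth.Agent.UnivHomeo (toResidue toResidue_frac toResidue_eq_zero residueFieldMap_toResidue)

variable {A B : Type u} [CommRing A] [IsLocalRing A] [CommRing B] [Algebra A B] [Algebra.IsIntegral A B]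

theorem mem_genericPoints_iff {R : Type u} [CommRing R] (x : ↥(Spec (CommRingCat.of R))) :
    x ∈ genericPoints ↥(Spec (CommRingCat.of R)) ↔ x.asIdeal ∈ minimalPrimes R := by
  refine Iff.trans (FlatLocal.isMaxPt_iff x).symm ⟨fun h => ⟨⟨x.2, bot_le⟩, fun P hP hle => ?_⟩, fun h z hz => ?_⟩
  · have := h ⟨P, hP.1⟩ ((PrimeSpectrum.le_iff_specializes ⟨P, hP.1⟩ x).1 hle)
    exact (congrArg PrimeSpectrum.asIdeal this).ge
  · have hle : z.asIdeal ≤ x.asIdeal := (PrimeSpectrum.le_iff_specializes z x).2 hz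
    exact PrimeSpectrum.ext (le_antisymm hle (h.2 ⟨z.2, bot_le⟩ hle))

theorem toResidue_surjective {R : Type u} [CommRing R] [IsLocalRing R] (x : ↥(Spec (CommRingCat.of R)))
    (hx : x.asIdeal = maximalIdeal R) : Function.Surjective (toResidue (R := CommRingCat.of R) x) := fun z => by
  obtain ⟨a, s, hs, h⟩ := toResidue_frac (R := CommRingCat.of R) x z
  rw [hx] at hs
  obtain ⟨v, rfl⟩ := of_not_not (show ¬¬ IsUnit s from hs)
  refine ⟨a * ↑v⁻¹, ?_⟩
  rw [map_mul, ← h, mul_assoc, ← map_mul, Units.mul_inv, map_one, mul_one]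

theorem insep_iff [IsLocalRing B] (x : ↥(Spec (CommRingCat.of B))) (hx : x.asIdeal = maximalIdeal B)
    (hy : (Spec.map (CommRingCat.ofHom (algebraMap A B)) x).asIdeal = maximalIdeal A) :
    ((Spec.map (CommRingCat.ofHom (algebraMap A B))).residueFieldMap x).hom.IsPurelyInseparable ↔
      Insep A (maximalIdeal B) := by
  let g := Spec.map (CommRingCat.ofHom (algebraMap A B))
  let τ : B ⧸ maximalIdeal B →+* (Spec (CommRingCat.of B)).residueField x :=
    Ideal.Quotient.lift _ (toResidue (R := CommRingCat.of B) x).hom fun b hb =>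
      (toResidue_eq_zero (R := CommRingCat.of B) x b).2 (hx.symm ▸ hb)
  letI := Ideal.Quotient.field (maximalIdeal B)
  algebraize [(g.residueFieldMap x).hom]
  haveI : ExpChar ((Spec (CommRingCat.of B)).residueField x) (ringExpChar (B ⧸ maximalIdeal B)) :=
    expChar_of_injective_ringHom τ.injective _
  haveI : ExpChar ((Spec (CommRingCat.of A)).residueField (g x)) (ringExpChar (B ⧸ maximalIdeal B)) :=
    RingHom.expChar _ (g.residueFieldMap x).hom.injective _
  show IsPurelyInseparable ((Spec (CommRingCat.of A)).residueField (g x)) ((Spec (CommRingCat.of B)).residueField x) ↔ _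
  rw [isPurelyInseparable_iff_pow_mem _ (ringExpChar (B ⧸ maximalIdeal B))]
  constructor
  · intro h e
    obtain ⟨n, z, hz⟩ := h (τ e)
    obtain ⟨a, rfl⟩ := toResidue_surjective (g x) hy z
    refine ⟨n, a, τ.injective ?_⟩
    rw [map_pow]
    refine Eq.trans ?_ hz
    exact (residueFieldMap_toResidue (algebraMap A B) x a).symm
  · intro h e
    obtain ⟨b, rfl⟩ := toResidue_surjective x hx e
    obtain ⟨n, a, ha⟩ := h (Ideal.Quotient.mk _ b)
    refine ⟨n, toResidue (R := CommRingCat.of A) (g x) a, ?_⟩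
    refine (residueFieldMap_toResidue (algebraMap A B) x a).trans ?_
    have := congrArg τ ha
    rw [map_pow] at this
    exact this

theorem spec_iff (hf : RadPt.IsBirational (Spec.map (CommRingCat.ofHom (algebraMap A B)))) :
    CAlg2.IsGeomUnibranch A ↔
      RadPt.IsRadicialAt (Spec.map (CommRingCat.ofHom (algebraMap A B))) (closedPoint A) ∧
        ∀ x : ↥(Spec (CommRingCat.of B)), Spec.map (CommRingCat.ofHom (algebraMap A B)) x = closedPoint A →
          CAlg2.IsGeomUnibranch ((Spec (CommRingCat.of B)).presheaf.stalk x) := by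
  let g := Spec.map (CommRingCat.ofHom (algebraMap A B))
  obtain ⟨hbij, hres⟩ := hf
  have hmaps : ∀ Q ∈ minimalPrimes B, Q.comap (algebraMap A B) ∈ minimalPrimes A := fun Q hQ =>
    (mem_genericPoints_iff (g ⟨Q, hQ.1.1⟩)).1 (hbij.mapsTo ((mem_genericPoints_iff _).2 hQ))
  have hinj : ∀ Q ∈ minimalPrimes B, ∀ Q' ∈ minimalPrimes B,
      Q.comap (algebraMap A B) = Q'.comap (algebraMap A B) → Q = Q' := fun Q hQ Q' hQ' h =>
    congrArg PrimeSpectrum.asIdeal (hbij.injOn ((mem_genericPoints_iff ⟨Q, hQ.1.1⟩).2 hQ)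
      ((mem_genericPoints_iff ⟨Q', hQ'.1.1⟩).2 hQ') (PrimeSpectrum.ext h))
  have hsurj : ∀ p ∈ minimalPrimes A, ∃ Q ∈ minimalPrimes B, Q.comap (algebraMap A B) = p := fun p hp => by
    obtain ⟨x, hx, hxp⟩ := hbij.surjOn ((mem_genericPoints_iff ⟨p, hp.1.1⟩).2 hp)
    exact ⟨x.asIdeal, (mem_genericPoints_iff x).1 hx, congrArg PrimeSpectrum.asIdeal hxp⟩
  have hbir : Bir A B := fun Q hQ b => by
    let x : ↥(Spec (CommRingCat.of B)) := ⟨Q, hQ.1.1⟩
    obtain ⟨z, hz⟩ := ((hres _ (hbij.mapsTo ((mem_genericPoints_iff x).2 hQ))).2 x rfl).2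
      (toResidue (R := CommRingCat.of B) x b)
    obtain ⟨a, s, hs, has⟩ := toResidue_frac _ z
    refine ⟨a, s, hs, (toResidue_eq_zero (R := CommRingCat.of B) x _).1 ?_⟩
    have := congrArg (g.residueFieldMap x) has
    rw [map_mul, residueFieldMap_toResidue, residueFieldMap_toResidue, hz] at this
    rw [map_sub, map_mul, sub_eq_zero, mul_comm]
    exact this
  have hclosed : ∀ x : ↥(Spec (CommRingCat.of B)), g x = closedPoint A → x.asIdeal.IsMaximal := fun x hx => by
    refine Ideal.isMaximal_of_isIntegral_of_isMaximal_comap (R := A) x.asIdeal ?_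
    have : x.asIdeal.comap (algebraMap A B) = maximalIdeal A := congrArg PrimeSpectrum.asIdeal hx
    rw [this]
    infer_instance
  obtain ⟨p, hp⟩ := Ideal.nonempty_minimalPrimes (I := (⊥ : Ideal A)) bot_ne_top
  obtain ⟨Q, hQ, -⟩ := hsurj p hp
  have hne : Nontrivial B := ⟨⟨0, 1, fun h => hQ.1.1.ne_top ((Ideal.eq_top_iff_one Q).2 (h ▸ Q.zero_mem))⟩⟩
  constructor
  · intro hA
    obtain ⟨_, hins, hB⟩ := local_and_unibranch hmaps hinj hne hbir hA
    have huniq : ∀ x, g x = closedPoint A → x = closedPoint B := fun x hx =>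
      PrimeSpectrum.ext (IsLocalRing.eq_maximalIdeal (hclosed x hx))
    refine ⟨⟨fun x x' hx hx' => (huniq x hx).trans (huniq x' hx').symm, fun x hx => ?_⟩, fun x hx => ?_⟩
    · exact (insep_iff x (congrArg PrimeSpectrum.asIdeal (huniq x hx)) (congrArg PrimeSpectrum.asIdeal hx)).2 hins
    · rw [huniq x hx]
      exact EGA43.Unibranch.isGeomUnibranch_of_ringEquiv
        (stalkClosedPointIso (CommRingCat.of B)).symm.commRingCatIsoToRingEquiv hB
  · rintro ⟨⟨huniq, hins⟩, hB⟩
    obtain ⟨m, hm⟩ := Ideal.exists_maximal B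
    have hover : ∀ M : Ideal B, ∀ (hM : M.IsMaximal), g ⟨M, hM.isPrime⟩ = closedPoint A := fun M hM =>
      PrimeSpectrum.ext (comap_maximal_eq M)
    haveI : IsLocalRing B := IsLocalRing.of_unique_max_ideal ⟨m, hm, fun M hM =>
      congrArg PrimeSpectrum.asIdeal (huniq ⟨M, hM.isPrime⟩ ⟨m, hm.isPrime⟩ (hover M hM) (hover m hm))⟩
    have hc : g (closedPoint B) = closedPoint A := hover _ (maximalIdeal.isMaximal B)
    exact isGeomUnibranch_of_radicial hsurj hmaps hbir
      ((insep_iff (closedPoint B) rfl (congrArg PrimeSpectrum.asIdeal hc)).1 (hins _ hc))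
      (EGA43.Unibranch.isGeomUnibranch_of_ringEquiv
        (stalkClosedPointIso (CommRingCat.of B)).commRingCatIsoToRingEquiv (hB _ hc))

end SpecLevel

theorem isGeomUnibranch_congr {R S : CommRingCat.{u}} [IsLocalRing R] [IsLocalRing S] (e : R ≅ S) :
    CAlg2.IsGeomUnibranch R ↔ CAlg2.IsGeomUnibranch S :=
  ⟨EGA43.Unibranch.isGeomUnibranch_of_ringEquiv e.commRingCatIsoToRingEquiv,
    EGA43.Unibranch.isGeomUnibranch_of_ringEquiv e.symm.commRingCatIsoToRingEquiv⟩

/-- Geometrically unibranch points of the base of an integral birational morphism. -/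
theorem isGeomUnibranch_iff {X Y : Scheme.{u}} (f : X ⟶ Y) [IsIntegralHom f] (hf : RadPt.IsBirational f) (y : Y) :
    CAlg2.IsGeomUnibranch (Y.presheaf.stalk y) ↔
      (RadPt.IsRadicialAt f y ∧ ∀ x : X, f x = y → CAlg2.IsGeomUnibranch (X.presheaf.stalk x)) := by
  let j := Y.fromSpecStalk y
  haveI : Flat j := Props12.flat_fromSpecStalk y
  haveI : IsAffine (pullback f j) := isAffine_of_isAffineHom (pullback.snd f j)
  let e := (pullback f j).isoSpec
  let φ := Spec.preimage (e.inv ≫ pullback.snd f j)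
  letI : Algebra (Y.presheaf.stalk y) Γ(pullback f j, ⊤) := φ.hom.toAlgebra
  have hφ : Spec.map (CommRingCat.ofHom (algebraMap (Y.presheaf.stalk y) Γ(pullback f j, ⊤))) =
      e.inv ≫ pullback.snd f j := Spec.map_preimage _
  haveI : Algebra.IsIntegral (Y.presheaf.stalk y) Γ(pullback f j, ⊤) := by
    refine ⟨fun b => ?_⟩
    have : IsIntegralHom (Spec.map (CommRingCat.ofHom (algebraMap (Y.presheaf.stalk y) Γ(pullback f j, ⊤)))) := by
      rw [hφ]; infer_instance
    exact (UnivHomeo.isIntegralHom_iff _).1 this b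
  have sq : IsPullback (e.inv ≫ pullback.fst f j)
      (Spec.map (CommRingCat.ofHom (algebraMap (Y.presheaf.stalk y) Γ(pullback f j, ⊤)))) f j :=
    IsPullback.of_iso (IsPullback.of_hasPullback f j) e (Iso.refl _) (Iso.refl _) (Iso.refl _)
      (by simp) (by rw [hφ]; simp) (by simp) (by simp)
  have hj : j (closedPoint _) = y := Scheme.fromSpecStalk_closedPoint
  have hrad : RadPt.IsRadicialAt f y ↔ _ := hj ▸ isRadicialAt_baseChange_iff sq (closedPoint (Y.presheaf.stalk y))
  refine (spec_iff (isBirational_baseChange sq hf.1 hf.2)).trans ?_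
  rw [← hrad]
  refine and_congr_right fun _ => ?_
  haveI : IsPreimmersion (pullback.fst f j) := MorphismProperty.pullback_fst _ _ inferInstance
  let q := e.inv ≫ pullback.fst f j
  have hst : ∀ p, CAlg2.IsGeomUnibranch (X.presheaf.stalk (q p)) ↔
      CAlg2.IsGeomUnibranch ((Spec Γ(pullback f j, ⊤)).presheaf.stalk p) := fun p => by
    haveI := Props12.isIso_stalkMap_fst f y (e.inv p)
    haveI : IsIso (q.stalkMap p) := by
      rw [Scheme.Hom.stalkMap_comp]; infer_instance
    exact isGeomUnibranch_congr (asIso (q.stalkMap p))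
  constructor
  · intro h x hx
    obtain ⟨p, hp, hp'⟩ := Scheme.exists_preimage_of_isPullback sq x (closedPoint (Y.presheaf.stalk y))
      (hx.trans hj.symm)
    subst hp
    exact (hst p).2 (h p hp')
  · intro h p hp
    refine (hst p).1 (h (q p) ?_)
    rw [← Scheme.Hom.comp_apply, sq.w, Scheme.Hom.comp_apply, hp]
    exact hj

end Groth.Agent.FlatMor12.GeomUnibranchBirational
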