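import Groth.Agent.FlatMor12.HilbOpen
import Groth.Agent.FlatMor12.IsoLocus
import Groth.Prelude.Def_Flatn
import Mathlib.AlgebraicGeometry.Morphisms.FlatDescent

/-!
# The scheme of morphisms as the open locus of graphs in the Hilbert scheme
-/

set_option autoImplicit false
set_option backward.isDefEq.respectTransparency false

universe u

open CategoryTheory CategoryTheory.Limits AlgebraicGeometry

namespace Groth.Agent.FlatMor12.HilbGraph

theorem isIso_snd_comp {A B C D : Scheme.{u}} (p : A ⟶ B) (a : C ⟶ B) (b : D ⟶ C)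
    [IsIso (pullback.snd p a)] : IsIso (pullback.snd p (b ≫ a)) := by
  rw [← isIso_comp_left_iff (pullbackLeftPullbackSndIso p a b).hom, pullbackLeftPullbackSndIso_hom_snd]
  infer_instance

theorem isIso_snd_of_isPullback {P A B C : Scheme.{u}} {t : P ⟶ A} {q : P ⟶ C} {p : A ⟶ B} {a : C ⟶ B}
    (h : IsPullback t q p a) : IsIso (pullback.snd p a) ↔ IsIso q := by
  rw [← h.isoPullback_hom_snd]
  exact (isIso_comp_left_iff _ _).symm

theorem isIso_of_isIso_snd_comp {A B C D : Scheme.{u}} (p : A ⟶ B) (a : C ⟶ B) (b : D ⟶ C)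
    (hb : (@Surjective ⊓ @Flat ⊓ @QuasiCompact : MorphismProperty Scheme.{u}) b)
    (h : IsIso (pullback.snd p (b ≫ a))) : IsIso (pullback.snd p a) := by
  refine MorphismProperty.of_pullback_snd_of_descendsAlong (P := MorphismProperty.isomorphisms Scheme.{u})
    (Q := @Surjective ⊓ @Flat ⊓ @QuasiCompact) (g := b) hb ?_
  show IsIso (pullback.snd (pullback.snd p a) b)
  rw [← pullbackLeftPullbackSndIso_hom_snd p a b]
  infer_instance

variable {X Y S : Scheme.{u}} (gX : X ⟶ S) (gY : Y ⟶ S)

local notation "fP" => (pullback.fst gX gY ≫ gX)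

/-- The projection `(X × Y)_T → X_T`. -/
noncomputable abbrev qT (T : Over S) : PicF.XT (pullback.fst gX gY ≫ gX) T ⟶ pullback T.hom gX :=
  pullback.lift (pullback.snd _ T.hom) (pullback.fst _ T.hom ≫ pullback.fst gX gY)
    (by rw [Category.assoc]; exact pullback.condition.symm)

theorem qT_fst (T : Over S) : qT gX gY T ≫ pullback.fst T.hom gX = PicF.XTproj fP T :=
  pullback.lift_fst _ _ _

instance isSeparated_qT [IsSeparated gX] [IsSeparated gY] (T : Over S) : IsSeparated (qT gX gY T) := by
  have : IsSeparated (qT gX gY T ≫ pullback.fst T.hom gX) := by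
    rw [qT_fst]; infer_instance
  exact IsSeparated.of_comp _ (pullback.fst T.hom gX)

/-- The map `X_{T'} → X_T`. -/
noncomputable abbrev xmap {T T' : Over S} (g : T' ⟶ T) : pullback T'.hom gX ⟶ pullback T.hom gX :=
  pullback.map T'.hom gX T.hom gX g.left (𝟙 X) (𝟙 S) (by simp [Over.w g]) (by simp)

theorem isPullback_xmap {T T' : Over S} (g : T' ⟶ T) :
    IsPullback (xmap gX g) (pullback.fst T'.hom gX) (pullback.fst T.hom gX) g.left := by
  refine IsPullback.of_right (h₁₂ := pullback.snd T.hom gX) (h₂₂ := T.hom) (v₁₃ := gX) ?_ (by simp)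
    (IsPullback.of_hasPullback T.hom gX).flip
  rw [pullback.lift_snd, Category.comp_id, Over.w g]
  exact (IsPullback.of_hasPullback T'.hom gX).flip

theorem isPullback_qT {T T' : Over S} (g : T' ⟶ T) :
    IsPullback (PicF.XTmap fP g) (qT gX gY T') (qT gX gY T) (xmap gX g) := by
  have h := HilbOpen.isPullback_XTmap fP g
  rw [← qT_fst gX gY T, ← qT_fst gX gY T'] at h
  refine IsPullback.of_bot h ?_ (isPullback_xmap gX g)
  exact pullback.hom_ext (by simp [PicF.XTmap]) (by simp [PicF.XTmap])

/-- The projection of a family to `X_T`. -/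
noncomputable abbrev proj (T : Over S) (I : (PicF.XT fP T).IdealSheafData) : I.subscheme ⟶ pullback T.hom gX :=
  I.subschemeι ≫ qT gX gY T

theorem isIso_proj_hilbPull {T H : Over S} (g : T ⟶ H) (I : (PicF.XT fP H).IdealSheafData) :
    IsIso (pullback.snd (proj gX gY H I) (xmap gX g)) ↔ IsIso (proj gX gY T (FGA.hilbPull fP g I)) := by
  have hpb : IsPullback (pullback.snd (PicF.XTmap fP g) I.subschemeι)
      (pullback.fst (PicF.XTmap fP g) I.subschemeι ≫ qT gX gY T) (proj gX gY H I) (xmap gX g) :=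
    (IsPullback.of_hasPullback (PicF.XTmap fP g) I.subschemeι).flip.paste_vert (isPullback_qT gX gY g)
  rw [isIso_snd_of_isPullback hpb, HilbBC.hilbPull_eq_comap]
  show _ ↔ IsIso (_ ≫ qT gX gY T)
  rw [← Scheme.IdealSheafData.comapIso_hom_fst, Category.assoc]
  exact (isIso_comp_left_iff _ _).symm

/-- The graph of a morphism. -/
noncomputable abbrev graph (T : Over S) (a : pullback T.hom gX ⟶ Y)
    (ha : a ≫ gY = pullback.snd T.hom gX ≫ gX) : pullback T.hom gX ⟶ PicF.XT fP T :=
  pullback.lift (pullback.lift (pullback.snd T.hom gX) a ha.symm) (pullback.fst T.hom gX)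
    ((pullback.lift_fst_assoc _ _ _ _).trans pullback.condition.symm)

theorem graph_qT (T : Over S) (a : pullback T.hom gX ⟶ Y) (ha : a ≫ gY = pullback.snd T.hom gX ≫ gX) :
    graph gX gY T a ha ≫ qT gX gY T = 𝟙 _ :=
  pullback.hom_ext (by simp) (by simp)

theorem graph_snd (T : Over S) (a : pullback T.hom gX ⟶ Y) (ha : a ≫ gY = pullback.snd T.hom gX ≫ gX) :
    graph gX gY T a ha ≫ pullback.fst _ T.hom ≫ pullback.snd gX gY = a := by
  simp

theorem isClosedImmersion_graph [IsSeparated gX] [IsSeparated gY] (T : Over S) (a : pullback T.hom gX ⟶ Y)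
    (ha : a ≫ gY = pullback.snd T.hom gX ≫ gX) : IsClosedImmersion (graph gX gY T a ha) := by
  have : IsClosedImmersion (graph gX gY T a ha ≫ qT gX gY T) := by rw [graph_qT]; infer_instance
  exact IsClosedImmersion.of_comp _ (qT gX gY T)

/-- A family projecting isomorphically is a graph. -/
theorem exists_graph (T : Over S) (I : (PicF.XT fP T).IdealSheafData) (h : IsIso (proj gX gY T I)) :
    ∃ (a : pullback T.hom gX ⟶ Y) (ha : a ≫ gY = pullback.snd T.hom gX ≫ gX),
      (graph gX gY T a ha).ker = I := by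
  let s := inv (proj gX gY T I) ≫ I.subschemeι
  have hs : s ≫ qT gX gY T = 𝟙 _ := by rw [Category.assoc, IsIso.inv_hom_id]
  have h1 : s ≫ pullback.fst _ T.hom ≫ pullback.fst gX gY = pullback.snd T.hom gX := by
    have e := hs =≫ pullback.snd T.hom gX
    rwa [Category.assoc, pullback.lift_snd, Category.id_comp] at e
  have h2 : s ≫ pullback.snd _ T.hom = pullback.fst T.hom gX := by
    have e := hs =≫ pullback.fst T.hom gX
    rwa [Category.assoc, pullback.lift_fst, Category.id_comp] at e
  have ha : (s ≫ pullback.fst _ T.hom ≫ pullback.snd gX gY) ≫ gY = pullback.snd T.hom gX ≫ gX := by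
    rw [← h1]
    simp [pullback.condition]
  refine ⟨_, ha, ?_⟩
  rw [show graph gX gY T _ ha = s from pullback.hom_ext (pullback.hom_ext (by simpa using h1.symm) (by simp))
    (by simpa using h2.symm), Scheme.Hom.ker_comp_of_isIso, Scheme.IdealSheafData.ker_subschemeι]

theorem graph_injective [IsSeparated gX] [IsSeparated gY] (T : Over S) (a b : pullback T.hom gX ⟶ Y)
    (ha : a ≫ gY = pullback.snd T.hom gX ≫ gX) (hb : b ≫ gY = pullback.snd T.hom gX ≫ gX)
    (h : (graph gX gY T a ha).ker = (graph gX gY T b hb).ker) : a = b := by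
  have := isClosedImmersion_graph gX gY T b hb
  let l := IsClosedImmersion.lift (graph gX gY T b hb) (graph gX gY T a ha) h.ge
  have hl : l = 𝟙 _ := by
    have e := IsClosedImmersion.lift_fac (graph gX gY T b hb) (graph gX gY T a ha) h.ge =≫ qT gX gY T
    rwa [Category.assoc, graph_qT, graph_qT, Category.comp_id] at e
  have e := IsClosedImmersion.lift_fac (graph gX gY T b hb) (graph gX gY T a ha) h.ge
  rw [show IsClosedImmersion.lift _ _ h.ge = 𝟙 _ from hl, Category.id_comp] at e
  rw [← graph_snd gX gY T a ha, ← graph_snd gX gY T b hb, e]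

theorem exists_open [IsProper gX] [Flat gX] [IsSeparated gY] [IsLocallyNoetherian S]
    (H : Over S) (Z : FGA.HilbSet fP H) (hH : FGA.HilbRepresentedBy fP H Z) :
    ∃ H₀ : H.left.Opens, ∀ (T : Over S) [IsLocallyNoetherian T.left],
      (∀ (a : pullback T.hom gX ⟶ Y) (ha : a ≫ gY = pullback.snd T.hom gX ≫ gX),
        ∃! g : T ⟶ H, Set.range g.left ⊆ (H₀ : Set H.left) ∧
          FGA.hilbPull fP g Z.1 = (graph gX gY T a ha).ker) ∧
      (∀ g : T ⟶ H, Set.range g.left ⊆ (H₀ : Set H.left) →
        IsIso (proj gX gY T (FGA.hilbPull fP g Z.1))) := by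
  have := hH.1
  let p := proj gX gY H Z.1
  let hX := pullback.fst H.hom gX
  have hp : p ≫ hX = Z.1.subschemeι ≫ PicF.XTproj fP H := by rw [Category.assoc, qT_fst]
  have : IsProper (p ≫ hX) := hp ▸ Z.2.1
  have : Flat (p ≫ hX) := hp ▸ Z.2.2
  have : LocallyOfFinitePresentation (p ≫ hX) := LocallyOfFinitePresentation.iff_locallyOfFiniteType.2 inferInstance
  have : LocallyOfFinitePresentation hX := LocallyOfFinitePresentation.iff_locallyOfFiniteType.2 inferInstance
  obtain ⟨U, hU, hiso⟩ := exists_isOpen_fibreIso p hX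
  refine ⟨U, fun T _ => ⟨fun a ha => ?_, fun g hg => ?_⟩⟩
  · have := isClosedImmersion_graph gX gY T a ha
    let Γ := graph gX gY T a ha
    have hΓ : Γ.ker.subschemeι ≫ PicF.XTproj fP T = inv Γ.toImage ≫ pullback.fst T.hom gX := by
      rw [eq_comm, IsIso.inv_comp_eq, ← Category.assoc]
      erw [Scheme.Hom.toImage_imageι]
      simp [Γ]
    obtain ⟨g, hg, huniq⟩ := hH.2 T ⟨Γ.ker, by rw [hΓ]; infer_instance, by rw [hΓ]; infer_instance⟩
    refine ⟨g, ⟨?_, hg⟩, fun g' hg' => huniq g' hg'.2⟩
    rintro _ ⟨t, rfl⟩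
    rw [SetLike.mem_coe, hU]
    have hq : IsIso (proj gX gY T (FGA.hilbPull fP g Z.1)) := by
      rw [show FGA.hilbPull fP g Z.1 = Γ.ker from hg]
      have : Γ.ker.subschemeι ≫ qT gX gY T = inv Γ.toImage := by
        rw [← cancel_epi Γ.toImage, IsIso.hom_inv_id, ← Category.assoc]
        erw [Scheme.Hom.toImage_imageι]
        exact graph_qT gX gY T a ha
      show IsIso (Γ.ker.subschemeι ≫ qT gX gY T)
      rw [this]
      infer_instance
    have h1 := (isIso_proj_hilbPull gX gY g Z.1).2 hq
    let σ : (pullback.fst T.hom gX).fiber t ⟶ hX.fiber (g.left t) :=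
      pullback.map _ _ _ _ (xmap gX g) (Spec.map (g.left.residueFieldMap t)) g.left
        (isPullback_xmap gX g).w.symm (by simp)
    have hσ : σ ≫ hX.fiberι (g.left t) = (pullback.fst T.hom gX).fiberι t ≫ xmap gX g :=
      pullback.lift_fst _ _ _
    have hpb := isPullback_fiberToSpecResidueField_of_isPullback (isPullback_xmap gX g) t
    have hb : (@Surjective ⊓ @Flat ⊓ @QuasiCompact : MorphismProperty Scheme.{u}) (Spec.map (g.left.residueFieldMap t)) := by
      refine ⟨⟨⟨fun x => ⟨IsLocalRing.closedPoint (T.left.residueField t), Subsingleton.elim (α := PrimeSpectrum _) _ _⟩⟩, ?_⟩, inferInstance⟩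
      rw [HasRingHomProperty.Spec_iff (P := @Flat)]
      let _ : Algebra (H.left.residueField (g.left t)) (T.left.residueField t) := (g.left.residueFieldMap t).hom.toAlgebra
      have : Module.Free (H.left.residueField (g.left t)) (T.left.residueField t) := Module.Free.of_divisionRing _ _
      exact Module.Flat.of_free (R := H.left.residueField (g.left t)) (M := T.left.residueField t)
    refine isIso_of_isIso_snd_comp p (hX.fiberι (g.left t)) σ (MorphismProperty.of_isPullback hpb.flip hb) ?_
    rw [hσ]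
    exact isIso_snd_comp p (xmap gX g) _
  · obtain ⟨j', -, hj⟩ := isIso_snd_restrict p (hX ⁻¹ᵁ U) (xmap gX g) (fun t => by
      show hX (xmap gX g t) ∈ U
      rw [← Scheme.Hom.comp_apply, (isPullback_xmap gX g).w, Scheme.Hom.comp_apply]
      exact hg ⟨_, rfl⟩)
    exact (isIso_proj_hilbPull gX gY g Z.1).1 (hj.1 inferInstance)

end Groth.Agent.FlatMor12.HilbGraph
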