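import Groth.Agent.Props12.KerReduced
import Groth.Agent.H8ProCons.Image
import Mathlib.AlgebraicGeometry.Morphisms.Immersion

/-!
# An immersion of finite presentation through a generic point of a reduced scheme
-/

set_option autoImplicit false
set_option backward.isDefEq.respectTransparency false

universe u

open CategoryTheory AlgebraicGeometry TopologicalSpace

namespace Groth.Agent.FlatMor12

/-- A reduced open inside the range of an immersion factors through it. -/
theorem exists_lift_of_subset_range {T S : Scheme.{u}} (t : T ⟶ S) [IsImmersion t] {W : Scheme.{u}} [IsReduced W]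
    (g : W ⟶ S) (h : Set.range g ⊆ Set.range t) : ∃ g' : W ⟶ T, g' ≫ t = g := by
  let O := t.coborderRange
  let k := IsOpenImmersion.lift O.ι g
    (by rw [Scheme.Opens.range_ι]; exact h.trans subset_coborder)
  have hk : k ≫ O.ι = g := IsOpenImmersion.lift_fac _ _ _
  let j := t.liftCoborder
  have hle : j.ker ≤ k.ker := by
    rw [Props12.ker_eq_vanishingIdeal k, ← Scheme.IdealSheafData.le_support_iff_le_vanishingIdeal]
    refine closure_minimal ?_ j.ker.support.2
    rintro _ ⟨w, rfl⟩
    show k w ∈ (j.ker.support : Set O.toScheme)
    rw [Scheme.Hom.support_ker]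
    obtain ⟨x, hx⟩ := h ⟨w, rfl⟩
    refine subset_closure ⟨x, O.ι.isOpenEmbedding.injective ?_⟩
    rw [← Scheme.Hom.comp_apply, t.liftCoborder_ι, hx, ← hk]
    rfl
  refine ⟨IsClosedImmersion.lift j k hle, ?_⟩
  conv_lhs => arg 2; rw [← t.liftCoborder_ι]
  rw [IsClosedImmersion.lift_fac_assoc, hk]

/-- The range of a map of finite presentation through the generic point of a component contains a
neighbourhood of it. -/
theorem exists_opens_subset_range {T S : Scheme.{u}} (t : T ⟶ S) [LocallyOfFinitePresentation t]
    (η : S) (W : Set S) (hW : W ∈ irreducibleComponents S) (hη : IsGenericPoint η W) (h : η ∈ Set.range t) :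
    ∃ U : S.Opens, η ∈ U ∧ (U : Set S) ⊆ Set.range t := by
  have hind : ProCons.IsIndConstructible (Set.range t) := by
    rw [← Set.image_univ]
    exact H8ProCons.isIndConstructible_image t (H8ProCons.isIndConstructible_of_isOpen isOpen_univ)
  refine ⟨⟨interior (Set.range t), isOpen_interior⟩,
    (H8ProCons.mem_interior_iff hind η).2 fun x hx => ?_, interior_subset⟩
  have hsub : closure ({η} : Set S) ⊆ closure {x} :=
    closure_minimal (Set.singleton_subset_iff.2 hx.mem_closure) isClosed_closure
  have heq : closure ({x} : Set S) ⊆ closure {η} := by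
    rw [hη.def]
    exact hW.2 isIrreducible_singleton.closure (hη.def.symm.le.trans hsub)
  rwa [(hx.antisymm (specializes_iff_closure_subset.2 heq)).eq]

end Groth.Agent.FlatMor12
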