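import Groth.Agent.FlatMor12.KoszulSourceQuot
import Groth.Agent.Synt15.RelCI
import Groth.Agent.Synt15.Descent
import Mathlib.RingTheory.Spectrum.Prime.Chevalley

/-!
# Koszul regularity descends along a relative global complete intersection of the source
-/

set_option autoImplicit false
set_option linter.style.haveILetI false

universe u

open MvPolynomial
open Groth.Agent.CAlgH.KoszulRegular Groth.Agent.CAlgH.KoszulDescent
open Groth.Agent.FlatMorKoszul

namespace Groth.Agent.FlatMor12.KoszulSource

/-- A relative global complete intersection stays irredundant modulo primes of the base. -/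
theorem not_mem_of_isRelGCI {P : Type u} [CommRing P] {n' c : ℕ}
    (F : Fin c → MvPolynomial (Fin n') P) (hF : Synt.IsRelGCI P n' c F)
    (I : Ideal P) (Q : Ideal (MvPolynomial (Fin n') P)) [Q.IsPrime]
    (hIQ : I.map C ≤ Q) (hFQ : ∀ i, F i ∈ Q) (j : Fin c) :
    algebraMap (MvPolynomial (Fin n') P) (Localization.AtPrime Q) (F j) ∉
      (I.map (C (σ := Fin n'))).map
          (algebraMap (MvPolynomial (Fin n') P) (Localization.AtPrime Q)) ⊔
        Ideal.span ((fun i => algebraMap (MvPolynomial (Fin n') P) (Localization.AtPrime Q) (F i)) '' {j}ᶜ) := by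
  classical
  intro hj
  let K := Q.ResidueField
  let φK : P →+* K := (algebraMap (MvPolynomial (Fin n') P) K).comp C
  let ev : MvPolynomial (Fin n') K →+* K := eval fun i => algebraMap (MvPolynomial (Fin n') P) K (X i)
  have hev : ev.comp (MvPolynomial.map φK) = algebraMap (MvPolynomial (Fin n') P) K :=
    ringHom_ext (fun r => by simp [ev, φK]) (fun i => by simp [ev])
  let Qk := RingHom.ker ev
  haveI : Qk.IsPrime := RingHom.ker_isPrime ev
  have hcomap : Q = Qk.comap (MvPolynomial.map φK) := by
    rw [RingHom.comap_ker, hev, Ideal.ker_algebraMap_residueField]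
  let L' := Localization.AtPrime Qk
  let ρ : Localization.AtPrime Q →+* L' := Localization.localRingHom Q Qk (MvPolynomial.map φK) hcomap
  have hρ : ∀ x, ρ (algebraMap _ _ x) = algebraMap _ L' (MvPolynomial.map φK x) :=
    Localization.localRingHom_to_map _ _ _ hcomap
  let G : Fin c → L' := fun i => algebraMap _ L' (MvPolynomial.map φK (F i))
  have hG : KReg G := by
    haveI : Module.Flat (MvPolynomial (Fin n') K) L' := IsLocalization.flat L' Qk.primeCompl
    exact (Synt15.kreg (Synt15.isRelGCI_map φK hF)).map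
  have hI0 : ∀ a ∈ I, φK a = 0 := fun a ha => by
    show algebraMap (MvPolynomial (Fin n') P) K (C a) = 0
    rw [← RingHom.mem_ker, Ideal.ker_algebraMap_residueField]
    exact hIQ (Ideal.mem_map_of_mem C ha)
  have hmem : G j ∈ Ideal.span (G '' {j}ᶜ) := by
    have h1 := Ideal.mem_map_of_mem ρ hj
    rw [hρ, Ideal.map_sup, Ideal.map_span, Set.image_image, Ideal.map_map, Ideal.map_map] at h1
    refine (sup_le ?_ ?_ : _ ≤ Ideal.span (G '' {j}ᶜ)) h1
    · refine Ideal.map_le_iff_le_comap.2 fun a ha => ?_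
      rw [Ideal.mem_comap, RingHom.comp_apply, RingHom.comp_apply, hρ, map_C, hI0 a ha, map_zero,
        map_zero]
      exact zero_mem _
    · refine le_of_eq (congrArg Ideal.span (Set.image_congr fun i _ => ?_))
      exact hρ (F i)
  obtain ⟨l, hl, hle⟩ := (Finsupp.mem_span_image_iff_linearCombination L').1 hmem
  rw [Finsupp.linearCombination_apply, Finsupp.sum_fintype _ _ (by simp)] at hle
  have hlj : l j = 0 := Finsupp.notMem_support_iff.1 fun h =>
    (Finsupp.mem_supported _ _).1 hl h rfl
  let a : Fin c → L' := fun i => l i - if i = j then 1 else 0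
  have hrel : ∑ i, a i * G i = 0 := by
    simp only [a, sub_mul, Finset.sum_sub_distrib, ite_mul, one_mul, zero_mul, Finset.sum_ite_eq',
      Finset.mem_univ, if_true]
    simp only [smul_eq_mul] at hle
    rw [hle, sub_self]
  have h2 := coeff_mem_of_relation hG hrel j
  simp only [a, hlj, if_true, zero_sub, neg_mem_iff, Ideal.neg_mem_iff] at h2
  refine (IsLocalRing.maximalIdeal.isMaximal L').ne_top ((Ideal.eq_top_iff_one _).2
    ((Ideal.span_le.2 ?_ : Ideal.span (Set.range G) ≤ IsLocalRing.maximalIdeal L') h2))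
  rintro _ ⟨i, rfl⟩
  rw [SetLike.mem_coe, IsLocalization.AtPrime.to_map_mem_maximal_iff L' Qk]
  show MvPolynomial.map φK (F i) ∈ Qk
  rw [← Ideal.mem_comap, ← hcomap]
  exact hFQ i

variable {A : Type u} [CommRing A] {n : ℕ}

/-- The descent step. -/
theorem kAt_core (I : Ideal (MvPolynomial (Fin n) A)) (hI : I.FG) {n' c : ℕ}
    (F : Fin c → MvPolynomial (Fin n') (MvPolynomial (Fin n) A))
    (hF : Synt.IsRelGCI (MvPolynomial (Fin n) A) n' c F)
    (h : LCI.IsLCI A (Synt.RelGCIRing (MvPolynomial (Fin n) A) n' c F ⧸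
      I.map (algebraMap _ (Synt.RelGCIRing (MvPolynomial (Fin n) A) n' c F))))
    (q : Ideal (Synt.RelGCIRing (MvPolynomial (Fin n) A) n' c F)) [q.IsPrime]
    (hq : I.map (algebraMap _ (Synt.RelGCIRing (MvPolynomial (Fin n) A) n' c F)) ≤ q) :
    KAt I (q.comap (algebraMap _ (Synt.RelGCIRing (MvPolynomial (Fin n) A) n' c F))) := by
  classical
  let P := MvPolynomial (Fin n) A
  let R := MvPolynomial (Fin n') P
  let S := Synt.RelGCIRing P n' c F
  let π : R →+* S := Ideal.Quotient.mk (Ideal.span (Set.range F))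
  have hπ : Function.Surjective π := Ideal.Quotient.mk_surjective
  have hmap : (I.map C).map π = I.map (algebraMap P S) := Ideal.map_map _ _
  let γ : R →ₐ[A] S ⧸ I.map (algebraMap P S) :=
    (Ideal.Quotient.mkₐ A _).comp (Ideal.Quotient.mkₐ A (Ideal.span (Set.range F)))
  have hker : RingHom.ker γ.toRingHom = I.map C ⊔ Ideal.span (Set.range F) := by
    show RingHom.ker ((Ideal.Quotient.mk _).comp π) = _
    rw [← RingHom.comap_ker, Ideal.mk_ker, ← hmap, Ideal.comap_map_of_surjective _ hπ,
      ← RingHom.ker_eq_comap_bot, Ideal.mk_ker]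
  have hJ : LCI.IsKoszulRegularIdeal (I.map C ⊔ Ideal.span (Set.range F)) := hker ▸
    isKoszulRegularIdeal_ker_two h γ (Ideal.Quotient.mk_surjective.comp hπ)
  have hT : LCI.IsKoszulRegularIdeal (I.map (algebraMap P S)) := by
    rw [isKoszulRegularIdeal_iff]
    intro q' hq'
    rw [← hmap] at hq' ⊢
    have hJle : I.map C ⊔ Ideal.span (Set.range F) ≤ q'.asIdeal.comap π :=
      sup_le (Ideal.map_le_iff_le_comap.1 hq') (by
        exact (Ideal.mk_ker (I := Ideal.span (Set.range F))).ge.trans (Ideal.comap_mono bot_le))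
    exact kAt_quotient π hπ F (Synt15.kreg hF) (Ideal.mk_ker) _ (hI.map _) q'.asIdeal hq'
      ((isKoszulRegularIdeal_iff _).1 hJ ⟨q'.asIdeal.comap π, inferInstance⟩ hJle)
      (not_mem_of_isRelGCI F hF I _ (le_sup_left.trans hJle)
        fun i => hJle (Submodule.mem_sup_right (Ideal.subset_span ⟨i, rfl⟩)))
  haveI : Module.Flat P S := Synt15.flat_relGCI hF
  haveI : Algebra.FinitePresentation P S :=
    Algebra.FinitePresentation.quotient (Submodule.fg_span (Set.finite_range F))
  let p0 : PrimeSpectrum P := PrimeSpectrum.comap (algebraMap P S) ⟨q, inferInstance⟩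
  obtain ⟨_, ⟨s, rfl⟩, hsp, hsub⟩ := PrimeSpectrum.isTopologicalBasis_basic_opens.exists_subset_of_mem_open
    (show p0 ∈ Set.range (PrimeSpectrum.comap (algebraMap P S)) from ⟨_, rfl⟩)
    (PrimeSpectrum.isOpenMap_comap_of_hasGoingDown_of_finitePresentation (R := P) (S := S)).isOpen_range
  let Ps := Localization.Away s
  let Ss := Localization.Away (algebraMap P S s)
  let ψ : Ps →+* Ss := IsLocalization.Away.map Ps Ss (algebraMap P S) s
  letI : Algebra Ps Ss := ψ.toAlgebra
  have hψ : ∀ x, ψ (algebraMap P Ps x) = algebraMap P Ss x := fun x =>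
    (IsLocalization.map_eq _ x).trans (IsScalarTower.algebraMap_apply P S Ss x).symm
  haveI : IsScalarTower P Ps Ss := IsScalarTower.of_algebraMap_eq fun x => (hψ x).symm
  haveI : Module.Flat S Ss := IsLocalization.flat Ss (Submonoid.powers (algebraMap P S s))
  haveI : Module.Flat P Ss := Module.Flat.trans P S Ss
  haveI : Module.Flat Ps Ss := (Module.flat_iff_of_isLocalization Ps (Submonoid.powers s) Ss).2 ‹_›
  haveI : Module.FaithfullyFlat Ps Ss := by
    refine Module.FaithfullyFlat.of_comap_surjective fun p => ?_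
    obtain ⟨q1, hq1⟩ := hsub (show PrimeSpectrum.comap (algebraMap P Ps) p ∈
      (PrimeSpectrum.basicOpen s : Set (PrimeSpectrum P)) from
        (PrimeSpectrum.localization_away_comap_range Ps s).le ⟨p, rfl⟩)
    obtain ⟨q2, hq2⟩ : q1 ∈ Set.range (PrimeSpectrum.comap (algebraMap S Ss)) := by
      rw [PrimeSpectrum.localization_away_comap_range Ss (algebraMap P S s)]
      have : PrimeSpectrum.comap (algebraMap P S) q1 ∈ (PrimeSpectrum.basicOpen s : Set (PrimeSpectrum P)) := by
        rw [hq1]; exact (PrimeSpectrum.localization_away_comap_range Ps s).le ⟨p, rfl⟩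
      exact this
    refine ⟨q2, PrimeSpectrum.localization_comap_injective Ps (Submonoid.powers s) ?_⟩
    rw [← hq1, ← hq2, ← PrimeSpectrum.comap_comp_apply, ← PrimeSpectrum.comap_comp_apply,
      ← IsScalarTower.algebraMap_eq, ← IsScalarTower.algebraMap_eq]
  have hdesc : LCI.IsKoszulRegularIdeal (I.map (algebraMap P Ps)) := by
    refine CAlgH.KoszulDescent.isKoszulRegularIdeal_of_faithfullyFlat (B := Ss) _ ?_
    rw [Ideal.map_map, ← IsScalarTower.algebraMap_eq, IsScalarTower.algebraMap_eq P S Ss, ← Ideal.map_map]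
    exact FlatMorKoszul.isKoszulRegularIdeal_map (RingHom.flat_algebraMap_iff.2 ‹Module.Flat S Ss›) hT
  obtain ⟨P1, hP1⟩ : p0 ∈ Set.range (PrimeSpectrum.comap (algebraMap P Ps)) :=
    (PrimeSpectrum.localization_away_comap_range Ps s).ge hsp
  have hle : I.map (algebraMap P Ps) ≤ P1.asIdeal := by
    rw [Ideal.map_le_iff_le_comap]
    refine (Ideal.map_le_iff_le_comap.1 hq).trans (le_of_eq ?_)
    exact (congrArg PrimeSpectrum.asIdeal hP1).symm
  have hk := KAt.of_away ((isKoszulRegularIdeal_iff _).1 hdesc P1 hle)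
  have e : P1.asIdeal.comap (algebraMap P Ps) = q.comap (algebraMap P S) :=
    congrArg PrimeSpectrum.asIdeal hP1
  rwa [e] at hk

end Groth.Agent.FlatMor12.KoszulSource
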