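import Groth.Agent.FlatMorKoszul.Quot
import Groth.Agent.FlatMorKoszul.Localization
import Groth.Agent.CAlgH.KoszulDescent

/-!
# Quotient of a Koszul regular ideal by part of a regular generating system
-/

set_option autoImplicit false
set_option linter.style.haveILetI false
set_option backward.isDefEq.respectTransparency false

universe u

open Groth.Agent.CAlgH.KoszulRegular Groth.Agent.CAlgH.KoszulDescent
open Groth.Agent.FlatMorKoszul

namespace Groth.Agent.FlatMor12.KoszulSource

variable {R T : Type u} [CommRing R] [CommRing T]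

/-- `KAt` passes from `I ⊔ (F)` to the image of `I` in `R ⧸ (F)` when `F` is Koszul regular and
stays irredundant modulo `I`. -/
theorem kAt_quotient (φ : R →+* T) (hφ : Function.Surjective φ) {c : ℕ} (F : Fin c → R)
    (hF : KReg F) (hker : RingHom.ker φ = Ideal.span (Set.range F)) (I : Ideal R) (hIfg : I.FG)
    (q : Ideal T) [q.IsPrime] (hIq : I.map φ ≤ q)
    (hJ : KAt (I ⊔ Ideal.span (Set.range F)) (q.comap φ))
    (hind : ∀ j, algebraMap R (Localization.AtPrime (q.comap φ)) (F j) ∉
      I.map (algebraMap R (Localization.AtPrime (q.comap φ))) ⊔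
        Ideal.span ((fun i => algebraMap R (Localization.AtPrime (q.comap φ)) (F i)) '' {j}ᶜ)) :
    KAt (I.map φ) q := by
  classical
  let Q := q.comap φ
  let L := Localization.AtPrime Q
  let J := I ⊔ Ideal.span (Set.range F)
  obtain ⟨r, fT, sT, hsT, hfTI, hsf, hirr⟩ := exists_irred_generators (I.map φ) (hIfg.map φ) q
  choose f hfI hf using fun i => (Ideal.mem_map_iff_of_surjective φ hφ).1 (hfTI i)
  obtain ⟨s, rfl⟩ := hφ sT
  obtain ⟨h, hh, m, g, -, hg, hgs⟩ := hJ
  have hφF : ∀ i, φ (F i) = 0 := fun i => RingHom.mem_ker.1 (hker ▸ Ideal.subset_span ⟨i, rfl⟩)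
  have hgen : ∀ (L' : Type u) [CommRing L'] [Algebra R L'], IsUnit (algebraMap R L' s) →
      J.map (algebraMap R L') = Ideal.span (Set.range fun i => algebraMap R L' (Fin.append f F i)) := by
    intro L' _ _ hu
    refine le_antisymm (Ideal.map_le_iff_le_comap.2 fun a ha => ?_) (Ideal.span_le.2 ?_)
    · have haT : φ a ∈ I.map φ := by
        obtain ⟨x, hx, y, hy, rfl⟩ := Submodule.mem_sup.1 ha
        rw [map_add, RingHom.mem_ker.1 (hker ▸ hy : y ∈ RingHom.ker φ), add_zero]
        exact Ideal.mem_map_of_mem φ hx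
      have hmem : φ (s * a) ∈ (Ideal.span (Set.range f)).map φ := by
        rw [map_mul, Ideal.map_span, ← Set.range_comp, show φ ∘ f = fT from funext hf]
        exact hsf _ haT
      obtain ⟨b, hb, hb'⟩ := (Ideal.mem_map_iff_of_surjective φ hφ).1 hmem
      have h2 : s * a - b ∈ Ideal.span (Set.range F) := by
        rw [← hker, RingHom.mem_ker, map_sub, hb', sub_self]
      have h3 : s * a ∈ Ideal.span (Set.range (Fin.append f F)) := by
        rw [range_append, Ideal.span_union]
        exact Submodule.mem_sup.2 ⟨b, hb, _, h2, by ring⟩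
      rw [Ideal.mem_comap]
      have h4 := Ideal.mem_map_of_mem (algebraMap R L') h3
      rw [map_mul, Ideal.map_span, ← Set.range_comp] at h4
      exact (Ideal.unit_mul_mem_iff_mem _ hu).1 h4
    · rintro _ ⟨i, rfl⟩
      refine Ideal.mem_map_of_mem _ ?_
      refine Fin.addCases (fun i => ?_) (fun i => ?_) i
      · rw [Fin.append_left]; exact Submodule.mem_sup_left (hfI i)
      · rw [Fin.append_right]; exact Submodule.mem_sup_right (Ideal.subset_span ⟨i, rfl⟩)
  have hsQ : s ∉ Q := hsT
  -- the count at the point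
  have hJQ : J ≤ Q := sup_le (Ideal.map_le_iff_le_comap.1 hIq) (by
    rw [← hker]; exact Ideal.comap_mono bot_le)
  have huL : ∀ {y : R}, y ∉ Q → IsUnit (algebraMap R L y) := fun {y} hy =>
    IsLocalization.map_units L (⟨y, hy⟩ : Q.primeCompl)
  have hgL : KReg fun i => algebraMap R L (g i) := kreg_of_isUnit Q.primeCompl L (huL hh) hg
  have hspanL : Ideal.span (Set.range fun i => algebraMap R L (Fin.append f F i)) =
      Ideal.span (Set.range fun i => algebraMap R L (g i)) :=
    (hgen L (huL hsQ)).symm.trans (map_eq_span_of_isUnit L (huL hh) hgs)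
  have hne : Ideal.span (Set.range fun i => algebraMap R L (g i)) ≠ ⊤ := by
    rw [← map_eq_span_of_isUnit L (huL hh) hgs]
    refine ne_top_of_le_ne_top (IsLocalRing.maximalIdeal.isMaximal L).ne_top ?_
    rw [Ideal.map_le_iff_le_comap]
    exact hJQ.trans (IsLocalization.AtPrime.comap_maximalIdeal L Q).ge
  let ρ : L →+* Localization.AtPrime q := Localization.localRingHom Q q φ rfl
  have hρ : ∀ x, ρ (algebraMap R L x) = algebraMap T _ (φ x) := Localization.localRingHom_to_map _ _ _ rfl
  have hirrA : Irred fun i => algebraMap R L (Fin.append f F i) := by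
    refine Fin.addCases (fun j hj => ?_) (fun j hj => ?_)
    · refine hirr j ?_
      have := Ideal.mem_map_of_mem ρ hj
      dsimp only at this
      rw [Fin.append_left, hρ, hf, Ideal.map_span, Set.image_image] at this
      refine (Ideal.span_le.2 ?_ :
        _ ≤ Ideal.span ((fun i => algebraMap T (Localization.AtPrime q) (fT i)) '' {j}ᶜ)) this
      rintro _ ⟨k, hk, rfl⟩
      refine Fin.addCases (fun k hk => ?_) (fun k hk => ?_) k hk
      · dsimp only
        rw [Fin.append_left, hρ, hf]
        exact Ideal.subset_span ⟨k, fun e => hk (by rw [Set.mem_singleton_iff.1 e]; rfl), rfl⟩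
      · dsimp only
        rw [Fin.append_right, hρ, hφF, map_zero]
        exact zero_mem _
    · refine hind j ?_
      dsimp only at hj
      rw [Fin.append_right] at hj
      refine (Ideal.span_le.2 ?_ : _ ≤ I.map (algebraMap R L) ⊔
        Ideal.span ((fun i => algebraMap R L (F i)) '' {j}ᶜ)) hj
      rintro _ ⟨k, hk, rfl⟩
      refine Fin.addCases (fun k hk => ?_) (fun k hk => ?_) k hk
      · dsimp only
        rw [Fin.append_left]
        exact Submodule.mem_sup_left (Ideal.mem_map_of_mem _ (hfI k))
      · dsimp only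
        rw [Fin.append_right]
        exact Submodule.mem_sup_right (Ideal.subset_span ⟨k, fun e => hk (by
          rw [Set.mem_singleton_iff.1 e]; rfl), rfl⟩)
  obtain ⟨hm, -⟩ := kreg_of_irred (A := L) (B := L) (f := fun i => algebraMap R L (Fin.append f F i))
    hirrA hgL (by rw [Algebra.algebraMap_self, Ideal.map_id]; exact hspanL) hne
  subst hm
  -- the neighbourhood
  let L1 := Localization.Away (h * s)
  let T1 := Localization.Away (φ (h * s))
  have hu1 := IsLocalization.Away.algebraMap_isUnit (S := L1) (h * s)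
  rw [map_mul] at hu1
  obtain ⟨huh, hus⟩ := IsUnit.mul_iff.1 hu1
  have hA : KReg fun i => algebraMap R L1 (Fin.append f F i) :=
    kreg_of_span_eq (kreg_of_isUnit (Submonoid.powers (h * s)) L1 huh hg)
      ((hgen L1 hus).symm.trans (map_eq_span_of_isUnit L1 huh hgs))
  have hA' : KReg (Fin.append (fun i => algebraMap R L1 (f i)) fun i => algebraMap R L1 (F i)) := by
    convert hA using 1
    funext i
    refine Fin.addCases (fun i => ?_) (fun i => ?_) i <;> simp
  let ψ : L1 →+* T1 := IsLocalization.map T1 φ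
    (show Submonoid.powers (h * s) ≤ (Submonoid.powers (φ (h * s))).comap φ from
      Submonoid.powers_le.2 (Submonoid.mem_powers _))
  have hψ : ∀ x, ψ (algebraMap R L1 x) = algebraMap T T1 (φ x) := fun x => IsLocalization.map_eq _ x
  have hψs : Function.Surjective ψ := fun y => by
    obtain ⟨a, ⟨_, n, rfl⟩, rfl⟩ := IsLocalization.exists_mk'_eq (Submonoid.powers (φ (h * s))) y
    obtain ⟨b, rfl⟩ := hφ a
    refine ⟨IsLocalization.mk' L1 b (⟨_, pow_mem (Submonoid.mem_powers (h * s)) n⟩ : Submonoid.powers (h * s)), ?_⟩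
    rw [IsLocalization.map_mk']
    congr 1
    exact Subtype.ext (map_pow φ _ n)
  have hψker : RingHom.ker ψ = Ideal.span (Set.range fun i => algebraMap R L1 (F i)) := by
    rw [IsLocalization.ker_map (S := L1) T1 φ (Submonoid.map_powers φ (h * s)), hker, Ideal.map_span,
      ← Set.range_comp]
    rfl
  have hK := kreg_of_append hψs hψker (FlatMorKoszul.kreg_map (RingHom.flat_algebraMap_iff.2
    (IsLocalization.flat L1 (Submonoid.powers (h * s)))) hF) hA'
  refine ⟨φ (h * s), ?_, r, fT, hfTI, ?_, ?_⟩
  · exact fun hc => (Ideal.IsPrime.mem_or_mem (inferInstanceAs Q.IsPrime)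
      (show h * s ∈ Q from hc)).elim hh hsQ
  · simpa only [hψ, hf] using hK
  · have hu : IsUnit (algebraMap T T1 (φ s)) := by
      refine (IsUnit.mul_iff (x := algebraMap T T1 (φ h)).1 ?_).2
      have e : φ h * φ s = φ (h * s) := (map_mul φ h s).symm
      have e' : algebraMap T T1 (φ h) * algebraMap T T1 (φ s) = algebraMap T T1 (φ (h * s)) :=
        (map_mul (algebraMap T T1) _ _).symm.trans (congrArg (algebraMap T T1) e)
      exact e' ▸ IsLocalization.Away.algebraMap_isUnit (φ (h * s))
    refine le_antisymm (Ideal.map_le_iff_le_comap.2 fun a ha => ?_) (Ideal.span_le.2 ?_)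
    · rw [Ideal.mem_comap]
      have h4 := Ideal.mem_map_of_mem (algebraMap T T1) (hsf a ha)
      rw [map_mul (algebraMap T T1) (φ s) a, Ideal.map_span, ← Set.range_comp] at h4
      exact (Ideal.unit_mul_mem_iff_mem _ hu).1 h4
    · rintro _ ⟨i, rfl⟩
      exact Ideal.mem_map_of_mem _ (hfTI i)

end Groth.Agent.FlatMor12.KoszulSource
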