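import Groth.Agent.FlatMorAdm.ExtendLocFree

/-! Making a coherent quotient which is locally free on an open a locally free quotient. -/

set_option autoImplicit false
set_option backward.isDefEq.respectTransparency.types false

universe u

open CategoryTheory Limits AlgebraicGeometry TopologicalSpace
open Groth.Agent.Coherent Groth.Agent.FlatMorAdm

namespace Groth.Agent.FlatMor12

variable {X : Scheme.{u}}

/-- A module of finite type which is finite locally free on `U` has, after a `U`-admissible blow-up,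
a finite locally free quotient of its pullback agreeing with it over `U`. -/
theorem exists_blowUp_finLocFree_quotient [IsNoetherian X] (U : X.Opens) (N : X.Modules) [Coh.IsQCoh N]
    (hN : CohB1.IsFT N) (F : (U : Scheme.{u}).Modules) (hF : FlatMod.IsFinLocFree F) (eN : N.restrict U.ι ≅ F) :
    ∃ (I : X.IdealSheafData) (X' : Scheme.{u}) (b : X' ⟶ X), BlowUp.IsBlowUp b I ∧
      BlowUp.IsAdmissibleFor U I ∧ ModPairLib.IsDenseOpen (b ⁻¹ᵁ U) ∧
      ∃ (E : X'.Modules) (π : (Scheme.Modules.pullback b).obj N ⟶ E), FlatMod.IsFinLocFree E ∧ Epi π ∧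
        IsIso ((Scheme.Modules.restrictFunctor (b ⁻¹ᵁ U).ι).map π) := by
  classical
  -- the rank decomposition
  have hcovU : ∀ x ∈ U, ∃ r, x ∈ rankOpen N U r := by
    intro x hx
    obtain ⟨V, n, hxV, ⟨e⟩⟩ := hF ⟨x, hx⟩
    refine ⟨n, ?_⟩
    simp only [rankOpen, Opens.mem_iSup]
    refine ⟨U.ι ''ᵁ V, ⟨U.ι_image_le V, ⟨?_⟩⟩, ⟨⟨x, hx⟩, hxV, rfl⟩⟩
    let θ := IsOpenImmersion.isoOfRangeEq (U.ι ''ᵁ V).ι (V.ι ≫ U.ι) (by
      rw [Scheme.Opens.range_ι, Scheme.Hom.comp_base, TopCat.coe_comp, Set.range_comp, Scheme.Opens.range_ι]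
      rfl)
    exact ((Scheme.Modules.restrictFunctorCongr (IsOpenImmersion.isoOfRangeEq_hom_fac _ _ _).symm ≪≫
        Scheme.Modules.restrictFunctorComp θ.hom (V.ι ≫ U.ι)).app N) ≪≫
      (Scheme.Modules.restrictFunctor θ.hom).mapIso
        ((Scheme.Modules.restrictFunctorComp V.ι U.ι).app N ≪≫
          (Scheme.Modules.restrictFunctor V.ι).mapIso eN ≪≫ e) ≪≫ CohBC.freeModRestrictIso θ.hom n
  obtain ⟨s, hs⟩ := (NoetherianSpace.isCompact (U : Set X)).elim_finite_subcover
    (fun r => (rankOpen N U r : Set X)) (fun r => (rankOpen N U r).2)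
    (fun x hx => Set.mem_iUnion.2 (hcovU x hx))
  let A : ℕ → X.Opens := fun r => rankOpen N U r
  let B : ℕ → X.Opens := fun r => (s.erase r).sup A
  have hABd : ∀ r, Disjoint (A r : Set X) (B r) := by
    intro r
    refine Set.disjoint_left.2 fun x hA hB => ?_
    simp only [B, Finset.sup_eq_iSup, SetLike.mem_coe, Opens.mem_iSup] at hB
    obtain ⟨k, hk, hxk⟩ := hB
    rcases lt_or_gt_of_ne (Finset.ne_of_mem_erase hk) with h | h
    · exact Set.disjoint_left.1 (disjoint_rankOpen N hN U h) hxk hA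
    · exact Set.disjoint_left.1 (disjoint_rankOpen N hN U h) hA hxk
  have hcov : ∀ x ∈ U, ∀ r, x ∈ A r ∨ x ∈ B r := by
    intro x hx r
    obtain ⟨k, hk, hxk⟩ := Set.mem_iUnion₂.1 (hs hx)
    by_cases h : k = r
    · exact Or.inl (h ▸ hxk)
    · refine Or.inr ?_
      simp only [B, Finset.sup_eq_iSup, Opens.mem_iSup]
      exact ⟨k, Finset.mem_erase.2 ⟨h, hk⟩, hxk⟩
  haveI : ∀ V : X.Opens, QuasiCompact V.ι := fun V => by
    haveI : CompactSpace (V : Scheme.{u}) := isCompact_iff_compactSpace.1 (NoetherianSpace.isCompact _)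
    exact quasiCompact_of_compactSpace _
  let T : ℕ → X.IdealSheafData := fun r => (A r).ι.ker
  let T' : ℕ → X.IdealSheafData := fun r => (B r).ι.ker
  obtain ⟨Z, hZ, hZs⟩ := BlowUpLib.exists_finiteType_support_eq ((U : Set X)ᶜ) U.2.isClosed_compl
    (NoetherianSpace.isCompact _)
  obtain ⟨K₁, -, hK₁s, hK₁⟩ := exists_prod s (fun r => T r ⊔ T' r) fun r _ => isFiniteTypeIdeal_of_noetherian _
  obtain ⟨K₂, -, hK₂s, hK₂⟩ := exists_prod s (fun r => Fitt.sheafIdeal N r ⊔ T r)
    fun r _ => isFiniteTypeIdeal_of_noetherian _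
  set J := Z * (K₁ * K₂) with hJ
  have hJU : BlowUp.IsAdmissibleFor U J := by
    refine ⟨isFiniteTypeIdeal_of_noetherian _, Set.disjoint_left.2 fun x hx hxU => ?_⟩
    rw [hJ, Scheme.IdealSheafData.support_mul, Scheme.IdealSheafData.support_mul] at hx
    rcases hx with h | h | h
    · rw [hZs] at h; exact h hxU
    · obtain ⟨r, -, hr⟩ := hK₁s x h
      rw [Scheme.IdealSheafData.support_sup] at hr
      rcases hcov x hxU r with h' | h'
      · exact Set.disjoint_left.1 (disjoint_support_ker_ι (B r) (A r) (hABd r).symm) hr.2 h'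
      · exact Set.disjoint_left.1 (disjoint_support_ker_ι (A r) (B r) (hABd r)) hr.1 h'
    · obtain ⟨r, -, hr⟩ := hK₂s x h
      rw [Scheme.IdealSheafData.support_sup] at hr
      rcases hcov x hxU r with h' | h'
      · exact not_mem_support_of_comap_eq_top ((comap_rankOpen N hN U r r).2 le_rfl) h' hr.1
      · exact Set.disjoint_left.1 (disjoint_support_ker_ι (A r) (B r) (hABd r)) hr.2 h'
  obtain ⟨X', b, hb⟩ := BlowUpLib.exists_isBlowUp (I := J)
  have hJc := hb.1
  rw [hJ, ModPairLib.comap_mul] at hJc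
  have hZc := SDiv28.isEffCartier_left_of_mul hJc
  have hKc := SDiv28.isEffCartier_right_of_mul hJc
  rw [ModPairLib.comap_mul] at hKc
  set D := b ⁻¹ᵁ U with hDdef
  have hDd : ModPairLib.IsDenseOpen D := by
    refine (ModPairLib.isDenseOpen_interior hZc).mono (fun y hy => ?_)
    have : y ∉ ((Z.comap b).support : Set X') := hy
    rw [Scheme.IdealSheafData.support_comap] at this
    by_contra h
    exact this (show b y ∈ (Z.support : Set X) by rw [hZs]; exact h)
  refine ⟨J, X', b, hb, hJU, hDd, ?_⟩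
  haveI : IsProper b := BlowUpLib.isProper_of_isBlowUp hb hJU.1
  haveI : CompactSpace X' := QuasiCompact.compactSpace_of_compactSpace b
  haveI : IsLocallyNoetherian X' := LocallyOfFiniteType.isLocallyNoetherian b
  haveI : AlgebraicGeometry.IsNoetherian X' := {}
  let N' := (Scheme.Modules.pullback b).obj N
  haveI hN'q : Coh.IsQCoh N' := EGA43.InjFibre.isQCoh_pullback b N
  have hN' : CohB1.IsFT N' := isFT_pullback_qcoh b (F := N) inferInstance hN
  haveI : QuasiCompact D.ι := by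
    haveI : CompactSpace (D : Scheme.{u}) := isCompact_iff_compactSpace.1 (NoetherianSpace.isCompact _)
    exact quasiCompact_of_compactSpace _
  let η := (Scheme.Modules.restrictAdjunction D.ι).unit.app N'
  haveI : Coh.IsQCoh ((Scheme.Modules.restrictFunctor D.ι ⋙ Scheme.Modules.pushforward D.ι).obj N') := by
    haveI : Coh.IsQCoh (N'.restrict D.ι) := inferInstance
    exact Coherent.isQCoh_push D.ι (N'.restrict D.ι)
  haveI : Coh.IsQCoh ((𝟭 X'.Modules).obj N') := hN'q
  let G := Abelian.image η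
  let π : N' ⟶ G := Abelian.factorThruImage η
  haveI hGq : Coh.IsQCoh G := isQCoh_image η
  have hG : CohB1.IsFT G := isFT_of_epi π hN'
  have hπη : ∀ (V : X'.Opens) (m : Γ(N', V)), π.app V m = 0 ↔
      resM N' (D.ι.image_preimage_le V) m = 0 := by
    intro V m
    have he : (Abelian.image.ι η).app V (π.app V m) = η.app V m :=
      congr($(Abelian.image.fac η).app V m)
    constructor
    · intro h
      show η.app V m = 0
      rw [← he, h, map_zero]
    · intro h
      refine app_injective_of_mono (Abelian.image.ι η) V ?_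
      rw [map_zero, he]
      exact h
  haveI : IsIso ((Scheme.Modules.restrictFunctor D.ι).map π) := by
    haveI : Mono ((Scheme.Modules.restrictFunctor D.ι).map π) := by
      refine MeroLib.mono_of_app_injective _ fun V => (injective_iff_map_eq_zero _).2 fun m hm => ?_
      have h := (hπη (D.ι ''ᵁ V) m).1 hm
      have hle : D.ι ''ᵁ V ≤ D.ι ''ᵁ D.ι ⁻¹ᵁ D.ι ''ᵁ V := by rw [D.ι.preimage_image_eq]
      have h' := congrArg (resM N' hle) h
      rw [map_zero, resM_resM, resM_refl] at h'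
      exact h'
    exact isIso_of_mono_of_epi _
  -- local structure
  have hloc : ∀ x : X', ∃ (W : X'.Opens) (r : ℕ), x ∈ W ∧
      Nonempty (G.restrict W.ι ≅ FlatMod.freeMod (↑W) r) := by
    intro x
    have hpull : ∀ (V : X.Opens) (I : X.IdealSheafData) (L : (V : Scheme.{u}).IdealSheafData),
        I.comap V.ι = L → (I.comap b).comap (b ⁻¹ᵁ V).ι = L.comap (b ∣_ V) := fun V I L h => by
      rw [← h, ← Scheme.IdealSheafData.comap_comp, ← Scheme.IdealSheafData.comap_comp, morphismRestrict_ι]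
    have htop : ∀ {Y Z : Scheme.{u}} (f : Y ⟶ Z), (⊤ : Z.IdealSheafData).comap f = ⊤ := fun f =>
      (Scheme.IdealSheafData.support_eq_bot_iff _).1 (by
        ext y
        simp [Scheme.IdealSheafData.support_comap])
    have hstep : ∀ r ∈ s, (∃ W : X'.Opens, x ∈ W ∧ W ⊓ b ⁻¹ᵁ A r = ⊥) ∨
        ∃ (W : X'.affineOpens) (a : Γ(X', W.1)), x ∈ W.1 ∧ W.1 ⊓ D ≤ b ⁻¹ᵁ A r ∧
          a ∈ nonZeroDivisors Γ(X', W.1) ∧ ((Fitt.sheafIdeal N r).comap b).ideal W = Ideal.span {a} := by
      intro r hr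
      refine exists_nhd_gen_or_disjoint hDd (b ⁻¹ᵁ A r) (b ⁻¹ᵁ B r) ?_ ?_ ?_ ((T r).comap b)
        ((T' r).comap b) _ ?_ ?_ ?_ ?_ ?_ ?_ x
      · intro y hy; exact hcov (b y) hy r
      · exact fun y hy => rankOpen_le N U r hy
      · intro y hy
        have : b y ∈ B r := hy
        simp only [B, Finset.sup_eq_iSup, Opens.mem_iSup] at this
        obtain ⟨k, -, hk⟩ := this
        exact rankOpen_le N U k hk
      · rw [hpull _ _ _ (ker_ι_comap (A r)), Scheme.IdealSheafData.comap_bot]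
      · rw [hpull _ _ ⊤ ((Scheme.IdealSheafData.support_eq_bot_iff _).1 (by
          ext y
          rw [Scheme.IdealSheafData.support_comap]
          exact iff_of_false (fun h => Set.disjoint_left.1 (disjoint_support_ker_ι (B r) (A r) (hABd r).symm) h y.2) id)), htop]
      · rw [hpull _ _ ⊤ ((Scheme.IdealSheafData.support_eq_bot_iff _).1 (by
          ext y
          rw [Scheme.IdealSheafData.support_comap]
          exact iff_of_false (fun h => Set.disjoint_left.1 (disjoint_support_ker_ι (A r) (B r) (hABd r)) h y.2) id)), htop]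
      · rw [hpull _ _ _ (ker_ι_comap (B r)), Scheme.IdealSheafData.comap_bot]
      · rw [← Scheme.IdealSheafData.comap_sup]
        exact hK₁ X' b (SDiv28.isEffCartier_left_of_mul hKc) r hr
      · rw [← Scheme.IdealSheafData.comap_sup]
        exact hK₂ X' b (SDiv28.isEffCartier_right_of_mul hKc) r hr
    obtain ⟨r, hr, W, a, hxW, hWA, ha, haI⟩ : ∃ r ∈ s, ∃ (W : X'.affineOpens) (a : Γ(X', W.1)),
        x ∈ W.1 ∧ W.1 ⊓ D ≤ b ⁻¹ᵁ A r ∧ a ∈ nonZeroDivisors Γ(X', W.1) ∧
          ((Fitt.sheafIdeal N r).comap b).ideal W = Ideal.span {a} := by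
      by_contra hne
      have hall : ∀ r ∈ s, ∃ W : X'.Opens, x ∈ W ∧ W ⊓ b ⁻¹ᵁ A r = ⊥ := fun r hr =>
        (hstep r hr).resolve_right fun h => hne ⟨r, hr, h⟩
      choose! O hxO hO using hall
      obtain ⟨y, hy, hyD⟩ := dense_iff_inter_open.1 (dense_of_isDenseOpen hDd) (⋂ r ∈ s, (O r : Set X'))
        (isOpen_biInter_finset fun r _ => (O r).2) ⟨x, Set.mem_iInter₂.2 hxO⟩
      obtain ⟨r, hr, hyr⟩ := Set.mem_iUnion₂.1 (hs hyD)
      exact (hO r hr).le ⟨Set.mem_iInter₂.1 hy r hr, hyr⟩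
    haveI := FlatMor12.FittSheaf.finite_affine N' hN' W
    haveI := FlatMor12.FittSheaf.finite_affine G hG W
    let q : Γ(N', W.1) →ₗ[Γ(X', W.1)] Γ(G, W.1) :=
      { toFun := π.app W.1
        map_add' := map_add _
        map_smul' := fun c m => Scheme.Modules.Hom.app_smul π c m }
    have hq : Function.Surjective q := FlatMor12.FittSheaf.surjective_app_of_epi' π W.2
    have haF : Fitt.ideal Γ(X', W.1) Γ(N', W.1) r = Ideal.span {a} := by
      rw [← FlatMor12.FittSheaf.ideal_eq N' hN' r W, ← FlatMor12.FittSheaf.comap_eq N b hN r, haI]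
    have hunit : IsUnit (ModPairLib.res (inf_le_left : W.1 ⊓ D ≤ W.1) a) := by
      refine RingedSpace.isUnit_of_isUnit_germ X'.toRingedSpace _ _ fun y hy => ?_
      have hns : y ∉ (((Fitt.sheafIdeal N r).comap b).support : Set X') := by
        rw [Scheme.IdealSheafData.support_comap]
        exact not_mem_support_of_comap_eq_top ((comap_rankOpen N hN U r r).2 le_rfl) (hWA hy)
      rw [SetLike.mem_coe, Scheme.IdealSheafData.mem_support_iff_of_mem (U := W) hy.1, haI,
        Scheme.zeroLocus_span, Scheme.mem_zeroLocus_iff] at hns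
      simp only [Set.mem_singleton_iff, forall_eq, not_not] at hns
      rw [show X'.presheaf.germ _ y hy (ModPairLib.res (inf_le_left : W.1 ⊓ D ≤ W.1) a) =
        X'.presheaf.germ W.1 y hy.1 a from TopCat.Presheaf.germ_res_apply _ _ _ _ _]
      exact (X'.mem_basicOpen a y hy.1).1 hns
    have hkill : ∀ m : Γ(N', W.1), a • m = 0 → m ∈ LinearMap.ker q := by
      intro m hm
      refine (hπη W.1 m).2 ?_
      have hle : D.ι ''ᵁ D.ι ⁻¹ᵁ W.1 ≤ W.1 ⊓ D := by
        rintro _ ⟨y, hy, rfl⟩; exact ⟨hy, y.2⟩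
      have hz := congrArg (resM N' (inf_le_left : W.1 ⊓ D ≤ W.1)) hm
      rw [map_zero, resM_smul] at hz
      rw [← resM_resM N' (inf_le_left : W.1 ⊓ D ≤ W.1) hle]
      rw [(hunit.smul_eq_zero).1 hz, map_zero]
    have htopG : Fitt.ideal Γ(X', W.1) Γ(G, W.1) r = ⊤ := by
      rw [← FittLib.ideal_congr (q.quotKerEquivOfSurjective hq)]
      exact FittLib.ideal_quotient_eq_top r ha (haF ▸ Ideal.mem_span_singleton_self a) haF.le _ hkill
    have hbotG : ∀ k < r, Fitt.ideal Γ(X', W.1) Γ(G, W.1) k = ⊥ := by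
      intro k hk
      refine eq_bot_iff.2 fun d hd => ?_
      rw [← FlatMor12.FittSheaf.ideal_eq G hG k W] at hd
      have hb0 : (Fitt.sheafIdeal G k).comap (D ⊓ b ⁻¹ᵁ A r).ι = ⊥ := by
        rw [comap_opens_of_le (Fitt.sheafIdeal G k) (inf_le_left : D ⊓ b ⁻¹ᵁ A r ≤ D)
          ((comap_ι_sheafIdeal G hG D k).trans ?_) , ← comap_opens_of_le
          ((Fitt.sheafIdeal N k).comap b) (inf_le_left : D ⊓ b ⁻¹ᵁ A r ≤ D)
          ((congrArg (Scheme.IdealSheafData.comap · D.ι) (FlatMor12.FittSheaf.comap_eq N b hN k)).trans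
            (comap_ι_sheafIdeal N' hN' D k))]
        · rw [comap_opens_of_le _ (inf_le_right : D ⊓ b ⁻¹ᵁ A r ≤ b ⁻¹ᵁ A r)
            (hpull _ _ _ ((comap_rankOpen N hN U r k).1 hk)), Scheme.IdealSheafData.comap_bot,
            Scheme.IdealSheafData.comap_bot]
        · exact (sheafIdeal_congr (isFT_of_epi ((Scheme.Modules.restrictFunctorIsoPullback _).app N').inv
            (isFT_pullback_qcoh _ (F := N') inferInstance hN'))
            (isFT_of_epi ((Scheme.Modules.restrictFunctorIsoPullback _).app G).inv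
            (isFT_pullback_qcoh _ (F := G) inferInstance hG))
            (asIso ((Scheme.Modules.restrictFunctor D.ι).map π)) k).symm
      rw [Ideal.mem_bot]
      refine hDd W.1 d ?_
      have hz := congrArg (ModPairLib.res (show W.1 ⊓ D ≤ W.1 ⊓ (D ⊓ b ⁻¹ᵁ A r) from
        fun y hy => ⟨hy.1, hy.2, hWA hy⟩)) (res_eq_zero_of_comap_eq_bot _ _ hb0 W hd)
      rwa [map_zero, ModPairLib.res_res] at hz
    haveI : IsAffine (W.1 : Scheme.{u}) := W.2
    have hGW : CohB1.IsFT (G.restrict W.1.ι) :=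
      isFT_of_epi ((Scheme.Modules.restrictFunctorIsoPullback _).app G).inv
        (isFT_pullback_qcoh _ (F := G) inferInstance hG)
    have hrank : FlatMod.IsFinLocFreeOfRank r (G.restrict W.1.ι) := by
      refine (FlatMor12.FittSheaf.isFinLocFreeOfRank_iff _ hGW r).2 ⟨fun k hk => ?_, fun k hk => ?_⟩
      · rw [← comap_ι_sheafIdeal G hG]
        refine FlatMor12.FittSheaf.eq_bot_of_cover _ fun y => ⟨⟨⊤, isAffineOpen_top _⟩, trivial, ?_⟩
        rw [ProjLib.comap_ideal_eq _ W.1.ι W ⟨⊤, isAffineOpen_top _⟩ (fun z _ => z.2),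
          FlatMor12.FittSheaf.ideal_eq G hG, hbotG k hk, Ideal.map_bot]
      · rw [← comap_ι_sheafIdeal G hG]
        refine FlatMor12.FittSheaf.eq_top_of_cover _ fun y => ⟨⟨⊤, isAffineOpen_top _⟩, trivial, ?_⟩
        have : (Fitt.sheafIdeal G k).ideal W = ⊤ := top_le_iff.1 (le_trans
          (le_of_eq (by rw [FlatMor12.FittSheaf.ideal_eq G hG, htopG]))
          (FlatMor12.FittSheaf.sheafIdeal_mono G hG hk W))
        rw [ProjLib.comap_ideal_eq _ W.1.ι W ⟨⊤, isAffineOpen_top _⟩ (fun z _ => z.2), this, Ideal.map_top]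
    obtain ⟨V, hxV, ⟨e⟩⟩ := hrank ⟨x, hxW⟩
    let θ := IsOpenImmersion.isoOfRangeEq (W.1.ι ''ᵁ V).ι (V.ι ≫ W.1.ι) (by
      rw [Scheme.Opens.range_ι, Scheme.Hom.comp_base, TopCat.coe_comp, Set.range_comp, Scheme.Opens.range_ι]
      rfl)
    exact ⟨W.1.ι ''ᵁ V, r, ⟨⟨x, hxW⟩, hxV, rfl⟩,
      ⟨((Scheme.Modules.restrictFunctorCongr (IsOpenImmersion.isoOfRangeEq_hom_fac _ _ _).symm ≪≫
        Scheme.Modules.restrictFunctorComp θ.hom (V.ι ≫ W.1.ι)).app G) ≪≫
      (Scheme.Modules.restrictFunctor θ.hom).mapIso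
        ((Scheme.Modules.restrictFunctorComp V.ι W.1.ι).app G ≪≫ e) ≪≫ CohBC.freeModRestrictIso θ.hom r⟩⟩
  exact ⟨G, π, hloc, inferInstance, inferInstance⟩

end Groth.Agent.FlatMor12
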