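import Groth.Agent.H8Lim.SchemeDescent
import Groth.Agent.H8Lim.FinitePresentation
import Groth.Agent.LimSmooth.Scheme
import Mathlib

/-!
# Descending etale morphisms to base changes along a cofiltered limit
-/

set_option autoImplicit false
set_option backward.isDefEq.respectTransparency.types false
set_option maxHeartbeats 1000000

universe u

open CategoryTheory CategoryTheory.Limits AlgebraicGeometry

namespace Groth.Agent.FlatMor12.MatchDescend

/-- Base change of a morphism into a base change. -/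
theorem prop_lift {P : MorphismProperty Scheme.{u}} [P.IsStableUnderBaseChange]
    {Z B D D' U U' : Scheme.{u}} (π : Z ⟶ B) (d : D ⟶ B) (d' : D' ⟶ B) (γ : D' ⟶ D) (hd : γ ≫ d = d')
    (g : U ⟶ pullback π d) {h : U ⟶ D} (hg : g ≫ pullback.snd π d = h) {r : U' ⟶ U} {h' : U' ⟶ D'}
    (sq : IsPullback r h' h γ) (g' : U' ⟶ pullback π d') (hfst : g' ≫ pullback.fst π d' = r ≫ g ≫ pullback.fst π d)
    (hsnd : g' ≫ pullback.snd π d' = h') (hP : P g) : P g' := by
  let q : pullback π d' ⟶ pullback π d :=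
    pullback.lift (pullback.fst π d') (pullback.snd π d' ≫ γ) (by rw [Category.assoc, hd, pullback.condition])
  have hq : IsPullback q (pullback.snd π d') (pullback.snd π d) γ :=
    IsPullback.of_right (h₁₂ := pullback.fst π d)
      (by rw [pullback.lift_fst, hd]; exact IsPullback.of_hasPullback π d')
      (pullback.lift_snd _ _ _) (IsPullback.of_hasPullback π d)
  have hw : r ≫ g = g' ≫ q := pullback.hom_ext
    (by rw [Category.assoc, Category.assoc, pullback.lift_fst, hfst])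
    (by rw [Category.assoc, Category.assoc, pullback.lift_snd, hg, sq.w, ← Category.assoc g', hsnd])
  exact MorphismProperty.of_isPullback (IsPullback.of_bot (by rw [hsnd, hg]; exact sq) hw hq) hP

variable {I : Type u} [SmallCategory I] [IsCofiltered I] (D : I ⥤ Scheme.{u}) (c : Cone D)
  (hc : IsLimit c) [∀ i, IsAffine (D.obj i)] {U : Scheme.{u}} (hU : U ⟶ c.pt)

/-- A finitely presented model of `U` at a stage. -/
structure Model where
  j : I
  Uj : Scheme.{u}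
  hj : Uj ⟶ D.obj j
  q : U ⟶ Uj
  lfp : LocallyOfFinitePresentation hj
  qc : QuasiCompact hj
  qs : QuasiSeparated hj
  sq : IsPullback q hU hj (c.π.app j)

variable {D c hU}

include hc in
/-- An etale morphism of `U` into a base change descends to a later stage. -/
theorem exists_step (M : Model D c hU) {Z B : Scheme.{u}} (π : Z ⟶ B) [LocallyOfFinitePresentation π]
    (t : D ⟶ (Functor.const I).obj B) (tinf : c.pt ⟶ B) (ht : ∀ i, c.π.app i ≫ t.app i = tinf)
    {Zinf : Scheme.{u}} {pr : Zinf ⟶ Z} {gi : Zinf ⟶ c.pt} (sqZ : IsPullback pr gi π tinf)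
    (e : U ⟶ Zinf) [Etale e] (he : e ≫ gi = hU) :
    ∃ (N : Model D c hU) (φ : N.j ⟶ M.j) (r : N.Uj ⟶ M.Uj), IsPullback r N.hj M.hj (D.map φ) ∧
      N.q ≫ r = M.q ∧
      ∃ h : N.Uj ⟶ pullback π (t.app N.j), h ≫ pullback.snd π (t.app N.j) = N.hj ∧ Etale h ∧
        N.q ≫ h ≫ pullback.fst π (t.app N.j) = e ≫ pr := by
  haveI : ∀ (i k : I) (f : i ⟶ k), IsAffineHom (D.map f) := fun _ _ _ => inferInstance
  haveI := M.lfp; haveI := M.qc; haveI := M.qs
  haveI : CompactSpace M.Uj := QuasiCompact.compactSpace_of_compactSpace M.hj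
  haveI : QuasiSeparatedSpace M.Uj := quasiSeparatedSpace_of_quasiSeparated M.hj
  let E := H8Lim.stage D M.hj
  let cE := H8Lim.stageCone M.hj c M.q hU M.sq
  have hcE : IsLimit cE := H8Lim.isLimitStageCone M.hj M.q hU M.sq hc
  haveI : ∀ l, CompactSpace (E.obj l) := fun l => inferInstanceAs (CompactSpace ((H8Lim.stage D M.hj).obj l))
  haveI : ∀ l, QuasiSeparatedSpace (E.obj l) :=
    fun l => inferInstanceAs (QuasiSeparatedSpace ((H8Lim.stage D M.hj).obj l))
  obtain ⟨l, τ, hτ1, hτ2⟩ := Scheme.exists_π_app_comp_eq_of_locallyOfFinitePresentation E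
    { app := fun l => H8Lim.stageSnd D M.hj l ≫ t.app l.left
      naturality := fun l l' b => by
        dsimp
        rw [H8Lim.stageMap_snd_assoc, t.naturality]
        simp }
    π cE hcE (e ≫ pr) (by
      ext l
      show H8Lim.stageProj M.hj c M.q hU M.sq l ≫ H8Lim.stageSnd D M.hj l ≫ t.app l.left = (e ≫ pr) ≫ π
      rw [H8Lim.stageProj_snd_assoc, ht, Category.assoc, sqZ.w, reassoc_of% he])
  let Uk := E.obj l
  let hk : Uk ⟶ D.obj l.left := H8Lim.stageSnd D M.hj l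
  let qk : U ⟶ Uk := H8Lim.stageProj M.hj c M.q hU M.sq l
  have sqk : IsPullback qk hU hk (c.π.app l.left) := by
    refine IsPullback.of_right (h₁₂ := H8Lim.stageFst D M.hj l) (h₂₂ := D.map l.hom) ?_
      (H8Lim.stageProj_snd _ _ _ _ _ _) (H8Lim.isPullback_stage D M.hj l)
    rw [H8Lim.stageProj_fst, c.w]
    exact M.sq
  let P := pullback π (t.app l.left)
  let f₀ : Uk ⟶ P := pullback.lift τ hk hτ2
  haveI : LocallyOfFinitePresentation hk :=
    MorphismProperty.of_isPullback (H8Lim.isPullback_stage D M.hj l) M.lfp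
  haveI : LocallyOfFinitePresentation f₀ := by
    haveI : LocallyOfFinitePresentation (f₀ ≫ pullback.snd π (t.app l.left)) := by
      rw [pullback.lift_snd]; infer_instance
    exact H8Lim.lfp_cancel_right f₀ (pullback.snd π (t.app l.left))
  let qY : Zinf ⟶ P := pullback.lift pr (gi ≫ c.π.app l.left) (by rw [Category.assoc, ht, sqZ.w])
  have hY : IsPullback qY gi (pullback.snd π (t.app l.left)) (c.π.app l.left) :=
    IsPullback.of_right (h₁₂ := pullback.fst π (t.app l.left))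
      (by rw [pullback.lift_fst, ht]; exact sqZ) (pullback.lift_snd _ _ _) (IsPullback.of_hasPullback _ _)
  have hX : IsPullback qk e f₀ qY := by
    refine IsPullback.of_bot (by rw [he, pullback.lift_snd]; exact sqk) ?_ hY
    apply pullback.hom_ext
    · rw [Category.assoc, Category.assoc, pullback.lift_fst, pullback.lift_fst]
      exact hτ1
    · rw [Category.assoc, Category.assoc, pullback.lift_snd, pullback.lift_snd, ← Category.assoc e, he]
      exact sqk.w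
  haveI : CompactSpace Uk := inferInstanceAs (CompactSpace (E.obj l))
  obtain ⟨m, φ, Xm, Ym, fm, gm, pY, pX, hYm, hXm, hm⟩ :=
    LimSmooth.exists_stage hc hY hX LimSmooth.affineSpreads_etale (fun _ _ => inferInstance) ‹Etale e›
  let hn : Xm ⟶ D.obj m := fm ≫ gm
  have sqX : IsPullback pX hn hk (D.map φ) := by
    have := hXm.paste_vert hYm
    rwa [pullback.lift_snd] at this
  have sqn : IsPullback (pX ≫ H8Lim.stageFst D M.hj l) hn M.hj (D.map (φ ≫ l.hom)) := by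
    rw [D.map_comp]
    exact sqX.paste_horiz (H8Lim.isPullback_stage D M.hj l)
  let qn : U ⟶ Xm := sqX.lift qk (hU ≫ c.π.app m) (by rw [sqk.w, Category.assoc, c.w])
  have sq' : IsPullback qn hU hn (c.π.app m) := by
    refine IsPullback.of_right ?_ (sqX.lift_snd _ _ _) sqX
    rw [sqX.lift_fst, c.w]
    exact sqk
  have hYt : IsPullback (pY ≫ pullback.fst π (t.app l.left)) gm π (t.app m) := by
    have := hYm.paste_horiz (IsPullback.of_hasPullback π (t.app l.left))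
    rwa [show D.map φ ≫ t.app l.left = t.app m by rw [t.naturality]; simp] at this
  refine ⟨⟨m, Xm, hn, qn, MorphismProperty.of_isPullback sqn M.lfp,
    MorphismProperty.of_isPullback sqn M.qc, MorphismProperty.of_isPullback sqn M.qs, sq'⟩,
    φ ≫ l.hom, pX ≫ H8Lim.stageFst D M.hj l, sqn, ?_, fm ≫ hYt.isoPullback.hom, ?_, ?_, ?_⟩
  · rw [← Category.assoc, sqX.lift_fst]
    exact H8Lim.stageProj_fst _ _ _ _ _ _
  · rw [Category.assoc, hYt.isoPullback_hom_snd]
  · haveI := hm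
    infer_instance
  · rw [Category.assoc, hYt.isoPullback_hom_fst, ← reassoc_of% hXm.w]
    show sqX.lift qk _ _ ≫ pX ≫ f₀ ≫ _ = _
    rw [sqX.lift_fst_assoc, pullback.lift_fst]
    exact hτ1

include hc in
/-- Two etale morphisms of `U` into base changes descend to a common stage. -/
theorem exists_two [LocallyOfFinitePresentation hU] [QuasiCompact hU] [QuasiSeparated hU]
    {Z₁ B₁ : Scheme.{u}} (π₁ : Z₁ ⟶ B₁) [LocallyOfFinitePresentation π₁]
    (t₁ : D ⟶ (Functor.const I).obj B₁) (tinf₁ : c.pt ⟶ B₁) (ht₁ : ∀ i, c.π.app i ≫ t₁.app i = tinf₁)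
    {Zinf₁ : Scheme.{u}} {pr₁ : Zinf₁ ⟶ Z₁} {gi₁ : Zinf₁ ⟶ c.pt} (sqZ₁ : IsPullback pr₁ gi₁ π₁ tinf₁)
    (e₁ : U ⟶ Zinf₁) [Etale e₁] (he₁ : e₁ ≫ gi₁ = hU)
    {Z₂ B₂ : Scheme.{u}} (π₂ : Z₂ ⟶ B₂) [LocallyOfFinitePresentation π₂]
    (t₂ : D ⟶ (Functor.const I).obj B₂) (tinf₂ : c.pt ⟶ B₂) (ht₂ : ∀ i, c.π.app i ≫ t₂.app i = tinf₂)
    {Zinf₂ : Scheme.{u}} {pr₂ : Zinf₂ ⟶ Z₂} {gi₂ : Zinf₂ ⟶ c.pt} (sqZ₂ : IsPullback pr₂ gi₂ π₂ tinf₂)
    (e₂ : U ⟶ Zinf₂) [Etale e₂] (he₂ : e₂ ≫ gi₂ = hU) :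
    ∃ (N : Model D c hU) (h₁ : N.Uj ⟶ pullback π₁ (t₁.app N.j)) (h₂ : N.Uj ⟶ pullback π₂ (t₂.app N.j)),
      h₁ ≫ pullback.snd π₁ (t₁.app N.j) = N.hj ∧ Etale h₁ ∧ N.q ≫ h₁ ≫ pullback.fst π₁ (t₁.app N.j) = e₁ ≫ pr₁ ∧
      h₂ ≫ pullback.snd π₂ (t₂.app N.j) = N.hj ∧ Etale h₂ ∧ N.q ≫ h₂ ≫ pullback.fst π₂ (t₂.app N.j) = e₂ ≫ pr₂ := by
  haveI : ∀ (i k : I) (f : i ⟶ k), IsAffineHom (D.map f) := fun _ _ _ => inferInstance
  obtain ⟨j, Uj, hj, q, h1, h2, h3, sq⟩ := H8Lim.exists_stage_scheme hc hU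
  obtain ⟨M, φ₀, r₀, -, -, h₁, hs₁, het₁, hf₁⟩ :=
    exists_step hc ⟨j, Uj, hj, q, h1, h2, h3, sq⟩ π₁ t₁ tinf₁ ht₁ sqZ₁ e₁ he₁
  obtain ⟨N, φ, r, sqr, hqr, h₂, hs₂, het₂, hf₂⟩ := exists_step hc M π₂ t₂ tinf₂ ht₂ sqZ₂ e₂ he₂
  have ht : D.map φ ≫ t₁.app M.j = t₁.app N.j := by rw [t₁.naturality]; simp
  let h₁' : N.Uj ⟶ pullback π₁ (t₁.app N.j) :=
    pullback.lift (r ≫ h₁ ≫ pullback.fst π₁ (t₁.app M.j)) N.hj (by
      rw [Category.assoc, Category.assoc, pullback.condition, reassoc_of% hs₁, ← ht, reassoc_of% sqr.w])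
  refine ⟨N, h₁', h₂, pullback.lift_snd _ _ _,
    prop_lift π₁ _ _ (D.map φ) ht h₁ hs₁ sqr h₁' (pullback.lift_fst _ _ _) (pullback.lift_snd _ _ _) het₁, ?_,
    hs₂, het₂, hf₂⟩
  rw [pullback.lift_fst, reassoc_of% hqr, hf₁]

end Groth.Agent.FlatMor12.MatchDescend
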