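import Groth.Agent.CAlgH.GRingMaximal
import Groth.Agent.CAlgH.EtaleApprox
import Mathlib

/-!
# The point of `C ⊗ Â` over a point of `C`

For `R = (A₀)_P`, its completion `H` and a prime `Pc` of `C` over `P`: a prime of `C ⊗ H` over `Pc` and
the closed point, whose local ring has the same residue field and maximal ideal generated by `Pc`.
-/

set_option autoImplicit false
set_option maxHeartbeats 1000000
set_option backward.isDefEq.respectTransparency.types false
universe u

open IsLocalRing TensorProduct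

namespace Groth.Agent.FlatMor12.MatchPoint

/-- If every element is congruent to an element of the base modulo the extended maximal ideal, the maximal
ideal of a localisation is extended and residues come from the base. -/
theorem map_maximalIdeal_eq {E R R' : Type u} [CommRing E] [CommRing R] [IsLocalRing R] [CommRing R']
    [IsLocalRing R'] [Algebra E R'] (Q : Ideal E) [Q.IsPrime] [IsLocalization.AtPrime R' Q]
    (ι : R →+* R') [IsLocalHom ι]
    (h : ∀ z : E, ∃ r : R, algebraMap E R' z - ι r ∈ (maximalIdeal R).map ι) :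
    (maximalIdeal R).map ι = maximalIdeal R' ∧ ∀ z : R', ∃ r : R, z - ι r ∈ maximalIdeal R' := by
  have hle : (maximalIdeal R).map ι ≤ maximalIdeal R' := map_maximalIdeal_le ι
  have key : ∀ z : R', ∃ r : R, z - ι r ∈ (maximalIdeal R).map ι := by
    intro z
    obtain ⟨⟨a, s⟩, hs⟩ := IsLocalization.surj Q.primeCompl z
    obtain ⟨r, hr⟩ := h a
    obtain ⟨r', hr'⟩ := h (s : E)
    have hu : IsUnit (algebraMap E R' s) := IsLocalization.map_units R' s
    have hr'u : IsUnit r' := by
      by_contra hn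
      have h1 := Ideal.mem_map_of_mem ι ((mem_maximalIdeal r').2 hn)
      have h2 := hle (add_mem hr' h1)
      rw [sub_add_cancel] at h2
      exact (mem_maximalIdeal _).1 h2 hu
    obtain ⟨v, hv⟩ := hr'u
    refine ⟨r * ↑v⁻¹, ?_⟩
    have h3 : (z - ι (r * ↑v⁻¹)) * algebraMap E R' s ∈ (maximalIdeal R).map ι := by
      have e : ι (r * ↑v⁻¹) * ι r' = ι r := by rw [← map_mul, mul_assoc, ← hv, Units.inv_mul, mul_one]
      rw [show (z - ι (r * ↑v⁻¹)) * algebraMap E R' s = (algebraMap E R' a - ι r) -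
        ι (r * ↑v⁻¹) * (algebraMap E R' s - ι r') by rw [sub_mul, hs, mul_sub, e]; ring]
      exact sub_mem hr (Ideal.mul_mem_left _ _ hr')
    exact (Ideal.mul_unit_mem_iff_mem _ hu).1 h3
  refine ⟨le_antisymm hle fun z hz => ?_, fun z => ?_⟩
  · obtain ⟨r, hr⟩ := key z
    have h1 : ι r ∈ maximalIdeal R' := by simpa using sub_mem hz (hle hr)
    have h2 : r ∈ maximalIdeal R := (mem_maximalIdeal r).2 fun hu => (mem_maximalIdeal _).1 h1 (hu.map ι)
    simpa using add_mem hr (Ideal.mem_map_of_mem ι h2)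
  · obtain ⟨r, hr⟩ := key z
    exact ⟨r, hle hr⟩

section

variable {A₀ R C : Type u} [CommRing A₀] [CommRing R] [IsLocalRing R] [IsNoetherianRing R] [Algebra A₀ R]
  (P : Ideal A₀) [P.IsPrime] [IsLocalization.AtPrime R P] [CommRing C] [Algebra A₀ C]
  (Pc : Ideal C) [Pc.IsPrime]

theorem exists_prime (hPc : Pc.comap (algebraMap A₀ C) = P) :
    ∃ (Q : Ideal (C ⊗[A₀] AdicCompletion (maximalIdeal R) R)) (_ : Q.IsPrime),
      Q.comap (Algebra.TensorProduct.includeLeftRingHom) = Pc ∧
      Q.comap (Algebra.TensorProduct.includeRight : AdicCompletion (maximalIdeal R) R →ₐ[A₀] _).toRingHom =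
        maximalIdeal (AdicCompletion (maximalIdeal R) R) ∧
      ∀ z, ∃ σ ∉ P, ∃ c : C, algebraMap A₀ C σ ⊗ₜ[A₀] 1 * z - c ⊗ₜ[A₀] 1 ∈
        Pc.map (Algebra.TensorProduct.includeLeftRingHom :
          C →+* C ⊗[A₀] AdicCompletion (maximalIdeal R) R) := by
  let H := AdicCompletion (maximalIdeal R) R
  let k := Pc.ResidueField
  have hu : ∀ y : P.primeCompl, IsUnit (algebraMap A₀ k y) := fun y => by
    rw [IsScalarTower.algebraMap_apply A₀ C k, isUnit_iff_ne_zero, ne_eq,
      Ideal.algebraMap_residueField_eq_zero]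
    exact fun h => y.2 (hPc ▸ h)
  let ρ : R →ₐ[A₀] k := IsLocalization.liftAlgHom (M := P.primeCompl) (f := Algebra.ofId A₀ k) hu
  have hρ : ∀ r ∈ maximalIdeal R, ρ r = 0 := by
    intro r hr
    rw [← IsLocalization.AtPrime.map_eq_maximalIdeal P R] at hr
    refine (Ideal.map_le_iff_le_comap.2 fun a ha => ?_ :
      P.map (algebraMap A₀ R) ≤ RingHom.ker ρ) hr
    rw [Ideal.mem_comap, RingHom.mem_ker, AlgHom.commutes, IsScalarTower.algebraMap_apply A₀ C k,
      Ideal.algebraMap_residueField_eq_zero]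
    exact hPc.ge ha
  let τ : H →ₐ[A₀] k :=
    (Ideal.Quotient.liftₐ (maximalIdeal R ^ 1) ρ fun r hr => hρ r (by rwa [pow_one] at hr)).comp
      ((AdicCompletion.evalₐ (maximalIdeal R) 1).restrictScalars A₀)
  let ev : C ⊗[A₀] H →ₐ[A₀] k :=
    Algebra.TensorProduct.lift (IsScalarTower.toAlgHom A₀ C k) τ fun _ _ => Commute.all _ _
  have hτm : maximalIdeal H ≤ RingHom.ker τ := by
    rw [AdicCompletion.maximalIdeal_eq_map, Ideal.map_le_iff_le_comap]
    intro r hr
    show τ (algebraMap R H r) = 0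
    simp only [τ, AlgHom.comp_apply, AlgHom.restrictScalars_apply, AlgHom.commutes]
    exact hρ r hr
  refine ⟨RingHom.ker ev, RingHom.ker_isPrime _, ?_, ?_, ?_⟩
  · ext c
    rw [Ideal.mem_comap, RingHom.mem_ker]
    show ev (c ⊗ₜ 1) = 0 ↔ _
    simp only [ev, Algebra.TensorProduct.lift_tmul, map_one, mul_one, IsScalarTower.coe_toAlgHom']
    exact Ideal.algebraMap_residueField_eq_zero
  · refine ((maximalIdeal.isMaximal H).eq_of_le (Ideal.IsPrime.comap _ (hK := RingHom.ker_isPrime _)).ne_top ?_).symm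
    intro h hh
    show ev (1 ⊗ₜ h) = 0
    simp only [ev, Algebra.TensorProduct.lift_tmul, map_one, one_mul]
    exact hτm hh
  · intro z
    induction z using TensorProduct.induction_on with
    | zero => exact ⟨1, fun h => ‹P.IsPrime›.ne_top ((Ideal.eq_top_iff_one P).2 h), 0, by simp⟩
    | tmul c h =>
      obtain ⟨r, hr⟩ := CAlgH.EtaleApprox.exists_sub_mem R 1 h
      rw [pow_one, AdicCompletion.maximalIdeal_eq_map] at hr
      obtain ⟨⟨a, σ⟩, hσ⟩ := IsLocalization.surj P.primeCompl r
      refine ⟨σ, σ.2, c * algebraMap A₀ C a, ?_⟩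
      have h1 : algebraMap A₀ H σ * h - algebraMap A₀ H a ∈ P.map (algebraMap A₀ H) := by
        rw [IsScalarTower.algebraMap_eq A₀ R H, ← Ideal.map_map, IsLocalization.AtPrime.map_eq_maximalIdeal P R]
        rw [RingHom.comp_apply, RingHom.comp_apply, ← hσ, map_mul, mul_comm (algebraMap R H r), ← mul_sub]
        exact Ideal.mul_mem_left _ _ hr
      have h2 : ∀ w ∈ P.map (algebraMap A₀ H), c ⊗ₜ[A₀] w ∈
          Pc.map (Algebra.TensorProduct.includeLeftRingHom : C →+* C ⊗[A₀] H) := by
        intro w hw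
        refine Submodule.span_induction ?_ ?_ ?_ ?_ hw
        · rintro _ ⟨b, hb, rfl⟩
          rw [Algebra.algebraMap_eq_smul_one, tmul_smul, TensorProduct.smul_tmul']
          exact Ideal.mem_map_of_mem _ (by rw [Algebra.smul_def]; exact Ideal.mul_mem_right _ _ (hPc.ge hb))
        · simp
        · intro x y _ _ hx hy
          rw [tmul_add]; exact add_mem hx hy
        · intro x y _ hy
          have := Ideal.mul_mem_left _ ((1 : C) ⊗ₜ[A₀] x) hy
          rwa [Algebra.TensorProduct.tmul_mul_tmul, one_mul, ← smul_eq_mul x y] at this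
      convert h2 _ h1 using 1
      rw [tmul_sub, Algebra.algebraMap_eq_smul_one, Algebra.algebraMap_eq_smul_one,
        Algebra.algebraMap_eq_smul_one, Algebra.algebraMap_eq_smul_one, smul_mul_assoc, one_mul,
        tmul_smul, tmul_smul, Algebra.TensorProduct.tmul_mul_tmul, one_mul, smul_mul_assoc, one_mul,
        mul_smul_comm, mul_one, TensorProduct.smul_tmul', TensorProduct.smul_tmul']
    | add x y hx hy =>
      obtain ⟨σ, hσ, c, hc⟩ := hx
      obtain ⟨σ', hσ', c', hc'⟩ := hy
      refine ⟨σ * σ', fun h => (‹P.IsPrime›.mem_or_mem h).elim hσ hσ',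
        algebraMap A₀ C σ' * c + algebraMap A₀ C σ * c', ?_⟩
      convert add_mem (Ideal.mul_mem_left _ (algebraMap A₀ C σ' ⊗ₜ[A₀] (1 : H)) hc)
        (Ideal.mul_mem_left _ (algebraMap A₀ C σ ⊗ₜ[A₀] (1 : H)) hc') using 1
      have hm : ∀ a b : C, (a * b) ⊗ₜ[A₀] (1 : H) = a ⊗ₜ 1 * b ⊗ₜ 1 := fun a b => by
        rw [Algebra.TensorProduct.tmul_mul_tmul, one_mul]
      rw [map_mul, add_tmul, hm, hm, hm]
      ring

end

end Groth.Agent.FlatMor12.MatchPoint
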