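import Groth.Agent.FlatMor12.ConnectedNhd
import Groth.Agent.VarietyLib.GaloisFibre
import Groth.Agent.AbSchLib.SmoothReduced

/-!
# The fibrewise components meeting the image of a universally open multisection
-/

set_option autoImplicit false
set_option backward.isDefEq.respectTransparency false

universe u

open CategoryTheory CategoryTheory.Limits AlgebraicGeometry Topology

namespace Groth.Agent.FlatMor12.MeetComponents

theorem connectedComponentIn_range {A B : Type*} [TopologicalSpace A] [TopologicalSpace B] {φ : A → B}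
    (hφ : IsEmbedding φ) (a : A) :
    connectedComponentIn (Set.range φ) (φ a) = φ '' connectedComponent a := by
  refine subset_antisymm ?_ ?_
  · intro b hb
    obtain ⟨a', rfl⟩ := connectedComponentIn_subset _ _ hb
    refine ⟨a', ?_, rfl⟩
    have hpre : IsPreconnected (φ ⁻¹' connectedComponentIn (Set.range φ) (φ a)) := by
      rw [← hφ.isInducing.isPreconnected_image,
        Set.image_preimage_eq_of_subset (connectedComponentIn_subset _ _)]
      exact isPreconnected_connectedComponentIn
    exact hpre.subset_connectedComponent (mem_connectedComponentIn (Set.mem_range_self a)) hb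
  · exact (isPreconnected_connectedComponent.image φ hφ.continuous.continuousOn).subset_connectedComponentIn
      ⟨a, mem_connectedComponent, rfl⟩ (Set.image_subset_range _ _)

variable {S S' X : Scheme.{u}} (f : X ⟶ S) (g : S' ⟶ S)

theorem image_connectedComponentIn (s' : S') (c : ↑(pullback f g)) (hc : pullback.snd f g c = s') :
    pullback.fst f g '' connectedComponentIn (pullback.snd f g ⁻¹' {s'}) c =
      connectedComponentIn (f ⁻¹' {g s'}) (pullback.fst f g c) := by
  let k := S.residueField (g s')
  let K := S'.residueField s'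
  letI : Algebra k K := (g.residueFieldMap s').hom.toAlgebra
  let fs : f.fiber (g s') ⟶ Spec (CommRingCat.of k) := f.fiberToSpecResidueField (g s')
  let ι := f.fiberι (g s')
  let P := pullback fs (VarietyLib.sK k K)
  let j : P ⟶ pullback f g := pullback.lift (pullback.fst fs (VarietyLib.sK k K) ≫ ι)
    (pullback.snd fs (VarietyLib.sK k K) ≫ S'.fromSpecResidueField s') (by
      have h1 : ι ≫ f = fs ≫ S.fromSpecResidueField (g s') := pullback.condition
      rw [Category.assoc, h1, ← Category.assoc, pullback.condition, Category.assoc, Category.assoc]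
      exact congrArg (_ ≫ ·) (g.SpecMap_residueFieldMap_fromSpecResidueField s'))
  have hjfst : j ≫ pullback.fst f g = pullback.fst fs (VarietyLib.sK k K) ≫ ι := pullback.lift_fst _ _ _
  have hj : IsPullback j (pullback.snd fs (VarietyLib.sK k K)) (pullback.snd f g) (S'.fromSpecResidueField s') := by
    refine IsPullback.of_right (h₁₂ := pullback.fst f g) ?_ (pullback.lift_snd _ _ _) (IsPullback.of_hasPullback f g)
    rw [hjfst, show S'.fromSpecResidueField s' ≫ g = VarietyLib.sK k K ≫ S.fromSpecResidueField (g s') from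
      (g.SpecMap_residueFieldMap_fromSpecResidueField s').symm]
    exact (IsPullback.of_hasPullback fs (VarietyLib.sK k K)).paste_horiz
      (IsPullback.of_hasPullback f (S.fromSpecResidueField (g s')))
  let ε := hj.isoPullback
  have hjε : j = ε.hom ≫ (pullback.snd f g).fiberι s' := hj.isoPullback_hom_fst.symm
  have hemb : IsEmbedding j := by
    rw [hjε]
    exact ((pullback.snd f g).fiberι s').isEmbedding.comp ε.hom.homeomorph.isEmbedding
  have hrange : Set.range j = pullback.snd f g ⁻¹' {s'} := by
    rw [hjε]
    exact (ε.hom.homeomorph.surjective.range_comp _).trans ((pullback.snd f g).range_fiberι s')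
  obtain ⟨y, rfl⟩ := hrange.ge (show c ∈ pullback.snd f g ⁻¹' {s'} from hc)
  rw [← hrange, connectedComponentIn_range hemb, ← f.range_fiberι (g s'), ← Scheme.Hom.comp_apply, hjfst,
    Scheme.Hom.comp_apply, connectedComponentIn_range ι.isEmbedding,
    ← VarietyLib.image_connectedComponent_fst' k fs K y, Set.image_image, Set.image_image]
  refine Set.image_congr fun z _ => ?_
  rw [← Scheme.Hom.comp_apply, hjfst, Scheme.Hom.comp_apply]

theorem exists_open [Smooth f] [QuasiCompact f] [QuasiSeparated f] [UniversallyOpen g] (e : S' ⟶ X)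
    (he : e ≫ f = g) :
    ∃ U : X.Opens, ∀ s : S, (U : Set ↥X) ∩ f.base ⁻¹' {s} =
      ⋃ x ∈ Set.range e.base ∩ f.base ⁻¹' {s}, connectedComponentIn (f.base ⁻¹' {s}) x := by
  let p := pullback.fst f g
  let q := pullback.snd f g
  let τ : S' ⟶ pullback f g := pullback.lift e (𝟙 S') (by simp [he])
  have hτ : τ ≫ q = 𝟙 S' := pullback.lift_snd _ _ _
  haveI : GeometricallyReduced f := AbSchLib.geometricallyReduced_of_smooth f
  let W := MoreMor.sectionComponents q τ
  have hW : IsOpen W := ConnectedNhd.isOpen_sectionComponents q τ hτ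
  have hτq : ∀ s', q (τ s') = s' := fun s' => by rw [← Scheme.Hom.comp_apply, hτ]; rfl
  have hτp : ∀ s', p (τ s') = e s' := fun s' => by rw [← Scheme.Hom.comp_apply, pullback.lift_fst]
  have hge : ∀ s', f (e s') = g s' := fun s' => by rw [← Scheme.Hom.comp_apply, he]
  refine ⟨⟨p '' W, p.isOpenMap _ hW⟩, fun s => Set.ext fun x => ⟨?_, ?_⟩⟩
  · rintro ⟨⟨c, hc, rfl⟩, (hs : f (p c) = s)⟩
    have hs' : g (q c) = s := by
      rw [← hs, ← Scheme.Hom.comp_apply, ← pullback.condition]; rfl
    refine Set.mem_iUnion₂.2 ⟨e (q c), ⟨⟨q c, rfl⟩, (hge (q c)).trans hs'⟩, ?_⟩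
    have h := (image_connectedComponentIn f g (q c) (τ (q c)) (hτq _)).le ⟨c, hc, rfl⟩
    rw [hτp, hs'] at h
    exact h
  · intro hx
    obtain ⟨_, ⟨⟨s', rfl⟩, (hs' : f (e s') = s)⟩, hx⟩ := Set.mem_iUnion₂.1 hx
    refine ⟨?_, connectedComponentIn_subset _ _ hx⟩
    have h := (image_connectedComponentIn f g s' (τ s') (hτq _)).ge
    rw [hτp, show g s' = s from (hge s').symm.trans hs'] at h
    obtain ⟨c, hc, rfl⟩ := h hx
    have hcq : q c = s' := connectedComponentIn_subset (pullback.snd f g ⁻¹' {s'}) _ hc
    refine ⟨c, ?_, rfl⟩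
    show c ∈ connectedComponentIn (q ⁻¹' {q c}) (τ (q c))
    rw [hcq]
    exact hc

end Groth.Agent.FlatMor12.MeetComponents
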