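import Groth.Agent.FlatMor12.NLBaseChange.Cx
import Groth.Agent.CAlgH.NLPerfect
import Groth.Agent.FlatMorKoszul.Presentation

/-!
# The kernel of the base change map on `H^{-1}(NL)` for lci algebras
-/

set_option autoImplicit false
set_option backward.isDefEq.respectTransparency false
set_option linter.style.haveILetI false
set_option synthInstance.maxHeartbeats 200000

universe u

open TensorProduct Algebra.Extension

namespace Groth.Agent.FlatMor12.NLKer

variable {R S R' S' : Type u} [CommRing R] [CommRing S] [CommRing R']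
    [CommRing S'] [Algebra R S] [Algebra R' S'] [Algebra R R'] [Algebra S S'] [Algebra R S']
    [IsScalarTower R R' S'] [IsScalarTower R S S']

/-- Any two homomorphisms induce the same map. -/
theorem bcH1Map_eq {P : Algebra.Extension.{u} R S} {P' : Algebra.Extension.{u} R' S'} (f g : P.Hom P') :
    NLCx.bcH1Map (S' := S') f = NLCx.bcH1Map g := by
  have h : LinearMap.liftBaseChange S' (Cotangent.map f) - LinearMap.liftBaseChange S' (Cotangent.map g) =
      LinearMap.liftBaseChange S' (f.sub g) ∘ₗ P.cotangentComplex.baseChange S' := by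
    ext y
    simpa using congrArg Cotangent.val (LinearMap.congr_fun (Cotangent.map_sub_map f g) y)
  refine LinearMap.ext fun x => Subtype.ext ?_
  have hx : P.cotangentComplex.baseChange S' x.1 = 0 := x.2
  have h2 := LinearMap.congr_fun h x.1
  rw [LinearMap.comp_apply, hx, map_zero, LinearMap.sub_apply, sub_eq_zero] at h2
  exact h2

section SameTop

variable {P P₁ : Algebra.Extension.{u} R S}

/-- Functoriality in the presentation. -/
noncomputable def bcH1Top (S' : Type u) [CommRing S'] [Algebra S S'] (u : P.Hom P₁) :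
    NLCx.bcH1 P S' →ₗ[S'] NLCx.bcH1 P₁ S' :=
  ((Cotangent.map u).baseChange S').restrict fun x hx => by
    have hd : (CotangentSpace.map u).baseChange S' ∘ₗ P.cotangentComplex.baseChange S' =
        P₁.cotangentComplex.baseChange S' ∘ₗ (Cotangent.map u).baseChange S' := by
      rw [← LinearMap.baseChange_comp, ← LinearMap.baseChange_comp]
      exact congrArg _ (CotangentSpace.map_comp_cotangentComplex u)
    show P₁.cotangentComplex.baseChange S' ((Cotangent.map u).baseChange S' x) = 0
    rw [← LinearMap.comp_apply, ← hd, LinearMap.comp_apply, show P.cotangentComplex.baseChange S' x = 0 from hx,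
      map_zero]

theorem bcH1Top_comp_top (u : P.Hom P₁) (v : P₁.Hom P) (x : NLCx.bcH1 P S') :
    bcH1Top S' v (bcH1Top S' u x) = x := by
  have h : (Cotangent.map v).baseChange S' ∘ₗ (Cotangent.map u).baseChange S' - LinearMap.id =
      (((v.comp u).sub (Algebra.Extension.Hom.id P)).baseChange S') ∘ₗ P.cotangentComplex.baseChange S' := by
    rw [← LinearMap.baseChange_comp, ← LinearMap.baseChange_comp, ← Cotangent.map_sub_map,
      LinearMap.baseChange_sub, Cotangent.map_id, LinearMap.baseChange_id, Cotangent.map_comp]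
    rfl
  have h2 := LinearMap.congr_fun h x.1
  rw [LinearMap.comp_apply (g := P.cotangentComplex.baseChange S'),
    show P.cotangentComplex.baseChange S' x.1 = 0 from x.2, map_zero, LinearMap.sub_apply, sub_eq_zero] at h2
  exact Subtype.ext h2

theorem bcH1Map_comp_top {P' : Algebra.Extension.{u} R' S'} (u : P.Hom P₁) (f : P₁.Hom P')
    (x : NLCx.bcH1 P S') : NLCx.bcH1Map (f.comp u) x = NLCx.bcH1Map f (bcH1Top S' u x) := by
  have h : LinearMap.liftBaseChange S' (Cotangent.map (f.comp u)) =
      LinearMap.liftBaseChange S' (Cotangent.map f) ∘ₗ (Cotangent.map u).baseChange S' := by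
    ext y
    simp [Cotangent.map_comp]
  exact Subtype.ext (LinearMap.congr_fun h x.1)

end SameTop

/-- The kernel of a surjection onto a projective module from a finite projective one. -/
theorem ker_finite_projective {A M N : Type u} [CommRing A] [AddCommGroup M] [Module A M] [AddCommGroup N]
    [Module A N] [Module.Finite A M] [Module.Projective A M] [Module.Projective A N] (L : M →ₗ[A] N)
    (hL : Function.Surjective L) : Module.Finite A (LinearMap.ker L) ∧ Module.Projective A (LinearMap.ker L) := by
  obtain ⟨s, hs⟩ := Module.projective_lifting_property L LinearMap.id hL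
  let π : M →ₗ[A] LinearMap.ker L := (LinearMap.id - s ∘ₗ L).codRestrict _ fun m => by
    show L (m - s (L m)) = 0
    rw [map_sub, ← LinearMap.comp_apply, hs, LinearMap.id_apply, sub_self]
  have hπ : π ∘ₗ (LinearMap.ker L).subtype = LinearMap.id := LinearMap.ext fun x => Subtype.ext (by
    show x.1 - s (L x.1) = x.1
    rw [show L x.1 = 0 from x.2, map_zero, sub_zero])
  exact ⟨Module.Finite.of_surjective π fun x => ⟨x.1, LinearMap.congr_fun hπ x⟩,
    Module.Projective.of_split _ π hπ⟩

open NLBaseChange in
theorem ker_bcH1Map_self [Algebra.IsPushout R R' S S'] (hB : LCI.IsLCI R S) (hB' : LCI.IsLCI R' S') :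
    Module.Finite S' (LinearMap.ker (NLCx.bcH1Map
        ((Algebra.Generators.self R S).defaultHom (Algebra.Generators.self R' S')).toExtensionHom)) ∧
      Module.Projective S' (LinearMap.ker (NLCx.bcH1Map
        ((Algebra.Generators.self R S).defaultHom (Algebra.Generators.self R' S')).toExtensionHom)) := by
  obtain ⟨-, n, α, hα, hI⟩ := hB
  let vQ : ULift.{u} (Fin n) → S := fun i => α (MvPolynomial.X i.down)
  let eA : MvPolynomial (ULift.{u} (Fin n)) R ≃ₐ[R] MvPolynomial (Fin n) R :=
    MvPolynomial.renameEquiv R Equiv.ulift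
  have hev : MvPolynomial.aeval (R := R) vQ = α.comp eA.toAlgHom :=
    MvPolynomial.algHom_ext fun i => by simp [vQ, eA]
  let Q : Algebra.Generators R S (ULift.{u} (Fin n)) :=
    Algebra.Generators.ofSurjective vQ (by rw [hev]; exact hα.comp eA.surjective)
  have hQ : LCI.IsKoszulRegularIdeal Q.toExtension.ker := by
    have h1 := FlatMorKoszul.isKoszulRegularIdeal_comap_equiv eA.toRingEquiv hI
    show LCI.IsKoszulRegularIdeal (RingHom.ker (MvPolynomial.aeval (R := R) vQ).toRingHom)
    rw [hev]
    exact h1
  let Q' : Algebra.Generators R' S' (ULift.{u} (Fin n)) :=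
    Algebra.Generators.ofSurjective (fun i => algebraMap S S' (vQ i)) (by
      intro y
      obtain ⟨z, rfl⟩ := (Algebra.IsPushout.equiv R R' S S').surjective y
      induction z with
      | zero => exact ⟨0, by rw [map_zero, map_zero]⟩
      | add a b ha hb =>
        obtain ⟨a', ha'⟩ := ha
        obtain ⟨b', hb'⟩ := hb
        exact ⟨a' + b', by rw [map_add, map_add, ha', hb']⟩
      | tmul r s =>
        obtain ⟨p, rfl⟩ := Q.algebraMap_surjective s
        refine ⟨MvPolynomial.C r * MvPolynomial.map (algebraMap R R') p, ?_⟩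
        rw [map_mul, MvPolynomial.aeval_C, Algebra.IsPushout.equiv_tmul, MvPolynomial.aeval_map_algebraMap]
        congr 1
        rw [Q.algebraMap_apply]
        exact (MvPolynomial.aeval_algebraMap_apply S' vQ p).trans rfl)
  have hQ' : LCI.IsKoszulRegularIdeal Q'.toExtension.ker := by
    obtain ⟨-, m, β, hβ, hJ⟩ := hB'
    let eA' : MvPolynomial (ULift.{u} (Fin n)) R' ≃ₐ[R'] MvPolynomial (Fin n) R' :=
      MvPolynomial.renameEquiv R' Equiv.ulift
    let β' : MvPolynomial (Fin n) R' →ₐ[R'] S' := (MvPolynomial.aeval Q'.val).comp eA'.symm.toAlgHom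
    have h2 := FlatMorKoszul.isKoszulRegularIdeal_comap_equiv eA'.toRingEquiv
      (FlatMorKoszul.other_presentation β hβ β' (Q'.algebraMap_surjective.comp eA'.symm.surjective) hJ)
    have hk : RingHom.ker (MvPolynomial.aeval (R := R') Q'.val).toRingHom =
        (RingHom.ker β'.toRingHom).comap eA'.toRingEquiv.toRingHom := by
      ext x
      show MvPolynomial.aeval Q'.val x = 0 ↔ MvPolynomial.aeval Q'.val (eA'.symm (eA' x)) = 0
      rw [AlgEquiv.symm_apply_apply]
    show LCI.IsKoszulRegularIdeal (RingHom.ker (MvPolynomial.aeval (R := R') Q'.val).toRingHom)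
    rw [hk]
    exact h2
  haveI : Module.Finite S Q.toExtension.Cotangent :=
    (CAlgH.NLPerfect.cotangent_finite_projective _ (CAlgH.NLPerfect.projective_cotangent _ hQ)).1
  haveI : Module.Projective S Q.toExtension.Cotangent :=
    (CAlgH.NLPerfect.cotangent_finite_projective _ (CAlgH.NLPerfect.projective_cotangent _ hQ)).2
  haveI : Module.Projective S' Q'.toExtension.Cotangent :=
    (CAlgH.NLPerfect.cotangent_finite_projective _ (CAlgH.NLPerfect.projective_cotangent _ hQ')).2
  let f1 := (NLCx.sameVarsHom Q Q' fun _ => rfl).toExtensionHom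
  let L := LinearMap.liftBaseChange S' (Cotangent.map f1)
  obtain ⟨hfin, hproj⟩ := ker_finite_projective L (cot_surjective _)
  have hsq : Q'.toExtension.cotangentComplex ∘ₗ L =
      LinearMap.liftBaseChange S' (CotangentSpace.map f1) ∘ₗ Q.toExtension.cotangentComplex.baseChange S' := by
    ext y
    simpa [L] using (CotangentSpace.map_cotangentComplex f1 y).symm
  have hmem : ∀ x, L x = 0 → x ∈ NLCx.bcH1 Q.toExtension S' := fun x hx => by
    refine (space_bijective (G := Q) (G' := Q') (fun _ => rfl)).1 ?_
    rw [map_zero, ← LinearMap.comp_apply, ← hsq, LinearMap.comp_apply, hx, map_zero]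
  let F := ((Algebra.Generators.self R S).defaultHom (Algebra.Generators.self R' S')).toExtensionHom
  let u := ((Algebra.Generators.self R S).defaultHom Q).toExtensionHom
  let v := (Q.defaultHom (Algebra.Generators.self R S)).toExtensionHom
  let w := (Q'.defaultHom (Algebra.Generators.self R' S')).toExtensionHom
  let w' := ((Algebra.Generators.self R' S').defaultHom Q').toExtensionHom
  have hF : ∀ y, NLCx.bcH1Map F (bcH1Top S' v y) = H1Cotangent.map w (NLCx.bcH1Map f1 y) := fun y => by
    rw [← bcH1Map_comp_top, ← bcH1Map_comp, bcH1Map_eq (F.comp v) (w.comp f1)]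
  have hw : Function.Injective (H1Cotangent.map w) := (H1Cotangent.equiv w w').injective
  let E : LinearMap.ker L ≃ₗ[S'] LinearMap.ker (NLCx.bcH1Map F) :=
    { toFun := fun x => ⟨bcH1Top S' v ⟨x.1, hmem x.1 x.2⟩, by
        rw [LinearMap.mem_ker, hF, show NLCx.bcH1Map f1 ⟨x.1, hmem x.1 x.2⟩ = 0 from Subtype.ext x.2, map_zero]⟩
      map_add' := fun a b => Subtype.ext <| by
        show bcH1Top S' v _ = bcH1Top S' v _ + bcH1Top S' v _
        rw [← map_add]
        rfl
      map_smul' := fun c a => Subtype.ext <| by
        show bcH1Top S' v _ = c • bcH1Top S' v _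
        rw [← map_smul]
        rfl
      invFun := fun y => ⟨(bcH1Top S' u y.1).1, by
        have h0 : H1Cotangent.map w (NLCx.bcH1Map f1 (bcH1Top S' u y.1)) = H1Cotangent.map w 0 := by
          rw [← hF, bcH1Top_comp_top, show NLCx.bcH1Map F y.1 = 0 from y.2, map_zero]
        exact congrArg Subtype.val (hw h0)⟩
      left_inv := fun x => Subtype.ext <| by
        show (bcH1Top S' u (bcH1Top S' v ⟨x.1, _⟩)).1 = x.1
        rw [bcH1Top_comp_top]
      right_inv := fun y => Subtype.ext <| by
        show bcH1Top S' v (bcH1Top S' u y.1) = y.1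
        rw [bcH1Top_comp_top] }
  exact ⟨Module.Finite.equiv E, Module.Projective.of_equiv E⟩

end Groth.Agent.FlatMor12.NLKer
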