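import Groth.Agent.FlatMor12.ConnectedEtaleNhd
import Groth.Agent.FlatMor12.FibreProp
import Groth.Agent.Props12.Components
import Mathlib.AlgebraicGeometry.Geometrically.Integral

/-!
# Geometrically integral opens for normal morphisms
-/

set_option autoImplicit false
set_option backward.isDefEq.respectTransparency false

universe u

open CategoryTheory CategoryTheory.Limits AlgebraicGeometry TopologicalSpace TensorProduct

namespace Groth.Agent.FlatMor12.NormalMorNhd

/-- All fibres of a normal morphism over field valued points have normal local rings. -/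
theorem normal_pullback {X Y : Scheme.{u}} (f : X ⟶ Y)
    (h : ∀ (U : X.Opens) (V : Y.Opens) (_ : IsAffineOpen U) (_ : IsAffineOpen V) (hUV : U ≤ f ⁻¹ᵁ V),
      letI := (f.appLE V U hUV).hom.toAlgebra
      EGA4.IsNormalHom Γ(Y, V) Γ(X, U))
    (K : Type u) [Field K] (g : Spec (CommRingCat.of K) ⟶ Y) :
    FibreProp.normalProp.SP (pullback f g) := by
  obtain ⟨⟨y, ψ⟩, hyψ⟩ := (Scheme.SpecToEquivOfField K Y).symm.surjective g
  obtain rfl : Spec.map ψ ≫ Y.fromSpecResidueField y = g := hyψ
  refine FibreProp.normalProp.of_cover fun z => ?_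
  let x := pullback.fst f (Spec.map ψ ≫ Y.fromSpecResidueField y) z
  have hx : f x = y := by
    show (pullback.fst f (Spec.map ψ ≫ Y.fromSpecResidueField y) ≫ f) z = y
    rw [pullback.condition, ← Category.assoc, Scheme.Hom.comp_apply]
    exact Y.fromSpecResidueField_apply y _
  obtain ⟨_, ⟨V, hV, rfl⟩, hyV, -⟩ := Y.isBasis_affineOpens.exists_subset_of_mem_open (Set.mem_univ y) isOpen_univ
  obtain ⟨_, ⟨U, hU, rfl⟩, hxU, hUV⟩ := X.isBasis_affineOpens.exists_subset_of_mem_open
    (show x ∈ f ⁻¹ᵁ V by show f x ∈ V; rw [hx]; exact hyV) (f ⁻¹ᵁ V).2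
  let φ : Γ(Y, V) ⟶ CommRingCat.of K := FibreProp.toResidue V y hyV ≫ ψ
  letI : Algebra Γ(Y, V) Γ(X, U) := (f.appLE V U hUV).hom.toAlgebra
  letI : Algebra Γ(Y, V) K := φ.hom.toAlgebra
  haveI : IsOpenImmersion hU.fromSpec := hU.isOpenImmersion_fromSpec
  haveI : IsOpenImmersion hV.fromSpec := hV.isOpenImmersion_fromSpec
  obtain ⟨j, hj, hrange⟩ := FibreProp.exists_piece f Γ(Y, V) Γ(X, U) K hU.fromSpec hV.fromSpec
    (IsAffineOpen.SpecMap_appLE_fromSpec f hV hU hUV).symm (Spec.map ψ ≫ Y.fromSpecResidueField y) (by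
      show _ = Spec.map φ ≫ hV.fromSpec
      rw [Spec.map_comp, Category.assoc, FibreProp.specMap_toResidue])
  refine ⟨_, j, hj, hrange z (by rw [hU.range_fromSpec]; exact hxU),
    (FibreProp.normalProp.spec_iff _).2 ?_⟩
  let p := RingHom.ker (algebraMap Γ(Y, V) K)
  haveI : p.IsPrime := RingHom.ker_isPrime _
  letI : Algebra p.ResidueField K :=
    (Ideal.ResidueField.lift p (algebraMap Γ(Y, V) K) le_rfl fun x hx => isUnit_iff_ne_zero.mpr hx).toAlgebra
  haveI : IsScalarTower Γ(Y, V) p.ResidueField K :=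
    IsScalarTower.of_algebraMap_eq fun x => (Ideal.ResidueField.lift_algebraMap p _ _ _ x).symm
  have hK : EGA4.IsNormalRing K := fun q _ => by
    haveI : IsDomain (Localization.AtPrime q) :=
      IsLocalization.isDomain_localization (Ideal.primeCompl_le_nonZeroDivisors q)
    exact ⟨inferInstance,
      isIntegrallyClosed_of_isLocalization (Localization.AtPrime q) q.primeCompl (Ideal.primeCompl_le_nonZeroDivisors q)⟩
  have h1 := CommAlg6.NormalTensor.isNormalRing_tensor_of_isGeomNormal p.ResidueField (p.Fiber Γ(X, U)) K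
    ((h U V hU hV hUV).2 p) hK
  exact CommAlg6.isNormalRing_of_ringEquiv
    (((Algebra.TensorProduct.comm p.ResidueField (p.Fiber Γ(X, U)) K).toRingEquiv.trans
      (Algebra.TensorProduct.cancelBaseChange Γ(Y, V) p.ResidueField K K Γ(X, U)).toRingEquiv).trans
        (Algebra.TensorProduct.comm Γ(Y, V) K Γ(X, U)).toRingEquiv) h1

theorem flat_of_normal {X Y : Scheme.{u}} (f : X ⟶ Y)
    (h : ∀ (U : X.Opens) (V : Y.Opens) (_ : IsAffineOpen U) (_ : IsAffineOpen V) (hUV : U ≤ f ⁻¹ᵁ V),
      letI := (f.appLE V U hUV).hom.toAlgebra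
      EGA4.IsNormalHom Γ(Y, V) Γ(X, U)) : Flat f := by
  refine (HasRingHomProperty.iff_appLE (P := @Flat)).2 fun V U e => ?_
  letI := (f.appLE V.1 U.1 e).hom.toAlgebra
  exact RingHom.flat_algebraMap_iff.2 (h U.1 V.1 U.2 V.2 e).1

theorem isReduced_of_normalStalks {Z : Scheme.{u}} (h : FibreProp.normalProp.SP Z) : IsReduced Z := by
  haveI : ∀ z : Z, _root_.IsReduced (Z.presheaf.stalk z) := fun z =>
    haveI := (h z).1
    inferInstance
  exact isReduced_of_isReduced_stalk Z

theorem geometricallyReduced_of_normal {X Y : Scheme.{u}} (f : X ⟶ Y)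
    (h : ∀ (U : X.Opens) (V : Y.Opens) (_ : IsAffineOpen U) (_ : IsAffineOpen V) (hUV : U ≤ f ⁻¹ᵁ V),
      letI := (f.appLE V U hUV).hom.toAlgebra
      EGA4.IsNormalHom Γ(Y, V) Γ(X, U)) : GeometricallyReduced f :=
  ⟨geometrically_iff_of_isClosedUnderIsomorphisms.mpr fun K _ x =>
    isReduced_of_normalStalks (normal_pullback f h K x)⟩

theorem geometricallyConnected_of_irreducible {X Y : Scheme.{u}} (f : X ⟶ Y)
    [GeometricallyIrreducible f] : GeometricallyConnected f := by
  refine ⟨geometrically_iff_of_isClosedUnderIsomorphisms.mpr fun K _ x => ?_⟩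
  haveI : IrreducibleSpace ↑(pullback f x) :=
    pullback_of_geometrically (GeometricallyIrreducible.geometrically_irreducibleSpace (f := f)) K x
  infer_instance

theorem isIntegral_of_normal_connected {k : Type u} [Field k] {X : Scheme.{u}}
    (f : X ⟶ Spec (CommRingCat.of k)) [LocallyOfFiniteType f] [QuasiCompact f] [ConnectedSpace X]
    (hN : FibreProp.normalProp.SP X) : IsIntegral X := by
  have hd : ∀ x : X, IsDomain (X.presheaf.stalk x) := fun x => (hN x).1
  haveI := isReduced_of_normalStalks hN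
  have : IsLocallyNoetherian X := LocallyOfFiniteType.isLocallyNoetherian f
  have : CompactSpace X := QuasiCompact.compactSpace_of_compactSpace f
  have : IsNoetherian X := {}
  obtain ⟨x⟩ := (inferInstance : Nonempty X)
  have ho : IsOpen (irreducibleComponent x) :=
    Props12.isOpen_component hd (fun y => ⟨⊤, trivial, (NoetherianSpace.finite_irreducibleComponents).subset fun C hC => hC.1⟩)
      (irreducibleComponent_mem_irreducibleComponents x)
  rcases isClopen_iff.1 ⟨isClosed_irreducibleComponent, ho⟩ with h | h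
  · exact absurd (mem_irreducibleComponent (x := x)) (h ▸ Set.notMem_empty x)
  have : IrreducibleSpace X := by
    rw [irreducibleSpace_def, Set.top_eq_univ, ← h]
    exact isIrreducible_irreducibleComponent
  exact isIntegral_of_irreducibleSpace_of_isReduced X

theorem exists_integral_etale_nhd {Y S : Scheme.{u}} (h : Y ⟶ S) [LocallyOfFinitePresentation h]
    [QuasiCompact h] [QuasiSeparated h]
    (hn : ∀ (U : Y.Opens) (V : S.Opens) (hU : IsAffineOpen U) (hV : IsAffineOpen V) (hUV : U ≤ h ⁻¹ᵁ V),
      letI := (h.appLE V U hUV).hom.toAlgebra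
      EGA4.IsNormalHom Γ(S, V) Γ(Y, U))
    (s : S) (T : (h.fiber s).Opens) (hT : GeometricallyIrreducible (T.ι ≫ h.fiberToSpecResidueField s)) :
    ∃ (S' : Scheme.{u}) (g : S' ⟶ S) (s' : S'), IsAffine S' ∧ Hens2.IsEtaleNbhd g s' s ∧
      ∃ V : (pullback h g).Opens, IsCompact (V : Set ↑(pullback h g)) ∧
        GeometricallyIntegral (V.ι ≫ pullback.snd h g) ∧
        ∀ y' : ↑(pullback h g), pullback.snd h g y' = s' →
          (y' ∈ V ↔ pullback.fst h g y' ∈ (h.fiberι s) '' (T : Set ↑(h.fiber s))) := by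
  haveI := flat_of_normal h hn
  haveI := geometricallyReduced_of_normal h hn
  haveI := hT
  obtain ⟨S', g, s', hS', hg, V, hVc, hVconn, hVmem⟩ := ConnectedEtaleNhd.exists_connected_etale_nhd h s T
    (geometricallyConnected_of_irreducible _)
  haveI := hVconn
  haveI : IsAffine S' := hS'
  haveI : LocallyOfFiniteType (pullback.snd h g) := MorphismProperty.pullback_snd _ _ inferInstance
  haveI : CompactSpace V := isCompact_iff_compactSpace.1 hVc
  let q := V.ι ≫ pullback.snd h g
  refine ⟨S', g, s', hS', hg, V, hVc, ⟨fun K _ y Z fst snd hP => ?_⟩, hVmem⟩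
  haveI : LocallyOfFiniteType snd := MorphismProperty.of_isPullback hP (inferInstance : LocallyOfFiniteType q)
  haveI : QuasiCompact snd := MorphismProperty.of_isPullback hP (inferInstance : QuasiCompact q)
  haveI : ConnectedSpace Z := GeometricallyConnected.geometrically_connectedSpace (f := q) _ _ _ hP
  let m : pullback q y ⟶ pullback (pullback.snd h g) y :=
    pullback.map q y (pullback.snd h g) y V.ι (𝟙 _) (𝟙 _) (by simp [q]) (by simp)
  exact isIntegral_of_normal_connected snd (FibreProp.normalProp.of_openImmersion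
    (hP.isoPullback.hom ≫ m ≫ (pullbackLeftPullbackSndIso h g y).hom) (normal_pullback h hn K (y ≫ g)))

end Groth.Agent.FlatMor12.NormalMorNhd
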