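import Groth.Agent.TwistLib.G.RelTwist
import Groth.Agent.ProjLib.RelProjBasics
import Groth.Agent.Props12.FlatOver
import Mathlib.RingTheory.Flat.EquationalCriterion
import Mathlib.AlgebraicGeometry.Morphisms.Flat

/-!
# Flatness of `Proj` and its twists when the high degree pieces are flat
-/

set_option autoImplicit false
set_option backward.isDefEq.respectTransparency false
set_option backward.isDefEq.respectTransparency.types false
set_option maxHeartbeats 800000

universe u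

open CategoryTheory CategoryTheory.Limits AlgebraicGeometry TopologicalSpace Opposite
open Groth.Agent.TwistLib.G

namespace Groth.Agent.FlatMor12.ProjFlatDeg

variable {R A : Type u} [CommRing R] [CommRing A] [Algebra R A] (𝒜 : ℕ → AddSubgroup A) [GradedRing 𝒜]

/-- The degree zero structure map. -/
def HasStrZero : Prop := ∀ r : R, algebraMap R A r ∈ 𝒜 0

/-- High degree pieces are flat. -/
def FlatHigh (R : Type u) [CommRing R] [Algebra R A] : Prop :=
  ∃ d₀ : ℕ, ∀ e : ℕ, d₀ ≤ e → Module.Flat R ↥(Submodule.span R (𝒜 e : Set A))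

variable {𝒜}

theorem mem_deg_of_mem_span (h0 : HasStrZero (R := R) 𝒜) {e : ℕ} {a : A}
    (ha : a ∈ Submodule.span R (𝒜 e : Set A)) : a ∈ 𝒜 e := by
  induction ha using Submodule.span_induction with
  | mem a ha => exact ha
  | zero => exact zero_mem _
  | add a b _ _ ha hb => exact add_mem ha hb
  | smul r a _ ha =>
    rw [Algebra.smul_def]
    simpa only [zero_add] using SetLike.mul_mem_graded (h0 r) ha

theorem smul_mem_deg (h0 : HasStrZero (R := R) 𝒜) {e : ℕ} (r : R) {a : A} (ha : a ∈ 𝒜 e) : r • a ∈ 𝒜 e :=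
  mem_deg_of_mem_span h0 (Submodule.smul_mem _ r (Submodule.subset_span ha))

/-- A module of fractions `a / f ^ N` of degree `n` is flat over `R`. -/
theorem flat_of_fractions (h0 : HasStrZero (R := R) 𝒜) (hflat : FlatHigh 𝒜 R) (n : ℤ) {d : ℕ} (hd : 0 < d)
    {f : A} (hf : f ∈ 𝒜 d) {M L : Type u} [AddCommGroup M] [Module R M] [AddCommGroup L] [Module R L]
    (ι : M →ₗ[R] L) (hι : Function.Injective ι) (q : ℕ → A →ₗ[R] L)
    (hshift : ∀ N l a, q (N + l) (f ^ l * a) = q N a)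
    (hsurj : ∀ x : M, ∃ N i : ℕ, ∃ a ∈ 𝒜 i, (i : ℤ) = N * d + n ∧ ι x = q N a)
    (hmem : ∀ N i : ℕ, ∀ a ∈ 𝒜 i, (i : ℤ) = N * d + n → ∃ x : M, ι x = q N a)
    (hker : ∀ N i : ℕ, ∀ a ∈ 𝒜 i, (i : ℤ) = N * d + n → q N a = 0 → ∃ l : ℕ, f ^ l * a = 0) :
    Module.Flat R M := by
  refine Module.Flat.of_forall_isTrivialRelation fun {m r x} hrel => ?_
  choose N i a ha hdeg hq using fun j => hsurj (x j)
  let N₀ := Finset.univ.sup N + n.natAbs
  let e := ((N₀ : ℤ) * d + n).toNat
  have he : (e : ℤ) = N₀ * d + n := by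
    refine Int.toNat_of_nonneg ?_
    have h1 : (N₀ : ℤ) ≤ (N₀ : ℤ) * d := le_mul_of_one_le_right (by positivity) (by exact_mod_cast hd)
    have h2 : (n.natAbs : ℤ) ≤ N₀ := by exact_mod_cast Nat.le_add_left _ _
    omega
  have hle : ∀ j, N j ≤ N₀ := fun j => (Finset.le_sup (Finset.mem_univ j)).trans (Nat.le_add_right _ _)
  let b := fun j => f ^ (N₀ - N j) * a j
  have hb : ∀ j, b j ∈ 𝒜 e := fun j => by
    have : (N₀ - N j) * d + i j = e := by
      zify [hle j]
      rw [he, hdeg j]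
      ring
    exact this ▸ SetLike.mul_mem_graded (pow_mem_deg hf _) (ha j)
  have hbq : ∀ j, ι (x j) = q N₀ (b j) := fun j => by
    rw [hq j, ← hshift (N j) (N₀ - N j) (a j), Nat.add_sub_cancel' (hle j)]
  have hsum : q N₀ (∑ j, r j • b j) = 0 := by
    rw [map_sum, ← (map_zero ι), ← hrel, map_sum]
    exact Finset.sum_congr rfl fun j _ => by rw [map_smul, map_smul, hbq]
  obtain ⟨l, hl⟩ := hker N₀ e _ (sum_mem fun j _ => smul_mem_deg h0 (r j) (hb j)) he hsum
  obtain ⟨d₀, hfl⟩ := hflat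
  have hlarge : d₀ ≤ (l + d₀) * d + e :=
    ((Nat.le_add_left _ _).trans (Nat.le_mul_of_pos_right _ hd)).trans (Nat.le_add_right _ _)
  let S := Submodule.span R (𝒜 ((l + d₀) * d + e) : Set A)
  haveI : Module.Flat R ↥S := hfl _ hlarge
  let c : Fin m → ↥S := fun j =>
    ⟨f ^ (l + d₀) * b j, Submodule.subset_span (SetLike.mul_mem_graded (pow_mem_deg hf _) (hb j))⟩
  have hc : ∑ j, r j • c j = 0 := by
    refine Subtype.ext ?_
    rw [Submodule.coe_sum, Submodule.coe_zero]
    calc ∑ j, ((r j • c j : ↥S) : A) = f ^ d₀ * (f ^ l * ∑ j, r j • b j) := by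
          rw [← mul_assoc, ← pow_add, Finset.mul_sum, add_comm d₀ l]
          exact Finset.sum_congr rfl fun j _ => by rw [Submodule.coe_smul, mul_smul_comm]
      _ = 0 := by rw [hl, mul_zero]
  obtain ⟨k, α, y, hy, hα⟩ := Module.Flat.isTrivialRelation_of_sum_smul_eq_zero hc
  have hdeg' : ((((l + d₀) * d + e : ℕ)) : ℤ) = ((N₀ + (l + d₀) : ℕ) : ℤ) * d + n := by push_cast; rw [he]; ring
  choose z hz using fun t => hmem (N₀ + (l + d₀)) _ (y t).1 (mem_deg_of_mem_span h0 (y t).2) hdeg'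
  refine ⟨k, α, z, fun j => hι ?_, hα⟩
  rw [hbq j, ← hshift N₀ (l + d₀) (b j), map_sum]
  have := congrArg (Subtype.val) (hy j)
  simp only [c, Submodule.coe_sum, Submodule.coe_smul] at this
  rw [this, map_sum]
  exact Finset.sum_congr rfl fun t _ => by rw [map_smul, map_smul, hz t]

/-- The structure map into a degree zero localization. -/
noncomputable abbrev toAway (h0 : HasStrZero (R := R) 𝒜) (f : A) : R →+* HomogeneousLocalization.Away 𝒜 f :=
  (HomogeneousLocalization.fromZeroRingHom 𝒜 _).comp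
    ((algebraMap R A).codRestrict (SetLike.GradeZero.subring 𝒜) h0)

/-- `A_(f)` is flat over `R`. -/
theorem flat_away (h0 : HasStrZero (R := R) 𝒜) (hflat : FlatHigh 𝒜 R) {d : ℕ} (hd : 0 < d)
    {f : A} (hf : f ∈ 𝒜 d) : (toAway h0 f).Flat := by
  letI := (toAway h0 f).toAlgebra
  show Module.Flat R (HomogeneousLocalization.Away 𝒜 f)
  let ι : HomogeneousLocalization.Away 𝒜 f →ₗ[R] Localization.Away f :=
    { toFun := HomogeneousLocalization.val
      map_add' := fun _ _ => HomogeneousLocalization.val_add _ _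
      map_smul' := fun r x => by
        rw [RingHom.id_apply, Algebra.smul_def, HomogeneousLocalization.val_mul, Algebra.smul_def]
        congr 1 }
  let q : ℕ → A →ₗ[R] Localization.Away f := fun N =>
    { toFun := fun a => Localization.mk a ⟨f ^ N, N, rfl⟩
      map_add' := fun a b => by rw [Localization.add_mk_self]
      map_smul' := fun r a => by rw [RingHom.id_apply, Localization.smul_mk] }
  refine flat_of_fractions h0 hflat 0 hd hf ι (HomogeneousLocalization.val_injective _) q ?_ ?_ ?_ ?_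
  · intro N l a
    exact Localization.mk_eq_mk_iff.2 (Localization.r_iff_exists.2 ⟨1, by simp only [pow_add]; ring⟩)
  · intro x
    obtain ⟨N, a, ha, rfl⟩ := HomogeneousLocalization.Away.mk_surjective 𝒜 hf x
    exact ⟨N, N • d, a, ha, by simp [smul_eq_mul], rfl⟩
  · intro N i a ha hi
    have : i = N • d := by rw [smul_eq_mul]; exact_mod_cast (hi.trans (add_zero _))
    exact ⟨HomogeneousLocalization.Away.mk 𝒜 hf N a (this ▸ ha), rfl⟩
  · intro N i a ha hi h
    obtain ⟨⟨c, k, rfl⟩, hc⟩ :=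
      Localization.r_iff_exists.1 (Localization.mk_eq_mk_iff.1 (h.trans (Localization.mk_zero 1).symm))
    exact ⟨k, by simpa using hc⟩

section twist

variable {S : Scheme.{u}} {U : S.Opens} (hU : IsAffineOpen U)
  {B : Type u} [CommRing B] {ℬ : ℕ → AddSubgroup B} [GradedRing ℬ] [Algebra Γ(S, U) B]

/-- `Proj B ⟶ S` through the affine open `U`. -/
noncomputable def toBase (h0 : HasStrZero (R := Γ(S, U)) ℬ) : Proj ℬ ⟶ S :=
  Proj.toSpecZero ℬ ≫
    Spec.map (CommRingCat.ofHom ((algebraMap Γ(S, U) B).codRestrict (SetLike.GradeZero.subring ℬ) h0)) ≫ hU.fromSpec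

theorem flat_toBase (h0 : HasStrZero (R := Γ(S, U)) ℬ) (hflat : FlatHigh ℬ Γ(S, U)) :
    AlgebraicGeometry.Flat (toBase hU h0) := by
  refine IsZariskiLocalAtSource.of_openCover (Proj.affineOpenCover ℬ).openCover fun ⟨e, a⟩ => ?_
  have : (toAway h0 a.1).Flat := flat_away h0 hflat e.2 a.2
  show AlgebraicGeometry.Flat (Proj.awayι ℬ a.1 a.2 e.2 ≫ toBase hU h0)
  rw [toBase, Proj.awayι_toSpecZero_assoc, ← Category.assoc, ← Spec.map_comp]
  haveI : AlgebraicGeometry.Flat (Spec.map (CommRingCat.ofHom (toAway h0 a.1))) :=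
    (HasRingHomProperty.Spec_iff (P := @AlgebraicGeometry.Flat)).2 this
  exact inferInstanceAs (AlgebraicGeometry.Flat (Spec.map (CommRingCat.ofHom (toAway h0 a.1)) ≫ hU.fromSpec))

theorem appLE_toBase (h0 : HasStrZero (R := Γ(S, U)) ℬ) {d : ℕ} (hd : 0 < d) {f : B} (hf : f ∈ ℬ d)
    (e : Proj.basicOpen ℬ f ≤ toBase hU h0 ⁻¹ᵁ U) :
    (toBase hU h0).appLE U (Proj.basicOpen ℬ f) e =
      CommRingCat.ofHom (toAway h0 f) ≫ Proj.awayToSection ℬ f := by
  let hW := Proj.isAffineOpen_basicOpen ℬ f hf hd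
  refine Spec.map_injective ((cancel_mono hU.fromSpec).1 ?_)
  rw [hU.SpecMap_appLE_fromSpec _ hW e, ← IsAffineOpen.isoSpec_inv_ι, Category.assoc, Iso.inv_comp_eq]
  have h1 : (Proj.basicOpen ℬ f).ι ≫ Proj.toSpecZero ℬ =
      Proj.basicOpenToSpec ℬ f ≫ Spec.map (CommRingCat.ofHom (HomogeneousLocalization.fromZeroRingHom ℬ _)) := by
    rw [← Proj.awayι_toSpecZero ℬ f hf hd, ← Proj.basicOpenIsoSpec_hom ℬ f hf hd,
      ← Proj.basicOpenIsoSpec_inv_ι ℬ f hf hd, Category.assoc, Iso.hom_inv_id_assoc]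
  rw [IsAffineOpen.isoSpec_hom, toBase, reassoc_of% h1, Proj.basicOpenToSpec]
  simp only [Category.assoc, ← Spec.map_comp_assoc]
  rfl

theorem flat_twist_sections (h0 : HasStrZero (R := Γ(S, U)) ℬ) (hflat : FlatHigh ℬ Γ(S, U)) (n : ℤ)
    {d : ℕ} (hd : 0 < d) {f : B} (hf : f ∈ ℬ d) (W : (Proj ℬ).Opens) (hW : W = Proj.basicOpen ℬ f)
    (e : W ≤ toBase hU h0 ⁻¹ᵁ U) :
    letI := Module.compHom Γ(GrTwist.twist ℬ n, W) ((toBase hU h0).appLE U W e).hom
    Module.Flat Γ(S, U) Γ(GrTwist.twist ℬ n, W) := by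
  subst hW
  letI := Module.compHom Γ(GrTwist.twist ℬ n, Proj.basicOpen ℬ f) ((toBase hU h0).appLE U (Proj.basicOpen ℬ f) e).hom
  let T := fun y : ProjectiveSpectrum.basicOpen ℬ f => Localization.AtPrime y.1.asHomogeneousIdeal.toIdeal
  have hres : ∀ (r : Γ(S, U)) (y : ProjectiveSpectrum.basicOpen ℬ f),
      ((((toBase hU h0).appLE U (Proj.basicOpen ℬ f) e).hom r).1 y).val = algebraMap B (T y) (algebraMap Γ(S, U) B r) := by
    intro r y
    rw [appLE_toBase hU h0 hd hf e]
    refine (ProjectiveSpectrum.Proj.awayToSection_apply ℬ f (toAway h0 f r) y).trans ?_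
    exact IsLocalization.map_eq (Submonoid.powers_le.mpr y.2) (algebraMap Γ(S, U) B r)
  let ι : Γ(GrTwist.twist ℬ n, Proj.basicOpen ℬ f) →ₗ[Γ(S, U)] (∀ y, T y) :=
    { toFun := fun s y => (s.1 y).1
      map_add' := fun _ _ => rfl
      map_smul' := fun r s => funext fun y => by
        show _ = r • ((s.1 y).1 : T y)
        rw [Algebra.smul_def, IsScalarTower.algebraMap_apply Γ(S, U) B (T y), ← hres]
        exact GrTwist.coe_smul_val n y.1 _ (s.1 y) }
  let q : ℕ → B →ₗ[Γ(S, U)] (∀ y, T y) := fun N =>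
    { toFun := fun a y => Localization.mk a ⟨f ^ N, pow_notMem y.2 N⟩
      map_add' := fun a b => funext fun y => by rw [Pi.add_apply, Localization.add_mk_self]
      map_smul' := fun r a => funext fun y => by rw [RingHom.id_apply, Pi.smul_apply, Localization.smul_mk] }
  refine flat_of_fractions h0 hflat n hd hf ι ?_ q ?_ ?_ ?_ ?_
  · intro s t h
    exact Subtype.ext (funext fun y => Subtype.ext (congrFun h y))
  · intro N l a
    funext y
    exact Localization.mk_eq_mk_iff.2 (Localization.r_iff_exists.2 ⟨1, by simp only [pow_add]; ring⟩)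
  · intro s
    obtain ⟨N, i, ⟨a, ha⟩, hi, hval⟩ :=
      exists_frac (ℳ := ℬ) hd hf (twistSectEquiv ℬ n (op (ProjectiveSpectrum.basicOpen ℬ f)) s)
    exact ⟨N, i, a, ha, hi, funext hval⟩
  · intro N i a ha hi
    refine ⟨(twistSectEquiv ℬ n (op (ProjectiveSpectrum.basicOpen ℬ f))).symm
      (fracSect (ℳ := ℬ) (ProjectiveSpectrum.basicOpen ℬ f) ⟨a, ha⟩ ⟨f ^ N, pow_mem_deg hf N⟩
        (fun y => pow_notMem y.2 N) (by push_cast; exact hi)), rfl⟩
  · intro N i a ha hi h
    obtain ⟨l, hl⟩ := exists_pow_smul_eq_zero_of_frac (ℳ := ℬ) hd hf ha (k := N) fun y => congrFun h y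
    exact ⟨l, hl⟩

end twist

end Groth.Agent.FlatMor12.ProjFlatDeg
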