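import Groth.Agent.CAlgMisc2.PureIdeal
import Mathlib.AlgebraicGeometry.IdealSheaf.Subscheme
import Mathlib.AlgebraicGeometry.Morphisms.Flat
import Mathlib.AlgebraicGeometry.Morphisms.ClosedImmersion

/-! Flat closed subschemes and pure ideals. -/

set_option autoImplicit false
set_option backward.isDefEq.respectTransparency false
universe u

open CategoryTheory AlgebraicGeometry TopologicalSpace

namespace Groth.Agent.FlatMor12.PureSubscheme

theorem pure_of_forall {R : Type*} [CommRing R] (I : Ideal R) (h : ∀ x ∈ I, ∃ y ∈ I, x = x * y) :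
    I.Pure := by
  refine Ideal.Pure.of_inf_eq_mul I fun K _ => le_antisymm ?_ Ideal.mul_le_inf
  rintro x ⟨hx, hxK⟩
  obtain ⟨y, hy, hxy⟩ := h x hx
  rw [hxy, mul_comm x y]
  exact Ideal.mul_mem_mul hy hxK

variable {X : Scheme.{u}}

theorem pure_of_flat {I : X.IdealSheafData} (h : Flat I.subschemeι) (U : X.affineOpens) :
    (I.ideal U).Pure := by
  have h1 : (I.subschemeι.app U).hom.Flat := by
    have := I.subschemeι.flat_appLE U.2 (U.2.preimage I.subschemeι) le_rfl
    rwa [← Scheme.Hom.app_eq_appLE] at this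
  rw [I.subschemeι_app U, CommRingCat.hom_comp] at h1
  have h2 : ((I.subschemeObjIso U).hom.hom.comp
      ((I.subschemeObjIso U).inv.hom.comp (CommRingCat.ofHom (Ideal.Quotient.mk (I.ideal U))).hom)).Flat :=
    RingHom.Flat.comp h1 (RingHom.Flat.of_bijective
      (I.subschemeObjIso U).commRingCatIsoToRingEquiv.bijective)
  rw [← CommRingCat.hom_comp, ← CommRingCat.hom_comp, Category.assoc, Iso.inv_hom_id, Category.comp_id,
    CommRingCat.hom_ofHom] at h2
  exact (RingHom.flat_algebraMap_iff (R := Γ(X, U)) (S := Γ(X, U) ⧸ I.ideal U)).1 h2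

theorem flat_of_pure {I : X.IdealSheafData} (h : ∀ U, (I.ideal U).Pure) : Flat I.subschemeι := by
  refine IsZariskiLocalAtSource.of_openCover (P := @Flat) I.subschemeCover.openCover fun (U : X.affineOpens) => ?_
  show Flat (I.subschemeCover.f U ≫ I.subschemeι)
  rw [I.subschemeCover_map_subschemeι, I.glueDataObjι_ι]
  haveI : Flat (Spec.map (CommRingCat.ofHom (Ideal.Quotient.mk (I.ideal U)))) := by
    rw [Flat.SpecMap_iff, CommRingCat.hom_ofHom]
    exact (RingHom.flat_algebraMap_iff (R := Γ(X, U)) (S := Γ(X, U) ⧸ I.ideal U)).2 (h U)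
  haveI : Flat U.2.fromSpec := inferInstance
  infer_instance

theorem stable_support {I : X.IdealSheafData} (h : ∀ U, (I.ideal U).Pure) :
    StableUnderGeneralization (I.support : Set X) := by
  intro x y hyx hx
  obtain ⟨_, ⟨U, hU, rfl⟩, hxU, -⟩ :=
    X.isBasis_affineOpens.exists_subset_of_mem_open (Set.mem_univ x) isOpen_univ
  have hyU : y ∈ U := hyx.mem_open U.2 hxU
  rw [SetLike.mem_coe, I.mem_support_iff_of_mem (U := ⟨U, hU⟩) hxU, Scheme.mem_zeroLocus_iff] at hx
  rw [SetLike.mem_coe, I.mem_support_iff_of_mem (U := ⟨U, hU⟩) hyU, Scheme.mem_zeroLocus_iff]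
  intro s hs hys
  haveI := h ⟨U, hU⟩
  obtain ⟨t, ht, hst⟩ := Ideal.exists_eq_mul_of_pure hs
  have hx1 : x ∈ X.basicOpen (1 - t) := by
    have : x ∈ X.basicOpen ((1 - t) + t) := by
      rw [sub_add_cancel, X.basicOpen_of_isUnit isUnit_one]; exact hxU
    exact (X.basicOpen_add_le _ _ this).resolve_right (hx t ht)
  have hy1 : y ∈ X.basicOpen (1 - t) := hyx.mem_open (X.basicOpen (1 - t)).2 hx1
  have : y ∈ X.basicOpen (s * (1 - t)) := by rw [X.basicOpen_mul]; exact ⟨hys, hy1⟩
  rw [mul_sub, mul_one, ← hst, sub_self, X.basicOpen_zero] at this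
  exact this

theorem eq_of_pure {U : X.Opens} (hU : IsAffineOpen U) (I J : Ideal Γ(X, U)) [I.Pure] [J.Pure]
    (h : X.zeroLocus (U := U) I ∩ U = X.zeroLocus (U := U) J ∩ U) : I = J := by
  refine Ideal.zeroLocus_inj_of_pure.1 ?_
  rw [← hU.fromSpec_image_zeroLocus, ← hU.fromSpec_image_zeroLocus] at h
  exact Set.image_injective.2 hU.fromSpec.isOpenEmbedding.injective h

theorem injOn : Set.InjOn (fun I : X.IdealSheafData => I.support) {I | Flat I.subschemeι} := by
  intro I hI J hJ hIJ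
  ext1
  funext U
  haveI := pure_of_flat hI U
  haveI := pure_of_flat hJ U
  refine eq_of_pure U.2 _ _ ?_
  rw [← I.coe_support_inter, ← J.coe_support_inter]
  exact congrArg (fun Z : Closeds X => (Z : Set X) ∩ U.1) hIJ

theorem exists_pure_ideal (Z : Closeds X) (hg : StableUnderGeneralization (Z : Set X))
    (U : X.affineOpens) : ∃ I : Ideal Γ(X, U), I.Pure ∧ X.zeroLocus (U := U.1) I ∩ U = (Z : Set X) ∩ U := by
  obtain ⟨I, hI, hz⟩ := CAlgMisc2.exists_pure_of_stable (U.2.fromSpec ⁻¹' (Z : Set X))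
    (Z.isClosed.preimage U.2.fromSpec.continuous)
    (fun p q hqp hp => hg (hqp.map U.2.fromSpec.continuous) hp)
  refine ⟨I, hI, ?_⟩
  rw [← U.2.fromSpec_image_zeroLocus, hz, Set.image_preimage_eq_inter_range, U.2.range_fromSpec]

theorem surjOn : Set.SurjOn (fun I : X.IdealSheafData => I.support) {I | Flat I.subschemeι}
    {Z : Closeds X | StableUnderGeneralization (Z : Set X)} := by
  intro Z hZ
  choose I hI hIz using exists_pure_ideal Z hZ
  have hmap : ∀ (U : X.affineOpens) (f : Γ(X, U)),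
      (I U).map (X.presheaf.map (homOfLE <| X.basicOpen_le f).op).hom = I (X.affineBasicOpen f) := by
    intro U f
    haveI := hI U
    haveI := hI (X.affineBasicOpen f)
    have this : ((I U).map (X.presheaf.map (homOfLE <| X.basicOpen_le f).op).hom).Pure := by
      have inst := U.2.isLocalization_basicOpen f
      refine pure_of_forall _ fun x hx => ?_
      obtain ⟨⟨⟨a, ha⟩, s⟩, he⟩ := (IsLocalization.mem_map_algebraMap_iff (.powers f) Γ(X, X.basicOpen f)).1 hx
      obtain ⟨y, hy, hay⟩ := Ideal.exists_eq_mul_of_pure ha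
      refine ⟨algebraMap Γ(X, U) Γ(X, X.basicOpen f) y, Ideal.mem_map_of_mem _ hy, ?_⟩
      refine (IsLocalization.map_units Γ(X, X.basicOpen f) s).mul_left_injective ?_
      simp only at he ⊢
      rw [mul_right_comm, he, ← map_mul, ← hay]
    refine @eq_of_pure _ _ (X.affineBasicOpen f).2 _ _ this (hI _) ?_
    rw [hIz, Ideal.map, Scheme.zeroLocus_span, Scheme.zeroLocus_map X (X.basicOpen_le f),
      Set.union_inter_distrib_right]
    simp only [Scheme.affineBasicOpen_coe, Set.compl_inter_self, Set.union_empty]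
    ext x
    constructor
    · rintro ⟨h1, h2⟩
      exact ⟨((Set.ext_iff.1 (hIz U) x).1 ⟨h1, X.basicOpen_le f h2⟩).1, h2⟩
    · rintro ⟨h1, h2⟩
      exact ⟨((Set.ext_iff.1 (hIz U) x).2 ⟨h1, X.basicOpen_le f h2⟩).1, h2⟩
  refine ⟨Scheme.IdealSheafData.mkOfMemSupportIff I hmap Z fun U x hx => ?_, flat_of_pure hI, ?_⟩
  · have := Set.ext_iff.1 (hIz U) x
    simp only [Set.mem_inter_iff, SetLike.mem_coe, hx, and_true] at this
    exact this.symm
  · exact SetLike.coe_injective rfl

theorem exists_factor {I : X.IdealSheafData} (h : Flat I.subschemeι) {Y : Scheme.{u}} (g : Y ⟶ X)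
    (hg : Set.range g.base ⊆ (I.support : Set X)) : ∃ g' : Y ⟶ I.subscheme, g' ≫ I.subschemeι = g := by
  refine ⟨IsClosedImmersion.lift I.subschemeι g ?_, IsClosedImmersion.lift_fac _ _ _⟩
  rw [I.ker_subschemeι, Scheme.Hom.ker, Scheme.IdealSheafData.le_ofIdeals_iff]
  intro U s hs
  rw [RingHom.mem_ker]
  haveI := pure_of_flat h U
  obtain ⟨t, ht, hst⟩ := Ideal.exists_eq_mul_of_pure hs
  have hu : IsUnit (g.app U (1 - t)) := by
    refine RingedSpace.isUnit_of_isUnit_germ _ (g ⁻¹ᵁ U.1) _ fun y hy => ?_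
    rw [← Scheme.mem_basicOpen Y _ y hy, ← Scheme.preimage_basicOpen]
    show g y ∈ X.basicOpen (1 - t)
    have hyU : g y ∈ U.1 := hy
    have hz := hg ⟨y, rfl⟩
    rw [SetLike.mem_coe, I.mem_support_iff_of_mem hyU, Scheme.mem_zeroLocus_iff] at hz
    have : g y ∈ X.basicOpen ((1 - t) + t) := by
      rw [sub_add_cancel, X.basicOpen_of_isUnit isUnit_one]; exact hyU
    exact (X.basicOpen_add_le _ _ this).resolve_right (hz t ht)
  refine hu.mul_left_eq_zero.1 ?_
  rw [← map_mul, mul_sub, mul_one, ← hst, sub_self, map_zero]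

end Groth.Agent.FlatMor12.PureSubscheme
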