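import Groth.Agent.FlatMor12.ValuationSections
import Groth.Agent.HTop16.ValUltra
import Groth.Agent.EGA43.Limit.Basic
import Mathlib.CategoryTheory.Presentable.Directed

/-!
# Universal S-subtrusiveness descends along limits
-/

set_option autoImplicit false
set_option maxHeartbeats 1000000
set_option backward.isDefEq.respectTransparency false

universe u

open CategoryTheory CategoryTheory.Limits AlgebraicGeometry IsLocalRing Opposite

namespace Groth.Agent.FlatMor12.SubtrLimit

open Groth.Agent HTop16.ValUltra ValuationSections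

instance : (Subtr.UnivSSubtrusive.{u}).IsStableUnderBaseChange :=
  MorphismProperty.universally_isStableUnderBaseChange _

/-- A finite system of equations solvable over `Γ` of the limit, up to eventual equality. -/
theorem eventually_algHom {T : Type u} (U : Ultrafilter T) (V : T → Type u) [∀ t, CommRing (V t)]
    {A B : Type u} [CommRing A] [CommRing B] [Algebra A B] [Algebra.FinitePresentation A B]
    (ψ : A →+* ∀ t, V t) (ρ : B →+* (∀ t, V t) ⧸ ultraIdeal U V)
    (h : ρ.comp (algebraMap A B) = (Ideal.Quotient.mk (ultraIdeal U V)).comp ψ) :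
    ∀ᶠ t in (U : Filter T), ∃ φ : B →+* V t, φ.comp (algebraMap A B) = (Pi.evalRingHom V t).comp ψ := by
  obtain ⟨n, π, hπ, hker⟩ := Algebra.FinitePresentation.out (R := A) (A := B)
  obtain ⟨S, hS⟩ := hker
  choose v hv using fun i => Ideal.Quotient.mk_surjective (ρ (π (MvPolynomial.X i)))
  have key : ρ.comp π.toRingHom = MvPolynomial.eval₂Hom ((Ideal.Quotient.mk (ultraIdeal U V)).comp ψ)
      fun i => Ideal.Quotient.mk (ultraIdeal U V) (v i) := by
    refine MvPolynomial.ringHom_ext (fun a => ?_) fun i => ?_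
    · rw [MvPolynomial.eval₂Hom_C, ← h]
      exact congrArg ρ (π.commutes a)
    · rw [MvPolynomial.eval₂Hom_X']
      exact (hv i).symm
  have hev : ∀ g ∈ (S : Set (MvPolynomial (Fin n) A)),
      ∀ᶠ t in (U : Filter T), MvPolynomial.eval₂ ((Pi.evalRingHom V t).comp ψ) (fun i => v i t) g = 0 := by
    intro g hg
    refine ultra_eval₂ U V ψ v g ?_
    have hg0 : π g = 0 := by
      have : g ∈ RingHom.ker π.toRingHom := hS ▸ Ideal.subset_span hg
      exact this
    have := RingHom.congr_fun key g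
    rw [RingHom.comp_apply, show π.toRingHom g = π g from rfl, hg0, map_zero] at this
    exact this.symm
  filter_upwards [(Filter.eventually_all_finite S.finite_toSet).2 hev] with t ht
  let e : MvPolynomial (Fin n) A →+* V t :=
    MvPolynomial.eval₂Hom ((Pi.evalRingHom V t).comp ψ) fun i => v i t
  have hle : RingHom.ker π.toRingHom ≤ RingHom.ker e := by
    refine hS.ge.trans (Ideal.span_le.2 fun g hg => ?_)
    exact ht g hg
  refine ⟨(π.toRingHom).liftOfSurjective hπ ⟨e, hle⟩, RingHom.ext fun a => ?_⟩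
  rw [RingHom.comp_apply, ← π.commutes a]
  show (π.toRingHom.liftOfSurjective hπ ⟨e, hle⟩) (π.toRingHom (algebraMap A _ a)) = _
  rw [RingHom.liftOfSurjective_comp_apply]
  exact MvPolynomial.eval₂Hom_C _ _ _

section Main

variable {I : Type u} [SmallCategory I] [IsCofiltered I] {D : I ⥤ Scheme.{u}} {c : Cone D}
  [∀ (i j : I) (f : i ⟶ j), IsAffineHom (D.map f)]

/-- Over an affine stage, sections over valuation rings descend along limits. -/
theorem exists_hasSections (hc : IsLimit c) {i₀ : I} [IsAffine (D.obj i₀)] {X₀ : Scheme.{u}}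
    (f₀ : X₀ ⟶ D.obj i₀) [LocallyOfFinitePresentation f₀] {X : Scheme.{u}} {q : X ⟶ X₀} {f : X ⟶ c.pt}
    (sq : IsPullback q f f₀ (c.π.app i₀)) (hf : Subtr.UnivSSubtrusive f) :
    ∃ o : Over i₀, HasSections (pullback.snd f₀ (D.map o.hom)) := by
  classical
  by_contra hne
  have key : ∀ o : Over i₀, ∃ (V : Type u) (_ : CommRing V) (_ : IsDomain V) (_ : ValuationRing V)
      (_ : IsAlgClosed (FractionRing V)) (g : Spec (CommRingCat.of V) ⟶ D.obj o.left),
      ∀ s : Spec (CommRingCat.of V) ⟶ X₀, s ≫ f₀ ≠ g ≫ D.map o.hom := fun o => by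
    by_contra h
    refine hne ⟨o, fun V _ _ _ _ g => ?_⟩
    by_contra h'
    refine h ⟨V, ‹_›, ‹_›, ‹_›, ‹_›, g, fun s hs => h' ⟨pullback.lift s g hs, pullback.lift_snd _ _ _⟩⟩
  choose W hW1 hW2 hW3 hW4 g hg using key
  let D' : Over i₀ ⥤ Scheme.{u} := Over.forget i₀ ⋙ D
  let c' : Cone D' := c.whisker (Over.forget i₀)
  have hc' : IsLimit c' := (Functor.Initial.isLimitWhiskerEquiv (Over.forget i₀) c).symm hc
  haveI hD' : ∀ o, IsAffine (D'.obj o) := fun o => isAffine_of_isAffineHom (D.map o.hom)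
  haveI : ∀ {o o' : Over i₀} (φ : o ⟶ o'), IsAffineHom (D'.map φ) :=
    fun φ => inferInstanceAs (IsAffineHom (D.map φ.left))
  obtain ⟨hΓ⟩ := nonempty_isColimit_Γ_mapCocone D' c' hc'
  obtain ⟨α, _, _, _, F, _⟩ := IsFiltered.exists_directed (Over i₀)ᵒᵖ
  let O : α → Over i₀ := fun a => (F.obj a).unop
  let V : α → Type u := fun a => W (O a)
  let U : Ultrafilter α := Ultrafilter.of Filter.atTop
  let P := (∀ a, V a) ⧸ ultraIdeal U V
  let mk : (∀ a, V a) →+* P := Ideal.Quotient.mk _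
  haveI : IsDomain P := ultra_isDomain U V
  haveI : ValuationRing P := ultra_valuationRing U V
  haveI : IsAlgClosed (FractionRing P) := ultra_isAlgClosed U V
  haveI : IsLocalRing P := ValuationRing.isLocalRing P
  have hge : ∀ a, ∀ᶠ b in (U : Filter α), a ≤ b := fun a => Ultrafilter.of_le _ (Filter.eventually_ge_atTop a)
  -- the components
  let χ : ∀ a, Γ(D'.obj (O a), ⊤) →+* V a := fun a =>
    (Spec.preimage (g (O a) ≫ (D'.obj (O a)).isoSpec.hom)).hom
  have hχ : ∀ a, Spec.map (CommRingCat.ofHom (χ a)) ≫ (D'.obj (O a)).isoSpec.inv = g (O a) := fun a => by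
    rw [CommRingCat.ofHom_hom, Spec.map_preimage, Category.assoc, Iso.hom_inv_id, Category.comp_id]
  let G : α ⥤ CommRingCat.{u} := F ⋙ D'.op ⋙ Scheme.Γ
  let e : ∀ {a b : α}, a ≤ b → Γ(D'.obj (O a), ⊤) →+* V b := fun {a b} h =>
    (χ b).comp (D'.map (F.map (homOfLE h)).unop).appTop.hom
  have he : ∀ {a b d : α} (h : a ≤ b) (h' : b ≤ d) x,
      e h' ((D'.map (F.map (homOfLE h)).unop).appTop x) = e (h.trans h') x := fun {a b d} h h' x => by
    show χ d ((D'.map _).appTop ((D'.map _).appTop x)) = χ d ((D'.map _).appTop x)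
    refine congrArg (χ d) ?_
    rw [← CommRingCat.comp_apply, ← Scheme.Hom.comp_appTop, ← D'.map_comp, ← unop_comp, ← F.map_comp]
    rfl
  let ev : ∀ a, Γ(D'.obj (O a), ⊤) → ∀ b, V b := fun a x b => if h : a ≤ b then e h x else 0
  have hev : ∀ {a b : α} (h : a ≤ b) x, ev a x b = e h x := fun h x => dif_pos h
  let θa : ∀ a, Γ(D'.obj (O a), ⊤) →+* P := fun a =>
    { toFun := fun x => mk (ev a x)
      map_one' := by
        rw [← map_one mk]
        refine (mk_eq_mk U V).2 ?_
        filter_upwards [hge a] with b hb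
        rw [hev hb, map_one]; rfl
      map_zero' := by
        rw [← map_zero mk]
        refine (mk_eq_mk U V).2 ?_
        filter_upwards [hge a] with b hb
        rw [hev hb, map_zero]; rfl
      map_mul' := fun x y => by
        rw [← map_mul mk]
        refine (mk_eq_mk U V).2 ?_
        filter_upwards [hge a] with b hb
        rw [Pi.mul_apply, hev hb, hev hb, hev hb, map_mul]
      map_add' := fun x y => by
        rw [← map_add mk]
        refine (mk_eq_mk U V).2 ?_
        filter_upwards [hge a] with b hb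
        rw [Pi.add_apply, hev hb, hev hb, hev hb, map_add] }
  let K : Cocone G :=
    { pt := CommRingCat.of P
      ι :=
      { app := fun a => CommRingCat.ofHom (θa a)
        naturality := fun a b φ => by
          refine CommRingCat.hom_ext (RingHom.ext fun x => ?_)
          refine (mk_eq_mk U V).2 ?_
          filter_upwards [hge b] with d hd
          show ev b ((D'.map (F.map φ).unop).appTop x) d = ev a x d
          rw [hev hd, hev ((leOfHom φ).trans hd), ← homOfLE_leOfHom φ, he] } }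
  let hcol := (Functor.Final.isColimitWhiskerEquiv F (Scheme.Γ.mapCocone c'.op)).symm hΓ
  let θ : Γ(c.pt, ⊤) ⟶ CommRingCat.of P := hcol.desc K
  have hθ : ∀ a x, θ ((c'.π.app (O a)).appTop x) = θa a x := fun a x =>
    RingHom.congr_fun (congrArg CommRingCat.Hom.hom (hcol.fac K a)) x
  haveI : ∀ {i j : I} (f : i ⟶ j), IsAffineHom (D.map f) := fun f => inferInstance
  haveI : IsAffineHom (c.π.app i₀) := isAffineHom_π_app D c hc i₀
  haveI : IsAffine c.pt := isAffine_of_isAffineHom (c.π.app i₀)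
  haveI : LocallyOfFinitePresentation f := MorphismProperty.of_isPullback sq ‹LocallyOfFinitePresentation f₀›
  obtain ⟨s, hs⟩ := hasSections_of_univSSubtrusive f hf P (Spec.map θ ≫ c.pt.isoSpec.inv)
  -- an affine chart
  obtain ⟨_, ⟨O', hO', rfl⟩, hxO, -⟩ := X₀.isBasis_affineOpens.exists_subset_of_mem_open
    (Set.mem_univ (((s ≫ q)) (closedPoint P))) isOpen_univ
  have hr : Set.range (s ≫ q) ⊆ Set.range hO'.fromSpec := by
    rw [hO'.range_fromSpec]
    rintro _ ⟨p, rfl⟩
    exact ((specializes_closedPoint (R := P) p).map (s ≫ q).continuous).mem_open O'.2 hxO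
  haveI : IsOpenImmersion hO'.fromSpec := hO'.isOpenImmersion_fromSpec
  let ρ : Γ(X₀, O') ⟶ CommRingCat.of P := Spec.preimage (IsOpenImmersion.lift hO'.fromSpec (s ≫ q) hr)
  have hρ : Spec.map ρ ≫ hO'.fromSpec = s ≫ q := by rw [Spec.map_preimage, IsOpenImmersion.lift_fac]
  have hA := isAffineOpen_top (D.obj i₀)
  let al := f₀.appLE ⊤ O' le_top
  have hal : Spec.map al ≫ hA.fromSpec = hO'.fromSpec ≫ f₀ := hA.SpecMap_appLE_fromSpec f₀ hO' le_top
  have hsq : al ≫ ρ = (c.π.app i₀).appTop ≫ θ := by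
    apply Spec.map_injective
    rw [← cancel_mono hA.fromSpec, Spec.map_comp, Category.assoc, hal, ← Category.assoc, hρ,
      Category.assoc, sq.w, ← Category.assoc, hs, Spec.map_comp, Category.assoc, Category.assoc,
      IsAffineOpen.fromSpec_top, ← Scheme.isoSpec_inv_naturality]
  letI : Algebra Γ(D.obj i₀, ⊤) Γ(X₀, O') := al.hom.toAlgebra
  haveI : Algebra.FinitePresentation Γ(D.obj i₀, ⊤) Γ(X₀, O') :=
    f₀.finitePresentation_appLE hA hO' le_top
  let ψ : Γ(D.obj i₀, ⊤) →+* ∀ b, V b := Pi.ringHom fun b => (χ b).comp (D.map (O b).hom).appTop.hom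
  obtain ⟨a₀⟩ : Nonempty α := inferInstance
  have hψ : ρ.hom.comp (algebraMap Γ(D.obj i₀, ⊤) Γ(X₀, O')) = mk.comp ψ := by
    refine RingHom.ext fun x => ?_
    refine (RingHom.congr_fun (congrArg CommRingCat.Hom.hom hsq) x).trans ?_
    show θ ((c.π.app i₀).appTop x) = _
    rw [← c.w (O a₀).hom, Scheme.Hom.comp_appTop, CommRingCat.comp_apply]
    refine (hθ a₀ _).trans ((mk_eq_mk U V).2 ?_)
    filter_upwards [hge a₀] with b hb
    rw [hev hb]
    show χ b ((D.map (F.map (homOfLE hb)).unop.left).appTop ((D.map (O a₀).hom).appTop x)) = χ b _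
    refine congrArg (χ b) ?_
    rw [← CommRingCat.comp_apply, ← Scheme.Hom.comp_appTop, ← D.map_comp, Over.w]
    rfl
  obtain ⟨b, φ, hφ⟩ := (eventually_algHom U V ψ ρ.hom hψ).exists
  refine hg (O b) (Spec.map (CommRingCat.ofHom φ) ≫ hO'.fromSpec) ?_
  haveI : IsAffine (D.obj (O b).left) := hD' (O b)
  have h1 : al ≫ CommRingCat.ofHom φ = (D.map (O b).hom).appTop ≫ CommRingCat.ofHom (χ b) :=
    CommRingCat.hom_ext hφ
  rw [Category.assoc, ← hal, ← Spec.map_comp_assoc, h1, Spec.map_comp_assoc, IsAffineOpen.fromSpec_top,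
    Scheme.isoSpec_inv_naturality, ← Category.assoc]
  exact congrArg (· ≫ D.map (O b).hom) (hχ b)

end Main

theorem descendsAffine_univSSubtrusive :
    ∀ {I : Type u} [SmallCategory I] [IsCofiltered I] (D : I ⥤ Scheme.{u}) (c : Cone D) (_ : IsLimit c)
      [∀ (i j : I) (f : i ⟶ j), IsAffineHom (D.map f)] (i₀ : I) [IsAffine (D.obj i₀)]
      {X₀ : Scheme.{u}} (f₀ : X₀ ⟶ D.obj i₀) (_ : LocallyOfFinitePresentation f₀)
      {X : Scheme.{u}} (q : X ⟶ X₀) (f : X ⟶ c.pt), IsPullback q f f₀ (c.π.app i₀) →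
      Subtr.UnivSSubtrusive f → ∃ (j : I) (φ : j ⟶ i₀), Subtr.UnivSSubtrusive (pullback.snd f₀ (D.map φ)) := by
  intro I _ _ D c hc _ i₀ _ X₀ f₀ _ X q f sq hf
  obtain ⟨o, ho⟩ := exists_hasSections hc f₀ sq hf
  exact ⟨o.left, o.hom, univSSubtrusive_of_hasSections _ ho⟩

theorem of_isPullback_factor {P : MorphismProperty Scheme.{u}} [P.IsStableUnderBaseChange]
    {X Y A B Z W : Scheme.{u}} {f : X ⟶ Y} {pA : Z ⟶ X} {gA : Z ⟶ A} {a : A ⟶ Y}
    (hA : IsPullback pA gA f a) {pB : W ⟶ X} {gB : W ⟶ B} {b : B ⟶ Y} (hB : IsPullback pB gB f b)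
    (μ : B ⟶ A) (hμ : μ ≫ a = b) (h : P gA) : P gB := by
  let m : W ⟶ Z := hA.lift pB (gB ≫ μ) (by rw [Category.assoc, hμ, hB.w])
  have hm : IsPullback m gB gA μ := by
    refine IsPullback.of_right (h₁₂ := pA) ?_ (hA.lift_snd _ _ _) hA
    rw [hA.lift_fst, hμ]
    exact hB
  exact MorphismProperty.of_isPullback hm h

/-- Sections over valuation rings are local on the target. -/
theorem hasSections_of_openCover {X Y : Scheme.{u}} (f : X ⟶ Y) (𝒰 : Y.OpenCover)
    (h : ∀ k, HasSections (pullback.snd f (𝒰.f k))) : HasSections f := by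
  intro V _ _ _ _ g
  obtain ⟨k, y, hy⟩ := 𝒰.exists_eq (g (closedPoint V))
  have hr : Set.range g ⊆ Set.range (𝒰.f k) := by
    rintro _ ⟨p, rfl⟩
    exact ((specializes_closedPoint (R := V) p).map g.continuous).mem_open (𝒰.f k).opensRange.2 ⟨y, hy⟩
  obtain ⟨s, hs⟩ := h k V (IsOpenImmersion.lift (𝒰.f k) g hr)
  refine ⟨s ≫ pullback.fst _ _, ?_⟩
  rw [Category.assoc, pullback.condition, ← Category.assoc, hs, IsOpenImmersion.lift_fac]

/-- Universal S-subtrusiveness descends over a quasi-compact target. -/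
theorem exists_univSSubtrusive_descend {I : Type u} [SmallCategory I] [IsCofiltered I]
    (D : I ⥤ Scheme.{u}) (c : Limits.Cone D) (hc : Limits.IsLimit c)
    [∀ (i j : I) (a : i ⟶ j), IsAffineHom (D.map a)] (i₀ : I)
    {X₀ Y₀ : Scheme.{u}} (f₀ : X₀ ⟶ Y₀) (g₀ : Y₀ ⟶ D.obj i₀) [CompactSpace Y₀]
    [LocallyOfFinitePresentation f₀] [QuasiCompact f₀] [QuasiSeparated f₀]
    {X Y : Scheme.{u}} (f : X ⟶ Y) (g : Y ⟶ c.pt) (qY : Y ⟶ Y₀) (qX : X ⟶ X₀)
    (hY : IsPullback qY g g₀ (c.π.app i₀)) (hX : IsPullback qX f f₀ qY) (hf : Subtr.UnivSSubtrusive f) :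
    ∃ (i : I) (φ : i ⟶ i₀), Subtr.UnivSSubtrusive (pullback.snd f₀ (pullback.fst g₀ (D.map φ))) := by
  classical
  let 𝒰 := Y₀.affineCover.finiteSubcover
  have H : ∀ k, ∃ (j : I) (φ : j ⟶ i₀), Subtr.UnivSSubtrusive
      (pullback.snd (pullback.snd f₀ (𝒰.f k)) (pullback.fst (𝒰.f k ≫ g₀) (D.map φ))) := fun k => by
    haveI : IsAffine (𝒰.X k) := inferInstanceAs (IsAffine (Y₀.affineCover.X _))
    have hY' := (IsPullback.of_hasPullback qY (𝒰.f k)).flip.paste_vert hY
    let f₀' := pullback.snd f₀ (𝒰.f k)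
    let fW := pullback.snd f₀' (pullback.snd qY (𝒰.f k))
    have hfW : Subtr.UnivSSubtrusive fW := by
      refine of_isPullback_factor hX
        ((IsPullback.of_hasPullback f₀' (pullback.snd qY (𝒰.f k))).paste_horiz
          (IsPullback.of_hasPullback f₀ (𝒰.f k))) (pullback.fst qY (𝒰.f k)) ?_ hf
      exact pullback.condition
    exact EGA43.Limit.transfer' (Q := @LocallyOfFinitePresentation.{u}) (P := Subtr.UnivSSubtrusive.{u})
      f₀' (𝒰.f k ≫ g₀) inferInstance hY' (IsPullback.of_hasPullback f₀' _) hfW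
      fun f₁ _ _ h₁ sq => by
        haveI : IsIso (pullback.fst (𝒰.f k ≫ g₀) (D.map (Over.mk (𝟙 i₀)).hom)) := by
          have : IsIso (D.map (Over.mk (𝟙 i₀)).hom) := inferInstanceAs (IsIso (D.map (𝟙 i₀)))
          infer_instance
        haveI : IsAffine ((EGA43.Limit.stage D (𝒰.f k ≫ g₀)).obj (Over.mk (𝟙 i₀))) :=
          IsAffine.of_isIso (pullback.fst (𝒰.f k ≫ g₀) (D.map (Over.mk (𝟙 i₀)).hom))
        exact descendsAffine_univSSubtrusive (EGA43.Limit.stage D (𝒰.f k ≫ g₀))
          (EGA43.Limit.stageCone D c (𝒰.f k ≫ g₀) hY')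
          (EGA43.Limit.isLimitStageCone D c (𝒰.f k ≫ g₀) hY' hc) (Over.mk (𝟙 i₀)) f₁ h₁ _ _ sq hfW
  choose j φ hj using H
  haveI : Fintype 𝒰.I₀ := Fintype.ofFinite _
  obtain ⟨l, hl⟩ := IsCofiltered.inf_objs_exists
    (insert (Over.mk (𝟙 i₀)) ((Finset.univ : Finset 𝒰.I₀).image fun k => Over.mk (φ k)))
  refine ⟨l.left, l.hom, univSSubtrusive_of_hasSections _
    (hasSections_of_openCover _ (𝒰.pullback₁ (pullback.fst g₀ (D.map l.hom))) ?_)⟩
  intro (k : 𝒰.I₀)
  refine hasSections_of_univSSubtrusive _ ?_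
  obtain ⟨χ⟩ := hl (Finset.mem_insert_of_mem
    (Finset.mem_image_of_mem (fun k => Over.mk (φ k)) (Finset.mem_univ k)))
  have hχ : χ.left ≫ φ k = l.hom := Over.w χ
  let μ : pullback (pullback.fst g₀ (D.map l.hom)) (𝒰.f k) ⟶ pullback (𝒰.f k ≫ g₀) (D.map (φ k)) :=
    pullback.lift (pullback.snd _ _)
      (pullback.fst _ _ ≫ pullback.snd g₀ (D.map l.hom) ≫ D.map χ.left) (by
      simp only [Category.assoc, ← D.map_comp, hχ]
      rw [← pullback.condition_assoc, ← pullback.condition])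
  refine of_isPullback_factor (P := Subtr.UnivSSubtrusive.{u})
    ((IsPullback.of_hasPullback (pullback.snd f₀ (𝒰.f k)) (pullback.fst (𝒰.f k ≫ g₀) (D.map (φ k)))).paste_horiz
      (IsPullback.of_hasPullback f₀ (𝒰.f k)))
    ((IsPullback.of_hasPullback (pullback.snd f₀ (pullback.fst g₀ (D.map l.hom))) _).paste_horiz
      (IsPullback.of_hasPullback f₀ (pullback.fst g₀ (D.map l.hom)))) μ ?_ (hj k)
  show μ ≫ pullback.fst _ _ ≫ 𝒰.f k = pullback.fst (pullback.fst g₀ (D.map l.hom)) (𝒰.f k) ≫ pullback.fst g₀ _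
  simp only [μ, pullback.lift_fst_assoc]
  exact pullback.condition.symm

end Groth.Agent.FlatMor12.SubtrLimit
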