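import Groth.Agent.FlatMor12.ValuationSections
import Groth.Agent.FlatMor12.SubtrLimit
import Groth.Agent.LocImm12.ZMT
import Groth.Agent.SGA1Quot.GeomTransitive
import Groth.Agent.Props12.KerReduced
import Groth.Agent.H8Lim.NoetherianModel
import Groth.Agent.EGA43.Limit.Immersions
import Groth.Agent.H10Spread.Model
import Mathlib.RingTheory.Valuation.LocalSubring

/-!
# Quasi-finite universally S-subtrusive morphisms are refined by an open covering of a finite surjection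
-/

set_option autoImplicit false
set_option maxHeartbeats 1000000
set_option backward.isDefEq.respectTransparency false

universe u

open CategoryTheory CategoryTheory.Limits AlgebraicGeometry TopologicalSpace IsLocalRing

namespace Groth.Agent.FlatMor12.QfRefine

open Groth.Agent ValuationSections

theorem finite_points {Z Y : Scheme.{u}} (π : Z ⟶ Y) [IsFinite π] {Ω : Type u} [Field Ω]
    (g : Spec (CommRingCat.of Ω) ⟶ Y) : Finite {s : Spec (CommRingCat.of Ω) ⟶ Z // s ≫ π = g} := by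
  obtain ⟨V, hV, hgV, -⟩ := exists_isAffineOpen_mem_and_subset (x := g (closedPoint Ω)) (U := ⊤) trivial
  have hW : IsAffineOpen (π ⁻¹ᵁ V) := hV.preimage π
  have hsub : ∀ p : Spec (CommRingCat.of Ω), p = closedPoint Ω := fun p => @Subsingleton.elim (PrimeSpectrum Ω) _ p _
  have hr : ∀ s : {s : Spec (CommRingCat.of Ω) ⟶ Z // s ≫ π = g}, Set.range s.1 ⊆ Set.range hW.fromSpec := by
    intro s
    rw [hW.range_fromSpec]
    rintro _ ⟨p, rfl⟩
    show (s.1 ≫ π) p ∈ V
    rw [s.2, hsub p]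
    exact hgV
  haveI : IsOpenImmersion hV.fromSpec := hV.isOpenImmersion_fromSpec
  haveI : IsOpenImmersion hW.fromSpec := hW.isOpenImmersion_fromSpec
  have hrg : Set.range g ⊆ Set.range hV.fromSpec := by
    rw [hV.range_fromSpec]
    rintro _ ⟨p, rfl⟩
    rw [hsub p]
    exact hgV
  let ψ : Γ(Y, V) ⟶ CommRingCat.of Ω := Spec.preimage (IsOpenImmersion.lift hV.fromSpec g hrg)
  let al := π.appLE V (π ⁻¹ᵁ V) le_rfl
  letI : Algebra Γ(Y, V) Γ(Z, π ⁻¹ᵁ V) := al.hom.toAlgebra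
  letI : Algebra Γ(Y, V) Ω := ψ.hom.toAlgebra
  haveI : Module.Finite Γ(Y, V) Γ(Z, π ⁻¹ᵁ V) := by
    have h := IsFinite.finite_app (f := π) V hV
    rw [Scheme.Hom.app_eq_appLE] at h
    exact h
  let ρ : {s : Spec (CommRingCat.of Ω) ⟶ Z // s ≫ π = g} → (Γ(Z, π ⁻¹ᵁ V) ⟶ CommRingCat.of Ω) :=
    fun s => Spec.preimage (IsOpenImmersion.lift hW.fromSpec s.1 (hr s))
  have hρ : ∀ s, Spec.map (ρ s) ≫ hW.fromSpec = s.1 := fun s => by
    rw [Spec.map_preimage, IsOpenImmersion.lift_fac]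
  have hcomp : ∀ s, al ≫ ρ s = ψ := fun s => Spec.map_injective (by
    rw [← cancel_mono hV.fromSpec, Spec.map_comp, Category.assoc, hV.SpecMap_appLE_fromSpec π hW le_rfl,
      ← Category.assoc, hρ, s.2, Spec.map_preimage, IsOpenImmersion.lift_fac])
  let Φ : {s : Spec (CommRingCat.of Ω) ⟶ Z // s ≫ π = g} → (Γ(Z, π ⁻¹ᵁ V) →ₐ[Γ(Y, V)] Ω) := fun s =>
    { (ρ s).hom with commutes' := fun r => RingHom.congr_fun (congrArg CommRingCat.Hom.hom (hcomp s)) r }
  refine Finite.of_injective Φ fun s t h => Subtype.ext ?_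
  rw [← hρ s, ← hρ t, show ρ s = ρ t from CommRingCat.hom_ext (congrArg AlgHom.toRingHom h)]

theorem exists_prod {Y S : Scheme.{u}} (g : S ⟶ Y) : ∀ (n : ℕ) (Z : Fin n → Scheme.{u}) (π : ∀ m, Z m ⟶ Y)
    (_ : ∀ m, IsFinite (π m)) (c : ∀ m, S ⟶ Z m) (_ : ∀ m, c m ≫ π m = g),
    ∃ (Q : Scheme.{u}) (π' : Q ⟶ Y) (l : S ⟶ Q), IsFinite π' ∧ l ≫ π' = g ∧
      ∀ m, ∃ p : Q ⟶ Z m, p ≫ π m = π' ∧ l ≫ p = c m
  | 0, _, _, _, _, _ => ⟨Y, 𝟙 Y, g, inferInstance, Category.comp_id _, fun m => m.elim0⟩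
  | n + 1, Z, π, hπ, c, hc => by
    obtain ⟨Q, π', l, hf, hl, hp⟩ := exists_prod g n (fun m => Z m.succ) (fun m => π m.succ) (fun m => hπ _)
      (fun m => c m.succ) fun m => hc _
    haveI := hπ 0
    refine ⟨pullback π' (π 0), pullback.fst π' (π 0) ≫ π', pullback.lift l (c 0) (hl.trans (hc 0).symm),
      inferInstance, by rw [pullback.lift_fst_assoc, hl], fun m => ?_⟩
    refine Fin.cases ⟨pullback.snd π' (π 0), pullback.condition.symm, pullback.lift_snd _ _ _⟩ (fun m => ?_) m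
    obtain ⟨p, hp1, hp2⟩ := hp m
    exact ⟨pullback.fst π' (π 0) ≫ p, by rw [Category.assoc, hp1], by rw [pullback.lift_fst_assoc, hp2]⟩

variable {X Y : Scheme.{u}}

/-- One finite piece through a given point, locally factoring through `f`. -/
theorem exists_component [CompactSpace Y] [QuasiSeparatedSpace Y] (f : X ⟶ Y) [LocallyOfFiniteType f]
    [QuasiCompact f] [LocallyQuasiFinite f] (hs : HasSections f) (η : Y) :
    ∃ (W : Scheme.{u}) (q : W ⟶ Y), IsFinite q ∧ η ∈ Set.range q ∧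
      ∀ x : W, ∃ (O : W.Opens) (a : (O : Scheme.{u}) ⟶ X), x ∈ O ∧ a ≫ f = O.ι ≫ q := by
  classical
  haveI : CompactSpace X := QuasiCompact.compactSpace_of_compactSpace f
  let 𝒰 := X.affineCover.finiteSubcover
  haveI : ∀ k, IsAffine (𝒰.X k) := fun k => inferInstanceAs (IsAffine (X.affineCover.X _))
  have key : ∀ k, ∃ (T : Scheme.{u}) (j : 𝒰.X k ⟶ T) (π : T ⟶ Y), IsOpenImmersion j ∧ QuasiCompact j ∧
      IsFinite π ∧ j ≫ π = 𝒰.f k ≫ f := fun k => by
    haveI : IsSeparated ((𝒰.f k ≫ f) ≫ terminal.from Y) := by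
      rw [terminal.hom_ext ((𝒰.f k ≫ f) ≫ terminal.from Y) (terminal.from _)]
      infer_instance
    haveI : IsSeparated (𝒰.f k ≫ f) := IsSeparated.of_comp _ (terminal.from Y)
    haveI : QuasiCompact (𝒰.f k ≫ f) := quasiCompact_of_compactSpace _
    exact LocImm12.exists_openImmersion_finite (𝒰.f k ≫ f)
  choose T j π hj _ hπ hjπ using key
  let k₀ := Y.residueField η
  let Ω := AlgebraicClosure k₀
  let g : Spec (CommRingCat.of Ω) ⟶ Y :=
    Spec.map (CommRingCat.ofHom (algebraMap k₀ Ω)) ≫ Y.fromSpecResidueField η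
  have hgη : g (closedPoint Ω) = η := by
    rw [Scheme.Hom.comp_apply]
    exact Y.fromSpecResidueField_apply η _
  let Pt := Σ k, {s : Spec (CommRingCat.of Ω) ⟶ T k // s ≫ π k = g}
  haveI : ∀ k, Finite {s : Spec (CommRingCat.of Ω) ⟶ T k // s ≫ π k = g} := fun k => finite_points (π k) g
  obtain ⟨n, ⟨e⟩⟩ := Finite.exists_equiv_fin Pt
  obtain ⟨Q, π', l, hQ, hl, hp⟩ := exists_prod g n (fun m => T (e.symm m).1) (fun m => π (e.symm m).1)
    (fun m => hπ _) (fun m => (e.symm m).2.1) fun m => (e.symm m).2.2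
  haveI : QuasiCompact l := by
    haveI : QuasiCompact (l ≫ π') := by rw [hl]; exact quasiCompact_of_compactSpace _
    exact QuasiCompact.of_comp l π'
  haveI : IsReduced l.image := by
    change IsReduced l.ker.subscheme
    rw [Props12.ker_eq_vanishingIdeal]
    exact Props12.isReduced_subscheme_vanishingIdeal _
  let g' := l.toImage
  let w := l.imageι ≫ π'
  have hgw : g' ≫ w = g := by rw [Scheme.Hom.toImage_imageι_assoc, hl]
  refine ⟨l.image, w, inferInstance, ⟨g' (closedPoint Ω), by rw [← Scheme.Hom.comp_apply, hgw, hgη]⟩, fun x => ?_⟩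
  -- a valuation ring through `x` and the generic point
  have hsp : g' (closedPoint Ω) ⤳ x := by
    rw [specializes_iff_mem_closure]
    have hr : Set.range g' = {g' (closedPoint Ω)} := by
      ext y
      exact ⟨fun ⟨z, hz⟩ => by rw [← hz, @Subsingleton.elim (PrimeSpectrum Ω) _ z (closedPoint Ω)]; rfl,
        fun h => ⟨_, h.symm⟩⟩
    rw [← hr]
    exact g'.denseRange x
  let φ : l.image.presheaf.stalk x →+* Ω :=
    (l.image.presheaf.stalkSpecializes hsp ≫ Scheme.stalkClosedPointTo (X := l.image) g').hom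
  have hφ : Spec.map (CommRingCat.ofHom φ) ≫ l.image.fromSpecStalk x = g' := by
    rw [CommRingCat.ofHom_hom, Spec.map_comp, Category.assoc, Scheme.SpecMap_stalkSpecializes_fromSpecStalk,
      Scheme.Spec_stalkClosedPointTo_fromSpecStalk]
  obtain ⟨O, hO, hOl⟩ := (LocalSubring.range φ).exists_le_valuationSubring
  haveI : IsAlgClosed (FractionRing O) :=
    IsAlgClosed.of_ringEquiv Ω _ (FractionRing.algEquiv O Ω).toRingEquiv.symm
  let φ' : l.image.presheaf.stalk x →+* O := φ.codRestrict O.toSubring fun a => hO ⟨a, rfl⟩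
  haveI : IsLocalHom φ' := by
    haveI : IsLocalHom φ.rangeRestrict := IsLocalHom.of_surjective _ φ.rangeRestrict_surjective
    refine ⟨fun a ha => isUnit_of_map_unit φ.rangeRestrict a ?_⟩
    exact hOl.1 ⟨φ a, a, rfl⟩ ha
  let γ : Spec (CommRingCat.of O) ⟶ l.image := Spec.map (CommRingCat.ofHom φ') ≫ l.image.fromSpecStalk x
  let ζ : CommRingCat.of O ⟶ CommRingCat.of Ω := CommRingCat.ofHom O.subtype
  have hγ : Spec.map ζ ≫ γ = g' := by
    rw [← hφ, ← Category.assoc, ← Spec.map_comp]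
    rfl
  have hγx : γ (closedPoint O) = x := by
    rw [Scheme.Hom.comp_apply,
      show Spec.map (CommRingCat.ofHom φ') (closedPoint O) = closedPoint (l.image.presheaf.stalk x) from
        IsLocalRing.comap_closedPoint φ']
    exact Scheme.fromSpecStalk_closedPoint
  haveI : IsDominant (Spec.map ζ) := by
    refine ⟨?_⟩
    refine (PrimeSpectrum.denseRange_comap_iff_ker_le_nilRadical _).2 ?_
    exact ((RingHom.injective_iff_ker_eq_bot ζ.hom).1
      (show Function.Injective O.subtype from Subtype.val_injective)).le.trans bot_le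
  -- lift it
  obtain ⟨s, hsf⟩ := hs O (γ ≫ w)
  obtain ⟨k, y, hy⟩ := 𝒰.exists_eq (s (closedPoint O))
  have hr : Set.range s ⊆ Set.range (𝒰.f k) := by
    rintro _ ⟨p, rfl⟩
    exact ((specializes_closedPoint (R := O) p).map s.continuous).mem_open (𝒰.f k).opensRange.2 ⟨y, hy⟩
  let sk : Spec (CommRingCat.of O) ⟶ 𝒰.X k := IsOpenImmersion.lift (𝒰.f k) s hr
  have hsk : sk ≫ 𝒰.f k = s := IsOpenImmersion.lift_fac _ _ _
  have hc : (Spec.map ζ ≫ sk ≫ j k) ≫ π k = g := by
    rw [Category.assoc, Category.assoc, hjπ, reassoc_of% hsk, hsf, reassoc_of% hγ, hgw]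
  obtain ⟨m, hm⟩ := e.symm.surjective ⟨k, ⟨_, hc⟩⟩
  obtain ⟨p, hp1, hp2⟩ : ∃ p : Q ⟶ T k, p ≫ π k = π' ∧ l ≫ p = Spec.map ζ ≫ sk ≫ j k := by
    have h := hp m
    rw [hm] at h
    exact h
  have hext : γ ≫ l.imageι ≫ p = sk ≫ j k := by
    refine ext_of_isDominant_of_isSeparated (π k) ?_ (Spec.map ζ) ?_
    · rw [Category.assoc γ, Category.assoc l.imageι, hp1, Category.assoc sk, hjπ, reassoc_of% hsk, hsf]
    · rw [reassoc_of% hγ, Scheme.Hom.toImage_imageι_assoc, hp2]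
  haveI := hj k
  let P : l.image.Opens := (l.imageι ≫ p) ⁻¹ᵁ (j k).opensRange
  have hP : Set.range (P.ι ≫ l.imageι ≫ p) ⊆ Set.range (j k) := by
    rintro _ ⟨z, rfl⟩
    exact z.2
  refine ⟨P, IsOpenImmersion.lift (j k) (P.ι ≫ l.imageι ≫ p) hP ≫ 𝒰.f k, ⟨sk (closedPoint O), ?_⟩, ?_⟩
  · rw [← hγx, ← Scheme.Hom.comp_apply, ← Scheme.Hom.comp_apply, hext]
  · rw [Category.assoc, ← hjπ, IsOpenImmersion.lift_fac_assoc]
    simp only [Category.assoc, w, hp1]

/-- Over a Noetherian base. -/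
theorem exists_refinement_noetherian [IsNoetherian Y] (f : X ⟶ Y) [LocallyOfFiniteType f] [QuasiCompact f]
    [LocallyQuasiFinite f] (hs : HasSections f) :
    ∃ (W : Scheme.{u}) (q : W ⟶ Y), IsFinite q ∧ Surjective q ∧ LocallyOfFinitePresentation q ∧
      ∀ x : W, ∃ (O : W.Opens) (a : (O : Scheme.{u}) ⟶ X), x ∈ O ∧ a ≫ f = O.ι ≫ q := by
  classical
  let C := ↥(irreducibleComponents ↑Y)
  haveI : Finite C := NoetherianSpace.finite_irreducibleComponents.to_subtype
  let η : C → Y := fun z => z.2.1.genericPoint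
  choose W q hq hη hloc using fun z : C => exists_component f hs (η z)
  haveI : IsFinite (Sigma.desc q) := SGA1Quot.GeomTrans.isFinite_sigmaDesc q hq
  refine ⟨∐ W, Sigma.desc q, ‹_›, ⟨fun y => ?_⟩, LocallyOfFinitePresentation.iff_locallyOfFiniteType.2 inferInstance,
    fun x => ?_⟩
  · let z : C := ⟨irreducibleComponent y, irreducibleComponent_mem_irreducibleComponents y⟩
    obtain ⟨w, hw⟩ := hη z
    have hgen : IsGenericPoint (η z) (z : Set Y) :=
      z.2.1.isGenericPoint_genericPoint (isClosed_of_mem_irreducibleComponents _ z.2)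
    refine (hgen.specializes mem_irreducibleComponent).mem_closed (Sigma.desc q).isClosedMap.isClosed_range
      ⟨Sigma.ι W z w, ?_⟩
    rw [← Scheme.Hom.comp_apply, Sigma.ι_desc, hw]
  · obtain ⟨z, v, rfl⟩ := (sigmaOpenCover W).exists_eq x
    obtain ⟨O, a, hv, ha⟩ := hloc z v
    haveI : IsOpenImmersion (Sigma.ι W z) := (sigmaOpenCover W).map_prop z
    refine ⟨Sigma.ι W z ''ᵁ O, ((Sigma.ι W z).isoImage O).inv ≫ a, ⟨v, hv, rfl⟩, ?_⟩
    rw [Category.assoc, ha, ← Scheme.Hom.isoImage_inv_ι_assoc (Sigma.ι W z) O, Sigma.ι_desc]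

/-- Over an affine or Noetherian base. -/
theorem exists_refinement_finite (f : X ⟶ Y) (hY : IsAffine Y ∨ IsNoetherian Y) [LocallyOfFinitePresentation f]
    [QuasiCompact f] [QuasiSeparated f] [LocallyQuasiFinite f] (hf : Subtr.UnivSSubtrusive f) :
    ∃ (W : Scheme.{u}) (q : W ⟶ Y), IsFinite q ∧ Surjective q ∧ LocallyOfFinitePresentation q ∧
      ∀ x : W, ∃ (O : W.Opens) (a : (O : Scheme.{u}) ⟶ X), x ∈ O ∧ a ≫ f = O.ι ≫ q := by
  classical
  rcases hY with hY | hY
  swap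
  · exact exists_refinement_noetherian f (hasSections_of_univSSubtrusive f hf)
  let A : Type u := Γ(Y, ⊤)
  let f' : X ⟶ Spec (CommRingCat.of A) := f ≫ Y.isoSpec.hom
  haveI : LocallyQuasiFinite f' := inferInstanceAs (LocallyQuasiFinite (_ ≫ _))
  have hf' : Subtr.UnivSSubtrusive f' := (MorphismProperty.cancel_right_of_respectsIso _ f Y.isoSpec.hom).2 hf
  obtain ⟨j, Z, h, q, _, _, _, sq⟩ := H8Lim.exists_stage_spec (R := A) f'
  let D := H8Lim.fgSpecDiagram A
  let c := H8Lim.fgSpecCone A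
  haveI : IsAffine (D.obj j) := inferInstanceAs (IsAffine (Spec _ : Scheme.{u}))
  obtain ⟨o, ho⟩ := SubtrLimit.exists_hasSections (H8Lim.isLimitFgSpecCone A) h sq hf'
  obtain ⟨j₂, φ₂, hj₂⟩ := EGA43.Limit.descends_locallyQuasiFinite D c (H8Lim.isLimitFgSpecCone A) j h
    (inferInstance : LocallyOfFiniteType h) q f' sq ‹_›
  obtain ⟨l, hl⟩ := IsCofiltered.inf_objs_exists ({o, Over.mk φ₂} : Finset (Over j))
  have P1 : Subtr.UnivSSubtrusive (pullback.snd h (D.map l.hom)) :=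
    EGA43.Limit.persist (P := Subtr.UnivSSubtrusive.{u}) (D := D) h (hl (Finset.mem_insert_self _ _)).some
      (univSSubtrusive_of_hasSections _ ho)
  haveI : LocallyQuasiFinite (pullback.snd h (D.map l.hom)) :=
    EGA43.Limit.persist (P := @LocallyQuasiFinite.{u}) (D := D) h
      (hl (Finset.mem_insert_of_mem (Finset.mem_singleton_self _))).some hj₂
  haveI : IsNoetherian (D.obj l.left) := by
    have hfg : (H8Lim.fgSub A l.left.unop).FG := ⟨l.left.unop, rfl⟩
    haveI : Algebra.FiniteType ℤ (H8Lim.fgSub A l.left.unop) := (Subalgebra.fg_iff_finiteType _).1 hfg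
    haveI : IsNoetherianRing (H8Lim.fgSub A l.left.unop) := Algebra.FiniteType.isNoetherianRing ℤ _
    exact inferInstanceAs (IsNoetherian (Spec (CommRingCat.of (H8Lim.fgSub A l.left.unop))))
  haveI : QuasiCompact (pullback.snd h (D.map l.hom)) := MorphismProperty.pullback_snd _ _ ‹_›
  haveI : LocallyOfFiniteType (pullback.snd h (D.map l.hom)) := MorphismProperty.pullback_snd _ _ inferInstance
  obtain ⟨W₀, q₀, _, _, _, hloc⟩ := exists_refinement_noetherian (pullback.snd h (D.map l.hom))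
    (hasSections_of_univSSubtrusive _ P1)
  let π : Spec (CommRingCat.of A) ⟶ D.obj l.left := c.π.app l.left
  let q' : X ⟶ pullback h (D.map l.hom) := pullback.lift q (f' ≫ π) (H8Lim.eq_later sq l.hom)
  have sql : IsPullback q' f' (pullback.snd h (D.map l.hom)) π :=
    H8Lim.isPullback_later (D := D) (c := c) sq l.hom (H8Lim.eq_later sq l.hom)
  refine ⟨pullback q₀ π, pullback.snd q₀ π ≫ Y.isoSpec.inv, inferInstance, inferInstance, inferInstance,
    fun x => ?_⟩
  obtain ⟨O₀, a₀, hx₀, ha₀⟩ := hloc (pullback.fst q₀ π x)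
  let O := pullback.fst q₀ π ⁻¹ᵁ O₀
  let r : (O : Scheme.{u}) ⟶ (O₀ : Scheme.{u}) := (pullback.fst q₀ π) ∣_ O₀
  refine ⟨O, sql.lift (r ≫ a₀) (O.ι ≫ pullback.snd q₀ π) ?_, hx₀, ?_⟩
  · rw [Category.assoc, ha₀, morphismRestrict_ι_assoc, pullback.condition, Category.assoc]
  · have e : f = f' ≫ Y.isoSpec.inv := by simp [f']
    rw [e, sql.lift_snd_assoc, Category.assoc]

/-- Local factorisations as a morphism which is locally on the source an open immersion. -/
theorem exists_cover_of_local [CompactSpace Y] [QuasiSeparatedSpace Y] {W : Scheme.{u}} (f : X ⟶ Y) (q : W ⟶ Y)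
    [QuasiCompact q] [QuasiSeparated q]
    (hloc : ∀ x : W, ∃ (O : W.Opens) (a : (O : Scheme.{u}) ⟶ X), x ∈ O ∧ a ≫ f = O.ι ≫ q) :
    ∃ (X' : Scheme.{u}) (h : X' ⟶ X) (p : X' ⟶ W), h ≫ f = p ≫ q ∧
      Surjective p ∧ QuasiCompact p ∧ QuasiSeparated p ∧
      ∀ x : X', ∃ U : X'.Opens, x ∈ U ∧ IsOpenImmersion (U.ι ≫ p) := by
  classical
  haveI : CompactSpace W := QuasiCompact.compactSpace_of_compactSpace q
  haveI : QuasiSeparatedSpace W := quasiSeparatedSpace_of_quasiSeparated q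
  choose O a hxO ha using hloc
  have key : ∀ x : W, ∃ P : W.Opens, IsAffineOpen P ∧ x ∈ P ∧ P ≤ O x := fun x => by
    obtain ⟨_, ⟨P, hP, rfl⟩, hxP, hle⟩ := W.isBasis_affineOpens.exists_subset_of_mem_open (hxO x) (O x).isOpen
    exact ⟨P, hP, hxP, hle⟩
  choose P hP hxP hle using key
  obtain ⟨s, hs⟩ := isCompact_univ.elim_finite_subcover (fun x => (P x : Set W))
    (fun x => (P x).isOpen) fun x _ => Set.mem_iUnion.2 ⟨x, hxP x⟩
  let ι : Type u := ULift.{u} (Fin s.card)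
  let pt : ι → W := fun m => (s.equivFin.symm m.down).1
  let Z : ι → Scheme.{u} := fun m => (P (pt m) : Scheme.{u})
  let p : ∐ Z ⟶ W := Sigma.desc fun m => (P (pt m)).ι
  haveI : ∀ m, IsAffine (Z m) := fun m => hP (pt m)
  haveI : IsAffine (∐ Z : Scheme.{u}) := inferInstance
  refine ⟨∐ Z, Sigma.desc fun m => W.homOfLE (hle (pt m)) ≫ a (pt m), p, ?_, ⟨fun y => ?_⟩,
    quasiCompact_of_compactSpace p, inferInstance, fun x => ?_⟩
  · refine Sigma.hom_ext _ _ fun m => ?_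
    simp [p, ha]
  · obtain ⟨z, hz⟩ := Set.mem_iUnion.1 (hs (Set.mem_univ y))
    obtain ⟨hzs, hzy⟩ := Set.mem_iUnion.1 hz
    obtain ⟨m, hm⟩ : ∃ m, pt m = z := ⟨⟨s.equivFin ⟨z, hzs⟩⟩, by simp [pt]⟩
    subst hm
    refine ⟨Sigma.ι Z m ⟨y, hzy⟩, ?_⟩
    rw [← Scheme.Hom.comp_apply, Sigma.ι_desc]
    rfl
  · obtain ⟨m, v, rfl⟩ := (sigmaOpenCover Z).exists_eq x
    refine ⟨(Sigma.ι Z m).opensRange, ⟨v, rfl⟩, ?_⟩
    rw [← Scheme.Hom.isoOpensRange_inv_comp, Category.assoc, Sigma.ι_desc]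
    infer_instance

end Groth.Agent.FlatMor12.QfRefine
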