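import Groth.Agent.FlatMor12.Birational
import Mathlib.AlgebraicGeometry.Fiber
import Mathlib.AlgebraicGeometry.Morphisms.FlatDescent
import Mathlib.AlgebraicGeometry.Morphisms.UniversallyInjective
import Groth.Prelude.Def_EGA4Misc

/-! Radicial at a point = universally injective fibre. -/

universe u

set_option autoImplicit false
set_option backward.isDefEq.respectTransparency false

open CategoryTheory CategoryTheory.Limits AlgebraicGeometry

namespace Groth.Agent.FlatMor12

section fields
variable {F E K : Type*} [Field F] [Field E] [Field K]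

theorem isPurelyInseparable_of_bijective {f : F →+* E} (hf : Function.Bijective f) :
    f.IsPurelyInseparable := by
  algebraize [f]
  show IsPurelyInseparable F E
  obtain ⟨q, _⟩ := ExpChar.exists F
  rw [isPurelyInseparable_iff_pow_mem F q]
  intro x
  obtain ⟨y, hy⟩ := hf.2 x
  exact ⟨0, y, by rw [RingHom.algebraMap_toAlgebra, hy, pow_zero, pow_one]⟩

theorem isPurelyInseparable_of_comp_right {f : F →+* E} {g : E →+* K}
    (h : (g.comp f).IsPurelyInseparable) : g.IsPurelyInseparable := by
  algebraize [f, g, g.comp f]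
  exact IsPurelyInseparable.tower_top F E K

theorem isPurelyInseparable_of_comp_left {f : F →+* E} {g : E →+* K}
    (h : (g.comp f).IsPurelyInseparable) : f.IsPurelyInseparable := by
  algebraize [f, g, g.comp f]
  show IsPurelyInseparable F E
  obtain ⟨q, _⟩ := ExpChar.exists F
  have h' : IsPurelyInseparable F K := h
  rw [isPurelyInseparable_iff_pow_mem F q] at h' ⊢
  intro x
  obtain ⟨n, y, hy⟩ := h' (g x)
  refine ⟨n, y, g.injective ?_⟩
  rw [map_pow, ← hy]
  exact (IsScalarTower.algebraMap_apply F E K y).symm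

theorem isPurelyInseparable_comp_bijective_iff {f : F →+* E} {g : E →+* K} (hg : Function.Bijective g) :
    (g.comp f).IsPurelyInseparable ↔ f.IsPurelyInseparable :=
  ⟨isPurelyInseparable_of_comp_left, fun h => h.comp (isPurelyInseparable_of_bijective hg)⟩

theorem isPurelyInseparable_bijective_comp_iff {f : F →+* E} {g : E →+* K} (hf : Function.Bijective f) :
    (g.comp f).IsPurelyInseparable ↔ g.IsPurelyInseparable :=
  ⟨isPurelyInseparable_of_comp_right, fun h => (isPurelyInseparable_of_bijective hf).comp h⟩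

end fields

theorem residueFieldMap_fiber_iff {X Y : Scheme.{u}} (f : X ⟶ Y) (y : Y) (z : f.fiber y) :
    ((f.fiberToSpecResidueField y).residueFieldMap z).hom.IsPurelyInseparable ↔
      (f.residueFieldMap (f.fiberι y z)).hom.IsPurelyInseparable := by
  have key := f.fiber_fac y
  have h1 : ((f.fiberι y ≫ f).residueFieldMap z).hom.IsPurelyInseparable ↔
      (f.residueFieldMap (f.fiberι y z)).hom.IsPurelyInseparable := by
    rw [Scheme.residueFieldMap_comp, CommRingCat.hom_comp]
    exact isPurelyInseparable_comp_bijective_iff (bijective_residueFieldMap_of_preimmersion _ z)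
  have h2 : ((f.fiberToSpecResidueField y ≫ Y.fromSpecResidueField y).residueFieldMap z).hom.IsPurelyInseparable ↔
      ((f.fiberToSpecResidueField y).residueFieldMap z).hom.IsPurelyInseparable := by
    rw [Scheme.residueFieldMap_comp, CommRingCat.hom_comp]
    exact isPurelyInseparable_bijective_comp_iff (bijective_residueFieldMap_of_preimmersion _ _)
  have : ∀ (g₁ g₂ : f.fiber y ⟶ Y), g₁ = g₂ → ((g₁.residueFieldMap z).hom.IsPurelyInseparable ↔
      (g₂.residueFieldMap z).hom.IsPurelyInseparable) := by
    rintro g₁ g₂ rfl; rfl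
  rw [← h1, this _ _ key, h2]

theorem isRadicialAt_iff_universallyInjective {X Y : Scheme.{u}} (f : X ⟶ Y) (y : Y) :
    RadPt.IsRadicialAt f y ↔ UniversallyInjective (f.fiberToSpecResidueField y) := by
  have e : UniversallyInjective (f.fiberToSpecResidueField y) ↔ Function.Injective (f.fiberToSpecResidueField y) ∧
      ∀ z, ((f.fiberToSpecResidueField y).residueFieldMap z).hom.IsPurelyInseparable :=
    (tfae_universallyInjective (f.fiberToSpecResidueField y)).out 0 2
  rw [e]
  constructor
  · intro h
    have hι : ∀ z, f (f.fiberι y z) = y := fun z => by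
      have := Set.mem_range_self (f := f.fiberι y) z
      rwa [f.range_fiberι] at this
    exact ⟨fun a b _ => (f.fiberι y).isEmbedding.injective (h.1 _ _ (hι a) (hι b)),
      fun z => (residueFieldMap_fiber_iff f y z).2 (h.2 _ (hι z))⟩
  · intro h
    refine ⟨fun x x' hx hx' => ?_, fun x hx => ?_⟩
    · obtain ⟨a, rfl⟩ : x ∈ Set.range (f.fiberι y) := by rw [f.range_fiberι]; exact hx
      obtain ⟨b, rfl⟩ : x' ∈ Set.range (f.fiberι y) := by rw [f.range_fiberι]; exact hx'
      rw [h.1 (a₁ := a) (a₂ := b) (Subsingleton.elim (α := PrimeSpectrum _) _ _)]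
    · obtain ⟨a, rfl⟩ : x ∈ Set.range (f.fiberι y) := by rw [f.range_fiberι]; exact hx
      exact (residueFieldMap_fiber_iff f y a).1 (h.2 a)

theorem isRadicialAt_baseChange_iff {X Y X' Y' : Scheme.{u}} {f : X ⟶ Y} {h : Y' ⟶ Y} {f' : X' ⟶ Y'}
    {h' : X' ⟶ X} (sq : IsPullback h' f' f h) (y' : Y') :
    RadPt.IsRadicialAt f (h y') ↔ RadPt.IsRadicialAt f' y' := by
  rw [isRadicialAt_iff_universallyInjective, isRadicialAt_iff_universallyInjective]
  have hsq := (isPullback_fiberToSpecResidueField_of_isPullback sq y').flip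
  have hQ : (@Surjective ⊓ @Flat ⊓ @QuasiCompact : MorphismProperty Scheme.{u})
      (Spec.map (h.residueFieldMap y')) := by
    refine ⟨⟨⟨fun z => ?_⟩, ?_⟩, inferInstance⟩
    · haveI : Nonempty ↥(Spec (Y'.residueField y')) := inferInstanceAs (Nonempty (PrimeSpectrum _))
      exact ⟨Classical.arbitrary _, Subsingleton.elim (α := PrimeSpectrum _) _ _⟩
    · rw [HasRingHomProperty.Spec_iff (P := @Flat)]
      algebraize [(h.residueFieldMap y').hom]
      exact (inferInstance : Module.Flat (Y.residueField (h y')) (Y'.residueField y'))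
  exact (MorphismProperty.iff_of_isPullback (P := @UniversallyInjective) hsq hQ).symm

theorem isRadicialAt_comp {X Y Z : Scheme.{u}} (f : X ⟶ Y) (g : Y ⟶ Z) (y : Y) :
    (RadPt.IsRadicialAt f y → RadPt.IsRadicialAt g (g y) → RadPt.IsRadicialAt (f ≫ g) (g y)) ∧
      (Surjective f → RadPt.IsRadicialAt (f ≫ g) (g y) →
        RadPt.IsRadicialAt f y ∧ RadPt.IsRadicialAt g (g y)) := by
  constructor
  · intro hf hg
    refine ⟨fun x x' hx hx' => hf.1 x x' (hg.1 _ _ hx rfl) (hg.1 _ _ hx' rfl), fun x hx => ?_⟩
    rw [Scheme.residueFieldMap_comp, CommRingCat.hom_comp]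
    exact (hg.2 _ hx).comp (hf.2 _ (hg.1 _ _ hx rfl))
  · intro hs h
    have h2 : ∀ x : X, g (f x) = g y →
        (f.residueFieldMap x).hom.IsPurelyInseparable ∧ (g.residueFieldMap (f x)).hom.IsPurelyInseparable := by
      intro x hx
      have := h.2 x hx
      rw [Scheme.residueFieldMap_comp, CommRingCat.hom_comp] at this
      exact ⟨isPurelyInseparable_of_comp_right this, isPurelyInseparable_of_comp_left this⟩
    have hu : ∀ y' : Y, g y' = g y → y' = y := by
      intro y' hy'
      obtain ⟨x, rfl⟩ := f.surjective y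
      obtain ⟨x', rfl⟩ := f.surjective y'
      rw [h.1 x' x hy' rfl]
    refine ⟨⟨fun x x' hx hx' => h.1 x x' (congrArg g hx) (congrArg g hx'),
      fun x hx => (h2 x (congrArg g hx)).1⟩,
      ⟨fun a b ha hb => (hu a ha).trans (hu b hb).symm, fun a ha => ?_⟩⟩
    obtain ⟨x, rfl⟩ := f.surjective a
    exact (h2 x ha).2

end Groth.Agent.FlatMor12
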