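import Groth.Agent.FlatMor12.IsoLocusMod
import Groth.Prelude.Def_MoreMor
import Mathlib.RingTheory.Ideal.AssociatedPrime.Finiteness

/-!
# Relative associated points under base change
-/

set_option autoImplicit false
set_option backward.isDefEq.respectTransparency false

universe u

open CategoryTheory CategoryTheory.Limits AlgebraicGeometry TensorProduct IsLocalRing

namespace Groth.Agent.FlatMor12.RelAssBC

open Groth.Agent.EGA43 Groth.Agent

section Algebra

/-- A nonzero element killed by the maximal ideal. -/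
def HasSoc (R : Type u) [CommRing R] [IsLocalRing R] (M : Type u) [AddCommGroup M] [Module R M] : Prop :=
  ∃ z : M, z ≠ 0 ∧ ∀ r ∈ maximalIdeal R, r • z = 0

theorem hasSoc_of_equiv {R : Type u} [CommRing R] [IsLocalRing R] {M N : Type u} [AddCommGroup M] [Module R M]
    [AddCommGroup N] [Module R N] (e : M ≃ₗ[R] N) : HasSoc R M ↔ HasSoc R N := by
  constructor
  · rintro ⟨z, hz, h⟩
    exact ⟨e z, fun h0 => hz (e.map_eq_zero_iff.1 h0), fun r hr => by rw [← map_smul, h r hr, map_zero]⟩
  · rintro ⟨z, hz, h⟩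
    exact ⟨e.symm z, fun h0 => hz (e.symm.map_eq_zero_iff.1 h0), fun r hr => by rw [← map_smul, h r hr, map_zero]⟩

theorem isAssociatedPrime_iff_hasSoc {O A : Type u} [CommRing O] [IsLocalRing O] [CommRing A] [IsLocalRing A]
    [Algebra O A] [IsNoetherianRing A] (hs : Function.Surjective (algebraMap O A))
    {N : Type u} [AddCommGroup N] [Module A N] [Module O N] [IsScalarTower O A N] :
    IsAssociatedPrime (maximalIdeal O) N ↔ HasSoc A N := by
  have hloc : IsLocalHom (algebraMap O A) := .of_surjective _ hs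
  constructor
  · rintro ⟨-, x, hx⟩
    have hx' : maximalIdeal A = ((⊥ : Submodule A N).colon {x}).radical := by
      refine le_antisymm (fun a ha => ?_) (le_maximalIdeal fun ht => ?_)
      · obtain ⟨r, rfl⟩ := hs a
        obtain ⟨n, hn⟩ := hx.le (show r ∈ maximalIdeal O from fun hu => ha (hu.map _))
        refine ⟨n, ?_⟩
        rw [Submodule.mem_colon_singleton, Submodule.mem_bot] at hn ⊢
        rw [← map_pow, algebraMap_smul, hn]
      · rw [Ideal.radical_eq_top, Ideal.eq_top_iff_one, Submodule.mem_colon_singleton, Submodule.mem_bot, one_smul] at ht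
        apply (maximalIdeal.isMaximal O).ne_top
        rw [hx, ht]
        rw [Ideal.radical_eq_top, Ideal.eq_top_iff_one, Submodule.mem_colon_singleton, Submodule.mem_bot, smul_zero]
    obtain ⟨-, y, hy⟩ := (Submodule.isAssociatedPrime_iff (N := (⊥ : Submodule A N))).1
      ⟨(maximalIdeal.isMaximal A).isPrime, x, hx'⟩
    refine ⟨y, fun h0 => (maximalIdeal.isMaximal A).ne_top ?_, fun r hr => ?_⟩
    · rw [hy, Ideal.eq_top_iff_one, Submodule.mem_colon_singleton, h0, smul_zero]
      exact zero_mem _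
    · exact (Submodule.mem_bot A).1 (Submodule.mem_colon_singleton.1 (hy.le hr))
  · rintro ⟨z, hz, h⟩
    refine ⟨(maximalIdeal.isMaximal O).isPrime, z, ?_⟩
    have hc : (⊥ : Submodule O N).colon {z} = maximalIdeal O := by
      refine le_antisymm (le_maximalIdeal fun ht => hz ?_) fun r hr => ?_
      · rw [Ideal.eq_top_iff_one, Submodule.mem_colon_singleton, Submodule.mem_bot, one_smul] at ht
        exact ht
      · rw [Submodule.mem_colon_singleton, Submodule.mem_bot, ← algebraMap_smul A r z]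
        exact h _ (map_nonunit _ r hr)
    rw [hc, (maximalIdeal.isMaximal O).isPrime.radical]

variable {A B : Type u} [CommRing A] [IsLocalRing A] [CommRing B] [IsLocalRing B] [Algebra A B]
  [IsLocalHom (algebraMap A B)] [Module.Flat A B] {M : Type u} [AddCommGroup M] [Module A M]

theorem hasSoc_of_tensor [IsNoetherianRing A] [Module.Finite A M] (h : HasSoc B (B ⊗[A] M)) : HasSoc A M := by
  by_contra hne
  have hsub : ¬ ((maximalIdeal A : Set A) ⊆ ⋃ p ∈ associatedPrimes A M, (p : Set A)) := by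
    intro hc
    obtain ⟨p, hp, hmp⟩ := (Ideal.subset_union_prime_finite (associatedPrimes.finite A M) ⊥ ⊥
      (fun p hp _ _ => hp.isPrime)).1 hc
    obtain ⟨-, x, hx⟩ := isAssociatedPrime_iff.1 (show IsAssociatedPrime p M from hp)
    refine hne ⟨x, fun h0 => (IsAssociatedPrime.isPrime hp).ne_top ?_, fun r hr => ?_⟩
    · rw [hx, Ideal.eq_top_iff_one, Submodule.mem_colon_singleton, h0, smul_zero]
      exact zero_mem _
    · exact (Submodule.mem_bot A).1 (Submodule.mem_colon_singleton.1 (hx.le (hmp hr)))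
  obtain ⟨r, hr, hr'⟩ := Set.not_subset.1 hsub
  rw [biUnion_associatedPrimes_eq_zero_divisors] at hr'
  have hinj : Function.Injective (LinearMap.lsmul A M r) := (injective_iff_map_eq_zero _).2 fun x hx =>
    by_contra fun hx0 => hr' ⟨x, hx0, hx⟩
  obtain ⟨z, hz, hk⟩ := h
  refine hz (Module.Flat.lTensor_preserves_injective_linearMap (M := B) _ hinj ?_)
  rw [map_zero]
  have : (LinearMap.lsmul A M r).lTensor B z = algebraMap A B r • z := by
    clear hz hk
    induction z using TensorProduct.induction_on with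
    | zero => simp
    | add a b ha hb => rw [map_add, ha, hb, smul_add]
    | tmul b m => rw [LinearMap.lTensor_tmul, LinearMap.lsmul_apply, tmul_smul, algebraMap_smul]
  rw [this]
  exact hk _ (map_nonunit _ r hr)

theorem hasSoc_tensor [IsNoetherianRing B] (hB : maximalIdeal B ≤ ((maximalIdeal A).map (algebraMap A B)).radical)
    (h : HasSoc A M) : HasSoc B (B ⊗[A] M) := by
  obtain ⟨z, hz, hk⟩ := h
  let J := (maximalIdeal A).map (algebraMap A B)
  let g : B →ₗ[B] B ⊗[A] M := LinearMap.toSpanSingleton B _ ((1 : B) ⊗ₜ z)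
  have hg0 : g 1 ≠ 0 := by
    intro h0
    have := Module.FaithfullyFlat.of_flat_of_isLocalHom (A := A) (B := B)
    refine hz (Module.FaithfullyFlat.tensorProduct_mk_injective (A := A) (B := B) M ?_)
    rw [map_zero]
    simpa [g] using h0
  obtain ⟨n, hn⟩ := Ideal.exists_pow_le_of_le_radical_of_fg hB (IsNoetherian.noetherian _)
  have hJ : ∀ b ∈ J, g b = 0 := fun b hb => by
    have hle : J ≤ LinearMap.ker g := Ideal.map_le_iff_le_comap.2 fun a ha => by
      show algebraMap A B a • ((1 : B) ⊗ₜ[A] z) = 0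
      rw [algebraMap_smul, ← tmul_smul, hk a ha, tmul_zero]
    exact hle hb
  classical
  have hex : ∃ k, ∀ b ∈ maximalIdeal B ^ k, g b = 0 := ⟨n, fun b hb => hJ b (hn hb)⟩
  let k := Nat.find hex
  have hk0 : k ≠ 0 := fun h0 => hg0 (Nat.find_spec hex 1 (by rw [show Nat.find hex = 0 from h0, pow_zero, Ideal.one_eq_top]; exact Submodule.mem_top))
  obtain ⟨j, hj⟩ := Nat.exists_eq_succ_of_ne_zero hk0
  have hj' := Nat.find_min hex (show j < Nat.find hex by show j < k; omega)
  push Not at hj'
  obtain ⟨b, hb, hb0⟩ := hj'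
  refine ⟨g b, hb0, fun r hr => ?_⟩
  rw [← map_smul]
  refine Nat.find_spec hex _ ?_
  rw [show Nat.find hex = j + 1 from hj, pow_succ']
  exact Ideal.mul_mem_mul hr hb

end Algebra

section Scheme

variable {X S : Scheme.{u}}

theorem isLocallyNoetherian_fiber (f : X ⟶ S) [LocallyOfFiniteType f] (s : S) : IsLocallyNoetherian (f.fiber s) := by
  have : LocallyOfFiniteType (f.fiberToSpecResidueField s) := MorphismProperty.pullback_snd _ _ inferInstance
  exact LocallyOfFiniteType.isLocallyNoetherian (f.fiberToSpecResidueField s)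

theorem mem_relAss_fiberι_iff (f : X ⟶ S) [LocallyOfFiniteType f] (F : X.Modules) (s : S) (y : f.fiber s) :
    f.fiberι s y ∈ MoreMor.relAss f F ↔
      HasSoc ((f.fiber s).presheaf.stalk y) ((DerSch.stalkFunctor _ y).obj ((Scheme.Modules.pullback (f.fiberι s)).obj F)) := by
  obtain ⟨hs, hker⟩ := Props12.stalkMap_fiberι f s y
  let ι := f.fiberι s
  have := isLocallyNoetherian_fiber f s
  algebraize [(ι.stalkMap y).hom]
  let O := X.presheaf.stalk (ι y)
  let A := (f.fiber s).presheaf.stalk y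
  let J : Ideal O := Ideal.map (f.stalkMap (ι y)).hom (maximalIdeal (S.presheaf.stalk (f (ι y))))
  let M : Type u := (DerSch.stalkFunctor X (ι y)).obj F
  let e₀ : (O ⧸ J) ≃ₐ[O] A :=
    (Ideal.quotientEquivAlgOfEq O hker.symm).trans (Ideal.quotientKerAlgEquivOfSurjective (f := Algebra.ofId O A) hs)
  let e : A ⊗[O] M ≃ₗ[O] M ⧸ (J • (⊤ : Submodule O M)) :=
    (TensorProduct.congr e₀.symm.toLinearEquiv (LinearEquiv.refl O M)).trans (TensorProduct.quotTensorEquivQuotSMul M J)
  show IsAssociatedPrime (maximalIdeal O) (M ⧸ (J • (⊤ : Submodule O M))) ↔ _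
  rw [← LinearEquiv.isAssociatedPrime_iff e, isAssociatedPrime_iff_hasSoc hs]
  exact (hasSoc_of_equiv ((ModStalk.pullbackStalkIso ι y).app F).toLinearEquiv).symm

variable {X' : Scheme.{u}} (φ : X' ⟶ X) [Flat φ] (G : X.Modules)

theorem hasSoc_of_pullback [Coh.IsQCoh G] (hG : CohB1.IsFT G) [IsLocallyNoetherian X] (y : X')
    (h : HasSoc (X'.presheaf.stalk y) ((DerSch.stalkFunctor _ y).obj ((Scheme.Modules.pullback φ).obj G))) :
    HasSoc (X.presheaf.stalk (φ y)) ((DerSch.stalkFunctor X (φ y)).obj G) := by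
  algebraize [(φ.stalkMap y).hom]
  have : Module.Flat (X.presheaf.stalk (φ y)) (X'.presheaf.stalk y) := Flat.stalkMap φ y
  have : IsLocalHom (algebraMap (X.presheaf.stalk (φ y)) (X'.presheaf.stalk y)) :=
    inferInstanceAs (IsLocalHom (φ.stalkMap y).hom)
  have : Module.Finite (X.presheaf.stalk (φ y)) ((DerSch.stalkFunctor X (φ y)).obj G) :=
    IsoLocusMod.finite_stalk hG (φ y)
  exact hasSoc_of_tensor ((hasSoc_of_equiv ((ModStalk.pullbackStalkIso φ y).app G).toLinearEquiv).1 h)

theorem exists_hasSoc_pullback [Surjective φ] [IsLocallyNoetherian X'] (x : X)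
    (h : HasSoc (X.presheaf.stalk x) ((DerSch.stalkFunctor X x).obj G)) :
    ∃ y : X', φ y = x ∧
      HasSoc (X'.presheaf.stalk y) ((DerSch.stalkFunctor _ y).obj ((Scheme.Modules.pullback φ).obj G)) := by
  obtain ⟨z₀, hz₀⟩ := φ.surjective x
  obtain ⟨w₀, -⟩ : z₀ ∈ Set.range (φ.fiberι x) := by rw [Scheme.Hom.range_fiberι]; exact hz₀
  let Z := irreducibleComponent w₀
  let w := (isIrreducible_irreducibleComponent (x := w₀)).genericPoint
  have hw : closure {w} = Z := by
    rw [IsIrreducible.genericPoint_closure_eq, (isClosed_irreducibleComponent).closure_eq]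
  have hmax : ∀ v : φ.fiber x, v ⤳ w → v = w := fun v hv => by
    have h1 : Z ⊆ closure {v} := hw ▸ closure_minimal (Set.singleton_subset_iff.2 (specializes_iff_mem_closure.1 hv)) isClosed_closure
    have h2 : closure {v} = Z := ((irreducibleComponent_mem_irreducibleComponents w₀).eq_of_le
      (isIrreducible_singleton.closure) h1).symm
    have h3 : v ∈ closure ({w} : Set (φ.fiber x)) := by rw [hw, ← h2]; exact subset_closure rfl
    exact (hv.antisymm (specializes_iff_mem_closure.2 h3)).eq
  let y := φ.fiberι x w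
  have hyx : φ y = x := (φ.range_fiberι x).le ⟨w, rfl⟩
  refine ⟨y, hyx, ?_⟩
  have hymax : ∀ v : X', v ⤳ y → φ v = x → v = y := fun v hv hvx => by
    obtain ⟨v', rfl⟩ : v ∈ Set.range (φ.fiberι x) := by rw [Scheme.Hom.range_fiberι]; exact hvx
    rw [show v' = w from hmax v' ((φ.fiberι x).isEmbedding.isInducing.specializes_iff.1 hv)]
  clear_value y
  clear hmax hw hz₀
  subst hyx
  algebraize [(φ.stalkMap y).hom]
  have : Module.Flat (X.presheaf.stalk (φ y)) (X'.presheaf.stalk y) := Flat.stalkMap φ y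
  have : IsLocalHom (algebraMap (X.presheaf.stalk (φ y)) (X'.presheaf.stalk y)) :=
    inferInstanceAs (IsLocalHom (φ.stalkMap y).hom)
  refine (hasSoc_of_equiv ((ModStalk.pullbackStalkIso φ y).app G).toLinearEquiv).2 (hasSoc_tensor ?_ h)
  rw [Ideal.radical_eq_sInf]
  refine le_sInf fun P ⟨hP, hPp⟩ => ?_
  let p : Spec (X'.presheaf.stalk y) := (⟨P, hPp⟩ : PrimeSpectrum (X'.presheaf.stalk y))
  have h1 : X'.fromSpecStalk y p = y := by
    refine hymax _ (by
      have : X'.fromSpecStalk y p ∈ Set.range (X'.fromSpecStalk y) := ⟨p, rfl⟩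
      rwa [Scheme.range_fromSpecStalk] at this) ?_
    rw [← Scheme.Hom.comp_apply, ← Scheme.SpecMap_stalkMap_fromSpecStalk, Scheme.Hom.comp_apply]
    have hc : Spec.map (φ.stalkMap y) p = closedPoint (X.presheaf.stalk (φ y)) := by
      refine PrimeSpectrum.ext (((maximalIdeal.isMaximal _).eq_of_le (PrimeSpectrum.isPrime _).ne_top ?_).symm)
      exact Ideal.map_le_iff_le_comap.1 hP
    rw [hc, Scheme.fromSpecStalk_closedPoint]
  have h2 : p = closedPoint _ := (X'.fromSpecStalk y).isEmbedding.injective (h1.trans Scheme.fromSpecStalk_closedPoint.symm)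
  have h3 := congrArg PrimeSpectrum.asIdeal h2
  exact h3.ge

end Scheme

section Main

theorem fibre_subset_iff {X S X' S' : Scheme.{u}} (f : X ⟶ S) [LocallyOfFiniteType f] (F : X.Modules)
    [Coh.IsQCoh F] (hF : CohB1.IsFT F) (U : X.Opens) (g : S' ⟶ S) (f' : X' ⟶ S') (g' : X' ⟶ X)
    (hc : IsPullback g' f' f g) (s' : S') :
    {x : ↑X | x ∈ MoreMor.relAss f F ∧ f x = g s'} ⊆ (U : Set ↑X) ↔
      {x' : ↑X' | x' ∈ MoreMor.relAss f' ((Scheme.Modules.pullback g').obj F) ∧ f' x' = s'} ⊆ (g' ⁻¹ᵁ U : Set ↑X') := by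
  have : LocallyOfFiniteType f' := MorphismProperty.of_isPullback hc inferInstance
  let φ : f'.fiber s' ⟶ f.fiber (g s') :=
    pullback.map _ _ _ _ g' (Spec.map (g.residueFieldMap s')) g hc.w.symm (by simp)
  have hsq := isPullback_fiberToSpecResidueField_of_isPullback hc s'
  have hφ : φ ≫ f.fiberι (g s') = f'.fiberι s' ≫ g' := pullback.lift_fst _ _ _
  have hfl : Flat φ := by
    refine MorphismProperty.of_isPullback hsq.flip ?_
    rw [HasRingHomProperty.Spec_iff (P := @Flat)]
    let _ : Algebra (S.residueField (g s')) (S'.residueField s') := (g.residueFieldMap s').hom.toAlgebra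
    have : Module.Free (S.residueField (g s')) (S'.residueField s') := Module.Free.of_divisionRing _ _
    exact Module.Flat.of_free (R := S.residueField (g s')) (M := S'.residueField s')
  have hsurj : Surjective φ := by
    refine MorphismProperty.of_isPullback hsq.flip ?_
    exact ⟨fun x => ⟨closedPoint (S'.residueField s'), Subsingleton.elim (α := PrimeSpectrum _) _ _⟩⟩
  have := isLocallyNoetherian_fiber f (g s')
  have := isLocallyNoetherian_fiber f' s'
  let G := (Scheme.Modules.pullback (f.fiberι (g s'))).obj F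
  have hGq : Coh.IsQCoh G := InjFibre.isQCoh_pullback _ F
  have hG : CohB1.IsFT G := Coherent.isFT_pullback_qcoh _ inferInstance hF
  let ε : (Scheme.Modules.pullback φ).obj G ≅ (Scheme.Modules.pullback (f'.fiberι s')).obj ((Scheme.Modules.pullback g').obj F) :=
    (Scheme.Modules.pullbackComp φ (f.fiberι (g s'))).app F ≪≫ (Scheme.Modules.pullbackCongr hφ).app F ≪≫
      ((Scheme.Modules.pullbackComp (f'.fiberι s') g').app F).symm
  have hfib : ∀ y', f'.fiberι s' y' ∈ MoreMor.relAss f' ((Scheme.Modules.pullback g').obj F) ↔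
      HasSoc ((f'.fiber s').presheaf.stalk y') ((DerSch.stalkFunctor _ y').obj ((Scheme.Modules.pullback φ).obj G)) :=
    fun y' => (mem_relAss_fiberι_iff f' _ s' y').trans
      (hasSoc_of_equiv ((DerSch.stalkFunctor _ y').mapIso ε).toLinearEquiv).symm
  have hpt : ∀ y', f.fiberι (g s') (φ y') = g' (f'.fiberι s' y') := fun y' => by
    rw [← Scheme.Hom.comp_apply, hφ, Scheme.Hom.comp_apply]
  constructor
  · rintro h x' ⟨hx', hxs⟩
    obtain ⟨y', rfl⟩ : x' ∈ Set.range (f'.fiberι s') := by rw [Scheme.Hom.range_fiberι]; exact hxs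
    show g' (f'.fiberι s' y') ∈ (U : Set X)
    rw [← hpt]
    exact h ⟨(mem_relAss_fiberι_iff f F _ _).2 (hasSoc_of_pullback φ G hG y' ((hfib y').1 hx')),
      (f.range_fiberι _).le ⟨_, rfl⟩⟩
  · rintro h x ⟨hx, hxs⟩
    obtain ⟨y, rfl⟩ : x ∈ Set.range (f.fiberι (g s')) := by rw [Scheme.Hom.range_fiberι]; exact hxs
    obtain ⟨y', rfl, hy'⟩ := exists_hasSoc_pullback φ G y ((mem_relAss_fiberι_iff f F _ _).1 hx)
    rw [hpt]
    exact h ⟨(hfib y').2 hy', (f'.range_fiberι _).le ⟨_, rfl⟩⟩

end Main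

end Groth.Agent.FlatMor12.RelAssBC
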