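import Mathlib
import Groth.Agent.FlatMorWeight.EtaleSplit

/-! Realising a finite separable residue field extension by an étale neighbourhood. -/

set_option backward.isDefEq.respectTransparency false

universe u

namespace Groth.Agent.FlatMor12

open AlgebraicGeometry CategoryTheory Limits Polynomial

theorem exists_etale_realise (S : Scheme.{u}) (s : S) (k : Type u) [Field k]
    [Algebra (S.residueField s) k] [FiniteDimensional (S.residueField s) k]
    [Algebra.IsSeparable (S.residueField s) k] :
    ∃ (U : Scheme.{u}) (g : U ⟶ S) (u : U) (hu : g u = s), Etale g ∧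
      letI := ((S.residueFieldCongr hu).inv ≫ g.residueFieldMap u).hom.toAlgebra
      Nonempty (k ≃ₐ[S.residueField s] U.residueField u) := by
  classical
  obtain ⟨_, ⟨U₀, (hU₀ : IsAffineOpen U₀), rfl⟩, hsU, -⟩ := S.isBasis_affineOpens.exists_subset_of_mem_open
    (Set.mem_univ s) isOpen_univ
  set A := Γ(S, U₀)
  set F := S.residueField s
  let θ : A ⟶ F := S.evaluation U₀ s hsU
  let := θ.hom.toAlgebra
  let : Algebra A k := ((algebraMap F k).comp θ.hom).toAlgebra
  have : IsScalarTower A F k := .of_algebraMap_eq' rfl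
  have hone : ∀ a : F, ∃ c : A, algebraMap A F c ≠ 0 ∧
      algebraMap A F c * a ∈ Set.range (algebraMap A F) := by
    intro a
    obtain ⟨b, rfl⟩ := S.residue_surjective s a
    let := TopCat.Presheaf.algebra_section_stalk S.presheaf ⟨s, hsU⟩
    have := hU₀.isLocalization_stalk ⟨s, hsU⟩
    obtain ⟨⟨x, c⟩, hc⟩ := IsLocalization.surj (hU₀.primeIdealOf ⟨s, hsU⟩).asIdeal.primeCompl b
    have hu := IsLocalization.map_units (S.presheaf.stalk s) c
    refine ⟨c.1, ?_, x, ?_⟩
    · exact (hu.map (S.residue s).hom).ne_zero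
    · calc algebraMap A F x = S.residue s (algebraMap A (S.presheaf.stalk s) x) := rfl
        _ = S.residue s (b * algebraMap A (S.presheaf.stalk s) c.1) := by rw [← hc]
        _ = _ := by rw [map_mul, mul_comm]; rfl
  have hF : ∀ t : Finset F, ∃ c : A, algebraMap A F c ≠ 0 ∧
      ∀ a ∈ t, algebraMap A F c * a ∈ Set.range (algebraMap A F) := by
    intro t
    choose c hc0 hc using hone
    refine ⟨∏ a ∈ t, c a, ?_, fun a ha => ?_⟩
    · rw [map_prod]; exact Finset.prod_ne_zero_iff.2 fun a _ => hc0 a
    · obtain ⟨x, hx⟩ := hc a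
      refine ⟨x * ∏ b ∈ t.erase a, c b, ?_⟩
      rw [← Finset.mul_prod_erase t c ha, map_mul, map_mul, hx]
      ring
  obtain ⟨α, hα⟩ := Field.exists_primitive_element F k
  obtain ⟨q, c, hqm, hc, hq0, hq1⟩ := FlatMorWeight.exists_simple_root (R := A) hF α
    (Algebra.IsSeparable.isSeparable F α)
  let β : k := c • α
  let P : StandardEtalePair A :=
    { f := q, monic_f := hqm, g := derivative q, cond := ⟨1, 0, 1, by simp⟩ }
  have hP : P.HasMap β := ⟨hq0, isUnit_iff_ne_zero.2 hq1⟩
  let ψ : P.Ring →ₐ[A] k := P.lift β hP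
  let U : Scheme.{u} := Spec (CommRingCat.of P.Ring)
  let π : U ⟶ Spec A := Spec.map (CommRingCat.ofHom (algebraMap A P.Ring))
  have : Etale π := HasRingHomProperty.Spec_iff.2 (RingHom.etale_algebraMap.2 inferInstance)
  let g : U ⟶ S := π ≫ hU₀.fromSpec
  let w : Spec (CommRingCat.of k) ⟶ U := Spec.map (CommRingCat.ofHom ψ.toRingHom)
  let ι : F ⟶ CommRingCat.of k := CommRingCat.ofHom (algebraMap F k)
  have hw : w ≫ g = Spec.map ι ≫ S.fromSpecResidueField s := by
    dsimp only [w, g, π]
    rw [← Category.assoc, ← Spec.map_comp, Scheme.fromSpecResidueField,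
      ← hU₀.fromSpecStalk_eq_fromSpecStalk hsU, IsAffineOpen.fromSpecStalk, ← Category.assoc,
      ← Category.assoc, ← Spec.map_comp, ← Spec.map_comp]
    congr 2
    ext a
    exact ψ.commutes a
  let φ := U.descResidueField (Scheme.stalkClosedPointTo w)
  let u : U := w (IsLocalRing.closedPoint k)
  have hwφ : Spec.map φ ≫ U.fromSpecResidueField u = w :=
    U.descResidueField_stalkClosedPointTo_fromSpecResidueField k w
  have hu : g u = s := by
    have := congr($hw (IsLocalRing.closedPoint k))
    rw [Scheme.Hom.comp_apply, Scheme.Hom.comp_apply] at this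
    have key : ∀ y, S.fromSpecResidueField s y = s := fun y => Scheme.fromSpecResidueField_apply s y
    exact this.trans (key _)
  refine ⟨U, g, u, hu, inferInstance, ?_⟩
  let := ((S.residueFieldCongr hu).inv ≫ g.residueFieldMap u).hom.toAlgebra
  have hφ : ((S.residueFieldCongr hu).inv ≫ g.residueFieldMap u) ≫ φ = ι := by
    rw [← Spec.map_inj, ← cancel_mono (S.fromSpecResidueField s), ← hw, ← hwφ]
    simp only [Spec.map_comp, Category.assoc, Scheme.residueFieldCongr_inv,
      Scheme.residueFieldCongr_fromSpecResidueField,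
      Scheme.Hom.SpecMap_residueFieldMap_fromSpecResidueField]
  let Φ : U.residueField u →ₐ[F] k :=
    { φ.hom with commutes' := fun r => congr(($hφ).hom r) }
  let σ : CommRingCat.of P.Ring ⟶ U.residueField u := Spec.preimage (U.fromSpecResidueField u)
  have hσ : σ ≫ φ = CommRingCat.ofHom ψ.toRingHom := by
    rw [← Spec.map_inj, Spec.map_comp, Spec.map_preimage]
    exact hwφ
  have hsurj : Function.Surjective Φ := by
    have hβ : β ∈ Φ.fieldRange := ⟨σ P.X, by
      have := congr(($hσ).hom P.X)
      change φ.hom (σ.hom P.X) = β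
      exact this.trans (P.lift_X β hP)⟩
    have hmem : α ∈ Φ.fieldRange := by
      have h1 : β = algebraMap F k (algebraMap A F c) * α := Algebra.smul_def c α
      have h2 : α = (algebraMap F k (algebraMap A F c))⁻¹ * β := by
        rw [h1, inv_mul_cancel_left₀]
        exact (_root_.map_ne_zero _).2 hc
      rw [h2]
      exact mul_mem (inv_mem (Φ.fieldRange.algebraMap_mem _)) hβ
    have : (⊤ : IntermediateField F k) ≤ Φ.fieldRange := by
      rw [← hα]; exact IntermediateField.adjoin_le_iff.2 (by simpa using hmem)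
    exact fun x => this trivial
  exact ⟨(AlgEquiv.ofBijective Φ ⟨Φ.toRingHom.injective, hsurj⟩).symm⟩

end Groth.Agent.FlatMor12
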