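import Groth.Agent.FlatCxLib.Algebra
import Mathlib.RingTheory.Flat.FaithfullyFlat.Algebra
import Mathlib.RingTheory.Flat.Stability
import Mathlib.RingTheory.TensorProduct.Maps
import Mathlib.LinearAlgebra.TensorProduct.Prod
import Mathlib.RingTheory.Ideal.GoingUp
import Mathlib.RingTheory.IntegralClosure.IsIntegralClosure.Basic

/-!
# Fibre products of rings along an injective finite flat map
-/

universe u

set_option backward.isDefEq.respectTransparency false

namespace Groth.Agent.FlatMor12

open TensorProduct Function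

variable {R A B C : Type u} [CommRing R] [CommRing A] [CommRing B] [CommRing C]
  [Algebra R A] [Algebra R B] [Algebra R C] (β : B →ₐ[R] C) (α : A →ₐ[R] C)

theorem exact_equalizer :
    Exact (AlgHom.equalizer (β.comp (AlgHom.fst R B A)) (α.comp (AlgHom.snd R B A))).val.toLinearMap
      (β.toLinearMap ∘ₗ LinearMap.fst R B A - α.toLinearMap ∘ₗ LinearMap.snd R B A) := by
  intro x
  constructor
  · intro h
    exact ⟨⟨x, sub_eq_zero.mp h⟩, rfl⟩
  · rintro ⟨y, rfl⟩
    exact sub_eq_zero.mpr y.2

theorem surjective_sub (hα : Surjective α) :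
    Surjective (β.toLinearMap ∘ₗ LinearMap.fst R B A - α.toLinearMap ∘ₗ LinearMap.snd R B A) := fun c => by
  obtain ⟨a, ha⟩ := hα (-c)
  exact ⟨(0, a), by simp [ha]⟩

theorem flat_equalizer (hα : Surjective α) [Module.Flat R A] [Module.Flat R B] [Module.Flat R C] :
    Module.Flat R ↥(AlgHom.equalizer (β.comp (AlgHom.fst R B A)) (α.comp (AlgHom.snd R B A))) := by
  have : Module.Flat R (B × A) := FlatCxLib.flat_of_exact_mid (LinearMap.inl R B A) (LinearMap.snd R B A)
    (fun x => ⟨fun h => ⟨x.1, Prod.ext rfl h.symm⟩, by rintro ⟨y, rfl⟩; rfl⟩)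
    LinearMap.snd_surjective LinearMap.inl_injective
  exact FlatCxLib.flat_of_exact_left _ _ (exact_equalizer β α) (surjective_sub β α hα) Subtype.val_injective

theorem baseChange_equalizer (hα : Surjective α) [Module.Flat R C] (R' : Type u) [CommRing R'] [Algebra R R']
    (hβ : Injective (β.toLinearMap.lTensor R')) :
    Injective (Algebra.TensorProduct.map (AlgHom.id R' R')
        ((AlgHom.snd R B A).comp
          (AlgHom.equalizer (β.comp (AlgHom.fst R B A)) (α.comp (AlgHom.snd R B A))).val)) ∧
    ∀ (b : R' ⊗[R] B) (a : R' ⊗[R] A),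
      Algebra.TensorProduct.map (AlgHom.id R' R') β b = Algebra.TensorProduct.map (AlgHom.id R' R') α a →
      ∃ x : R' ⊗[R] ↥(AlgHom.equalizer (β.comp (AlgHom.fst R B A)) (α.comp (AlgHom.snd R B A))),
        Algebra.TensorProduct.map (AlgHom.id R' R') ((AlgHom.fst R B A).comp
          (AlgHom.equalizer (β.comp (AlgHom.fst R B A)) (α.comp (AlgHom.snd R B A))).val) x = b ∧
        Algebra.TensorProduct.map (AlgHom.id R' R') ((AlgHom.snd R B A).comp
          (AlgHom.equalizer (β.comp (AlgHom.fst R B A)) (α.comp (AlgHom.snd R B A))).val) x = a := by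
  let P := AlgHom.equalizer (β.comp (AlgHom.fst R B A)) (α.comp (AlgHom.snd R B A))
  let ι := P.val.toLinearMap
  let ψ := β.toLinearMap ∘ₗ LinearMap.fst R B A - α.toLinearMap ∘ₗ LinearMap.snd R B A
  have hex := lTensor_exact R' (exact_equalizer β α) (surjective_sub β α hα)
  have hinj : Injective (ι.lTensor R') :=
    LinearMap.lTensor_injective_of_exact_of_flat ψ (surjective_sub β α hα) ι Subtype.val_injective
      (exact_equalizer β α) R'
  have hfst : ∀ x : R' ⊗[R] P, Algebra.TensorProduct.map (AlgHom.id R' R') ((AlgHom.fst R B A).comp P.val) x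
      = (TensorProduct.prodRight R R R' B A (ι.lTensor R' x)).1 := by
    intro x
    induction x with
    | zero => simp
    | add a b ha hb => simp only [map_add, ha, hb, Prod.fst_add]
    | tmul r p => rfl
  have hsnd : ∀ x : R' ⊗[R] P, Algebra.TensorProduct.map (AlgHom.id R' R') ((AlgHom.snd R B A).comp P.val) x
      = (TensorProduct.prodRight R R R' B A (ι.lTensor R' x)).2 := by
    intro x
    induction x with
    | zero => simp
    | add a b ha hb => simp only [map_add, ha, hb, Prod.snd_add]
    | tmul r p => rfl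
  have hψ : ∀ w : R' ⊗[R] (B × A), ψ.lTensor R' w =
      Algebra.TensorProduct.map (AlgHom.id R' R') β (TensorProduct.prodRight R R R' B A w).1 -
        Algebra.TensorProduct.map (AlgHom.id R' R') α (TensorProduct.prodRight R R R' B A w).2 := by
    intro w
    induction w with
    | zero => simp
    | add a b ha hb => simp only [map_add, ha, hb, Prod.fst_add, Prod.snd_add]; abel
    | tmul r p => simp [ψ, tmul_sub]
  refine ⟨?_, fun b a h => ?_⟩
  · intro x y hxy
    apply hinj
    apply (TensorProduct.prodRight R R R' B A).injective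
    rw [hsnd, hsnd] at hxy
    refine Prod.ext ?_ hxy
    have h1 := (hψ (ι.lTensor R' x)).symm.trans (hex.apply_apply_eq_zero x)
    have h2 := (hψ (ι.lTensor R' y)).symm.trans (hex.apply_apply_eq_zero y)
    rw [sub_eq_zero] at h1 h2
    rw [← hxy, ← h1] at h2
    have e : ∀ z, Algebra.TensorProduct.map (AlgHom.id R' R') β z = β.toLinearMap.lTensor R' z := by
      intro z
      induction z with
      | zero => simp
      | add a b ha hb => simp only [map_add, ha, hb]
      | tmul r p => rfl
    rw [e, e] at h2
    exact (hβ h2).symm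
  · obtain ⟨x, hx⟩ := (hex ((TensorProduct.prodRight R R R' B A).symm (b, a))).mp (by
      rw [hψ, LinearEquiv.apply_symm_apply, h, sub_self])
    refine ⟨x, ?_, ?_⟩
    · rw [hfst, hx, LinearEquiv.apply_symm_apply]
    · rw [hsnd, hx, LinearEquiv.apply_symm_apply]

theorem faithfullyFlat_of_injective_finite [Algebra B C] [Module.Finite B C] [Module.Flat B C]
    (hinj : Injective (algebraMap B C)) : Module.FaithfullyFlat B C := by
  have : Algebra.IsIntegral B C := Algebra.IsIntegral.of_finite B C
  have : FaithfulSMul B C := (faithfulSMul_iff_algebraMap_injective B C).mpr hinj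
  refine Module.FaithfullyFlat.of_comap_surjective fun x => ?_
  obtain ⟨Q, _, hQ, hQc⟩ := Ideal.exists_ideal_over_prime_of_isIntegral x.asIdeal (⊥ : Ideal C) (by
    intro b hb
    rw [Ideal.mem_comap, Ideal.mem_bot] at hb
    rw [hinj (hb.trans (map_zero _).symm)]
    exact zero_mem _)
  exact ⟨⟨Q, hQ⟩, PrimeSpectrum.ext hQc⟩

theorem injective_lTensor_algebraMap [Algebra B C] [IsScalarTower R B C] [Module.FaithfullyFlat B C]
    (R' : Type u) [CommRing R'] [Algebra R R'] :
    Injective ((IsScalarTower.toAlgHom R B C).toLinearMap.lTensor R') := by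
  rw [LinearMap.lTensor_inj_iff_rTensor_inj]
  intro x y hxy
  let e := AlgebraTensorModule.cancelBaseChange R B B C R'
  apply Module.FaithfullyFlat.tensorProduct_mk_injective (A := B) (B := C) (B ⊗[R] R')
  apply e.injective
  have he : ∀ z : B ⊗[R] R', e ((1 : C) ⊗ₜ z) = (IsScalarTower.toAlgHom R B C).toLinearMap.rTensor R' z := by
    intro z
    induction z with
    | zero => simp
    | add a b ha hb => simp only [tmul_add, map_add, ha, hb]
    | tmul b r => simp [e, Algebra.smul_def]
  exact (he x).trans (hxy.trans (he y).symm)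

end Groth.Agent.FlatMor12
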