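import Groth.Agent.AbSchLib.RigidityGeneral
import Groth.Agent.PicLib.FlatSections
import Groth.Agent.EGA43.ProperDvr.Rational
import Groth.Agent.FEtStein.General

/-!
# Proper flat morphisms whose fibres have only the scalars as functions

`f_* O_X = O_S` for a proper flat finitely presented `f` with `Γ(X_s, O) = κ(s)` for all `s`, over any base.
-/

set_option autoImplicit false
set_option backward.isDefEq.respectTransparency false
set_option linter.style.haveILetI false

universe u

open CategoryTheory CategoryTheory.Limits AlgebraicGeometry Opposite TopologicalSpace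

namespace Groth.Agent.FlatMor12.ScalarFibres

open Groth.Agent

/-- The functions on every fibre over a field point are the scalars. -/
def Scalar {X T : Scheme.{u}} (g : X ⟶ T) : Prop :=
  ∀ (K : Type u) [Field K] (y : Spec (CommRingCat.of K) ⟶ T) (P : Scheme.{u}) (a : P ⟶ X)
    (b : P ⟶ Spec (CommRingCat.of K)), IsPullback a b g y → Function.Bijective b.appTop

theorem scalar_of_fibres {X T : Scheme.{u}} (g : X ⟶ T) [QuasiCompact g] [QuasiSeparated g]
    (h : ∀ t : T, IsIso (g.fiberToSpecResidueField t).appTop) : Scalar g := by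
  intro K _ y P a b H
  obtain ⟨t, φ, hφ⟩ : ∃ (t : T) (φ : T.residueField t ⟶ CommRingCat.of K),
      Spec.map φ ≫ T.fromSpecResidueField t = y := ⟨_, EGA43.ProperDvr.exists_factor y _ rfl⟩
  subst hφ
  haveI := h t
  haveI : Flat (Spec.map φ) := (Flat.SpecMap_iff).2 (by
    letI := φ.hom.toAlgebra
    exact RingHom.flat_algebraMap_iff.2 (inferInstance : Module.Flat (T.residueField t) K))
  haveI : CompactSpace ↥(g.fiber t) := QuasiCompact.compactSpace_of_compactSpace (g.fiberToSpecResidueField t)
  haveI : QuasiSeparated (g.fiberToSpecResidueField t) := MorphismProperty.pullback_snd _ _ ‹QuasiSeparated g›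
  haveI : QuasiSeparatedSpace ↥(g.fiber t) := quasiSeparatedSpace_of_quasiSeparated (g.fiberToSpecResidueField t)
  let l : P ⟶ g.fiber t := pullback.lift a (b ≫ Spec.map φ) (H.w.trans (Category.assoc _ _ _).symm)
  refine PicLib.bijective_appTop_of_isPullback l b (g.fiberToSpecResidueField t) (Spec.map φ) ?_
    (ConcreteCategory.bijective_of_isIso _)
  refine IsPullback.of_right ?_ (pullback.lift_snd _ _ _) (IsPullback.of_hasPullback g (T.fromSpecResidueField t))
  rw [show l ≫ pullback.fst g (T.fromSpecResidueField t) = a from pullback.lift_fst _ _ _]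
  exact H

theorem germ_eq_zero {X T : Scheme.{u}} (g : X ⟶ T) [Flat g] [LocallyOfFinitePresentation g]
    [UniversallyClosed g] [IsSeparated g] (hg : Scalar g) (e : T ⟶ X) (he : e ≫ g = 𝟙 T)
    (s : Γ(X, ⊤)) (hs : e.appTop s = 0) (x : X) :
    X.presheaf.germ ⊤ x trivial s = 0 := by
  set t := g x
  let j := T.fromSpecStalk t
  have : Flat j := AbSchLib.flat_fromSpecStalk t
  let p := pullback.fst g j
  let g' := pullback.snd g j
  let e' : Spec (T.presheaf.stalk t) ⟶ pullback g j := pullback.lift (j ≫ e) (𝟙 _) (by simp [he])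
  have he' : e' ≫ g' = 𝟙 _ := pullback.lift_snd _ _ _
  let s' := p.appTop s
  have hs' : e'.appTop s' = 0 := by
    have : p.appTop ≫ e'.appTop = e.appTop ≫ j.appTop := by
      rw [← Scheme.Hom.comp_appTop, ← Scheme.Hom.comp_appTop]
      congr 1
      exact pullback.lift_fst _ _ _
    simp only [s', ← CommRingCat.comp_apply, this]
    rw [CommRingCat.comp_apply, hs, map_zero]
  obtain ⟨x', hx'1, hx'2⟩ := Scheme.Pullback.exists_preimage_pullback (f := g) (g := j) x
    (IsLocalRing.closedPoint _) (by simp [j, t])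
  have hk : Function.Surjective (pullback.snd g' (AbSchLib.closedPt (T.presheaf.stalk t))).appTop.hom :=
    (hg _ _ _ _ _ ((IsPullback.of_hasPullback g' (AbSchLib.closedPt (T.presheaf.stalk t))).paste_horiz
      (IsPullback.of_hasPullback g j))).2
  have h0 := AbSchLib.germ_eq_zero_of_section_general g' e' he' hk s' hs' x' hx'2
  have hinj : Function.Injective (p.stalkMap x').hom := by
    algebraize [(p.stalkMap x').hom]
    have : Module.FaithfullyFlat (X.presheaf.stalk (p x')) ((pullback g j).presheaf.stalk x') :=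
      @Module.FaithfullyFlat.of_flat_of_isLocalHom _ _ _ _ _ _ _
        (Flat.stalkMap p x') (p.toLRSHom.prop x')
    exact ‹RingHom.FaithfullyFlat _›.injective
  suffices X.presheaf.germ ⊤ (p x') trivial s = 0 by
    have key : ∀ (y : X), y = x → X.presheaf.germ ⊤ y trivial s = 0 → X.presheaf.germ ⊤ x trivial s = 0 := by
      rintro y rfl h; exact h
    exact key _ hx'1 this
  apply hinj
  rw [map_zero]
  erw [Scheme.Hom.germ_stalkMap_apply]
  exact h0

theorem surjective_of_scalar {X T : Scheme.{u}} (g : X ⟶ T) (hg : Scalar g) : Surjective g := ⟨fun t => by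
  have hb := hg _ (T.fromSpecResidueField t) _ _ _ (IsPullback.of_hasPullback g (T.fromSpecResidueField t))
  obtain ⟨z⟩ : Nonempty ↥(g.fiber t) := by
    by_contra hne
    rw [not_nonempty_iff] at hne
    haveI : Subsingleton Γ(g.fiber t, ⊤) := ⟨fun a b =>
      TopCat.Presheaf.section_ext (g.fiber t).sheaf ⊤ a b fun x _ => (hne.false x).elim⟩
    haveI : Subsingleton Γ(pullback g (T.fromSpecResidueField t), ⊤) := ‹Subsingleton Γ(g.fiber t, ⊤)›
    exact not_subsingleton Γ(Spec (T.residueField t), ⊤) hb.1.subsingleton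
  exact ⟨_, (g.range_fiberι t).subset ⟨z, rfl⟩⟩⟩

theorem bijective_appTop {X T : Scheme.{u}} (g : X ⟶ T) [IsProper g] [Flat g] [LocallyOfFinitePresentation g]
    (hg : Scalar g) : Function.Bijective g.appTop := by
  haveI : Surjective g := surjective_of_scalar g hg
  refine ⟨FEtStein.injective_appTop_of_flat g, fun s => ?_⟩
  let pr1 := pullback.fst g g
  let pr2 := pullback.snd g g
  haveI : IsProper pr2 := MorphismProperty.pullback_snd _ _ ‹IsProper g›
  haveI : LocallyOfFinitePresentation pr2 := MorphismProperty.pullback_snd _ _ ‹LocallyOfFinitePresentation g›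
  haveI : Flat pr2 := MorphismProperty.pullback_snd _ _ ‹Flat g›
  have hpr : Scalar pr2 := fun K _ y P a b H =>
    hg K _ P _ b (H.paste_horiz (IsPullback.of_hasPullback g g))
  let e := pullback.diagonal g
  have he : e ≫ pr2 = 𝟙 X := pullback.diagonal_snd g
  let d : Γ(pullback g g, ⊤) := pr1.appTop s - pr2.appTop s
  have hd0 : e.appTop d = 0 := by
    show e.appTop (pr1.appTop s - pr2.appTop s) = 0
    rw [map_sub, sub_eq_zero, ← CommRingCat.comp_apply, ← CommRingCat.comp_apply,
      ← Scheme.Hom.comp_appTop, ← Scheme.Hom.comp_appTop, pullback.diagonal_fst, he]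
  have hd : d = 0 := by
    refine TopCat.Presheaf.section_ext (pullback g g).sheaf ⊤ d 0 fun x _ => ?_
    exact (germ_eq_zero pr2 hpr e he d hd0 x).trans
      (map_zero ((pullback g g).presheaf.germ ⊤ x trivial).hom).symm
  let P : CommRingCat.{u} := CommRingCat.of (Polynomial (ULift.{u} ℤ))
  let φ : P ⟶ Γ(X, ⊤) := CommRingCat.ofHom
    (Polynomial.eval₂RingHom ((Int.castRingHom Γ(X, ⊤)).comp ULift.ringEquiv.toRingHom) s)
  let a : X ⟶ Spec P := X.toSpecΓ ≫ Spec.map φ
  have hφ : φ ≫ pr1.appTop = φ ≫ pr2.appTop := by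
    apply CommRingCat.hom_ext
    refine Polynomial.ringHom_ext (fun z => ?_) ?_
    · simp [φ]
    · simpa [φ, sub_eq_zero, d] using hd
  have ha : pr1 ≫ a = pr2 ≫ a := by
    simp only [a, Scheme.toSpecΓ_naturality_assoc, ← Spec.map_comp, hφ]
  let b : T ⟶ Spec P := EffectiveEpi.desc g a fun {Z} h₁ h₂ h => by
    have := congrArg (pullback.lift h₁ h₂ h ≫ ·) ha
    simpa [pr1, pr2] using this
  refine ⟨((Scheme.ΓSpecIso P).inv ≫ b.appTop) Polynomial.X, ?_⟩
  rw [← CommRingCat.comp_apply, Category.assoc, ← Scheme.Hom.comp_appTop, EffectiveEpi.fac]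
  have e2 : (Scheme.ΓSpecIso P).inv ≫ a.appTop = φ := by
    simp only [a, Scheme.Hom.comp_appTop, Scheme.toSpecΓ_appTop]
    rw [Scheme.ΓSpecIso_naturality, Iso.inv_hom_id_assoc]
  rw [e2]
  exact Polynomial.eval₂_X _ _

theorem isIso_app {X S : Scheme.{u}} (f : X ⟶ S) [IsProper f] [Flat f] [LocallyOfFinitePresentation f]
    (h : ∀ s : S, IsIso (f.fiberToSpecResidueField s).appTop) (V : S.Opens) : IsIso (f.app V) := by
  have hp := (isPullback_morphismRestrict f V).flip
  haveI : IsProper (f ∣_ V) := MorphismProperty.of_isPullback (P := @IsProper) hp inferInstance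
  haveI : LocallyOfFinitePresentation (f ∣_ V) :=
    MorphismProperty.of_isPullback (P := @LocallyOfFinitePresentation) hp inferInstance
  haveI : Flat (f ∣_ V) := MorphismProperty.of_isPullback (P := @Flat) hp inferInstance
  have hg : Scalar (f ∣_ V) := fun K _ y P a b H => scalar_of_fibres f h K _ P _ b (H.paste_horiz hp)
  haveI : IsIso (f ∣_ V).appTop :=
    (ConcreteCategory.isIso_iff_bijective _).2 (bijective_appTop (f ∣_ V) hg)
  have e := morphismRestrict_appTop f V
  haveI : IsIso (f.app (V.ι ''ᵁ ⊤)) := by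
    have h2 : IsIso (f ∣_ V).appTop := inferInstance
    have hm : IsIso (X.presheaf.map (eqToHom (image_morphismRestrict_preimage f V ⊤)).op) := inferInstance
    exact @IsIso.of_isIso_fac_right _ _ _ _ _ _ _ _ hm h2 e.symm
  have key : ∀ W : S.Opens, W = V → IsIso (f.app W) → IsIso (f.app V) := by
    rintro W rfl hW; exact hW
  exact key _ V.ι_image_top this

end Groth.Agent.FlatMor12.ScalarFibres
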