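import Mathlib.AlgebraicGeometry.Morphisms.SchemeTheoreticallyDominant
import Mathlib.AlgebraicGeometry.Morphisms.Immersion
import Mathlib.AlgebraicGeometry.Morphisms.OpenImmersion
import Mathlib.AlgebraicGeometry.Properties

/-!
# Scheme-theoretically dense opens and scheme-theoretic images
-/

set_option autoImplicit false

universe u

open CategoryTheory AlgebraicGeometry TopologicalSpace Opposite

namespace Groth.Agent.FlatMor12.SchDense

variable {X Y : Scheme.{u}}

theorem res_res {U V W : Y.Opens} (h : U ≤ V) (h' : V ≤ W) (s : Γ(Y, W)) :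
    Y.presheaf.map (homOfLE h).op (Y.presheaf.map (homOfLE h').op s) = Y.presheaf.map (homOfLE (h.trans h')).op s :=
  (congr($(Y.presheaf.map_comp (homOfLE h').op (homOfLE h).op) s)).symm

/-- With injective components, the open range is scheme-theoretically dense in every open. -/
theorem dominant_homOfLE_of_app_injective (t : X ⟶ Y) (U : Y.Opens) (hU : Set.range t ⊆ U)
    (h : ∀ W, Function.Injective (t.app W)) (W : Y.Opens) :
    IsSchemeTheoreticallyDominant (Y.homOfLE (inf_le_right : U ⊓ W ≤ W)) := by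
  refine ⟨Scheme.IdealSheafData.ext (funext fun V => le_bot_iff.1 fun s hs => ?_)⟩
  show s ∈ (⊥ : Ideal _)
  rw [Ideal.mem_bot]
  have h1 : (Y.homOfLE (inf_le_right : U ⊓ W ≤ W)).app V.1 s = 0 := Scheme.Hom.ideal_ker_le _ V hs
  let O : Y.Opens := W.ι ''ᵁ V.1
  rw [Scheme.homOfLE_app] at h1
  have hle : U ⊓ O ≤ (U ⊓ W).ι ''ᵁ (Y.homOfLE (inf_le_right : U ⊓ W ≤ W) ⁻¹ᵁ V.1) := by
    rintro y ⟨hyU, ⟨w, hw, rfl⟩⟩
    refine ⟨⟨w.1, hyU, w.2⟩, ?_, rfl⟩
    show (Y.homOfLE (inf_le_right : U ⊓ W ≤ W)) ⟨w.1, hyU, w.2⟩ ∈ V.1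
    have hh : (Y.homOfLE (inf_le_right : U ⊓ W ≤ W)) ⟨w.1, hyU, w.2⟩ = w :=
      W.ι.isOpenEmbedding.injective (by rw [← Scheme.Hom.comp_apply, Scheme.homOfLE_ι]; rfl)
    rw [hh]; exact hw
  have h2 : Y.presheaf.map (homOfLE (inf_le_right : U ⊓ O ≤ O)).op (show Γ(Y, O) from s) = 0 := by
    have h3 := congrArg (Y.presheaf.map (homOfLE hle).op) h1
    exact (res_res hle _ (show Γ(Y, O) from s)).symm.trans (h3.trans (map_zero _))
  refine h O ((?_ : t.app O (show Γ(Y, O) from s) = 0).trans (map_zero _).symm)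
  have hle2 : t ⁻¹ᵁ O ≤ t ⁻¹ᵁ (U ⊓ O) := fun x hx => ⟨hU ⟨x, rfl⟩, hx⟩
  have h4 : t.appLE (U ⊓ O) (t ⁻¹ᵁ O) hle2 (Y.presheaf.map (homOfLE (inf_le_right : U ⊓ O ≤ O)).op (show Γ(Y, O) from s)) = 0 := by
    rw [h2, map_zero]
  rw [← CommRingCat.comp_apply, Scheme.Hom.map_appLE] at h4
  rw [Scheme.Hom.app_eq_appLE]
  exact h4

/-- Sections of a reduced scheme vanishing at all points. -/
theorem eq_zero_of_basicOpen [IsReduced X] {U : X.Opens} (s : Γ(X, U)) (h : ∀ x, x ∉ X.basicOpen s) : s = 0 :=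
  (basicOpen_eq_bot_iff s).1 (Opens.ext (Set.eq_empty_of_forall_notMem h))

theorem app_injective_of_isReduced_of_dense (t : X ⟶ Y) [IsReduced Y] (hd : DenseRange t) (W : Y.Opens) :
    Function.Injective (t.app W) := by
  rw [injective_iff_map_eq_zero]
  intro s hs
  refine eq_zero_of_basicOpen s fun y hy => ?_
  obtain ⟨x, hx⟩ := hd.exists_mem_open (Y.basicOpen s).isOpen ⟨y, hy⟩
  have h1 : x ∈ t ⁻¹ᵁ Y.basicOpen s := hx
  rw [Scheme.preimage_basicOpen, hs, Scheme.basicOpen_zero] at h1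
  exact h1

section Reduced

variable (f : X ⟶ Y) [IsReduced X]

theorem vanishingIdeal_le_ker :
    Scheme.IdealSheafData.vanishingIdeal (⟨closure (Set.range f), isClosed_closure⟩ : Closeds Y) ≤ f.ker := by
  refine Scheme.IdealSheafData.le_ofIdeals_iff.2 fun V a ha => RingHom.mem_ker.2 (eq_zero_of_basicOpen _ fun x hx => ?_)
  rw [← Scheme.preimage_basicOpen] at hx
  let y : V.1 := ⟨f x, Y.basicOpen_le a hx⟩
  have h1 := (PrimeSpectrum.mem_vanishingIdeal _ _).1 ha (V.2.primeIdealOf y) (by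
    show V.2.fromSpec (V.2.primeIdealOf y) ∈ closure (Set.range f)
    rw [V.2.fromSpec_primeIdealOf]
    exact subset_closure ⟨x, rfl⟩)
  have h2 : V.2.primeIdealOf y ∈ V.2.fromSpec ⁻¹ᵁ Y.basicOpen a := by
    show V.2.fromSpec (V.2.primeIdealOf y) ∈ Y.basicOpen a
    rw [V.2.fromSpec_primeIdealOf]
    exact hx
  rw [V.2.fromSpec_preimage_basicOpen] at h2
  exact h2 h1

theorem ker_eq_vanishingIdeal :
    f.ker = Scheme.IdealSheafData.vanishingIdeal (⟨closure (Set.range f), isClosed_closure⟩ : Closeds Y) :=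
  le_antisymm (Scheme.IdealSheafData.le_support_iff_le_vanishingIdeal.1
    (closure_minimal f.range_subset_ker_support f.ker.support.isClosed)) (vanishingIdeal_le_ker f)

theorem ker_ideal_eq (V : Y.affineOpens) : f.ker.ideal V = RingHom.ker (f.app V.1).hom := by
  refine le_antisymm (f.ideal_ker_le V) fun a ha => ?_
  rw [ker_eq_vanishingIdeal]
  refine (PrimeSpectrum.mem_vanishingIdeal _ _).2 fun p hp => ?_
  by_contra hc
  have h2 : V.2.fromSpec p ∈ Y.basicOpen a := by
    have : p ∈ V.2.fromSpec ⁻¹ᵁ Y.basicOpen a := by rw [V.2.fromSpec_preimage_basicOpen]; exact hc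
    exact this
  obtain ⟨_, hxy, x, rfl⟩ := mem_closure_iff.1 (hp : V.2.fromSpec p ∈ closure (Set.range f)) _ (Y.basicOpen a).isOpen h2
  have h3 : x ∈ f ⁻¹ᵁ Y.basicOpen a := hxy
  rw [Scheme.preimage_basicOpen, RingHom.mem_ker.1 ha, Scheme.basicOpen_zero] at h3
  exact h3

end Reduced

section Image

variable (f : X ⟶ Y) (hf : ∀ V : Y.affineOpens, f.ker.ideal V = RingHom.ker (f.app V.1).hom)

include hf in
theorem toImage_app_injective_affine (V : Y.affineOpens) :
    Function.Injective (f.toImage.app (f.imageι ⁻¹ᵁ V)) := by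
  simp only [f.toImage_app V, CommRingCat.hom_comp, CommRingCat.hom_ofHom, RingHom.coe_comp]
  exact (RingHom.lift_injective_of_ker_le_ideal _ (fun a ha => RingHom.mem_ker.1 (f.ideal_ker_le V ha)) (hf V).ge).comp
    (f.ker.subschemeObjIso V).commRingCatIsoToRingEquiv.injective

include hf in
theorem toImage_app_injective (W : f.image.Opens) : Function.Injective (f.toImage.app W) := by
  rw [injective_iff_map_eq_zero]
  intro s hs
  refine TopCat.Presheaf.section_ext f.image.sheaf W s 0 fun p hp => ?_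
  obtain ⟨O, hO, hOW⟩ := f.imageι.isEmbedding.isInducing.isOpen_iff.1 W.isOpen
  obtain ⟨V, hV, hpV, hVO⟩ := exists_isAffineOpen_mem_and_subset (x := f.imageι p) (U := ⟨O, hO⟩)
    (show p ∈ f.imageι ⁻¹' O by rw [hOW]; exact hp)
  have hle : f.imageι ⁻¹ᵁ V ≤ W := fun q hq => hOW.le (show q ∈ f.imageι ⁻¹' O from hVO hq)
  show f.image.presheaf.germ W p hp s = f.image.presheaf.germ W p hp 0
  rw [← TopCat.Presheaf.germ_res_apply f.image.presheaf (homOfLE hle) p hpV,
    ← TopCat.Presheaf.germ_res_apply f.image.presheaf (homOfLE hle) p hpV]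
  congr 1
  refine toImage_app_injective_affine f hf ⟨V, hV⟩ ?_
  rw [map_zero, map_zero, ← CommRingCat.comp_apply, Scheme.Hom.naturality, CommRingCat.comp_apply, hs, map_zero]

include hf in
theorem denseRange_toImage : DenseRange f.toImage := by
  refine dense_iff_inter_open.2 fun O hO ⟨p, hp⟩ => ?_
  by_contra hc
  rw [Set.not_nonempty_iff_eq_empty] at hc
  have : IsEmpty (f.toImage ⁻¹ᵁ ⟨O, hO⟩ : X.Opens) := ⟨fun x => hc.le ⟨x.2, x.1, rfl⟩⟩
  have hbot : f.toImage ⁻¹ᵁ ⟨O, hO⟩ = ⊥ := Opens.ext (Set.eq_empty_of_forall_notMem fun x hx => hc.le ⟨hx, x, rfl⟩)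
  haveI : Subsingleton Γ(X, f.toImage ⁻¹ᵁ ⟨O, hO⟩) := by rw [hbot]; infer_instance
  have h01 : (1 : Γ(f.image, ⟨O, hO⟩)) = 0 := toImage_app_injective f hf ⟨O, hO⟩ (Subsingleton.elim _ _)
  have h2 := congrArg (f.image.presheaf.germ ⟨O, hO⟩ p hp) h01
  rw [map_one, map_zero] at h2
  exact one_ne_zero h2

include hf in
theorem isOpenImmersion_toImage [IsImmersion f] (hsupp : (f.ker.support : Set Y) ⊆ closure (Set.range f)) :
    IsOpenImmersion f.toImage := by
  have hsurj : ∀ x, Function.Surjective (f.toImage.stalkMap x) := fun x => by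
    have h1 := (f.toImage ≫ f.imageι).stalkMap_surjective
    haveI : SurjectiveOnStalks (f.toImage ≫ f.imageι) := by rw [Scheme.Hom.toImage_imageι]; infer_instance
    have h2 := (f.toImage ≫ f.imageι).stalkMap_surjective x
    rw [Scheme.Hom.stalkMap_comp] at h2
    exact Function.Surjective.of_comp (g := f.imageι.stalkMap (f.toImage x)) h2
  have hemb : Topology.IsEmbedding f.toImage := by
    refine Topology.IsEmbedding.of_comp f.toImage.continuous f.imageι.continuous ?_
    rw [← TopCat.coe_comp, ← Scheme.Hom.comp_base, Scheme.Hom.toImage_imageι]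
    exact f.isEmbedding
  have hrange : Set.range f.toImage = f.imageι ⁻¹' (f.coborderRange : Set Y) := by
    ext p
    constructor
    · rintro ⟨x, rfl⟩
      show f.imageι (f.toImage x) ∈ coborder (Set.range f)
      rw [← Scheme.Hom.comp_apply, Scheme.Hom.toImage_imageι]
      exact subset_coborder ⟨x, rfl⟩
    · intro hp
      have h1 : f.imageι p ∈ closure (Set.range f) := hsupp (f.ker.range_subschemeι.le ⟨p, rfl⟩)
      obtain ⟨x, hx⟩ : f.imageι p ∈ Set.range f := closure_inter_coborder.le ⟨h1, hp⟩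
      refine ⟨x, f.imageι.isEmbedding.injective ?_⟩
      rw [← Scheme.Hom.comp_apply, Scheme.Hom.toImage_imageι, hx]
  have hopen : IsOpen (Set.range f.toImage) := by
    rw [hrange]
    exact f.coborderRange.isOpen.preimage f.imageι.continuous
  refine isOpenImmersion_iff_stalk.2 ⟨⟨hemb, hopen⟩, fun x => ?_⟩
  refine (ConcreteCategory.isIso_iff_bijective _).2 ⟨?_, hsurj x⟩
  rw [injective_iff_map_eq_zero]
  intro g hg
  obtain ⟨W, hxW, s, rfl⟩ := f.image.presheaf.exists_germ_eq g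
  rw [Scheme.Hom.germ_stalkMap_apply] at hg
  obtain ⟨N, hxN, i₁, i₂, he⟩ := X.presheaf.germ_eq x hxW hxW (f.toImage.app W s)
    (0 : Γ(X, f.toImage ⁻¹ᵁ W)) (hg.trans (map_zero _).symm)
  obtain ⟨N', hN', hNN'⟩ := hemb.isInducing.isOpen_iff.1 N.isOpen
  let W' : f.image.Opens := W ⊓ ⟨N', hN'⟩
  have hxW' : f.toImage x ∈ W' := ⟨hxW, show x ∈ f.toImage ⁻¹' N' by rw [hNN']; exact hxN⟩
  rw [← TopCat.Presheaf.germ_res_apply f.image.presheaf (homOfLE (inf_le_left : W' ≤ W)) (f.toImage x) hxW']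
  have hle : f.toImage ⁻¹ᵁ W' ≤ N := fun y hy => hNN'.le hy.2
  have hs0 : f.image.presheaf.map (homOfLE (inf_le_left : W' ≤ W)).op s = 0 := by
    refine toImage_app_injective f hf W' ?_
    rw [map_zero, ← CommRingCat.comp_apply, Scheme.Hom.naturality, CommRingCat.comp_apply]
    have h5 := congrArg (X.presheaf.map (homOfLE hle).op) he
    rw [← CommRingCat.comp_apply, ← Functor.map_comp, map_zero, map_zero] at h5
    exact h5
  rw [hs0, map_zero]

end Image

end Groth.Agent.FlatMor12.SchDense
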