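import Groth.Agent.FlatMor12.RedSmoothScheme
import Groth.Agent.Props12.KerReduced
import Groth.Agent.AlgSpLib.EtaleAscend
import Groth.Agent.H8Lim.GeomConnected

/-!
# Smooth stratification over a field after a finite purely inseparable extension
-/

set_option autoImplicit false
set_option backward.isDefEq.respectTransparency false

universe u

open CategoryTheory CategoryTheory.Limits AlgebraicGeometry TopologicalSpace
open Groth.Agent.H8Lim (algSpec)

namespace Groth.Agent.FlatMor12.SmoothChain

/-- The stratum cut out by `I` outside the support of `I'`. -/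
noncomputable abbrev strat {Y : Scheme.{u}} (I I' : Y.IdealSheafData) :
    ((I.subschemeι ⁻¹ᵁ I'.support.compl : I.subscheme.Opens) : Scheme.{u}) ⟶ Y :=
  (I.subschemeι ⁻¹ᵁ I'.support.compl).ι ≫ I.subschemeι

theorem support_vanishingIdeal {Y : Scheme.{u}} (Z : Closeds Y) :
    (Scheme.IdealSheafData.vanishingIdeal Z).support = Z := by
  ext1
  simp

/-- A reduced immersion with range a difference of closed sets identifies with the reduced stratum. -/
theorem exists_iso_strat {Y W : Scheme.{u}} (Z Z' : Closeds Y) (m : W ⟶ Y) [IsImmersion m] [IsReduced W]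
    (hr : Set.range m = (Z : Set Y) \ Z') :
    ∃ j : W ⟶ _, IsIso j ∧
      j ≫ strat (Scheme.IdealSheafData.vanishingIdeal Z) (Scheme.IdealSheafData.vanishingIdeal Z') = m := by
  set I := Scheme.IdealSheafData.vanishingIdeal Z
  set I' := Scheme.IdealSheafData.vanishingIdeal Z'
  have hle : I.subschemeι.ker ≤ m.ker := by
    rw [Scheme.IdealSheafData.ker_subschemeι, Props12.ker_eq_vanishingIdeal]
    exact Scheme.IdealSheafData.vanishingIdeal_antimono
      (closure_minimal (by rw [hr]; exact Set.sdiff_subset) Z.2)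
  let g := IsClosedImmersion.lift I.subschemeι m hle
  have hg : g ≫ I.subschemeι = m := IsClosedImmersion.lift_fac _ _ _
  let O : I.subscheme.Opens := I.subschemeι ⁻¹ᵁ I'.support.compl
  have hgO : Set.range g ⊆ Set.range O.ι := by
    rintro _ ⟨w, rfl⟩
    rw [Scheme.Opens.range_ι]
    show I.subschemeι (g w) ∈ ((I'.support.compl : Y.Opens) : Set Y)
    rw [← Scheme.Hom.comp_apply, hg, Closeds.coe_compl, support_vanishingIdeal]
    exact (hr.le ⟨w, rfl⟩ : m w ∈ _).2
  let j := IsOpenImmersion.lift O.ι g hgO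
  have hjm : j ≫ O.ι ≫ I.subschemeι = m := by
    rw [IsOpenImmersion.lift_fac_assoc, hg]
  haveI : IsImmersion (j ≫ O.ι ≫ I.subschemeι) := hjm.symm ▸ ‹IsImmersion m›
  haveI : IsImmersion j := IsImmersion.of_comp j (O.ι ≫ I.subschemeι)
  haveI : Surjective j := ⟨fun o => by
    have h1 : I.subschemeι (O.ι o) ∈ Set.range m := by
      rw [hr]
      refine ⟨?_, ?_⟩
      · have := (I.range_subschemeι).le ⟨O.ι o, rfl⟩
        rwa [support_vanishingIdeal] at this
      · have ho : O.ι o ∈ O := o.2
        have ho' : I.subschemeι (O.ι o) ∈ ((I'.support.compl : Y.Opens) : Set Y) := ho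
        rwa [Closeds.coe_compl, support_vanishingIdeal] at ho'
    obtain ⟨w, hw⟩ := h1
    refine ⟨w, O.ι.isOpenEmbedding.injective (I.subschemeι.isEmbedding.injective ?_)⟩
    rw [← hw, ← hjm]
    rfl⟩
  haveI : IsClosedImmersion j :=
    IsClosedImmersion.of_isPreimmersion j (by rw [j.surjective.range_eq]; exact isClosed_univ)
  haveI : IsReduced I.subscheme := Props12.isReduced_subscheme_vanishingIdeal Z
  haveI : IsReduced (O : Scheme.{u}) := isReduced_of_isOpenImmersion O.ι
  exact ⟨j, isIso_of_isClosedImmersion_of_surjective j, hjm⟩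

/-- A chain of closed subsets with smooth reduced strata. -/
inductive Chain {Y B : Scheme.{u}} (π : Y ⟶ B) : Closeds Y → Prop
  | bot : Chain π ⊥
  | step (Z Z' : Closeds Y) : Z' ≤ Z →
      Smooth (strat (Scheme.IdealSheafData.vanishingIdeal Z) (Scheme.IdealSheafData.vanishingIdeal Z') ≫ π) →
      Chain π Z' → Chain π Z

theorem Chain.exists_fin {Y B : Scheme.{u}} {π : Y ⟶ B} {Z : Closeds Y} (h : Chain π Z) :
    ∃ (t : ℕ) (F : Fin (t + 1) → Closeds Y), Antitone F ∧ F 0 = Z ∧ F (Fin.last t) = ⊥ ∧
      ∀ i : Fin t, Smooth (strat (Scheme.IdealSheafData.vanishingIdeal (F i.castSucc))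
        (Scheme.IdealSheafData.vanishingIdeal (F i.succ)) ≫ π) := by
  induction h with
  | bot => exact ⟨0, fun _ => ⊥, antitone_const, rfl, rfl, fun i => i.elim0⟩
  | step Z Z' hle hs _ ih =>
    obtain ⟨t, F, hF, hF0, hFl, hFs⟩ := ih
    subst hF0
    refine ⟨t + 1, Fin.cons Z F, ?_, rfl, ?_, ?_⟩
    · rw [Fin.antitone_iff_succ_le]
      intro i
      cases i using Fin.cases with
      | zero => simpa using hle
      | succ i =>
        rw [← Fin.succ_castSucc, Fin.cons_succ, Fin.cons_succ]
        exact hF i.castSucc_le_succ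
    · rw [← Fin.succ_last, Fin.cons_succ]; exact hFl
    · intro i
      cases i using Fin.cases with
      | zero => exact hs
      | succ i =>
        rw [← Fin.succ_castSucc, Fin.cons_succ, Fin.cons_succ]
        exact hFs i

section Tower

variable {X B B₁ B₂ Y' : Scheme.{u}} (π : X ⟶ B) (a : B₁ ⟶ B) (b : B₂ ⟶ B₁) (c : B₂ ⟶ B)
  (hc : b ≫ a = c) (g : Y' ⟶ pullback π a) (h : Y' ⟶ B₁) (hg : g ≫ pullback.snd π a = h)

/-- A scheme over a base change, further base changed, seen over the original scheme. -/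
noncomputable def tower : pullback h b ⟶ pullback π c :=
  pullback.lift (pullback.fst h b ≫ g ≫ pullback.fst π a) (pullback.snd h b)
    (by simp only [Category.assoc, pullback.condition]; rw [reassoc_of% hg, pullback.condition_assoc, hc])

theorem tower_snd : tower π a b c hc g h hg ≫ pullback.snd π c = pullback.snd h b := pullback.lift_snd _ _ _

theorem tower_fst : tower π a b c hc g h hg ≫ pullback.fst π c = pullback.fst h b ≫ g ≫ pullback.fst π a :=
  pullback.lift_fst _ _ _

theorem isImmersion_tower [IsImmersion g] : IsImmersion (tower π a b c hc g h hg) := by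
  let q : pullback π c ⟶ pullback π a :=
    pullback.lift (pullback.fst π c) (pullback.snd π c ≫ b) (by rw [Category.assoc, hc, pullback.condition])
  have hq : IsPullback (pullback.snd π c) q b (pullback.snd π a) :=
    (IsPullback.of_right (h₁₂ := pullback.fst π a) (h₁₁ := q) (v₁₁ := pullback.snd π c) (h₂₁ := b)
      (by rw [pullback.lift_fst, hc]; exact IsPullback.of_hasPullback π c)
      (pullback.lift_snd _ _ _) (IsPullback.of_hasPullback π a)).flip
  have sq : IsPullback (tower π a b c hc g h hg) (pullback.fst h b) q g :=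
    IsPullback.of_right (h₁₂ := pullback.snd π c) (h₂₂ := pullback.snd π a)
      (by rw [tower_snd, hg]; exact (IsPullback.of_hasPullback h b).flip)
      (pullback.hom_ext (by simp [q, tower_fst]) (by
        simp only [q, Category.assoc, pullback.lift_snd]
        rw [← Category.assoc, tower_snd, hg, pullback.condition])) hq
  exact MorphismProperty.of_isPullback sq.flip ‹IsImmersion g›

theorem range_tower [Surjective b] (hinj : Function.Injective (pullback.fst π c)) :
    Set.range (tower π a b c hc g h hg) = pullback.fst π c ⁻¹' Set.range (g ≫ pullback.fst π a) := by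
  haveI : Surjective (pullback.fst h b) := MorphismProperty.pullback_fst _ _ ‹_›
  ext x
  constructor
  · rintro ⟨w, rfl⟩
    exact ⟨pullback.fst h b w, by rw [← Scheme.Hom.comp_apply, ← tower_fst π a b c hc g h hg]; rfl⟩
  · rintro ⟨y, hy⟩
    obtain ⟨w, rfl⟩ := (pullback.fst h b).surjective y
    refine ⟨w, hinj ?_⟩
    rw [← hy, ← Scheme.Hom.comp_apply, tower_fst]
    rfl

end Tower

variable {k : Type u} [Field k]

theorem injective_fst {X : Scheme.{u}} (π : X ⟶ Spec (CommRingCat.of k)) (k' : Type u) [Field k']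
    [Algebra k k'] [IsPurelyInseparable k k'] : Function.Injective (pullback.fst π (algSpec k k')) := by
  haveI := H8Lim.universallyInjective_algSpec k k'
  haveI : UniversallyInjective (pullback.fst π (algSpec k k')) := MorphismProperty.pullback_fst _ _ ‹_›
  exact Scheme.Hom.injective _

theorem exists_chain {X : Scheme.{u}} (π : X ⟶ Spec (CommRingCat.of k))
    [LocallyOfFiniteType π] [QuasiCompact π] :
    ∀ (Z : Closeds X) (k₁ : Type u) [Field k₁] [Algebra k k₁] [Module.Finite k k₁] [IsPurelyInseparable k k₁],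
      ∃ (k₃ : Type u) (_ : Field k₃) (_ : Algebra k k₃) (_ : Module.Finite k k₃) (_ : IsPurelyInseparable k k₃)
        (_ : k₁ →ₐ[k] k₃),
        Chain (pullback.snd π (algSpec k k₃)) (Z.preimage (pullback.fst π (algSpec k k₃)).continuous) := by
  haveI : CompactSpace X := QuasiCompact.compactSpace_of_compactSpace π
  haveI : IsNoetherian X := { __ := LocallyOfFiniteType.isLocallyNoetherian π }
  intro Z
  induction Z using WellFoundedLT.induction with
  | _ Z ih =>
  intro k₁ _ _ _ _
  rcases eq_or_ne Z ⊥ with rfl | hZ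
  · refine ⟨k₁, inferInstance, inferInstance, inferInstance, inferInstance, AlgHom.id k k₁, ?_⟩
    have : (⊥ : Closeds X).preimage (pullback.fst π (algSpec k k₁)).continuous = ⊥ := by ext; simp
    rw [this]
    exact Chain.bot
  haveI : IsFinite (algSpec k k₁) := (IsFinite.SpecMap_iff _).mpr (by
    simpa [RingHom.finite_algebraMap] using ‹Module.Finite k k₁›)
  haveI : Surjective (algSpec k k₁) := ⟨fun z ↦ ⟨Classical.arbitrary _, Subsingleton.elim _ _⟩⟩
  let p₁ := pullback.fst π (algSpec k k₁)
  haveI : IsFinite p₁ := MorphismProperty.pullback_fst _ _ ‹_›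
  haveI : Surjective p₁ := MorphismProperty.pullback_fst _ _ ‹_›
  let I₁ := Scheme.IdealSheafData.vanishingIdeal (Z.preimage p₁.continuous)
  let f : I₁.subscheme ⟶ Spec (CommRingCat.of k₁) := I₁.subschemeι ≫ pullback.snd π (algSpec k k₁)
  haveI : LocallyOfFiniteType f := inferInstanceAs (LocallyOfFiniteType (_ ≫ _))
  haveI : QuasiCompact f := inferInstanceAs (QuasiCompact (_ ≫ _))
  obtain ⟨U, hU, k₂, _, _, _, _, W, _, i, hi, hisurj, hsm⟩ := RedSmooth.exists_dense_open_smooth_red k₁ f
  letI : Algebra k k₂ := ((algebraMap k₁ k₂).comp (algebraMap k k₁)).toAlgebra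
  haveI : IsScalarTower k k₁ k₂ := IsScalarTower.of_algebraMap_eq' rfl
  haveI : Module.Finite k k₂ := Module.Finite.trans k₁ k₂
  haveI : IsPurelyInseparable k k₂ := IsPurelyInseparable.trans k k₁ k₂
  let e := I₁.subschemeι ≫ p₁
  have he_inj : Function.Injective e := (injective_fst π k₁).comp I₁.subschemeι.isEmbedding.injective
  have he_range : Set.range e = Z := by
    show Set.range (p₁ ∘ I₁.subschemeι) = _
    rw [Set.range_comp, Scheme.IdealSheafData.range_subschemeι, support_vanishingIdeal]
    exact Set.image_preimage_eq _ p₁.surjective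
  let Z' : Closeds X := ⟨e '' (U : Set I₁.subscheme)ᶜ, e.isClosedMap _ U.isOpen.isClosed_compl⟩
  have hZ'Z : Z' ≤ Z := fun x hx => he_range.le (Set.image_subset_range _ _ hx)
  have hdiff : (Z : Set X) \ Z' = e '' (U : Set I₁.subscheme) := by
    rw [← he_range, ← Set.image_univ]
    show e '' Set.univ \ e '' _ = _
    rw [← Set.image_sdiff he_inj]
    simp
  have hlt : Z' < Z := by
    refine lt_of_le_of_ne hZ'Z fun h => ?_
    obtain ⟨z, hz⟩ : (Z : Set X).Nonempty :=
      Set.nonempty_iff_ne_empty.2 fun h0 => hZ (Closeds.ext h0)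
    obtain ⟨y, -⟩ := he_range.ge hz
    haveI : Nonempty I₁.subscheme := ⟨y⟩
    obtain ⟨y, hy⟩ := hU.nonempty
    exact (hdiff.ge ⟨y, hy, rfl⟩).2 (h ▸ he_range.le ⟨y, rfl⟩)
  obtain ⟨k₃, _, _, _, _, φ, hch⟩ := ih Z' hlt k₂
  letI : Algebra k₂ k₃ := φ.toRingHom.toAlgebra
  have h12 : algSpec k₁ k₂ ≫ algSpec k k₁ = algSpec k k₂ := by
    rw [← Spec.map_comp, ← CommRingCat.ofHom_comp, ← IsScalarTower.algebraMap_eq]
  have h23 : algSpec k₂ k₃ ≫ algSpec k k₂ = algSpec k k₃ := by
    rw [← Spec.map_comp, ← CommRingCat.ofHom_comp]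
    congr 2
    exact φ.comp_algebraMap
  haveI : Surjective (algSpec k₁ k₂) := ⟨fun z ↦ ⟨Classical.arbitrary _, Subsingleton.elim _ _⟩⟩
  haveI : Surjective (algSpec k₂ k₃) := ⟨fun z ↦ ⟨Classical.arbitrary _, Subsingleton.elim _ _⟩⟩
  let m₂ : W ⟶ pullback π (algSpec k k₂) :=
    i ≫ tower π (algSpec k k₁) (algSpec k₁ k₂) (algSpec k k₂) h12 (U.ι ≫ I₁.subschemeι) (U.ι ≫ f)
      (Category.assoc _ _ _)
  haveI := isImmersion_tower π (algSpec k k₁) (algSpec k₁ k₂) (algSpec k k₂) h12
    (U.ι ≫ I₁.subschemeι) (U.ι ≫ f) (Category.assoc _ _ _)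
  haveI : IsImmersion m₂ := inferInstanceAs (IsImmersion (_ ≫ _))
  have hm₂ : m₂ ≫ pullback.snd π (algSpec k k₂) = i ≫ pullback.snd _ _ := by
    rw [Category.assoc, tower_snd]
  have hr₂ : Set.range (m₂ ≫ pullback.fst π (algSpec k k₂)) = e '' (U : Set I₁.subscheme) := by
    simp only [m₂, Category.assoc, tower_fst]
    haveI : Surjective (pullback.fst (U.ι ≫ f) (algSpec k₁ k₂)) := MorphismProperty.pullback_fst _ _ ‹_›
    rw [← Category.assoc i, Scheme.Hom.comp_base, TopCat.coe_comp, Function.Surjective.range_comp]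
    · show Set.range (e ∘ U.ι) = _
      rw [Set.range_comp, Scheme.Opens.range_ι]
    · exact (pullback.fst (U.ι ≫ f) (algSpec k₁ k₂)).surjective.comp hisurj
  let m₃ := tower π (algSpec k k₂) (algSpec k₂ k₃) (algSpec k k₃) h23 m₂ (i ≫ pullback.snd _ _) hm₂
  haveI : IsImmersion m₃ := isImmersion_tower π _ _ _ h23 m₂ _ hm₂
  haveI := hsm
  haveI : IsReduced (pullback (i ≫ pullback.snd (U.ι ≫ f) (algSpec k₁ k₂)) (algSpec k₂ k₃)) :=
    AlgSpLib.isReduced_of_smooth' (pullback.snd _ (algSpec k₂ k₃))
  refine ⟨k₃, inferInstance, inferInstance, inferInstance, inferInstance,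
    φ.comp (IsScalarTower.toAlgHom k k₁ k₂),
    Chain.step _ (Z'.preimage (pullback.fst π (algSpec k k₃)).continuous)
      (fun x hx => hZ'Z hx) ?_ hch⟩
  obtain ⟨j, hj, hjm⟩ := exists_iso_strat (Z.preimage (pullback.fst π (algSpec k k₃)).continuous)
    (Z'.preimage (pullback.fst π (algSpec k k₃)).continuous) m₃ (by
      rw [range_tower π _ _ _ h23 m₂ _ hm₂ (injective_fst π k₃), hr₂, ← hdiff]
      rfl)
  rw [← IsIso.inv_hom_id_assoc j (strat _ _), hjm, Category.assoc, tower_snd]
  infer_instance

end Groth.Agent.FlatMor12.SmoothChain
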