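import Groth.Agent.FlatMor12.SmoothCut
import Groth.Agent.FlatMor12.DiffNonzero
import Mathlib.AlgebraicGeometry.Morphisms.Smooth

/-! Smooth divisors through a point of a scheme. -/

universe u

set_option autoImplicit false
set_option backward.isDefEq.respectTransparency false

open AlgebraicGeometry CategoryTheory TensorProduct

namespace Groth.Agent.FlatMor12

open Groth.Agent

theorem smooth_appLE_of_le {X S : Scheme.{u}} (f : X ⟶ S) (W : X.Opens) (hW : Smooth (W.ι ≫ f))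
    {T : S.Opens} (hT : IsAffineOpen T) {U : X.Opens} (hU : IsAffineOpen U) (hUW : U ≤ W)
    (e : U ≤ f ⁻¹ᵁ T) : (f.appLE T U e).hom.Smooth := by
  have hU' : IsAffineOpen (W.ι ⁻¹ᵁ U) := hU.preimage_of_isOpenImmersion W.ι (by rwa [Scheme.Opens.opensRange_ι])
  have e' : W.ι ⁻¹ᵁ U ≤ (W.ι ≫ f) ⁻¹ᵁ T := fun z hz => e hz
  have h := (W.ι ≫ f).smooth_appLE hT hU' e'
  have : IsIso (W.ι.app U) := W.ι.isIso_app U (by rwa [Scheme.Opens.opensRange_ι])
  rw [← Scheme.Hom.appLE_comp_appLE W.ι f T U _ e le_rfl, CommRingCat.hom_comp, ← Scheme.Hom.app_eq_appLE] at h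
  exact ((RingHom.Smooth.respectsIso.cancel_right_isIso _ (W.ι.app U)).1 h)

theorem exists_smooth_effCartier {X S : Scheme.{u}} (f : X ⟶ S) (x : X)
    (W : X.Opens) (hxW : x ∈ W) (hW : Smooth (W.ι ≫ f))
    (h : ↑(X.presheaf.stalk x)) (hm : h ∈ IsLocalRing.maximalIdeal ↑(X.presheaf.stalk x))
    (hd : letI := (f.stalkMap x).hom.toAlgebra
      (1 : IsLocalRing.ResidueField ↑(X.presheaf.stalk x)) ⊗ₜ[↑(X.presheaf.stalk x)]
          (KaehlerDifferential.D ↑(S.presheaf.stalk (f x)) ↑(X.presheaf.stalk x) h) ≠ 0) :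
    ∃ (U : X.Opens) (hU : IsAffineOpen U) (hx : x ∈ U) (h' : Γ(X, U)), X.presheaf.germ U x hx h' = h ∧
      h' ∈ nonZeroDivisors Γ(X, U) ∧
      Smooth (Spec.map (CommRingCat.ofHom (Ideal.Quotient.mk (Ideal.span {h'}))) ≫ hU.fromSpec ≫ f) := by
  obtain ⟨T, hT, hsT, -⟩ := exists_isAffineOpen_mem_and_subset (x := f x) (U := ⊤) trivial
  obtain ⟨V, hxV, b₀, hb₀⟩ := X.presheaf.germ_exist h
  obtain ⟨U, hU, hxU, hUV⟩ := exists_isAffineOpen_mem_and_subset (x := x) (U := V ⊓ W ⊓ f ⁻¹ᵁ T) ⟨⟨hxV, hxW⟩, hsT⟩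
  let e : U ≤ f ⁻¹ᵁ T := fun z hz => (hUV hz).2
  let φ := f.appLE T U e
  let _ : Algebra Γ(S, T) Γ(X, U) := φ.hom.toAlgebra
  have : Algebra.Smooth Γ(S, T) Γ(X, U) := smooth_appLE_of_le f W hW hT hU (fun z hz => (hUV hz).1.2) e
  let b : Γ(X, U) := X.presheaf.map (homOfLE (fun z hz => (hUV hz).1.1 : U ≤ V)).op b₀
  have hbh : X.presheaf.germ U x hxU b = h := by
    rw [← hb₀]; exact TopCat.Presheaf.germ_res_apply _ _ _ _ _
  let _ : Algebra Γ(X, U) (X.presheaf.stalk x) := X.presheaf.algebra_section_stalk ⟨x, hxU⟩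
  have := hU.isLocalization_stalk ⟨x, hxU⟩
  let _ : Algebra Γ(S, T) (S.presheaf.stalk (f x)) := S.presheaf.algebra_section_stalk ⟨f x, hsT⟩
  let _ : Algebra (S.presheaf.stalk (f x)) (X.presheaf.stalk x) := (f.stalkMap x).hom.toAlgebra
  let _ : Algebra Γ(S, T) (X.presheaf.stalk x) :=
    ((algebraMap Γ(X, U) (X.presheaf.stalk x)).comp φ.hom).toAlgebra
  have : IsScalarTower Γ(S, T) Γ(X, U) (X.presheaf.stalk x) := .of_algebraMap_eq' rfl
  have : IsScalarTower Γ(S, T) (S.presheaf.stalk (f x)) (X.presheaf.stalk x) :=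
    .of_algebraMap_eq' (FlatMorSlice.germ_appLE_eq f e hxU)
  let q := (hU.primeIdealOf ⟨x, hxU⟩).asIdeal
  have hbq : b ∈ q := (IsLocalization.AtPrime.to_map_mem_maximal_iff (X.presheaf.stalk x) q b).1
    (by rw [← hbh] at hm; exact hm)
  have hdb : (1 : q.ResidueField) ⊗ₜ[Γ(X, U)] KaehlerDifferential.D Γ(S, T) Γ(X, U) b ≠ 0 :=
    d_ne_zero_of_comap q (IsLocalization.AtPrime.comap_maximalIdeal (X.presheaf.stalk x) q) b
      (by
        have := hd
        rw [← hbh] at this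
        exact this)
  obtain ⟨c, hc, hcL⟩ := exists_smooth_cut (A := Γ(S, T)) q b hbq hdb
  have hxc : x ∈ X.basicOpen c := by
    have h' : hU.primeIdealOf ⟨x, hxU⟩ ∈ hU.fromSpec ⁻¹ᵁ X.basicOpen c := by
      rw [hU.fromSpec_preimage_basicOpen]; exact hc
    have h2 : hU.fromSpec (hU.primeIdealOf ⟨x, hxU⟩) ∈ X.basicOpen c := h'
    rwa [hU.fromSpec_primeIdealOf ⟨x, hxU⟩] at h2
  let U' := X.basicOpen c
  have hU' : IsAffineOpen U' := hU.basicOpen c
  let res : Γ(X, U) ⟶ Γ(X, U') := X.presheaf.map (homOfLE (X.basicOpen_le c)).op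
  let _ : Algebra Γ(X, U) Γ(X, U') := res.hom.toAlgebra
  let φc := f.appLE T U' ((X.basicOpen_le c).trans e)
  let _ : Algebra Γ(S, T) Γ(X, U') := φc.hom.toAlgebra
  have : IsScalarTower Γ(S, T) Γ(X, U) Γ(X, U') := .of_algebraMap_eq' (by
    show φc.hom = res.hom.comp φ.hom
    rw [← CommRingCat.hom_comp, Scheme.Hom.appLE_map])
  have : IsLocalization.Away c Γ(X, U') := hU.isLocalization_basicOpen c
  obtain ⟨hnzd, hsm⟩ := hcL Γ(X, U')
  refine ⟨U', hU', hxc, res b, ?_, hnzd, ?_⟩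
  · rw [← hbh]
    exact TopCat.Presheaf.germ_res_apply _ _ _ _ _
  have hsm' : Algebra.Smooth Γ(S, T) (Γ(X, U') ⧸ Ideal.span {res b}) := hsm
  have hcomp : Spec.map (CommRingCat.ofHom (Ideal.Quotient.mk (Ideal.span {res b}))) ≫ hU'.fromSpec ≫ f =
      Spec.map (CommRingCat.ofHom (algebraMap Γ(S, T) (Γ(X, U') ⧸ Ideal.span {res b}))) ≫ hT.fromSpec := by
    rw [← hT.SpecMap_appLE_fromSpec f hU' ((X.basicOpen_le c).trans e), ← Category.assoc, ← Spec.map_comp]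
    rfl
  rw [hcomp]
  exact MorphismProperty.comp_mem @Smooth _ _
    ((HasRingHomProperty.Spec_iff (P := @Smooth)).2 (RingHom.smooth_algebraMap.2 hsm')) inferInstance

end Groth.Agent.FlatMor12
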