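import Groth.Agent.FlatMor12.StratChain
import Groth.Agent.FlatMor12.AffineStrata
import Groth.Agent.H8Lim.FinLocFreeDescent

/-!
# A finitely presented stratum at each point over which there is a chain with smooth strata
-/

set_option autoImplicit false
set_option backward.isDefEq.respectTransparency false
set_option maxHeartbeats 1000000

universe u

open CategoryTheory CategoryTheory.Limits AlgebraicGeometry TopologicalSpace
open Groth.Agent.FlatMor12.StratChain Groth.Agent.H8Lim

namespace Groth.Agent.FlatMor12.SmoothStratum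

variable {X S : Scheme.{u}}

/-- After a finite locally free radicial surjection of `T` there is a chain with smooth strata. -/
def Good (f : X ⟶ S) (T : Scheme.{u}) (t : T ⟶ S) : Prop :=
  ∃ (V : Scheme.{u}) (v : V ⟶ T), Mor2.IsFinLocFree v ∧ Surjective v ∧ UniversallyInjective v ∧
    ∃ (n : ℕ) (J : Fin (n + 1) → (pullback f (v ≫ t)).IdealSheafData),
      IsStratChain (pullback.snd f (v ≫ t)) J

theorem Good.precomp {f : X ⟶ S} {T T₁ : Scheme.{u}} (a : T₁ ⟶ T) (t : T ⟶ S) (hG : Good f T t) :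
    Good f T₁ (a ≫ t) := by
  obtain ⟨V, v, ⟨h1, h2, h3⟩, hs, hi, n, J, hJ⟩ := hG
  have sv := (IsPullback.of_hasPullback v a)
  refine ⟨_, pullback.snd v a, ⟨MorphismProperty.of_isPullback sv h1, MorphismProperty.of_isPullback sv h2,
    MorphismProperty.of_isPullback sv h3⟩, MorphismProperty.of_isPullback sv hs,
    MorphismProperty.of_isPullback sv hi, n, ?_⟩
  let q : pullback f (pullback.snd v a ≫ a ≫ t) ⟶ pullback f (v ≫ t) :=
    pullback.lift (pullback.fst _ _) (pullback.snd _ _ ≫ pullback.fst v a)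
      (by rw [pullback.condition, Category.assoc, pullback.condition_assoc])
  exact ⟨_, hJ.comap (q := q) (a := pullback.fst v a) (IsPullback.of_right (h₁₂ := pullback.fst f (v ≫ t))
    (by
      rw [pullback.lift_fst, pullback.condition_assoc]
      exact IsPullback.of_hasPullback f (pullback.snd v a ≫ a ≫ t))
    (pullback.lift_snd _ _ _) (IsPullback.of_hasPullback f (v ≫ t)))⟩

theorem exists_good (f : X ⟶ S) [LocallyOfFinitePresentation f] [QuasiCompact f] [QuasiSeparated f] (s : S) :
    ∃ (T : Scheme.{u}) (t : T ⟶ S), IsAffine T ∧ IsImmersion t ∧ LocallyOfFinitePresentation t ∧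
      s ∈ Set.range t ∧ Good f T t := by
  obtain ⟨I, _, _, D, c, hc, hD, e, U, t, _, hU, ht, htc, htt⟩ := H8Lim.exists_immersion_system s
  haveI : ∀ i, IsAffine (D.obj i) := fun i => (ht i).1
  haveI : ∀ {i j : I} (φ : i ⟶ j), IsAffineHom (D.map φ) := fun φ => inferInstance
  let π : f.fiber s ⟶ Spec (CommRingCat.of (S.residueField s)) := f.fiberToSpecResidueField s
  haveI : LocallyOfFiniteType π :=
    inferInstanceAs (LocallyOfFiniteType (pullback.snd f (S.fromSpecResidueField s)))
  haveI : QuasiCompact π := inferInstanceAs (QuasiCompact (pullback.snd f (S.fromSpecResidueField s)))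
  obtain ⟨k', _, _, _, _, -, hch⟩ := SmoothChain.exists_chain π ⊤ (S.residueField s)
  obtain ⟨n, F, hF, hF0, hFl, hFs⟩ := hch.exists_fin
  let Xk := pullback π (algSpec (S.residueField s) k')
  let πk : Xk ⟶ Spec (CommRingCat.of k') := pullback.snd _ _
  haveI : IsLocallyNoetherian Xk := LocallyOfFiniteType.isLocallyNoetherian πk
  let Jk : Fin (n + 1) → Xk.IdealSheafData := fun i => Scheme.IdealSheafData.vanishingIdeal (F i)
  have hJk : IsStratChain πk Jk := by
    refine ⟨fun i j hij => Scheme.IdealSheafData.vanishingIdeal_antimono (hF hij), ?_, ?_,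
      fun i W => ?_, hFs⟩
    · simp only [Jk, hFl, Scheme.IdealSheafData.vanishingIdeal_bot]
    · simp only [Jk, SmoothChain.support_vanishingIdeal, hF0]
      rfl
    · haveI : IsNoetherianRing Γ(Xk, W.1) := IsLocallyNoetherian.component_noetherian W
      exact IsNoetherian.noetherian _
  -- the finite radicial cover on the limit
  let a₀ := algSpec (S.residueField s) k'
  haveI : IsFinite a₀ := (IsFinite.SpecMap_iff _).mpr (by
    simpa [RingHom.finite_algebraMap] using ‹Module.Finite (S.residueField s) k'›)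
  haveI : Flat a₀ := (HasRingHomProperty.Spec_iff (P := @Flat)).2 (RingHom.flat_algebraMap_iff.2 inferInstance)
  haveI : LocallyOfFinitePresentation a₀ := HasRingHomProperty.Spec_iff.2
    (RingHom.finitePresentation_algebraMap.2 (Algebra.FinitePresentation.of_finiteType.1 inferInstance))
  haveI : Surjective a₀ := ⟨fun z => ⟨Classical.arbitrary _, Subsingleton.elim _ _⟩⟩
  haveI : UniversallyInjective a₀ := H8Lim.universallyInjective_algSpec _ _
  let hI : Spec (CommRingCat.of k') ⟶ c.pt := a₀ ≫ inv e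
  haveI : IsFinite hI := inferInstanceAs (IsFinite (_ ≫ _))
  haveI : Flat hI := inferInstanceAs (Flat (_ ≫ _))
  haveI : LocallyOfFinitePresentation hI := inferInstanceAs (LocallyOfFinitePresentation (_ ≫ _))
  haveI : Surjective hI := inferInstanceAs (Surjective (_ ≫ _))
  haveI : UniversallyInjective hI :=
    (MorphismProperty.cancel_right_of_respectsIso @UniversallyInjective a₀ (inv e)).2 ‹_›
  obtain ⟨j₀, V₀, hj₀, qV₀, hl₀, hqc₀, hqs₀, sq₀⟩ := exists_stage_scheme hc hI
  haveI : Subsingleton c.pt := e.homeomorph.injective.subsingleton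
  obtain ⟨d, hd⟩ : ∃ d, ∀ y, hI.finrank y = d := by
    obtain ⟨y₀⟩ : Nonempty c.pt := ⟨(inv e) (IsLocalRing.closedPoint _)⟩
    exact ⟨hI.finrank y₀, fun y => by rw [Subsingleton.elim y y₀]⟩
  obtain ⟨l₁, ψ₁, h₁⟩ := descends_isFinLocFreeOfDeg d D c hc (fun φ => inferInstance) j₀ hj₀ hl₀ hI qV₀ sq₀
    ⟨⟨inferInstance, inferInstance, inferInstance⟩, hd⟩
  obtain ⟨l₂, ψ₂, h₂⟩ := EGA43.Limit.descends_surjective D c hc j₀ hj₀ hl₀ qV₀ hI sq₀ ‹Surjective hI›
  obtain ⟨l₃, ψ₃, h₃⟩ := EGA43.Limit.descends_universallyInjective D c hc j₀ hj₀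
    (inferInstance : LocallyOfFiniteType hj₀) qV₀ hI sq₀ ‹UniversallyInjective hI›
  classical
  obtain ⟨l, hl⟩ := IsCofiltered.inf_objs_exists ({Over.mk ψ₁, Over.mk ψ₂, Over.mk ψ₃} : Finset (Over j₀))
  obtain ⟨b₁⟩ := hl (X := Over.mk ψ₁) (by simp)
  obtain ⟨b₂⟩ := hl (X := Over.mk ψ₂) (by simp)
  obtain ⟨b₃⟩ := hl (X := Over.mk ψ₃) (by simp)
  let hj : pullback hj₀ (D.map l.hom) ⟶ D.obj l.left := pullback.snd hj₀ (D.map l.hom)
  have hjf : Mor2.IsFinLocFree hj :=
    ⟨MorphismProperty.of_isPullback (EGA43.Limit.stage_isPullback D hj₀ b₁) h₁.1.1,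
     MorphismProperty.of_isPullback (EGA43.Limit.stage_isPullback D hj₀ b₁) h₁.1.2.1,
     MorphismProperty.of_isPullback (EGA43.Limit.stage_isPullback D hj₀ b₁) h₁.1.2.2⟩
  have hjs : Surjective hj := MorphismProperty.of_isPullback (EGA43.Limit.stage_isPullback D hj₀ b₂) h₂
  have hji : UniversallyInjective hj :=
    MorphismProperty.of_isPullback (EGA43.Limit.stage_isPullback D hj₀ b₃) h₃
  haveI : IsFinite hj := hjf.1
  haveI : CompactSpace ↥(pullback hj₀ (D.map l.hom)) := QuasiCompact.compactSpace_of_compactSpace hj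
  haveI : QuasiSeparatedSpace ↥(pullback hj₀ (D.map l.hom)) := quasiSeparatedSpace_of_quasiSeparated hj
  have sq : IsPullback (pullback.lift qV₀ (hI ≫ c.π.app l.left) (by rw [Category.assoc, c.w, sq₀.w])) hI hj
      (c.π.app l.left) :=
    IsPullback.of_right (h₁₂ := pullback.fst hj₀ (D.map l.hom))
      (by rw [pullback.lift_fst, c.w]; exact sq₀) (pullback.lift_snd _ _ _) (IsPullback.of_hasPullback _ _)
  let E := stage D hj
  let cE := stageCone hj c _ hI sq
  have hcE : IsLimit cE := isLimitStageCone hj _ hI sq hc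
  haveI : ∀ i, CompactSpace (E.obj i) := fun i => inferInstanceAs (CompactSpace ((stage D hj).obj i))
  haveI : ∀ i, QuasiSeparatedSpace (E.obj i) := fun i =>
    inferInstanceAs (QuasiSeparatedSpace ((stage D hj).obj i))
  haveI : ∀ (i j : Over l.left) (φ : i ⟶ j), IsAffineHom (E.map φ) := fun i j φ =>
    inferInstanceAs (IsAffineHom ((stage D hj).map φ))
  let i₀ : Over l.left := Over.mk (𝟙 l.left)
  let w : E.obj i₀ ⟶ S := stageSnd D hj i₀ ≫ t l.left ≫ U.ι
  have hw : cE.π.app i₀ ≫ w = a₀ ≫ S.fromSpecResidueField s := by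
    show stageProj hj c _ hI sq i₀ ≫ stageSnd D hj i₀ ≫ t l.left ≫ U.ι = _
    rw [stageProj_snd_assoc]
    show (a₀ ≫ inv e) ≫ c.π.app l.left ≫ t l.left ≫ U.ι = _
    rw [htc, Category.assoc, IsIso.inv_hom_id_assoc]
  let g₀ : pullback f w ⟶ E.obj i₀ := pullback.snd f w
  let qX : Xk ⟶ pullback f w := pullback.lift (pullback.fst π a₀ ≫ f.fiberι s) (πk ≫ cE.π.app i₀)
    (by rw [Category.assoc, Category.assoc, hw, f.fiber_fac, pullback.condition_assoc])
  have sqX : IsPullback qX πk g₀ (cE.π.app i₀) :=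
    IsPullback.of_right (h₁₂ := pullback.fst f w)
      (by
        rw [pullback.lift_fst, hw]
        exact (IsPullback.of_hasPullback π a₀).paste_horiz
          (IsPullback.of_hasPullback f (S.fromSpecResidueField s)))
      (pullback.lift_snd _ _ _) (IsPullback.of_hasPullback f w)
  obtain ⟨p, J, hJ⟩ := StratChain.exists_stage (D := E) (c := cE) hcE g₀ sqX Jk hJk
  let T := D.obj p.left.left
  let v : E.obj p.left ⟶ T := stageSnd D hj p.left
  have sv := isPullback_stage D hj p.left
  refine ⟨T, t p.left.left ≫ U.ι, inferInstance, ?_, ?_, ?_, E.obj p.left, v,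
    ⟨MorphismProperty.of_isPullback sv hjf.1, MorphismProperty.of_isPullback sv hjf.2.1,
      MorphismProperty.of_isPullback sv hjf.2.2⟩, MorphismProperty.of_isPullback sv hjs,
    MorphismProperty.of_isPullback sv hji, n, ?_⟩
  · haveI := (ht p.left.left).2.2; infer_instance
  · haveI := (ht p.left.left).2.1; infer_instance
  · refine ⟨c.π.app p.left.left ((inv e) (IsLocalRing.closedPoint _)), ?_⟩
    rw [← Scheme.Hom.comp_apply, htc, Scheme.Hom.comp_apply]
    exact S.fromSpecResidueField_apply s _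
  · have hvw : v ≫ t p.left.left ≫ U.ι = E.map p.hom ≫ w := by
      show v ≫ _ = (stage D hj).map p.hom ≫ stageSnd D hj i₀ ≫ t l.left ≫ U.ι
      rw [stageMap_snd_assoc]
      exact congrArg (stageSnd D hj p.left ≫ ·)
        (((Category.assoc _ _ _).symm.trans (congrArg (· ≫ U.ι) (htt p.hom.left))).symm)
    have sqp : IsPullback (pullback.fst g₀ (E.map p.hom) ≫ pullback.fst f w) (stageSnd E g₀ p) f
        (v ≫ t p.left.left ≫ U.ι) := by
      rw [hvw]
      exact (IsPullback.of_hasPullback g₀ (E.map p.hom)).paste_horiz (IsPullback.of_hasPullback f w)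
    refine ⟨_, hJ.comap (q := sqp.isoPullback.inv) (a := 𝟙 _) (IsPullback.of_horiz_isIso ⟨?_⟩)⟩
    rw [Category.comp_id]
    exact sqp.isoPullback_inv_snd

end Groth.Agent.FlatMor12.SmoothStratum
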