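import Groth.Agent.FlatMor12.SteinGeneral
import Groth.Agent.EGA43.UnibranchFibre.Stein

/-! The Stein factor commutes with base change up to a universal homeomorphism. -/

set_option autoImplicit false
set_option backward.isDefEq.respectTransparency false
set_option linter.style.haveILetI false

universe u

open CategoryTheory CategoryTheory.Limits AlgebraicGeometry

namespace Groth.Agent.FlatMor12.SteinGeneral

open Groth.Agent

/-- An integral morphism through which a geometrically connected morphism factors surjectively is a universal
homeomorphism. -/
theorem isUnivHomeo_of_geometricallyConnected_comp {A B C : Scheme.{u}} (t : A ⟶ B) (g : B ⟶ C)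
    [Surjective t] [IsIntegralHom g] [GeometricallyConnected (t ≫ g)] : FlatMor.IsUnivHomeo g := by
  haveI : Surjective g := Surjective.of_comp t g
  haveI : UniversallyInjective g := ⟨fun {P Z} i₁ j q h a b hab => by
    let r := Z.fromSpecResidueField (q a)
    have ha : q a ∈ Set.range r := by rw [Scheme.range_fromSpecResidueField]; rfl
    obtain ⟨a', ha'⟩ : a ∈ Set.range (pullback.fst q r) := by rw [Scheme.Pullback.range_fst]; exact ha
    obtain ⟨b', hb'⟩ : b ∈ Set.range (pullback.fst q r) := by
      rw [Scheme.Pullback.range_fst]; exact (congrArg (· ∈ Set.range r) hab).mp ha
    let e := (IsPullback.of_hasPullback q r).paste_horiz h.flip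
    haveI : Subsingleton ↥(pullback g (r ≫ j)) := by
      haveI : ConnectedSpace ↥(pullback t (pullback.fst g (r ≫ j))) := by
        have e2 := (IsPullback.of_hasPullback t (pullback.fst g (r ≫ j))).paste_vert
          (IsPullback.of_hasPullback g (r ≫ j))
        exact GeometricallyConnected.geometrically_connectedSpace (f := t ≫ g) _ _ _ e2
      haveI : ConnectedSpace ↥(pullback g (r ≫ j)) :=
        (pullback.snd t (pullback.fst g (r ≫ j))).surjective.connectedSpace
          (pullback.snd t (pullback.fst g (r ≫ j))).continuous
      exact EGA43.UnibranchFibre.subsingleton_of_isIntegralHom (pullback.snd g (r ≫ j))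
    rw [← ha', ← hb']
    exact congrArg _ (e.isoPullback.hom.homeomorph.injective (Subsingleton.elim _ _))⟩
  exact UnivHomeo.isUnivHomeo_of_integral_univInjective_surjective g

theorem isUnivHomeo_normalizationPullback {X S T : Scheme.{u}} (f : X ⟶ S) [IsProper f] (g : T ⟶ S) :
    FlatMor.IsUnivHomeo (f.normalizationPullback g) := by
  haveI : IsProper (f.toNormalization ≫ f.fromNormalization) := by
    rw [f.toNormalization_fromNormalization]; infer_instance
  haveI : IsProper f.toNormalization := IsProper.of_comp f.toNormalization f.fromNormalization
  haveI : GeometricallyConnected f.toNormalization :=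
    geometricallyConnected_of_isIso_app _ (FlatMorStein.isIso_toNormalization_app f)
  let fT := pullback.snd f g
  haveI : IsProper fT := MorphismProperty.pullback_snd _ _ ‹IsProper f›
  let t := fT.toNormalization
  haveI : UniversallyClosed t := by
    haveI : UniversallyClosed (t ≫ fT.fromNormalization) := by
      rw [show t ≫ fT.fromNormalization = fT from fT.toNormalization_fromNormalization]; infer_instance
    exact UniversallyClosed.of_comp_of_isSeparated t fT.fromNormalization
  haveI : Surjective t := ⟨fun z => by
    have h := (Scheme.Hom.denseRange t).closure_eq
    rw [t.isClosedMap.isClosed_range.closure_eq] at h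
    exact h.ge (Set.mem_univ z)⟩
  haveI : IsIntegralHom (f.normalizationPullback g) := by
    haveI : IsIntegralHom (f.normalizationPullback g ≫ pullback.snd f.fromNormalization g) := by
      rw [f.normalizationPullback_snd]; infer_instance
    exact IsIntegralHom.of_comp (f.normalizationPullback g) (pullback.snd f.fromNormalization g)
  have hsq : IsPullback (pullback.fst f g) (t ≫ f.normalizationPullback g) f.toNormalization
      (pullback.fst f.fromNormalization g) := by
    refine IsPullback.of_bot ?_ ?_ (IsPullback.of_hasPullback f.fromNormalization g)
    · rw [f.toNormalization_fromNormalization, Category.assoc, f.normalizationPullback_snd,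
        show t ≫ fT.fromNormalization = fT from fT.toNormalization_fromNormalization]
      exact IsPullback.of_hasPullback f g
    · rw [Category.assoc]
      exact (f.toNormalization_normalizationPullback_fst g).symm
  haveI : GeometricallyConnected (t ≫ f.normalizationPullback g) :=
    MorphismProperty.of_isPullback (P := @GeometricallyConnected) hsq inferInstance
  exact isUnivHomeo_of_geometricallyConnected_comp t _

end Groth.Agent.FlatMor12.SteinGeneral
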