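import Groth.Agent.FlatMor12.SteinBaseChange
import Groth.Agent.Coherent.NormalPush
import Mathlib.FieldTheory.PurelyInseparable.Basic
import Mathlib.FieldTheory.IsAlgClosed.AlgebraicClosure

/-! Geometric connectedness of a proper scheme over a field via its ring of global functions. -/

set_option autoImplicit false
set_option backward.isDefEq.respectTransparency false
set_option linter.style.haveILetI false

universe u

open CategoryTheory CategoryTheory.Limits AlgebraicGeometry

namespace Groth.Agent.FlatMor12.SteinGeneral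

open Groth.Agent

/-- Geometrically connected followed by a universal homeomorphism is geometrically connected. -/
theorem geometricallyConnected_comp_univHomeo {A B C : Scheme.{u}} (t : A ⟶ B) (n : B ⟶ C)
    [GeometricallyConnected t] (hn : FlatMor.IsUnivHomeo n) : GeometricallyConnected (t ≫ n) := by
  refine ⟨fun K _ y P a b H => ?_⟩
  let m : P ⟶ pullback n y := pullback.lift (a ≫ t) b (by rw [Category.assoc]; exact H.w)
  have hm : IsPullback a m t (pullback.fst n y) := by
    refine IsPullback.of_bot ?_ (pullback.lift_fst _ _ _).symm (IsPullback.of_hasPullback n y)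
    rw [show m ≫ pullback.snd n y = b from pullback.lift_snd _ _ _]
    exact H
  have hh : IsHomeomorph (pullback.snd n y) := hn _ _ _ (IsPullback.of_hasPullback n y).flip
  haveI : Subsingleton ↥(pullback n y) := hh.injective.subsingleton
  obtain ⟨w⟩ : Nonempty ↥(pullback n y) :=
    ⟨(hh.surjective (IsLocalRing.closedPoint K : PrimeSpectrum K)).choose⟩
  haveI : GeometricallyConnected m := MorphismProperty.of_isPullback (P := @GeometricallyConnected) hm inferInstance
  exact connectedSpace_iff_univ.2 (by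
    have h1 := m.isConnected_preimage_singleton w
    rwa [Set.eq_univ_of_forall (s := m ⁻¹' {w}) fun p => Subsingleton.elim (m p) w] at h1)

theorem geometricallyConnected_iff_ring {k : Type u} [Field k] {X : Scheme.{u}}
    (f : X ⟶ Spec (CommRingCat.of k)) [IsProper f] :
    GeometricallyConnected f ↔
      FlatMor.IsUnivHomeo (Spec.map (CommRingCat.ofHom
        (f.appTop.hom.comp (Scheme.ΓSpecIso (CommRingCat.of k)).inv.hom))) := by
  haveI : IsProper (f.toNormalization ≫ f.fromNormalization) := by
    rw [f.toNormalization_fromNormalization]; infer_instance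
  haveI : IsProper f.toNormalization := IsProper.of_comp f.toNormalization f.fromNormalization
  haveI : GeometricallyConnected f.toNormalization :=
    geometricallyConnected_of_isIso_app _ (FlatMorStein.isIso_toNormalization_app f)
  haveI : IsAffine f.normalization := isAffine_of_isAffineHom f.fromNormalization
  haveI : IsIso f.toNormalization.appTop := FlatMorStein.isIso_toNormalization_app f ⊤
  let ι := f.normalization.isoSpec ≪≫ Scheme.Spec.mapIso (asIso f.toNormalization.appTop).symm.op
  have e : f.fromNormalization = ι.hom ≫ Spec.map (CommRingCat.ofHom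
      (f.appTop.hom.comp (Scheme.ΓSpecIso (CommRingCat.of k)).inv.hom)) := by
    have h1 : f.toNormalization.appTop ≫ 𝟙 _ = f.toNormalization.appTop := Category.comp_id _
    simp only [ι, Iso.trans_hom, Functor.mapIso_hom, Iso.op_hom, Iso.symm_hom, asIso_inv, Scheme.Spec_map,
      Quiver.Hom.unop_op, Category.assoc]
    rw [← Spec.map_comp]
    have h2 : CommRingCat.ofHom (f.appTop.hom.comp (Scheme.ΓSpecIso (CommRingCat.of k)).inv.hom) ≫
        inv f.toNormalization.appTop = (Scheme.ΓSpecIso (CommRingCat.of k)).inv ≫ f.fromNormalization.appTop := by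
      rw [IsIso.comp_inv_eq, Category.assoc, ← Scheme.Hom.comp_appTop, f.toNormalization_fromNormalization]
      rfl
    rw [h2, Spec.map_comp, Scheme.isoSpec_hom, ← Category.assoc, ← Scheme.toSpecΓ_naturality,
      Category.assoc, toSpecΓ_SpecMap_ΓSpecIso_inv, Category.comp_id]
  haveI : FlatMor.IsUnivHomeo.{u}.RespectsIso := by unfold FlatMor.IsUnivHomeo; infer_instance
  rw [← (FlatMor.IsUnivHomeo.{u}).cancel_left_of_respectsIso ι.hom, ← e]
  constructor
  · intro hf
    exact EGA43.UnibranchFibre.isUnivHomeo_fromNormalization f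
  · intro hn
    have h := geometricallyConnected_comp_univHomeo f.toNormalization f.fromNormalization hn
    rwa [f.toNormalization_fromNormalization] at h

theorem geometricallyConnected_iff_local {k : Type u} [Field k] {X : Scheme.{u}}
    (f : X ⟶ Spec (CommRingCat.of k)) [IsProper f] :
    GeometricallyConnected f ↔
      (IsLocalRing Γ(X, ⊤) ∧ ringKrullDim Γ(X, ⊤) = 0 ∧
        ∀ a : Γ(X, ⊤), ∃ (n : ℕ) (c : k),
          IsNilpotent (a ^ (ringExpChar k ^ n) - f.appTop.hom ((Scheme.ΓSpecIso (CommRingCat.of k)).inv.hom c))) := by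
  rw [geometricallyConnected_iff_ring f, UnivHomeo.isUnivHomeo_iff]
  set φ : k →+* Γ(X, ⊤) := f.appTop.hom.comp (Scheme.ΓSpecIso (CommRingCat.of k)).inv.hom with hφ
  letI : Algebra k Γ(X, ⊤) := φ.toAlgebra
  have hfin : φ.Finite := (Coherent.finite_app_of_isProper f (isAffineOpen_top _)).comp
    (RingHom.Finite.of_surjective _ (Scheme.ΓSpecIso (CommRingCat.of k)).symm.commRingCatIsoToRingEquiv.surjective)
  haveI : Module.Finite k Γ(X, ⊤) := hfin
  haveI : IsArtinianRing Γ(X, ⊤) := IsArtinianRing.of_finite k Γ(X, ⊤)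
  haveI : ExpChar k (ringExpChar k) := inferInstance
  constructor
  · rintro ⟨-, hrad, hker⟩
    haveI : Nontrivial Γ(X, ⊤) := by
      by_contra hne
      rw [not_nontrivial_iff_subsingleton] at hne
      obtain ⟨n, hn⟩ := hker (show (1 : k) ∈ RingHom.ker φ from RingHom.mem_ker.2 (Subsingleton.elim _ _))
      exact one_ne_zero (by rwa [one_pow] at hn)
    have hins : ∀ (P : Ideal Γ(X, ⊤)) [P.IsMaximal], IsPurelyInseparable k (Γ(X, ⊤) ⧸ P) := by
      intro P hP
      letI : Field (Γ(X, ⊤) ⧸ P) := Ideal.Quotient.field P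
      haveI : Algebra.IsAlgebraic k (Γ(X, ⊤) ⧸ P) := Algebra.IsAlgebraic.of_finite k _
      refine (isPurelyInseparable_iff_finSepDegree_eq_one k (Γ(X, ⊤) ⧸ P)).2 ?_
      haveI : Subsingleton (Field.Emb k (Γ(X, ⊤) ⧸ P)) := ⟨fun s₁ s₂ => by
        have h := hrad (AlgebraicClosure (Γ(X, ⊤) ⧸ P)) (s₁.toRingHom.comp (Ideal.Quotient.mk P))
          (s₂.toRingHom.comp (Ideal.Quotient.mk P)) (RingHom.ext fun c => (s₁.commutes c).trans (s₂.commutes c).symm)
        exact AlgHom.ext fun x => by
          obtain ⟨x, rfl⟩ := Ideal.Quotient.mk_surjective x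
          exact RingHom.congr_fun h x⟩
      exact Nat.card_eq_one_iff_unique.2 ⟨inferInstance, inferInstance⟩
    have huniq : ∀ P Q : Ideal Γ(X, ⊤), P.IsMaximal → Q.IsMaximal → P = Q := by
      intro P Q hP hQ
      have key : ∀ {P Q : Ideal Γ(X, ⊤)}, P.IsMaximal → Q.IsMaximal → P ≤ Q := by
        intro P Q hP hQ a ha
        letI : Field (Γ(X, ⊤) ⧸ P) := Ideal.Quotient.field P
        letI : Field (Γ(X, ⊤) ⧸ Q) := Ideal.Quotient.field Q
        let L := AlgebraicClosure k
        haveI : Algebra.IsAlgebraic k (Γ(X, ⊤) ⧸ P) := Algebra.IsAlgebraic.of_finite k _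
        haveI : Algebra.IsAlgebraic k (Γ(X, ⊤) ⧸ Q) := Algebra.IsAlgebraic.of_finite k _
        let s₁ : Γ(X, ⊤) ⧸ P →ₐ[k] L := IsAlgClosed.lift
        let s₂ : Γ(X, ⊤) ⧸ Q →ₐ[k] L := IsAlgClosed.lift
        have h := hrad L (s₁.toRingHom.comp (Ideal.Quotient.mk P))
          (s₂.toRingHom.comp (Ideal.Quotient.mk Q)) (RingHom.ext fun c => (s₁.commutes c).trans (s₂.commutes c).symm)
        have h1 : s₂ (Ideal.Quotient.mk Q a) = 0 :=
          (RingHom.congr_fun h a).symm.trans (by simp [Ideal.Quotient.eq_zero_iff_mem.2 ha])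
        exact Ideal.Quotient.eq_zero_iff_mem.1 (s₂.toRingHom.injective (h1.trans (map_zero _).symm))
      exact le_antisymm (key hP hQ) (key hQ hP)
    haveI hloc : IsLocalRing Γ(X, ⊤) := by
      obtain ⟨M, hM⟩ := Ideal.exists_maximal Γ(X, ⊤)
      exact IsLocalRing.of_unique_max_ideal ⟨M, hM, fun Q hQ => huniq Q M hQ hM⟩
    refine ⟨hloc, ringKrullDimZero_iff_ringKrullDim_eq_zero.1 inferInstance, fun a => ?_⟩
    haveI := hins (IsLocalRing.maximalIdeal Γ(X, ⊤))
    letI : Field (Γ(X, ⊤) ⧸ IsLocalRing.maximalIdeal Γ(X, ⊤)) := Ideal.Quotient.field _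
    obtain ⟨n, c, hc⟩ := IsPurelyInseparable.pow_mem k (ringExpChar k)
      (Ideal.Quotient.mk (IsLocalRing.maximalIdeal Γ(X, ⊤)) a)
    refine ⟨n, c, ?_⟩
    have hmem : a ^ (ringExpChar k ^ n) - φ c ∈ IsLocalRing.maximalIdeal Γ(X, ⊤) := by
      rw [← Ideal.Quotient.eq_zero_iff_mem, map_sub, map_pow, ← hc]
      exact sub_self _
    have hle : IsLocalRing.maximalIdeal Γ(X, ⊤) ≤ nilradical Γ(X, ⊤) := by
      rw [nilradical_eq_sInf]
      exact le_sInf fun Q (hQ : Q.IsPrime) =>
        (IsLocalRing.eq_maximalIdeal (IsArtinianRing.isMaximal_of_isPrime Q)).ge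
    exact hle hmem
  · rintro ⟨hloc, -, hpow⟩
    refine ⟨hfin.to_isIntegral, fun K _ g₁ g₂ hg => RingHom.ext fun a => ?_, ?_⟩
    · obtain ⟨n, c, hc⟩ := hpow a
      have h : ∀ g : Γ(X, ⊤) →+* K, g a ^ (ringExpChar k ^ n) = g (φ c) := fun g => by
        have h0 := (hc.map g).eq_zero
        rw [map_sub, map_pow, sub_eq_zero] at h0
        exact h0
      haveI : ExpChar K (ringExpChar k) := expChar_of_injective_ringHom (g₁.comp φ).injective _
      refine iterateFrobenius_inj K (ringExpChar k) n ?_
      rw [iterateFrobenius_def, iterateFrobenius_def, h, h]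
      exact RingHom.congr_fun hg c
    · rw [(RingHom.injective_iff_ker_eq_bot φ).1 φ.injective]
      exact bot_le

end Groth.Agent.FlatMor12.SteinGeneral
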