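import Groth.Prelude.Def_MoreMor
import Groth.Agent.EGA43.UnibranchFibre.Main
import Groth.Agent.FlatMorStein.UnivClosed
import Groth.Agent.FlatMorGeomIrr.GeomFibre
import Groth.Agent.FlatMorGeomIrr.Affine

/-!
# Connected fibres over an arbitrary base when `f_* O_X = O_Y`

After flat base change to a strict henselization `H` of a local ring the global functions are still `H`,
so the total space and hence (henselian proper base change for clopens) the closed fibre is connected.
-/

set_option autoImplicit false
set_option backward.isDefEq.respectTransparency false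
set_option linter.style.haveILetI false

universe u

open CategoryTheory CategoryTheory.Limits AlgebraicGeometry TopologicalSpace IsLocalRing Opposite

namespace Groth.Agent.FlatMor12.SteinGeneral

open Groth.Agent HenselLib

/-- A scheme whose ring of global functions is local is connected. -/
theorem connectedSpace_of_isLocalRing (X : Scheme.{u}) [IsLocalRing Γ(X, ⊤)] : ConnectedSpace ↥X := by
  haveI : Nonempty ↥X := by
    by_contra h
    rw [not_nonempty_iff] at h
    exact one_ne_zero (α := Γ(X, ⊤)) (Subsingleton.elim _ _)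
  suffices PreconnectedSpace ↥X from ⟨‹_›⟩
  rw [preconnectedSpace_iff_clopen]
  intro s hs
  by_contra hne
  simp only [not_or] at hne
  let U : Bool → X.Opens := fun b => cond b ⟨s, hs.isOpen⟩ ⟨sᶜ, hs.isClosed.isOpen_compl⟩
  let sf : ∀ b, Γ(X, U b) := fun b => Bool.rec (motive := fun b => Γ(X, U b)) 0 1 b
  have hsub : ∀ W : X.Opens, W = ⊥ → Subsingleton Γ(X, W) := by
    rintro _ rfl
    exact CommRingCat.subsingleton_of_isTerminal X.sheaf.isTerminalOfEmpty
  have hcomp : TopCat.Presheaf.IsCompatible X.sheaf.1 U sf := by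
    have hdisj : U true ⊓ U false = ⊥ := Opens.ext (Set.inter_compl_self s)
    rintro (_ | _) (_ | _)
    · rfl
    · exact @Subsingleton.elim _ (hsub _ (inf_comm (U false) (U true) ▸ hdisj)) _ _
    · exact @Subsingleton.elim _ (hsub _ hdisj) _ _
    · rfl
  obtain ⟨e, he, -⟩ := X.sheaf.existsUnique_gluing' U ⊤ (fun b => homOfLE le_top)
    (fun x _ => by
      by_cases hx : x ∈ s
      · exact Opens.mem_iSup.2 ⟨true, hx⟩
      · exact Opens.mem_iSup.2 ⟨false, hx⟩) sf hcomp
  have key : ∀ b, ∀ a : Γ(X, ⊤), IsUnit a →
      X.presheaf.map (homOfLE (le_top : U b ≤ ⊤)).op a = 0 → ¬ Nonempty ↥(U b) := by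
    intro b a ha h0 hn
    haveI : Nontrivial Γ(X, U b) := (X.presheaf.germ _ hn.some.1 hn.some.2).hom.domain_nontrivial
    exact (h0 ▸ ha.map (X.presheaf.map (homOfLE (le_top : U b ≤ ⊤)).op).hom).ne_zero rfl
  let e' : Γ(X, ⊤) := e
  rcases IsLocalRing.isUnit_or_isUnit_one_sub_self e' with h | h
  · obtain ⟨x, hx⟩ : (sᶜ).Nonempty := Set.nonempty_compl.2 hne.2
    exact key false _ h (he false) ⟨x, hx⟩
  · obtain ⟨x, hx⟩ : s.Nonempty := Set.nonempty_iff_ne_empty.2 hne.1
    exact key true _ h (by
      rw [map_sub, map_one]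
      exact sub_eq_zero.2 (he true).symm) ⟨x, hx⟩

/-- `f_* O_X = O_Y` for proper `f` gives geometrically connected fibres (any base). -/
theorem geometricallyConnected_of_isIso_app {X Y : Scheme.{u}} (f : X ⟶ Y) [IsProper f]
    (hiso : ∀ V : Y.Opens, IsIso (f.app V)) : GeometricallyConnected f := by
  refine (GeometricallyConnected.iff_geometricallyConnected_fiber f).mpr fun y => ?_
  let A : Type u := Y.presheaf.stalk y
  let H := LocalSH A
  let a := Spec.map (CommRingCat.ofHom (algebraMap A H))
  let g : Spec (CommRingCat.of H) ⟶ Y := a ≫ Y.fromSpecStalk y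
  haveI : Flat a := (HasRingHomProperty.Spec_iff (P := @Flat)).2
    (RingHom.flat_algebraMap_iff.2 (flat_hull (R := A) (K := SepRes A)))
  haveI : Flat (Y.fromSpecStalk y) := Props12.flat_fromSpecStalk y
  haveI : Flat g := inferInstance
  let π := pullback.snd f g
  haveI : IsProper π := MorphismProperty.pullback_snd _ _ ‹IsProper f›
  obtain ⟨_, ⟨V, hV, rfl⟩, hyV, -⟩ :=
    Y.isBasis_affineOpens.exists_subset_of_mem_open (Set.mem_univ y) isOpen_univ
  have hgV : (⊤ : (Spec (CommRingCat.of H)).Opens) ≤ g ⁻¹ᵁ V := fun t _ => by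
    have : Y.fromSpecStalk y (a t) ⤳ y := by
      have h := Set.mem_range_self (f := Y.fromSpecStalk y) (a t)
      rw [Scheme.range_fromSpecStalk] at h
      exact h
    exact this.mem_open V.isOpen hyV
  have hP : IsPullback (pullback.fst f g) π f g := IsPullback.of_hasPullback f g
  have hfV : (⊤ : (pullback f g).Opens) ≤ pullback.fst f g ⁻¹ᵁ (f ⁻¹ᵁ V) := by
    rw [← Scheme.Hom.comp_preimage, pullback.condition, Scheme.Hom.comp_preimage]
    exact fun x _ => hgV trivial
  have hUY : (⊤ : (pullback f g).Opens) = pullback.fst f g ⁻¹ᵁ (f ⁻¹ᵁ V) ⊓ π ⁻¹ᵁ ⊤ :=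
    le_antisymm (le_inf hfV (fun x _ => trivial)) le_top
  have h1 := (isIso_pushoutSection_iff hP hgV (le_refl (f ⁻¹ᵁ V)) hUY).1
    (isIso_pushoutSection_of_isQuasiSeparated_of_flat_right hP hgV (le_refl (f ⁻¹ᵁ V)) hUY hV
      (isAffineOpen_top _) (f.isCompact_preimage hV.isCompact) (f.isQuasiSeparated_preimage hV.isQuasiSeparated))
  haveI : IsIso (f.appLE V (f ⁻¹ᵁ V) le_rfl) := by rw [← Scheme.Hom.app_eq_appLE]; exact hiso V
  haveI hπ : IsIso π.appTop := by
    have := h1.isIso_inr_of_isIso
    convert this using 1
    exact π.app_eq_appLE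
  haveI : IsLocalRing Γ(pullback f g, ⊤) :=
    haveI : Nontrivial Γ(Spec (CommRingCat.of H), ⊤) :=
      (Scheme.ΓSpecIso (CommRingCat.of H)).commRingCatIsoToRingEquiv.toEquiv.nontrivial
    haveI : IsLocalRing Γ(Spec (CommRingCat.of H), ⊤) :=
      IsLocalRing.of_surjective' (Scheme.ΓSpecIso (CommRingCat.of H)).inv.hom
        (ConcreteCategory.bijective_of_isIso (Scheme.ΓSpecIso (CommRingCat.of H)).inv).2
    haveI := (asIso π.appTop).commRingCatIsoToRingEquiv.isLocalRing
    this
  haveI := connectedSpace_of_isLocalRing (pullback f g)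
  let c : ↥(Spec (CommRingCat.of H)) := (closedPoint H : PrimeSpectrum H)
  have hb := S8533.result H π
  haveI : PreconnectedSpace ↥(π.fiber c) := by
    refine ⟨isPreconnected_of_forall_pair fun x _ z _ => ⟨connectedComponent x, Set.subset_univ _,
      mem_connectedComponent, ?_, isPreconnected_connectedComponent⟩⟩
    exact ConnectedComponents.coe_eq_coe'.1 (hb.1 (ConnectedComponents.coe_eq_coe.2
      (by rw [PreconnectedSpace.connectedComponent_eq_univ, PreconnectedSpace.connectedComponent_eq_univ])))
  have hne : Nonempty ↥(π.fiber c) := by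
    let x : ↥(pullback f g) := Classical.arbitrary _
    have hc : (π x) ⤳ c :=
      (PrimeSpectrum.le_iff_specializes (π x : PrimeSpectrum H) (closedPoint H)).1
        (IsLocalRing.le_maximalIdeal (π x : PrimeSpectrum H).2.ne_top)
    obtain ⟨z, hz⟩ := π.isClosedMap.specializingMap.stableUnderSpecialization_range hc ⟨x, rfl⟩
    exact ⟨(π.fiberHomeo c).symm ⟨z, hz⟩⟩
  have hconn' : _root_.IsConnected (π ⁻¹' {c} : Set ↥(pullback f g)) := by
    haveI : ConnectedSpace ↥(π.fiber c) := ⟨hne⟩
    have := isConnected_range (π.fiberι c).continuous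
    rwa [π.range_fiberι] at this
  let r := Spec.map (CommRingCat.ofHom (residue H))
  haveI : IsClosedImmersion r := IsClosedImmersion.spec_of_surjective _ residue_surjective
  have hr : Set.range r = {c} := by
    have h := range_comap_of_surjective _ (residue H) residue_surjective
    rw [IsLocalRing.ker_residue, PrimeSpectrum.zeroLocus_eq_singleton] at h
    exact h
  haveI : ConnectedSpace ↥(pullback π r) := by
    let ee := (pullback.fst π r).isEmbedding.toHomeomorph
    haveI : ConnectedSpace ↥(Set.range (pullback.fst π r)) := by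
      rw [Scheme.Pullback.range_fst, hr]
      exact isConnected_iff_connectedSpace.1 hconn'
    exact ee.symm.surjective.connectedSpace ee.symm.continuous
  haveI : ConnectedSpace ↥(pullback f (r ≫ g)) :=
    let e := (IsPullback.of_hasPullback π r).paste_horiz (IsPullback.of_hasPullback f g)
    e.isoPullback.hom.homeomorph.surjective.connectedSpace e.isoPullback.hom.continuous
  haveI : IsSepClosed (ResidueField H) := (isSepClosure_residueField_localSH (R := A)).sep_closed
  refine EGA43.UnibranchFibre.geometricallyConnected_fibre_of_sepClosed f y (ResidueField H) (r ≫ g) ?_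
  rw [Scheme.Hom.comp_apply, Scheme.Hom.comp_apply]
  have h : a (r (closedPoint (ResidueField H))) = closedPoint (Y.presheaf.stalk y) :=
    (congrArg (PrimeSpectrum.comap (algebraMap A H)) (IsLocalRing.comap_closedPoint (residue H))).trans
      (IsLocalRing.comap_closedPoint (algebraMap A H))
  exact (congrArg (Y.fromSpecStalk y) h).trans Scheme.fromSpecStalk_closedPoint

end Groth.Agent.FlatMor12.SteinGeneral

namespace Groth.Agent.FlatMor12.SteinGeneral

open Groth.Agent

theorem finite_connectedComponents (T : Type u) [TopologicalSpace T] [NoetherianSpace T] :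
    Finite (_root_.ConnectedComponents T) := by
  haveI : Finite (irreducibleComponents T) := NoetherianSpace.finite_irreducibleComponents.to_subtype
  refine Finite.of_surjective
    (fun C : irreducibleComponents T => (ConnectedComponents.mk C.2.1.nonempty.some : _root_.ConnectedComponents T)) ?_
  intro c
  obtain ⟨x, rfl⟩ := ConnectedComponents.surjective_coe c
  refine ⟨⟨irreducibleComponent x, irreducibleComponent_mem_irreducibleComponents x⟩, ?_⟩
  exact ConnectedComponents.coe_eq_coe'.2
    (isIrreducible_irreducibleComponent.isConnected.isPreconnected.subset_connectedComponent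
      mem_irreducibleComponent (isIrreducible_irreducibleComponent (x := x)).nonempty.some_mem)

/-- A scheme integral over a field is totally separated. -/
theorem totallySeparatedSpace_of_isIntegralHom {Ω : Type u} [Field Ω] {Z : Scheme.{u}}
    (q : Z ⟶ Spec (CommRingCat.of Ω)) [IsIntegralHom q] : TotallySeparatedSpace ↥Z := by
  haveI : IsAffine Z := isAffine_of_isAffineHom q
  let φ : Ω →+* Γ(Z, ⊤) := q.appTop.hom.comp (Scheme.ΓSpecIso (CommRingCat.of Ω)).inv.hom
  letI : Algebra Ω Γ(Z, ⊤) := φ.toAlgebra
  haveI : Algebra.IsIntegral Ω Γ(Z, ⊤) := ⟨fun r => RingHom.IsIntegral.trans _ _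
    (RingHom.isIntegral_of_surjective _
      (ConcreteCategory.bijective_of_isIso (Scheme.ΓSpecIso (CommRingCat.of Ω)).inv).2)
    (q.isIntegral_app ⊤ (isAffineOpen_top _)) r⟩
  have hmax : ∀ P : PrimeSpectrum Γ(Z, ⊤), P.asIdeal.IsMaximal := fun P =>
    Ideal.isMaximal_of_isIntegral_of_isMaximal_comap (R := Ω) P.asIdeal
      (by rw [(Ideal.eq_bot_or_top (P.asIdeal.comap (algebraMap Ω Γ(Z, ⊤)))).resolve_right
            (Ideal.comap_ne_top _ P.2.ne_top)]
          exact Ideal.bot_isMaximal)
  have hsep : TotallySeparatedSpace (PrimeSpectrum Γ(Z, ⊤)) := by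
    rw [totallySeparatedSpace_iff_exists_isClopen]
    intro P Q hne
    obtain ⟨a, haP, haQ⟩ : ∃ a, a ∈ P.asIdeal ∧ a ∉ Q.asIdeal :=
      SetLike.not_le_iff_exists.1 fun hle => hne (PrimeSpectrum.ext ((hmax P).eq_of_le Q.2.ne_top hle))
    refine ⟨PrimeSpectrum.zeroLocus {a}, ⟨PrimeSpectrum.isClosed_zeroLocus _, ?_⟩,
      by simpa using haP, by simpa using haQ⟩
    by_cases h0 : IsNilpotent a
    · exact absurd (nilpotent_iff_mem_prime.1 h0 Q.asIdeal Q.2) haQ
    obtain ⟨g, hg, hga⟩ := Algebra.IsIntegral.isIntegral (R := Ω) a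
    obtain ⟨r, hr, hr0⟩ := g.exists_eq_pow_rootMultiplicity_mul_and_not_dvd hg.ne_zero 0
    have hc : IsUnit (algebraMap Ω Γ(Z, ⊤) (r.coeff 0)) := by
      refine IsUnit.map _ (Ne.isUnit fun h => hr0 ?_)
      rw [Polynomial.C_0, sub_zero]
      exact Polynomial.X_dvd_iff.2 h
    have hmul : a ^ g.rootMultiplicity 0 * Polynomial.aeval a r = 0 := by
      have h1 : Polynomial.aeval a g = 0 := hga
      rw [hr] at h1
      simpa using h1
    have hdec : Polynomial.aeval a r =
        a * Polynomial.aeval a r.divX + algebraMap Ω Γ(Z, ⊤) (r.coeff 0) := by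
      have h1 := congrArg (Polynomial.aeval a) (Polynomial.X_mul_divX_add r)
      simp only [map_add, map_mul, Polynomial.aeval_X, Polynomial.aeval_C] at h1
      exact h1.symm
    have hV : PrimeSpectrum.zeroLocus {a} = (PrimeSpectrum.basicOpen (Polynomial.aeval a r) : Set _) := by
      ext S
      simp only [PrimeSpectrum.mem_zeroLocus, Set.singleton_subset_iff, SetLike.mem_coe,
        PrimeSpectrum.mem_basicOpen]
      constructor
      · intro ha hq
        refine S.2.ne_top (Ideal.eq_top_of_isUnit_mem _ ?_ hc)
        rw [hdec] at hq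
        exact (Submodule.add_mem_iff_right _ (Ideal.mul_mem_right _ _ ha)).1 hq
      · intro hq
        have h2 : a ^ g.rootMultiplicity 0 * Polynomial.aeval a r ∈ S.asIdeal := hmul ▸ S.asIdeal.zero_mem
        exact S.2.mem_of_pow_mem _ ((S.2.mem_or_mem h2).resolve_right hq)
    rw [hV]
    exact (PrimeSpectrum.basicOpen _).isOpen
  let e : ↥Z ≃ₜ PrimeSpectrum Γ(Z, ⊤) := Z.isoSpec.hom.homeomorph
  rw [totallySeparatedSpace_iff_exists_isClopen]
  intro x y hxy
  obtain ⟨W, hW, hx, hy⟩ := exists_isClopen_of_totally_separated (α := PrimeSpectrum Γ(Z, ⊤)) (e.injective.ne hxy)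
  exact ⟨e ⁻¹' W, hW.preimage e.continuous, hx, hy⟩

/-- For a proper morphism over any base the geometric fibres have finitely many connected components and
the Stein factorisation computes their number. -/
theorem count_lt_top_and_eq {X S : Scheme.{u}} (f : X ⟶ S) [IsProper f] (y : S) :
    MoreMor.nGeomConnComp f y < ⊤ ∧
      MoreMor.nGeomConnComp f y = MoreMor.nGeomConnComp f.fromNormalization y := by
  have hiso := FlatMorStein.isIso_toNormalization_app f
  haveI : IsProper (f.toNormalization ≫ f.fromNormalization) := by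
    rw [f.toNormalization_fromNormalization]; infer_instance
  haveI : IsProper f.toNormalization := IsProper.of_comp f.toNormalization f.fromNormalization
  haveI : GeometricallyConnected f.toNormalization := geometricallyConnected_of_isIso_app _ hiso
  obtain ⟨Ω, _, _, s, z, hs⟩ := FlatMorGeomIrr.exists_algClosed_point y
  rw [← (FlatMorGeomIrr.counts_eq_geomFiber f s z hs).2,
    ← (FlatMorGeomIrr.counts_eq_geomFiber f.fromNormalization s z hs).2]
  haveI : AlgebraicGeometry.IsNoetherian (pullback f s) := by
    haveI : LocallyOfFiniteType (pullback.snd f s) :=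
      MorphismProperty.pullback_snd _ _ (inferInstance : LocallyOfFiniteType f)
    haveI := LocallyOfFiniteType.isLocallyNoetherian (pullback.snd f s)
    haveI : CompactSpace ↥(pullback f s) := QuasiCompact.compactSpace_of_compactSpace (pullback.snd f s)
    exact { }
  haveI := finite_connectedComponents ↥(pullback f s)
  refine ⟨ENat.card_lt_top.2 inferInstance, ?_⟩
  let m : pullback f s ⟶ pullback f.fromNormalization s :=
    pullback.map _ _ _ _ f.toNormalization (𝟙 _) (𝟙 _) (by simp) (by simp)
  have sq : IsPullback (pullback.fst f s) m f.toNormalization (pullback.fst f.fromNormalization s) := by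
    refine IsPullback.of_bot ?_ (pullback.lift_fst _ _ _).symm (IsPullback.of_hasPullback f.fromNormalization s)
    rw [show m ≫ pullback.snd f.fromNormalization s = pullback.snd f s from
      (pullback.lift_snd _ _ _).trans (Category.comp_id _), f.toNormalization_fromNormalization]
    exact IsPullback.of_hasPullback f s
  haveI : GeometricallyConnected m := MorphismProperty.of_isPullback (P := @GeometricallyConnected) sq inferInstance
  haveI : IsIntegralHom (pullback.snd f.fromNormalization s) :=
    MorphismProperty.pullback_snd _ _ (inferInstance : IsIntegralHom f.fromNormalization)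
  haveI := totallySeparatedSpace_of_isIntegralHom (pullback.snd f.fromNormalization s)
  haveI : Finite ↥(pullback f.fromNormalization s) := by
    refine Finite.of_surjective
      (fun c : _root_.ConnectedComponents ↥(pullback f s) => m (ConnectedComponents.surjective_coe c).choose) ?_
    intro w
    obtain ⟨x, hx⟩ := m.surjective w
    refine ⟨ConnectedComponents.mk x, ?_⟩
    rw [← hx]
    have hmk := (ConnectedComponents.surjective_coe (ConnectedComponents.mk x)).choose_spec
    exact (isPreconnected_connectedComponent.image m m.continuous.continuousOn).subsingleton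
      ⟨_, ConnectedComponents.coe_eq_coe'.1 hmk, rfl⟩ ⟨x, mem_connectedComponent, rfl⟩
  haveI : DiscreteTopology ↥(pullback f.fromNormalization s) := inferInstance
  exact ENat.card_congr (m.connectedComponentsHomeomorph fun _ _ => isOpen_discrete _).toEquiv

end Groth.Agent.FlatMor12.SteinGeneral
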