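import Groth.Prelude.Def_Pi1
import Groth.Agent.FlatMor12.SteinGeneral
import Groth.Agent.H8Lim.BiratNormal
import Groth.Agent.CubeLib.GlobalSec
import Groth.Agent.PicLib.FlatSections
import Groth.Agent.Props12.Stalks

/-! Zariski: proper morphisms onto normal schemes with scalar generic fibre have `f_* O_X = O_S`. -/

set_option autoImplicit false
set_option backward.isDefEq.respectTransparency false
set_option linter.style.haveILetI false

universe u

open CategoryTheory CategoryTheory.Limits AlgebraicGeometry TopologicalSpace Opposite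

namespace Groth.Agent.FlatMor12.SteinNormal

open Groth.Agent

theorem eq_zero_of_germ_genericPoints {X : Scheme.{u}} [IsReduced X] (W : X.Opens) (d : Γ(X, W))
    (h : ∀ (x : X) (hx : x ∈ W), (∀ Z ∈ irreducibleComponents ↥X, x ∈ Z → IsGenericPoint x Z) →
      X.presheaf.germ W x hx d = 0) : d = 0 := by
  rw [← basicOpen_eq_bot_iff]
  refine Opens.ext (Set.eq_empty_iff_forall_notMem.2 fun y hy => ?_)
  have hZ := isIrreducible_irreducibleComponent (x := y)
  have hg := hZ.isGenericPoint_genericPoint isClosed_irreducibleComponent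
  set x := hZ.genericPoint
  have hxy : x ⤳ y := hg.specializes mem_irreducibleComponent
  have hx : x ∈ X.basicOpen d := hxy.mem_open (X.basicOpen d).isOpen hy
  have hxW : x ∈ W := X.basicOpen_le d hx
  rw [Scheme.mem_basicOpen _ _ _ hxW] at hx
  refine hx.ne_zero (h x hxW fun Z hZ' hxZ => ?_)
  have hsub : irreducibleComponent y ⊆ Z := fun w hw =>
    (hg.specializes hw).mem_closed (isClosed_of_mem_irreducibleComponents Z hZ') hxZ
  rwa [← (irreducibleComponent_mem_irreducibleComponents y).eq_of_subset hZ'.1 hsub] at *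

theorem bijective_app_of_affine {X S : Scheme.{u}} (f : X ⟶ S) [IsProper f] [IsIntegral S]
    (hS : Pi1.IsNormalScheme S) [IsReduced X]
    (hgen : ∀ Z ∈ irreducibleComponents ↥X, ∀ x : X, IsGenericPoint x Z → f x = genericPoint ↥S)
    (h0 : Function.Bijective ((f.fiberToSpecResidueField (genericPoint ↥S)).appTop))
    (V : S.Opens) (hV : IsAffineOpen V) : Function.Bijective (f.app V) := by
  rcases isEmpty_or_nonempty V with hVe | hVn
  · haveI : Subsingleton Γ(S, V) := ⟨fun a b =>
      TopCat.Presheaf.section_ext S.sheaf V a b fun x hx => (hVe.false ⟨x, hx⟩).elim⟩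
    haveI : Subsingleton Γ(X, f ⁻¹ᵁ V) := ⟨fun a b =>
      TopCat.Presheaf.section_ext X.sheaf _ a b fun x hx => (hVe.false ⟨f x, hx⟩).elim⟩
    exact ⟨fun a b _ => Subsingleton.elim a b, fun b => ⟨0, Subsingleton.elim _ _⟩⟩
  let η := genericPoint ↥S
  have hηV : η ∈ V := ((genericPoint_spec S).mem_open_set_iff V.isOpen).2 (by
    obtain ⟨⟨y, hy⟩⟩ := hVn; exact ⟨y, trivial, hy⟩)
  let j := S.fromSpecStalk η
  haveI : Flat j := Props12.flat_fromSpecStalk η
  let p := pullback.fst f j
  let q := pullback.snd f j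
  haveI : Flat p := MorphismProperty.pullback_fst _ _ ‹Flat j›
  let R := Spec.map (S.residue η)
  haveI : IsIso (S.residue η) := by
    rw [ConcreteCategory.isIso_iff_bijective]
    refine ⟨RingHom.injective (R := S.functionField) (S.residue η).hom, S.residue_surjective η⟩
  have hRj : R ≫ j = S.fromSpecResidueField η := rfl
  haveI : IsIso R := inferInstanceAs (IsIso (Spec.map (S.residue η)))
  haveI : QuasiCompact (f.fiberToSpecResidueField η) := inferInstance
  haveI : IsProper (f.fiberToSpecResidueField η) := MorphismProperty.pullback_snd _ _ ‹IsProper f›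
  haveI : CompactSpace ↥(f.fiber η) := QuasiCompact.compactSpace_of_compactSpace (f.fiberToSpecResidueField η)
  haveI : QuasiSeparatedSpace ↥(f.fiber η) := quasiSeparatedSpace_of_quasiSeparated (f.fiberToSpecResidueField η)
  have hq : Function.Bijective q.appTop := by
    let l : pullback f j ⟶ f.fiber η := pullback.lift p (q ≫ inv R) (by
      rw [← hRj, Category.assoc, IsIso.inv_hom_id_assoc]
      exact pullback.condition)
    haveI : Flat (inv R) := inferInstance
    haveI : IsIso (inv R) := inferInstance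
    obtain ⟨φ, hφ⟩ := Spec.map_surjective (inv R)
    haveI : Flat (Spec.map φ) := hφ ▸ inferInstance
    refine PicLib.bijective_appTop_of_isPullback l q (f.fiberToSpecResidueField η) (Spec.map φ) ?_ h0
    refine IsPullback.of_right ?_ ?_ (IsPullback.of_hasPullback f (S.fromSpecResidueField η))
    · rw [show l ≫ pullback.fst f (S.fromSpecResidueField η) = p from pullback.lift_fst _ _ _, hφ, ← hRj,
        IsIso.inv_hom_id_assoc]
      exact IsPullback.of_hasPullback f j
    · rw [hφ]; exact pullback.lift_snd _ _ _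
  have hjV : (⊤ : (Spec (S.presheaf.stalk η)).Opens) ≤ j ⁻¹ᵁ V := fun z _ => by
    have h : j z ⤳ η := by
      have h' := Set.mem_range_self (f := j) z
      rw [Scheme.range_fromSpecStalk] at h'
      exact h'
    exact h.mem_open V.isOpen hηV
  have hpV : (⊤ : (pullback f j).Opens) ≤ p ⁻¹ᵁ (f ⁻¹ᵁ V) := by
    rw [← Scheme.Hom.comp_preimage, pullback.condition, Scheme.Hom.comp_preimage]
    exact fun z _ => hjV trivial
  let γ : Γ(S, V) ⟶ S.presheaf.stalk η := S.presheaf.germ V η hηV
  let E : S.presheaf.stalk η ⟶ Γ(pullback f j, ⊤) := (Scheme.ΓSpecIso (S.presheaf.stalk η)).inv ≫ q.appTop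
  have hE : Function.Bijective E.hom := by
    simp only [E, CommRingCat.hom_comp, RingHom.coe_comp]
    exact hq.comp (ConcreteCategory.bijective_of_isIso (Scheme.ΓSpecIso (S.presheaf.stalk η)).inv)
  let ρ : Γ(X, f ⁻¹ᵁ V) ⟶ Γ(pullback f j, ⊤) := p.appLE (f ⁻¹ᵁ V) ⊤ hpV
  have hcomm : f.app V ≫ ρ = γ ≫ E := by
    have h2 : j.appLE V ⊤ hjV = γ ≫ (Scheme.ΓSpecIso (S.presheaf.stalk η)).inv := by
      rw [Scheme.Hom.appLE, Scheme.fromSpecStalk_app (hxU := hηV), Category.assoc, Category.assoc,
        ← Functor.map_comp]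
      rw [Subsingleton.elim ((homOfLE _).op ≫ (homOfLE hjV).op) (𝟙 (op (⊤ : (Spec (S.presheaf.stalk η)).Opens))),
        CategoryTheory.Functor.map_id, Category.comp_id]
    rw [show γ ≫ E = (γ ≫ (Scheme.ΓSpecIso (S.presheaf.stalk η)).inv) ≫ q.appTop from (Category.assoc _ _ _).symm,
      ← h2, Scheme.Hom.app_eq_appLE, Scheme.Hom.appLE_comp_appLE, Scheme.Hom.appTop, Scheme.Hom.app_eq_appLE]
    erw [Scheme.Hom.appLE_comp_appLE]
    congr 1
    exact pullback.condition
  have hcomm' : ∀ a, ρ (f.app V a) = E (γ a) := fun a => congr($hcomm a)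
  letI : Algebra Γ(S, V) (S.presheaf.stalk η) := γ.hom.toAlgebra
  haveI : IsFractionRing Γ(S, V) (S.presheaf.stalk η) :=
    functionField_isFractionRing_of_isAffineOpen S V hV
  haveI : IsIntegrallyClosed Γ(S, V) :=
    H8Lim.isIntegrallyClosed_of_isAffineOpen (fun y => (hS y).2) hV
  have hγ : Function.Injective γ.hom := IsFractionRing.injective Γ(S, V) (S.presheaf.stalk η)
  refine ⟨fun a b hab => hγ (hE.1 (by rw [← hcomm', ← hcomm', hab])), fun s => ?_⟩
  obtain ⟨c, hc⟩ := hE.2 (ρ s)
  obtain ⟨P, hPm, hP⟩ := FlatMorStein.isIntegral_app_of_universallyClosed f hV s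
  have hci : _root_.IsIntegral Γ(S, V) c := by
    refine ⟨P, hPm, hE.1 ?_⟩
    rw [map_zero]
    have h1 := congrArg ρ.hom hP
    rw [Polynomial.hom_eval₂, map_zero] at h1
    show E.hom (P.eval₂ γ.hom c) = 0
    rw [Polynomial.hom_eval₂, hc]
    rw [show E.hom.comp γ.hom = ρ.hom.comp (f.app V).hom from RingHom.ext fun a => (hcomm' a).symm]
    exact h1
  obtain ⟨a, ha⟩ := IsIntegrallyClosed.isIntegral_iff.1 hci
  refine ⟨a, sub_eq_zero.1 (eq_zero_of_germ_genericPoints _ _ fun x hxV hx => ?_)⟩
  have hd : ρ (f.app V a - s) = 0 := by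
    rw [map_sub, hcomm', show γ a = c from ha]
    exact sub_eq_zero.2 hc
  have hfx : f x = η :=
    hgen _ (irreducibleComponent_mem_irreducibleComponents x) x
      (hx _ (irreducibleComponent_mem_irreducibleComponents x) mem_irreducibleComponent)
  obtain ⟨x', rfl⟩ : x ∈ Set.range p := by
    rw [Scheme.Pullback.range_fst]
    show f x ∈ Set.range j
    rw [Scheme.range_fromSpecStalk, hfx]
    exact specializes_rfl
  have hinj : Function.Injective (p.stalkMap x').hom := by
    algebraize [(p.stalkMap x').hom]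
    have : Module.FaithfullyFlat (X.presheaf.stalk (p x')) ((pullback f j).presheaf.stalk x') :=
      @Module.FaithfullyFlat.of_flat_of_isLocalHom _ _ _ _ _ _ _ (Flat.stalkMap p x') (p.toLRSHom.prop x')
    exact ‹RingHom.FaithfullyFlat _›.injective
  apply hinj
  rw [map_zero]
  erw [Scheme.Hom.germ_stalkMap_apply]
  have h2 := congrArg ((pullback f j).presheaf.germ ⊤ x' trivial) hd
  rw [map_zero] at h2
  simp only [ρ, Scheme.Hom.appLE, CommRingCat.comp_apply] at h2
  rwa [TopCat.Presheaf.germ_res_apply] at h2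

theorem isIso_app_and_geometricallyConnected {X S : Scheme.{u}} (f : X ⟶ S) [IsProper f] [IsIntegral S]
    (hS : Pi1.IsNormalScheme S) [IsReduced X]
    (hgen : ∀ Z ∈ irreducibleComponents ↥X, ∀ x : X, IsGenericPoint x Z → f x = genericPoint ↥S)
    (h0 : Function.Bijective ((f.fiberToSpecResidueField (genericPoint ↥S)).appTop)) :
    (∀ U : S.Opens, IsIso (f.app U)) ∧ GeometricallyConnected f := by
  have h : ∀ U : S.Opens, IsIso (f.app U) := fun U => (ConcreteCategory.isIso_iff_bijective _).2
    (CubeLib.bijective_app_of_affine f (fun W hW => bijective_app_of_affine f hS hgen h0 W hW) U)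
  exact ⟨h, SteinGeneral.geometricallyConnected_of_isIso_app f h⟩

end Groth.Agent.FlatMor12.SteinNormal
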