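import Groth.Agent.FlatMor12.SmoothChain
import Groth.Agent.H8Lim.IdealDescent
import Groth.Agent.H8Lim.ModIdeal
import Groth.Agent.LimSmooth.Scheme
import Groth.Agent.LimSmooth.Affine
import Groth.Agent.EGA43.Limit.Properties

/-!
# Chains of ideals of finite type with smooth strata: base change and descent to a stage
-/

set_option autoImplicit false
set_option backward.isDefEq.respectTransparency false
set_option maxHeartbeats 1000000

universe u

open CategoryTheory CategoryTheory.Limits AlgebraicGeometry TopologicalSpace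
open Groth.Agent.FlatMor12.SmoothChain (strat)

namespace Groth.Agent.FlatMor12.StratChain

/-- The pullback of an ideal of finite type is of finite type. -/
theorem comap_fg {Y Y' : Scheme.{u}} (q : Y' ⟶ Y) (I : Y.IdealSheafData) (hI : ∀ U, (I.ideal U).FG)
    (U : Y'.affineOpens) : ((I.comap q).ideal U).FG := by
  haveI : LocallyOfFinitePresentation I.subschemeι :=
    H8Lim.locallyOfFinitePresentation_of_ker_fg _ fun V => by
      rw [Scheme.IdealSheafData.ker_subschemeι]; exact hI V
  haveI : LocallyOfFinitePresentation (pullback.fst q I.subschemeι) :=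
    MorphismProperty.pullback_fst _ _ ‹_›
  exact H8Lim.ker_fg_of_locallyOfFinitePresentation (pullback.fst q I.subschemeι) U

/-- The complement of the support of an ideal of finite type is retrocompact. -/
theorem isCompact_support_compl {Y : Scheme.{u}} [CompactSpace Y] (I : Y.IdealSheafData)
    (hI : ∀ U, (I.ideal U).FG) : IsCompact ((I.support.compl : Y.Opens) : Set Y) := by
  classical
  obtain ⟨s, hs⟩ := isCompact_univ.elim_finite_subcover (fun U : Y.affineOpens => (U.1 : Set Y))
    (fun U => U.1.2) (fun y _ => by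
      obtain ⟨U, hU, hy, -⟩ := exists_isAffineOpen_mem_and_subset (x := y) (U := ⊤) trivial
      exact Set.mem_iUnion.2 ⟨⟨U, hU⟩, hy⟩)
  have key : ((I.support.compl : Y.Opens) : Set Y) =
      ⋃ U ∈ s, ((I.support : Set Y)ᶜ ∩ (U.1 : Set Y)) := by
    ext y
    simp only [Closeds.coe_compl, Set.mem_iUnion, Set.mem_inter_iff, Set.mem_compl_iff]
    exact ⟨fun h => by
      obtain ⟨U, hU, hy⟩ := Set.mem_iUnion₂.1 (hs (Set.mem_univ y))
      exact ⟨U, hU, h, hy⟩, fun ⟨_, _, h, _⟩ => h⟩
  rw [key]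
  refine s.finite_toSet.isCompact_biUnion fun U _ => ?_
  obtain ⟨G, hG⟩ := hI U
  have : (I.support : Set Y)ᶜ ∩ (U.1 : Set Y) = ⋃ g ∈ G, (Y.basicOpen (g : Γ(Y, U.1)) : Set Y) := by
    ext y
    simp only [Set.mem_inter_iff, Set.mem_compl_iff, Set.mem_iUnion]
    constructor
    · rintro ⟨h, hy⟩
      by_contra hno
      refine h ?_
      have : y ∈ (I.support : Set Y) ∩ (U.1 : Set Y) := by
        rw [I.coe_support_inter U, ← hG, Y.zeroLocus_span]
        exact ⟨(Y.mem_zeroLocus_iff _ _).2 fun g hg hgy => hno ⟨g, hg, hgy⟩, hy⟩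
      exact this.1
    · rintro ⟨g, hg, hgy⟩
      have hy : y ∈ U.1 := Y.basicOpen_le g hgy
      refine ⟨fun h => ?_, hy⟩
      have : y ∈ (I.support : Set Y) ∩ (U.1 : Set Y) := ⟨h, hy⟩
      rw [I.coe_support_inter U, ← hG, Y.zeroLocus_span] at this
      exact (Y.mem_zeroLocus_iff _ _).1 this.1 g hg hgy
  rw [this]
  exact G.finite_toSet.isCompact_biUnion fun g _ => (U.2.basicOpen g).isCompact

/-- A stratum pulls back to a stratum. -/
theorem exists_isPullback_strat {Y Y' : Scheme.{u}} (q : Y' ⟶ Y) (I I' : Y.IdealSheafData) :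
    ∃ r, IsPullback r (strat (I.comap q) (I'.comap q)) (strat I I') q := by
  let m := Scheme.IdealSheafData.subschemeMap (I.comap q) I q (I.le_map_comap q)
  have sq : IsPullback m (I.comap q).subschemeι I.subschemeι q :=
    (IsPullback.of_iso_pullback ⟨(Scheme.IdealSheafData.subschemeMap_subschemeι _ _ _ _).symm⟩
      (I.comapIso q) (by
        rw [← Iso.eq_inv_comp]
        exact (I.comapIso_inv_subschemeι q).symm) (I.comapIso_hom_snd q)).flip
  have hO : m ⁻¹ᵁ (I.subschemeι ⁻¹ᵁ I'.support.compl) =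
      (I.comap q).subschemeι ⁻¹ᵁ (I'.comap q).support.compl := by
    ext y
    show I.subschemeι (m y) ∈ (I'.support : Set Y)ᶜ ↔
      (I.comap q).subschemeι y ∈ ((I'.comap q).support : Set Y')ᶜ
    rw [← Scheme.Hom.comp_apply, Scheme.IdealSheafData.subschemeMap_subschemeι,
      Scheme.IdealSheafData.support_comap]
    rfl
  refine ⟨(Scheme.isoOfEq _ hO.symm).hom ≫ m ∣_ (I.subschemeι ⁻¹ᵁ I'.support.compl), ?_⟩
  exact (((IsPullback.of_horiz_isIso ⟨by simp⟩ :
    IsPullback (Scheme.isoOfEq _ hO.symm).hom ((I.comap q).subschemeι ⁻¹ᵁ (I'.comap q).support.compl).ι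
      (m ⁻¹ᵁ (I.subschemeι ⁻¹ᵁ I'.support.compl)).ι (𝟙 _)).paste_horiz
        (isPullback_morphismRestrict m (I.subschemeι ⁻¹ᵁ I'.support.compl))).paste_vert
          (by rw [Category.id_comp]; exact sq))

/-- A chain of ideals of finite type starting at a thickening, with smooth strata. -/
def IsStratChain {Y B : Scheme.{u}} (π : Y ⟶ B) {t : ℕ} (J : Fin (t + 1) → Y.IdealSheafData) : Prop :=
  Monotone J ∧ J (Fin.last t) = ⊤ ∧ ((J 0).support : Set Y) = Set.univ ∧
    (∀ i, ∀ U : Y.affineOpens, ((J i).ideal U).FG) ∧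
    ∀ i : Fin t, Smooth (strat (J i.castSucc) (J i.succ) ≫ π)

theorem IsStratChain.comap {Y B Y' B' : Scheme.{u}} {π : Y ⟶ B} {q : Y' ⟶ Y} {π' : Y' ⟶ B'}
    {a : B' ⟶ B} (sq : IsPullback q π' π a) {t : ℕ} {J : Fin (t + 1) → Y.IdealSheafData}
    (hJ : IsStratChain π J) : IsStratChain π' fun i => (J i).comap q := by
  obtain ⟨hm, hl, h0, hfg, hs⟩ := hJ
  refine ⟨fun i j hij => Scheme.IdealSheafData.comap_mono q (hm hij), ?_, ?_,
    fun i U => comap_fg q _ (hfg i) U, fun i => ?_⟩
  · simp only [hl, Scheme.IdealSheafData.comap_top]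
  · rw [Scheme.IdealSheafData.support_comap]
    ext y
    simp only [Set.mem_univ, iff_true]
    exact h0.ge (Set.mem_univ (q y))
  · obtain ⟨r, hr⟩ := exists_isPullback_strat q (J i.castSucc) (J i.succ)
    exact MorphismProperty.of_isPullback (hr.paste_vert sq) (hs i)

variable {I : Type u} [SmallCategory I] [IsCofiltered I] {D : I ⥤ Scheme.{u}} {c : Cone D}
  [∀ (i j : I) (f : i ⟶ j), IsAffineHom (D.map f)] (hc : IsLimit c)
  [∀ i, CompactSpace (D.obj i)] [∀ i, QuasiSeparatedSpace (D.obj i)]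
  {i₀ : I} {Y₀ : Scheme.{u}} (g₀ : Y₀ ⟶ D.obj i₀)
  [QuasiCompact g₀] [QuasiSeparated g₀] [LocallyOfFinitePresentation g₀]
  {Y : Scheme.{u}} {q : Y ⟶ Y₀} {g : Y ⟶ c.pt} (sq : IsPullback q g g₀ (c.π.app i₀))

open H8Lim

include hc sq in
/-- A chain with smooth strata on the limit comes from a stage. -/
theorem exists_stage {t : ℕ} (J : Fin (t + 1) → Y.IdealSheafData) (hJ : IsStratChain g J) :
    ∃ (l : Over i₀) (J' : Fin (t + 1) → ((stage D g₀).obj l).IdealSheafData),
      IsStratChain (stageSnd D g₀ l) J' := by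
  classical
  obtain ⟨hm, hl, h0, hfg, hs⟩ := hJ
  haveI : ∀ {i j : I} (f : i ⟶ j), IsAffineHom (D.map f) := fun f => inferInstance
  haveI : CompactSpace Y₀ := QuasiCompact.compactSpace_of_compactSpace g₀
  haveI : QuasiSeparatedSpace Y₀ := quasiSeparatedSpace_of_quasiSeparated g₀
  let E := stage D g₀
  let cE := stageCone g₀ c q g sq
  have hcE : IsLimit cE := isLimitStageCone g₀ q g sq hc
  haveI : ∀ l, CompactSpace (E.obj l) := fun l => inferInstanceAs (CompactSpace ((stage D g₀).obj l))
  haveI : ∀ l, QuasiSeparatedSpace (E.obj l) := fun l =>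
    inferInstanceAs (QuasiSeparatedSpace ((stage D g₀).obj l))
  choose li Ji hJifg hJi using fun i => exists_stage_idealSheaf (D := E) (c := cE) hcE (J i) (hfg i)
  obtain ⟨l₁, hl₁⟩ := IsCofiltered.inf_objs_exists (Finset.univ.image li)
  let φ : ∀ i, l₁ ⟶ li i := fun i => (hl₁ (Finset.mem_image_of_mem li (Finset.mem_univ i))).some
  let K₀ : Fin (t + 1) → (E.obj l₁).IdealSheafData := fun i => (Ji i).comap (E.map (φ i))
  have hK₀ : ∀ i, (K₀ i).comap (cE.π.app l₁) = J i := fun i => by
    rw [← Scheme.IdealSheafData.comap_comp, cE.w, hJi]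
  let K : Fin (t + 1) → (E.obj l₁).IdealSheafData := fun i =>
    if i = Fin.last t then ⊤ else (Finset.Iic i).sup K₀
  have hKm : Monotone K := by
    intro i j hij
    by_cases hj : j = Fin.last t
    · simp [K, hj]
    · have hi : i ≠ Fin.last t := fun hi => hj (le_antisymm (Fin.le_last j) (hi ▸ hij))
      simp only [K, hj, hi, if_false]
      exact Finset.sup_mono (Finset.Iic_subset_Iic.2 hij)
  have hKfg : ∀ i U, ((K i).ideal U).FG := by
    intro i
    by_cases hi : i = Fin.last t
    · intro U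
      simp only [K, hi, if_true, Scheme.IdealSheafData.ideal_top]
      exact ⟨{1}, by simp⟩
    · simp only [K, hi, if_false]
      refine Finset.sup_induction (p := fun I : (E.obj l₁).IdealSheafData => ∀ U, (I.ideal U).FG)
        (fun U => ?_) (fun a ha b hb U => ?_) fun j _ => comap_fg _ _ (hJifg j)
      · simp only [Scheme.IdealSheafData.ideal_bot]
        exact Submodule.fg_bot
      · simp only [Scheme.IdealSheafData.ideal_sup]
        exact Submodule.FG.sup (ha U) (hb U)
  have hKJ : ∀ i, (K i).comap (cE.π.app l₁) = J i := by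
    intro i
    by_cases hi : i = Fin.last t
    · simp only [K, hi, if_true, Scheme.IdealSheafData.comap_top, hl]
    · simp only [K, hi, if_false]
      rw [Finset.apply_sup_eq_sup_comp (fun I : (E.obj l₁).IdealSheafData => I.comap (cE.π.app l₁))
        (fun a b => by simp) (by simp)]
      refine le_antisymm (Finset.sup_le fun j hj => ?_) ?_
      · simp only [Function.comp_apply, hK₀]
        exact hm (Finset.mem_Iic.1 hj)
      · refine le_trans ?_ (Finset.le_sup (Finset.mem_Iic.2 (le_refl i)))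
        simp only [Function.comp_apply, hK₀]
        exact le_rfl
  -- the support of the first ideal
  obtain ⟨l₂, ψ₂, hψ₂⟩ : ∃ (l : Over i₀) (ψ : l ⟶ l₁),
      (((K 0).comap (E.map ψ)).support : Set (E.obj l)) = Set.univ := by
    obtain ⟨r, hr⟩ : ∃ r, IsPullback r (J 0).subschemeι (K 0).subschemeι (cE.π.app l₁) := by
      rw [← hKJ 0]
      exact ⟨_, (IsPullback.of_iso_pullback ⟨(Scheme.IdealSheafData.subschemeMap_subschemeι _ _ _ _).symm⟩
        ((K 0).comapIso (cE.π.app l₁)) (by
          rw [← Iso.eq_inv_comp]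
          exact ((K 0).comapIso_inv_subschemeι _).symm) ((K 0).comapIso_hom_snd _)).flip⟩
    have hlfp : LocallyOfFinitePresentation (K 0).subschemeι :=
      locallyOfFinitePresentation_of_ker_fg _ fun V => by
        rw [Scheme.IdealSheafData.ker_subschemeι]; exact hKfg 0 V
    obtain ⟨l, ψ, hψ⟩ := EGA43.Limit.descends_surjective E cE hcE l₁ (K 0).subschemeι hlfp r
      (J 0).subschemeι hr ⟨fun y => by
        obtain ⟨z, hz⟩ : y ∈ Set.range (J 0).subschemeι := by
          rw [Scheme.IdealSheafData.range_subschemeι, h0]; trivial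
        exact ⟨z, hz⟩⟩
    refine ⟨l, ψ, Set.eq_univ_of_forall fun y => ?_⟩
    obtain ⟨z, hz⟩ := hψ.surj y
    rw [Scheme.IdealSheafData.support_comap]
    show E.map ψ y ∈ (K 0).support
    rw [← hz, ← Scheme.Hom.comp_apply, ← pullback.condition]
    exact ((K 0).range_subschemeι).le ⟨_, rfl⟩
  let L : Fin (t + 1) → (E.obj l₂).IdealSheafData := fun i => (K i).comap (E.map ψ₂)
  have hLfg : ∀ i U, ((L i).ideal U).FG := fun i U => comap_fg _ _ (hKfg i) U
  -- smoothness of the strata
  have hsm : ∀ i : Fin t, ∃ (l : Over i₀) (ψ : l ⟶ l₂),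
      Smooth (strat ((L i.castSucc).comap (E.map ψ)) ((L i.succ).comap (E.map ψ)) ≫ stageSnd D g₀ l) := by
    intro i
    let f₀ := strat (L i.castSucc) (L i.succ) ≫ stageSnd D g₀ l₂
    haveI : LocallyOfFinitePresentation (L i.castSucc).subschemeι :=
      locallyOfFinitePresentation_of_ker_fg _ fun V => by
        rw [Scheme.IdealSheafData.ker_subschemeι]; exact hLfg _ V
    haveI : LocallyOfFinitePresentation (stageSnd D g₀ l₂) :=
      MorphismProperty.of_isPullback (isPullback_stage D g₀ l₂) ‹LocallyOfFinitePresentation g₀›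
    haveI : LocallyOfFinitePresentation f₀ := by dsimp only [f₀, SmoothChain.strat]; infer_instance
    haveI : CompactSpace ((L i.castSucc).subschemeι ⁻¹ᵁ (L i.succ).support.compl : (L i.castSucc).subscheme.Opens) :=
      isCompact_iff_compactSpace.1
        ((L i.castSucc).subschemeι.isClosedEmbedding.isCompact_preimage (isCompact_support_compl _ (hLfg _)))
    have key : ∀ A B : cE.pt.IdealSheafData, (L i.castSucc).comap (cE.π.app l₂) = A →
        (L i.succ).comap (cE.π.app l₂) = B →
        ∃ r, IsPullback r (strat A B) (strat (L i.castSucc) (L i.succ)) (cE.π.app l₂) := by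
      rintro A B rfl rfl
      exact exists_isPullback_strat _ _ _
    have hJL : ∀ j, (L j).comap (cE.π.app l₂) = J j := fun j => by
      rw [← Scheme.IdealSheafData.comap_comp, cE.w, hKJ]
    obtain ⟨r, hr⟩ := key (J i.castSucc) (J i.succ) (hJL _) (hJL _)
    have hl₂ : IsPullback (cE.π.app l₂) g (stageSnd D g₀ l₂) (c.π.app l₂.left) :=
      IsPullback.of_right (h₁₂ := stageFst D g₀ l₂)
        (by
          convert sq using 1
          all_goals first | rfl | exact stageProj_fst g₀ c _ g sq l₂ | exact c.w l₂.hom)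
        (stageProj_snd g₀ c _ g sq l₂) (isPullback_stage D g₀ l₂)
    obtain ⟨m, χ, Xm, Ym, fm, gm, pY, pX, hY, hX, hfm⟩ :=
      LimSmooth.exists_stage hc (g₀ := 𝟙 (D.obj l₂.left)) (f₀ := f₀) (f := strat (J i.castSucc) (J i.succ) ≫ g)
        (g := 𝟙 c.pt) (qY := c.π.app l₂.left) IsPullback.of_id_snd (hr.paste_vert hl₂)
        LimSmooth.affineSpreads_smooth (fun _ _ ↦ inferInstance) (hs i)
    haveI : IsIso gm := hY.isIso_snd_of_isIso
    haveI := hfm
    let l : Over i₀ := Over.mk (χ ≫ l₂.hom)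
    let ψ : l ⟶ l₂ := Over.homMk χ rfl
    obtain ⟨r', hr'⟩ := exists_isPullback_strat (E.map ψ) (L i.castSucc) (L i.succ)
    have hχ : Smooth (pullback.snd f₀ (D.map χ)) :=
      prop_snd_of_isPullback (by simpa using hX.paste_vert hY) (inferInstance : Smooth (fm ≫ gm))
    refine ⟨l, ψ, ?_⟩
    have hsq : IsPullback r'
        (strat ((L i.castSucc).comap (E.map ψ)) ((L i.succ).comap (E.map ψ)) ≫ stageSnd D g₀ l) f₀ (D.map χ) :=
      hr'.paste_vert (isPullback_stageMap D g₀ ψ)
    haveI := hχ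
    rw [← hsq.isoPullback_hom_snd]
    infer_instance
  choose lm ψm hlm using hsm
  obtain ⟨l₄, ω, hω⟩ : ∃ (l₄ : Over i₀) (ω : l₄ ⟶ l₂), ∀ i, ∃ γ : l₄ ⟶ lm i, γ ≫ ψm i = ω := by
    obtain ⟨k, g', gk, hg⟩ := IsCofiltered.wideCospan ψm
    exact ⟨k, g', fun i => ⟨gk i, hg i⟩⟩
  refine ⟨l₄, fun i => (L i).comap (E.map ω), fun i j hij => ?_, ?_, ?_, fun i U => comap_fg _ _ (hLfg i) U,
    fun i => ?_⟩
  · exact Scheme.IdealSheafData.comap_mono _ (Scheme.IdealSheafData.comap_mono _ (hKm hij))
  · show ((K (Fin.last t)).comap (E.map ψ₂)).comap (E.map ω) = ⊤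
    simp [K]
  · rw [Scheme.IdealSheafData.support_comap]
    exact Set.eq_univ_of_forall fun y => hψ₂.ge (Set.mem_univ (E.map ω y))
  · obtain ⟨γ, hγ⟩ := hω i
    have key : ∀ A B : (E.obj l₄).IdealSheafData, ((L i.castSucc).comap (E.map (ψm i))).comap (E.map γ) = A →
        ((L i.succ).comap (E.map (ψm i))).comap (E.map γ) = B →
        Smooth (strat A B ≫ stageSnd D g₀ l₄) := by
      rintro A B rfl rfl
      obtain ⟨r, hr⟩ := exists_isPullback_strat (E.map γ) ((L i.castSucc).comap (E.map (ψm i)))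
        ((L i.succ).comap (E.map (ψm i)))
      exact MorphismProperty.of_isPullback (hr.paste_vert (isPullback_stageMap D g₀ γ)) (hlm i)
    apply key <;> rw [← Scheme.IdealSheafData.comap_comp, ← E.map_comp, hγ]

end Groth.Agent.FlatMor12.StratChain
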