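import Groth.Agent.FlatMor12.StratChain
import Groth.Agent.FlatMor12.AffineStrata
import Groth.Agent.FlatMorStrata.Extend
import Groth.Agent.FSchLib.IdealSheaf

/-!
# A finite chain of ideals of finite type whose strata have a given pointwise property
-/

set_option autoImplicit false
set_option backward.isDefEq.respectTransparency false

universe u

open CategoryTheory CategoryTheory.Limits AlgebraicGeometry TopologicalSpace Topology
open Groth.Agent.FlatMor12.SmoothChain (strat)

namespace Groth.Agent.FlatMor12.StratGlobal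

variable {S : Scheme.{u}}

theorem range_strat (A B : S.IdealSheafData) :
    Set.range (strat A B) = (A.support : Set S) \ B.support := by
  show Set.range (A.subschemeι ∘ (A.subschemeι ⁻¹ᵁ B.support.compl).ι) = _
  rw [Set.range_comp, Scheme.Opens.range_ι]
  show A.subschemeι '' (A.subschemeι ⁻¹' ((B.support.compl : S.Opens) : Set S)) = _
  rw [Set.image_preimage_eq_inter_range, Scheme.IdealSheafData.range_subschemeι, Closeds.coe_compl]
  ext x
  exact ⟨fun h => ⟨h.2, h.1⟩, fun h => ⟨h.2, h.1⟩⟩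

/-- Factorisation through a stratum. -/
theorem exists_lift_strat {W : Scheme.{u}} (m : W ⟶ S) (A B : S.IdealSheafData)
    (hA : A.comap m = ⊥) (hB : ∀ w, m w ∉ B.support) : ∃ g, g ≫ strat A B = m := by
  have hle : A.subschemeι.ker ≤ m.ker := by
    rw [Scheme.IdealSheafData.ker_subschemeι]
    exact (Scheme.IdealSheafData.le_map_iff_comap_le.2 hA.le).trans (Scheme.IdealSheafData.map_bot m).le
  let g₁ := IsClosedImmersion.lift A.subschemeι m hle
  have hg₁ : g₁ ≫ A.subschemeι = m := IsClosedImmersion.lift_fac _ _ _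
  refine ⟨IsOpenImmersion.lift (A.subschemeι ⁻¹ᵁ B.support.compl).ι g₁ ?_, ?_⟩
  · rintro _ ⟨w, rfl⟩
    rw [Scheme.Opens.range_ι]
    show A.subschemeι (g₁ w) ∈ ((B.support.compl : S.Opens) : Set S)
    rw [Closeds.coe_compl, ← Scheme.Hom.comp_apply, hg₁]
    exact hB w
  · show _ ≫ _ ≫ _ = _
    rw [IsOpenImmersion.lift_fac_assoc, hg₁]

theorem fg_comap_of_bijective {R R' : Type u} [CommRing R] [CommRing R'] (φ : R →+* R')
    (hφ : Function.Bijective φ) {J : Ideal R'} (hJ : J.FG) : (J.comap φ).FG := by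
  have : J.comap φ = J.map ((RingEquiv.ofBijective φ hφ).symm : R' →+* R) :=
    (Ideal.map_symm (RingEquiv.ofBijective φ hφ)).symm
  rw [this]
  exact hJ.map _

variable [CompactSpace S] [QuasiSeparatedSpace S]

theorem isLocallyConstructible_range_strat (A B : S.IdealSheafData) (hA : ∀ U, (A.ideal U).FG)
    (hB : ∀ U, (B.ideal U).FG) : IsLocallyConstructible (Set.range (strat A B)) := by
  have h : ∀ I : S.IdealSheafData, (∀ U, (I.ideal U).FG) → IsConstructible ((I.support : Set S)ᶜ) :=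
    fun I hI => by
      have hc := StratChain.isCompact_support_compl I hI
      rw [Closeds.coe_compl] at hc
      exact ((QuasiSeparatedSpace.isRetrocompact_iff_isCompact I.support.2.isOpen_compl).2 hc).isConstructible
        I.support.2.isOpen_compl
  rw [range_strat, Set.sdiff_eq]
  have hA' := (h A hA).compl
  rw [compl_compl] at hA'
  exact (hA'.inter (h B hB)).isLocallyConstructible

/-- An immersion of finite presentation from an affine scheme contains a stratum near each point. -/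
theorem exists_strat_le {T : Scheme.{u}} (t : T ⟶ S) [IsAffine T] [IsImmersion t]
    [LocallyOfFinitePresentation t] {s : S} (hs : s ∈ Set.range t) :
    ∃ A B : S.IdealSheafData, (∀ U, (A.ideal U).FG) ∧ (∀ U, (B.ideal U).FG) ∧
      s ∈ Set.range (strat A B) ∧ ∃ g, g ≫ t = strat A B := by
  obtain ⟨O₁, hO₁, hsO, hO⟩ := exists_isAffineOpen_mem_and_subset (x := s) (U := t.coborderRange)
    (subset_coborder hs)
  let O : S.affineOpens := ⟨O₁, hO₁⟩
  haveI : IsAffine (O.1 : Scheme.{u}) := O.2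
  let j := t ∣_ O.1
  have hcl : IsClosed (Set.range j) := by
    have : Set.range j = O.1.ι ⁻¹' Set.range t := by
      ext y
      constructor
      · rintro ⟨z, rfl⟩
        exact ⟨(t ⁻¹ᵁ O.1).ι z, by rw [← Scheme.Hom.comp_apply, ← morphismRestrict_ι]; rfl⟩
      · rintro ⟨z, hz⟩
        refine ⟨⟨z, show t z ∈ O.1 from hz ▸ y.2⟩, O.1.ι.isOpenEmbedding.injective ?_⟩
        rw [← Scheme.Hom.comp_apply, morphismRestrict_ι]
        exact hz
    rw [this]
    exact (isClosed_preimage_val_coborder (s := Set.range t)).preimage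
      (continuous_inclusion (hO : (O₁ : Set S) ⊆ _))
  haveI : IsClosedImmersion j := IsClosedImmersion.of_isPreimmersion j hcl
  haveI : LocallyOfFinitePresentation j :=
    IsZariskiLocalAtTarget.restrict ‹LocallyOfFinitePresentation t› O.1
  haveI : QuasiCompact O.1.ι := AffineStrata.quasiCompact_of_isAffine _
  have hpre : IsAffineOpen (O.1.ι ⁻¹ᵁ O.1) := by rw [O.1.ι_preimage_self]; exact isAffineOpen_top _
  haveI : IsIso (O.1.ι.app O.1) := O.1.ι.isIso_app O.1 (by rw [Scheme.Opens.opensRange_ι])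
  have hbij : Function.Bijective (O.1.ι.app O.1).hom := ConcreteCategory.bijective_of_isIso _
  have hK : ((j.ker.map O.1.ι).ideal O).FG := by
    rw [Scheme.IdealSheafData.ideal_map j.ker O.1.ι O hpre]
    exact fg_comap_of_bijective _ hbij (H8Lim.ker_fg_of_locallyOfFinitePresentation j _)
  obtain ⟨A, hA, hAO⟩ := FlatMorStrata.exists_fg_extend O _ hK
  obtain ⟨B, hB, hBs⟩ := FlatMorStrata.exists_fg_support_compl O
  have hmem : ∀ {x : S}, x ∉ B.support → x ∈ O.1 := fun {x} hx => by
    rwa [← SetLike.mem_coe, hBs, Set.mem_compl_iff, not_not] at hx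
  have hAj : A.comap O.1.ι = j.ker := by
    refine Scheme.IdealSheafData.ext_of_isAffine ?_
    have key : ∀ V : (O.1 : Scheme.{u}).affineOpens, V.1 = O.1.ι ⁻¹ᵁ O.1 →
        (A.comap O.1.ι).ideal V = j.ker.ideal V := by
      rintro ⟨V, hV⟩ (rfl : V = _)
      rw [FSchLib.ideal_comap_eq_map O.1.ι A ⟨_, hV⟩ O le_rfl, ← Scheme.Hom.app_eq_appLE, hAO,
        Scheme.IdealSheafData.ideal_map j.ker O.1.ι O hpre]
      exact Ideal.map_comap_of_surjective _ hbij.2 _
    exact key _ O.1.ι_preimage_self.symm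
  have hst : ∀ z, strat A B z ∈ (A.support : Set S) \ B.support := fun z => (range_strat A B).le ⟨z, rfl⟩
  refine ⟨A, B, hA, hB, ?_, ?_⟩
  · rw [range_strat]
    refine ⟨?_, fun h => hBs.le h hsO⟩
    obtain ⟨z, rfl⟩ := hs
    have : (⟨t z, hsO⟩ : (O.1 : Scheme.{u})) ∈ ((A.comap O.1.ι).support : Set (O.1 : Scheme.{u})) := by
      rw [hAj, Scheme.Hom.support_ker]
      exact subset_closure ⟨⟨z, hsO⟩, O.1.ι.isOpenEmbedding.injective (by
        rw [← Scheme.Hom.comp_apply, morphismRestrict_ι]; rfl)⟩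
    rw [Scheme.IdealSheafData.support_comap] at this
    exact this
  · let k := IsOpenImmersion.lift O.1.ι (strat A B)
      (by rintro _ ⟨z, rfl⟩; rw [Scheme.Opens.range_ι]; exact hmem (hst z).2)
    have hk : k ≫ O.1.ι = strat A B := IsOpenImmersion.lift_fac _ _ _
    have hle : j.ker ≤ k.ker := by
      rw [← hAj]
      refine (Scheme.IdealSheafData.le_map_iff_comap_le.2 ?_).trans (Scheme.IdealSheafData.map_bot k).le
      rw [← Scheme.IdealSheafData.comap_comp, hk, SmoothChain.strat, Scheme.IdealSheafData.comap_comp,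
        show A.comap A.subschemeι = ⊥ from le_bot_iff.1 (Scheme.IdealSheafData.le_map_iff_comap_le.1
          (by rw [Scheme.IdealSheafData.map_bot, Scheme.IdealSheafData.ker_subschemeι])),
        Scheme.IdealSheafData.comap_bot]
    exact ⟨IsClosedImmersion.lift j k hle ≫ (t ⁻¹ᵁ O.1).ι, by
      rw [Category.assoc, ← morphismRestrict_ι, IsClosedImmersion.lift_fac_assoc, hk]⟩

/-- A property which holds on a stratum through each point and passes to maps into a stratum holds on all
strata of a chain of ideals of finite type. -/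
theorem exists_chain (P : ∀ T : Scheme.{u}, (T ⟶ S) → Prop)
    (hP : ∀ ⦃T T' : Scheme.{u}⦄ (a : T' ⟶ T) (t : T ⟶ S), P T t → P T' (a ≫ t))
    (hemp : ∀ ⦃T : Scheme.{u}⦄ [IsEmpty T] (t : T ⟶ S), P T t)
    (h : ∀ s : S, ∃ (T : Scheme.{u}) (t : T ⟶ S), IsAffine T ∧ IsImmersion t ∧ LocallyOfFinitePresentation t ∧
      s ∈ Set.range t ∧ P T t) :
    ∃ (n : ℕ) (I : Fin (n + 1) → S.IdealSheafData), Monotone I ∧ I (Fin.last n) = ⊤ ∧
      ((I 0).support : Set S) = Set.univ ∧ (∀ i, ∀ U : S.affineOpens, ((I i).ideal U).FG) ∧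
      ∀ i : Fin n, P _ (strat (I i.castSucc) (I i.succ)) := by
  classical
  have h' : ∀ s : S, ∃ A B : S.IdealSheafData, (∀ U, (A.ideal U).FG) ∧ (∀ U, (B.ideal U).FG) ∧
      s ∈ Set.range (strat A B) ∧ P _ (strat A B) := fun s => by
    obtain ⟨T, t, hT, himm, hlfp, hs, hPt⟩ := h s
    obtain ⟨A, B, hA, hB, hsr, g, hg⟩ := exists_strat_le t hs
    exact ⟨A, B, hA, hB, hsr, hg ▸ hP g t hPt⟩
  choose A B hA hB hs hPs using h'
  obtain ⟨sub, hsub⟩ := @IsCompact.elim_finite_subcover S (constructibleTopology S) _ _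
    (H8ProCons.isCompact_cons (@isClosed_univ S (constructibleTopology S))) (fun s => Set.range (strat (A s) (B s)))
    (fun s => H8ProCons.isOpen_cons_of_isLocallyConstructible
      (isLocallyConstructible_range_strat _ _ (hA s) (hB s)))
    (fun s _ => Set.mem_iUnion.2 ⟨s, hs s⟩)
  let G : Finset S.IdealSheafData := sub.image A ∪ sub.image B
  have hG : ∀ g ∈ G, ∀ U, (g.ideal U).FG := fun g hg U => by
    rcases Finset.mem_union.1 hg with hg | hg <;> obtain ⟨s, -, rfl⟩ := Finset.mem_image.1 hg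
    exacts [hA s U, hB s U]
  let σI : Finset S.IdealSheafData → S.IdealSheafData := fun σ => σ.sup id
  have hσfg : ∀ σ ⊆ G, ∀ U, ((σI σ).ideal U).FG := fun σ hσ => by
    refine Finset.sup_induction (p := fun I : S.IdealSheafData => ∀ U, (I.ideal U).FG)
      (fun U => ?_) (fun a ha b hb U => ?_) fun j hj => hG j (hσ hj)
    · simp only [Scheme.IdealSheafData.ideal_bot]
      exact Submodule.fg_bot
    · simp only [Scheme.IdealSheafData.ideal_sup]
      exact Submodule.FG.sup (ha U) (hb U)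
  have hσsupp : ∀ (σ : Finset S.IdealSheafData) (x : S),
      x ∈ (σI σ).support ↔ ∀ g ∈ σ, x ∈ g.support := fun σ x => by
    induction σ using Finset.induction with
    | empty =>
      simp only [σI, Finset.sup_empty, Scheme.IdealSheafData.support_bot, Finset.notMem_empty, false_implies,
        implies_true, iff_true]
      exact trivial
    | @insert a σ _ ih =>
      simp only [σI, Finset.sup_insert, id, Finset.forall_mem_insert] at ih ⊢
      rw [Scheme.IdealSheafData.support_sup]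
      exact ⟨fun hx => ⟨hx.1, ih.1 hx.2⟩, fun hx => ⟨hx.1, ih.2 hx.2⟩⟩
  -- chains for upward closed families of atoms
  have key : ∀ 𝒰 : Finset (Finset S.IdealSheafData), (∀ σ ∈ 𝒰, σ ⊆ G) →
      (∀ σ ∈ 𝒰, ∀ τ ⊆ G, σ ⊆ τ → τ ∈ 𝒰) →
      ∃ (n : ℕ) (I : Fin (n + 1) → S.IdealSheafData), Monotone I ∧ I (Fin.last n) = ⊤ ∧
        (∀ x, x ∈ (I 0).support ↔ ∃ σ ∈ 𝒰, x ∈ (σI σ).support) ∧
        (∀ i, ∀ U : S.affineOpens, ((I i).ideal U).FG) ∧
        (∀ i : Fin n, P _ (strat (I i.castSucc) (I i.succ))) := by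
    intro 𝒰
    induction 𝒰 using Finset.strongInduction with
    | _ 𝒰 ih =>
    intro hsubG hup
    rcases 𝒰.eq_empty_or_nonempty with rfl | hne
    · refine ⟨0, fun _ => ⊤, monotone_const, rfl, fun x => ⟨fun hx => ?_, fun ⟨_, h, _⟩ => absurd h (Finset.notMem_empty _)⟩, fun _ U => ?_,
        fun i => i.elim0⟩
      · rw [Scheme.IdealSheafData.support_top] at hx
        exact (hx : x ∈ (⊥ : Closeds S)).elim
      · simp only [Scheme.IdealSheafData.ideal_top]
        exact ⟨{1}, by simp⟩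
    obtain ⟨σ, hσ, hmin⟩ := 𝒰.exists_min_image Finset.card hne
    have hup' : ∀ τ ∈ 𝒰.erase σ, ∀ ρ ⊆ G, τ ⊆ ρ → ρ ∈ 𝒰.erase σ := fun τ hτ ρ hρ hle => by
      obtain ⟨hne', hτ'⟩ := Finset.mem_erase.1 hτ
      refine Finset.mem_erase.2 ⟨fun he => ?_, hup τ hτ' ρ hρ hle⟩
      subst he
      exact hne' (Finset.eq_of_subset_of_card_le hle (hmin τ hτ'))
    obtain ⟨n, I, hmon, hlast, hsupp, hfg, hPI⟩ :=
      ih _ (Finset.erase_ssubset hσ) (fun τ hτ => hsubG τ (Finset.mem_of_mem_erase hτ)) hup'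
    let I₀ := σI σ * I 0
    have hle : I₀ ≤ I 0 := fun U => by
      simp only [I₀, Scheme.IdealSheafData.ideal_mul, Pi.mul_apply]
      exact Ideal.mul_le_right
    have hP₀ : P _ (strat I₀ (I 0)) := by
      rcases isEmpty_or_nonempty ↥(I₀.subschemeι ⁻¹ᵁ (I 0).support.compl : I₀.subscheme.Opens) with hE | ⟨⟨z₀⟩⟩
      · exact @hemp _ hE _
      set m := strat I₀ (I 0)
      have hm : ∀ z, ∀ g ∈ G, (m z ∈ g.support ↔ g ∈ σ) := by
        intro z
        obtain ⟨h0, h1⟩ := (range_strat I₀ (I 0)).le ⟨z, rfl⟩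
        have h1' : ∀ τ ∈ 𝒰.erase σ, m z ∉ (σI τ).support := fun τ hτ hx => h1 ((hsupp _).2 ⟨τ, hτ, hx⟩)
        have hσz : ∀ g ∈ σ, m z ∈ g.support := by
          rw [SetLike.mem_coe] at h0 h1
          simp only [I₀, Scheme.IdealSheafData.support_mul] at h0
          exact (hσsupp σ _).1 (h0.resolve_right h1)
        intro g hg
        refine ⟨fun hgz => by_contra fun hgσ => ?_, hσz g⟩
        refine h1' (insert g σ) (Finset.mem_erase.2 ⟨fun he => hgσ (he ▸ Finset.mem_insert_self g σ),
          hup σ hσ _ (Finset.insert_subset hg (hsubG σ hσ)) (Finset.subset_insert g σ)⟩) ?_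
        exact (hσsupp _ _).2 ((Finset.forall_mem_insert ..).2 ⟨hgz, hσz⟩)
      obtain ⟨s, hs, hz₀⟩ := Set.mem_iUnion₂.1 (hsub (Set.mem_univ (m z₀)))
      rw [range_strat] at hz₀
      have hAG : A s ∈ G := Finset.mem_union_left _ (Finset.mem_image_of_mem A hs)
      have hBG : B s ∈ G := Finset.mem_union_right _ (Finset.mem_image_of_mem B hs)
      have hAσ : A s ∈ σ := (hm z₀ _ hAG).1 hz₀.1
      have hBσ : B s ∉ σ := fun hB' => hz₀.2 ((hm z₀ _ hBG).2 hB')
      have hI0 : (I 0).comap m = ⊤ := by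
        rw [← Scheme.IdealSheafData.support_eq_bot_iff, Scheme.IdealSheafData.support_comap, eq_bot_iff]
        intro z hz
        exact absurd hz ((range_strat I₀ (I 0)).le ⟨z, rfl⟩).2
      have hbot : I₀.comap m = ⊥ := by
        rw [show m = _ ≫ I₀.subschemeι from rfl, Scheme.IdealSheafData.comap_comp,
          show I₀.comap I₀.subschemeι = ⊥ from le_bot_iff.1 (Scheme.IdealSheafData.le_map_iff_comap_le.1
            (by rw [Scheme.IdealSheafData.map_bot, Scheme.IdealSheafData.ker_subschemeι])),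
          Scheme.IdealSheafData.comap_bot]
      have hA0 : (A s).comap m = ⊥ := by
        refine le_bot_iff.1 ((Scheme.IdealSheafData.comap_mono m (Finset.le_sup (f := id) hAσ)).trans ?_)
        rw [← hbot, FSchLib.comap_mul, hI0]
        intro U
        simp [σI, Scheme.IdealSheafData.ideal_mul]
      obtain ⟨g, hg⟩ := exists_lift_strat m (A s) (B s) hA0 fun z hz => hBσ ((hm z _ hBG).1 hz)
      exact hg ▸ hP g _ (hPs s)
    refine ⟨n + 1, Fin.cons I₀ I, Fin.monotone_iff_le_succ.2 fun i => ?_, ?_, fun x => ?_, fun i => ?_,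
      fun i => ?_⟩
    · cases i using Fin.cases with
      | zero => simpa using hle
      | succ i => simpa [← Fin.succ_castSucc] using hmon i.castSucc_le_succ
    · rw [← Fin.succ_last, Fin.cons_succ, hlast]
    · simp only [Fin.cons_zero, I₀, Scheme.IdealSheafData.support_mul]
      refine ⟨?_, fun ⟨τ, hτ, hx⟩ => ?_⟩
      · rintro (hx | hx)
        · exact ⟨σ, hσ, hx⟩
        · obtain ⟨τ, hτ, hxτ⟩ := (hsupp x).1 hx
          exact ⟨τ, Finset.mem_of_mem_erase hτ, hxτ⟩
      · rcases eq_or_ne τ σ with rfl | hne'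
        · exact Or.inl hx
        · exact Or.inr ((hsupp x).2 ⟨τ, Finset.mem_erase.2 ⟨hne', hτ⟩, hx⟩)
    · cases i using Fin.cases with
      | zero =>
        intro U
        simp only [Fin.cons_zero, I₀, Scheme.IdealSheafData.ideal_mul, Pi.mul_apply]
        exact Ideal.FG.mul (hσfg σ (hsubG σ hσ) U) (hfg 0 U)
      | succ i => simpa using hfg i
    · cases i using Fin.cases with
      | zero => exact hP₀
      | succ i =>
        rw [← Fin.succ_castSucc, Fin.cons_succ, Fin.cons_succ]
        exact hPI i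
  obtain ⟨n, I, h1, h2, h3, h4, h5⟩ := key G.powerset (fun σ hσ => Finset.mem_powerset.1 hσ)
    (fun _ _ τ hτ _ => Finset.mem_powerset.2 hτ)
  exact ⟨n, I, h1, h2, Set.eq_univ_of_forall fun x => (h3 x).2
    ⟨∅, Finset.empty_mem_powerset G, (hσsupp ∅ x).2 (by simp)⟩, h4, h5⟩

end Groth.Agent.FlatMor12.StratGlobal
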