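import Groth.Agent.CohExch.Strata
import Groth.Prelude.Def_CohBC2

/-!
# The stratum where the direct image is free and commutes with base change, for any cartesian square
-/

set_option autoImplicit false
universe u

namespace Groth.Agent.FlatMor12.StratumSquare

open CategoryTheory CategoryTheory.Limits AlgebraicGeometry in
private theorem good_of_good {X S : Scheme.{u}} {f : X ⟶ S} [IsProper f] {F : X.Modules}
    [Coh.IsQCoh F] (hfl : FlatMod.IsFlatOver f F) (C C₂ : Groth.Agent.CohExch.Chart f F)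
    {T : Scheme.{u}} {u : T ⟶ S} {t : T} (h : C.Good u t) (h₂ : u t ∈ C₂.U) : C₂.Good u t := by
  have hsq : IsPullback (pullback.fst f u) (pullback.snd f u) f u := IsPullback.of_hasPullback f u
  have := Groth.Agent.EGA43.InjFibre.isQCoh_pullback (pullback.fst f u) F
  obtain ⟨C', htC', hflat⟩ := C.exists_bc_flat hfl hsq h
  have : IsIso (CohBC.bc0 (pullback.snd f u) (T.fromSpecResidueField t)
      ((pullback.snd f u).fiberToSpecResidueField t) ((pullback.snd f u).fiberι t)
      ((pullback.snd f u).fiber_fac t) ((Scheme.Modules.pullback (pullback.fst f u)).obj F)) :=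
    Groth.Agent.CohExch.isIso_bc0_of_flat
      (IsPullback.of_hasPullback (pullback.snd f u) (T.fromSpecResidueField t)) fun z => ⟨C', by
        have hz : T.fromSpecResidueField t z ∈ Set.range (T.fromSpecResidueField t) := ⟨z, rfl⟩
        rw [Scheme.range_fromSpecResidueField] at hz
        rw [hz]
        exact htC', hflat⟩
  exact C₂.good_of_epi0 hfl hsq h₂ inferInstance

open AlgebraicGeometry CategoryTheory Scheme.Modules in
/-- The universal immersion of S16956, read off on an arbitrary cartesian square. -/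
theorem exists_immersion_univ
    {X S : Scheme.{u}} (f : X ⟶ S) [IsProper f] [LocallyOfFinitePresentation f]
    (F : X.Modules) [Coh.IsQCoh F] (hfp : CohB1.IsFP F) (hfl : FlatMod.IsFlatOver f F) (r : ℕ) :
    ∃ (Z : Scheme.{u}) (ι : Z ⟶ S), IsImmersion ι ∧
      ∀ (T : Scheme.{u}) (u : T ⟶ S) (XT : Scheme.{u}) (fT : XT ⟶ T) (gT : XT ⟶ X)
        (_ : IsPullback gT fT f u), (∃ u' : T ⟶ Z, u' ≫ ι = u) ↔
        (FlatMod.IsFinLocFreeOfRank r ((pushforward fT).obj ((pullback gT).obj F)) ∧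
          ∀ ⦃X'' T' : Scheme.{u}⦄ (v' : X'' ⟶ XT) (f'' : X'' ⟶ T') (u' : T' ⟶ T)
            (h : IsPullback v' f'' fT u'),
            IsIso (CohBC.bc0 fT u' f'' v' h.w ((pullback gT).obj F))) := by
  classical
  let P : ∀ T : Scheme.{u}, (T ⟶ S) → Prop := fun T u => Groth.Agent.CohExch.Stratum f F r T u
  choose C hsC _ using fun s : S =>
    Groth.Agent.CohExch.exists_chart (V := ⊤) hfp hfl (s := s) trivial
  obtain ⟨Z, ι, ⟨⟨hι, hlfp⟩, hqc⟩, hiff⟩ := Groth.Agent.CohExch.LocalSub.exists_of_locally S P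
    (fun T T' x u h => h.precomp x)
    (@IsImmersion ⊓ @LocallyOfFinitePresentation ⊓ @QuasiCompact)
    (fun T u 𝒱 h => Groth.Agent.CohExch.Stratum.of_cover 𝒱 h)
    (fun s => (C s).U) (TopologicalSpace.IsOpenCover.mk (eq_top_iff.2 fun s _ =>
      TopologicalSpace.Opens.mem_iSup.2 ⟨s, hsC s⟩))
    (fun s => by
      obtain ⟨Z, j, h1, h2, h3, h4⟩ := (C s).exists_immersion hfl r
      refine ⟨Z, j, ⟨⟨h1, h2⟩, h3⟩, inferInstance, fun T x => Iff.trans ?_ (h4 T x)⟩
      exact ⟨fun h t => ⟨(h t).1, (h t).2 _ (x t).2⟩,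
        fun h t => ⟨(h t).1, fun C₂ hC₂ => good_of_good hfl _ C₂ (h t).2 hC₂⟩⟩)
  refine ⟨Z, ι, hι, fun T u XT fT gT hsq => (hiff T u).symm.trans ?_⟩
  haveI : IsProper fT := MorphismProperty.of_isPullback hsq ‹IsProper f›
  haveI : LocallyOfFinitePresentation fT :=
    MorphismProperty.of_isPullback hsq ‹LocallyOfFinitePresentation f›
  · have := Groth.Agent.EGA43.InjFibre.isQCoh_pullback gT F
    have hrank : ∀ t : T, CohIII.fiberRank fT
        ((pullback gT).obj F) 0 t = CohIII.fiberRank f F 0 (u t) :=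
      fun t => Groth.Agent.Coherent.CohBC.fiberRank_pullback hsq F 0 t
    have hfl' := Groth.Agent.CohExch.flatOver_baseChange hfl hsq
    constructor
    · intro h
      have hch : ∀ t : T, ∃ C' : Groth.Agent.CohExch.Chart fT
          ((pullback gT).obj F), t ∈ C'.U ∧ C'.Flat ((0 : ℕ) : ℤ) :=
        fun t => (C (u t)).exists_bc_flat hfl hsq ((h t).2 _ (hsC _))
      refine ⟨fun t => ?_, fun X'' T' v' f'' u' hsq' =>
        Groth.Agent.CohExch.isIso_bc0_of_flat hsq' fun z => hch (u' z)⟩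
      obtain ⟨C', ht, hflat⟩ := hch t
      obtain ⟨W, n, htW, ⟨e⟩⟩ := C'.exists_trivial_nhd0 hflat ht
      have hn := C'.fiberRank_eq_of_free hfl' hflat ht htW e
      rw [hrank, (h t).1] at hn
      exact ⟨W, htW, ⟨hn ▸ e⟩⟩
    · rintro ⟨hfree, hbc⟩ t
      have hepi := hbc _ _ _ (IsPullback.of_hasPullback fT
        (T.fromSpecResidueField t))
      have hgood : ∀ C₂ : Groth.Agent.CohExch.Chart f F, u t ∈ C₂.U → C₂.Good u t := fun C₂ h₂ =>
        C₂.good_of_epi0 hfl hsq h₂ (@IsIso.epi_of_iso _ _ _ _ _ hepi)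
      refine ⟨?_, hgood⟩
      obtain ⟨C', ht, hflat⟩ := (C (u t)).exists_bc_flat hfl hsq (hgood _ (hsC _))
      obtain ⟨W, htW, ⟨e⟩⟩ := hfree t
      rw [← hrank, C'.fiberRank_eq_of_free hfl' hflat ht htW e]

end Groth.Agent.FlatMor12.StratumSquare
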