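import Groth.Agent.FlatMorThick.FiniteOrder
import Groth.Agent.FlatMorThick.Affine

/-! Finite type and finiteness along thickenings with nilpotent ideals. -/

universe u

set_option autoImplicit false
set_option backward.isDefEq.respectTransparency false

open AlgebraicGeometry CategoryTheory Limits

namespace Groth.Agent.FlatMor12

theorem finiteType_of_nilpotent_fg {A B C : Type*} [CommRing A] [CommRing B] [CommRing C]
    (φ : A →+* B) (q : B →+* C) (hq : Function.Surjective q) (hI : IsNilpotent (RingHom.ker q))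
    (hfg : (RingHom.ker q).FG) (h : (q.comp φ).FiniteType) : φ.FiniteType := by
  classical
  algebraize [φ, q.comp φ]
  obtain ⟨t, ht⟩ := Algebra.FiniteType.out (R := A) (A := C)
  obtain ⟨e, he⟩ := hfg
  choose g hg using hq
  let qA : B →ₐ[A] C := { q with commutes' := fun _ => rfl }
  refine ⟨⟨t.image g ∪ e, ?_⟩⟩
  let S := Algebra.adjoin A (↑(t.image g ∪ e) : Set B)
  have hS : ∀ b : B, ∃ s ∈ S, b - s ∈ RingHom.ker q := by
    intro b
    have hmap : (Algebra.adjoin A (↑(t.image g) : Set B)).map qA = ⊤ := by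
      rw [AlgHom.map_adjoin, Finset.coe_image, ← Set.image_comp]
      simpa [Function.comp_def, qA, hg] using ht
    obtain ⟨s, hs, hsb⟩ : qA b ∈ (Algebra.adjoin A (↑(t.image g) : Set B)).map qA := hmap ▸ Algebra.mem_top
    exact ⟨s, Algebra.adjoin_mono (by simp) hs, by
      rw [RingHom.mem_ker, map_sub, sub_eq_zero]
      exact hsb.symm⟩
  obtain ⟨N, hN⟩ := hI
  have key : ∀ k : ℕ, ∀ b : B, ∃ s ∈ S, b - s ∈ (RingHom.ker q) ^ k := by
    intro k
    induction k with
    | zero => exact fun b => ⟨0, zero_mem _, by simp⟩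
    | succ k ih =>
      intro b
      obtain ⟨s, hs, hbs⟩ := hS b
      suffices ∀ x ∈ RingHom.ker q, ∃ s ∈ S, x - s ∈ (RingHom.ker q) ^ (k + 1) by
        obtain ⟨s', hs', hx⟩ := this _ hbs
        exact ⟨s + s', add_mem hs hs', by rwa [← sub_sub]⟩
      intro x hx
      have hx' : x ∈ Submodule.span B (e : Set B) := by rw [← he] at hx; exact hx
      clear hbs hx
      induction hx' using Submodule.span_induction with
      | mem y hy => exact ⟨y, Algebra.subset_adjoin (by simp [hy]), by simp⟩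
      | zero => exact ⟨0, zero_mem _, by simp⟩
      | add y z _ _ hy hz =>
        obtain ⟨s₁, h₁, e₁⟩ := hy
        obtain ⟨s₂, h₂, e₂⟩ := hz
        exact ⟨s₁ + s₂, add_mem h₁ h₂, by rw [add_sub_add_comm]; exact add_mem e₁ e₂⟩
      | smul c y hy' hy =>
        obtain ⟨s₁, h₁, e₁⟩ := hy
        obtain ⟨s₂, h₂, e₂⟩ := ih c
        refine ⟨s₂ * s₁, mul_mem h₂ h₁, ?_⟩
        have hyI : y ∈ RingHom.ker q := he ▸ hy'
        rw [show c • y - s₂ * s₁ = (c - s₂) * y + s₂ * (y - s₁) by rw [smul_eq_mul]; ring]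
        refine add_mem ?_ (Ideal.mul_mem_left _ _ e₁)
        rw [pow_succ]
        exact Ideal.mul_mem_mul e₂ hyI
  refine eq_top_iff.2 fun b _ => ?_
  obtain ⟨s, hs, hbs⟩ := key N b
  rw [hN] at hbs
  rw [show b = s from sub_eq_zero.1 (by simpa using hbs)]
  exact hs

theorem finite_of_nilpotent {A B C : Type*} [CommRing A] [CommRing B] [CommRing C]
    (φ : A →+* B) (q : B →+* C) (hq : Function.Surjective q) {I : Ideal A} (hI : IsNilpotent I)
    (hker : RingHom.ker q ≤ I.map φ) (h : (q.comp φ).Finite) : φ.Finite := by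
  classical
  algebraize [φ, q.comp φ]
  obtain ⟨t, ht⟩ := Module.Finite.fg_top (R := A) (M := C)
  choose g hg using hq
  let qA : B →ₗ[A] C :=
    { toFun := q, map_add' := map_add q, map_smul' := fun a b => by
        simp only [Algebra.smul_def, RingHom.id_apply, map_mul]; rfl }
  refine ⟨⟨t.image g, ?_⟩⟩
  refine FSchLib.eq_top_of_nilpotent_smul hI fun b _ => ?_
  have hmap : (Submodule.span A (↑(t.image g) : Set B)).map qA = ⊤ := by
    rw [Submodule.map_span, Finset.coe_image, ← Set.image_comp]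
    simpa [Function.comp_def, qA, hg] using ht
  obtain ⟨s, hs, hsb⟩ : qA b ∈ (Submodule.span A (↑(t.image g) : Set B)).map qA := hmap ▸ Submodule.mem_top
  refine Submodule.mem_sup.2 ⟨s, hs, b - s, ?_, add_sub_cancel _ _⟩
  rw [Ideal.smul_top_eq_map]
  exact hker (by
    rw [RingHom.mem_ker, map_sub, sub_eq_zero]
    exact hsb.symm)

variable {X X₀ Y Y₀ : Scheme.{u}}

theorem locallyOfFiniteType_iff_of_fg (F : Y ⟶ X) (F₀ : Y₀ ⟶ X₀) (i : Y₀ ⟶ Y) (j : X₀ ⟶ X)
    [IsClosedImmersion i] [IsClosedImmersion j] (hinil : ∀ U : Y.affineOpens, IsNilpotent (i.ker.ideal U))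
    (hfg : ∀ U : Y.affineOpens, (i.ker.ideal U).FG) (w : F₀ ≫ j = i ≫ F) :
    LocallyOfFiniteType F ↔ LocallyOfFiniteType F₀ := by
  constructor
  · intro h
    have : LocallyOfFiniteType (F₀ ≫ j) := w ▸ inferInstance
    exact locallyOfFiniteType_of_comp F₀ j
  intro h
  rw [HasRingHomProperty.iff_exists_appLE (P := @LocallyOfFiniteType)
    (RingHom.finiteType_stableUnderComposition.stableUnderCompositionWithLocalizationAway
      RingHom.finiteType_holdsForLocalizationAway).left]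
  intro x
  obtain ⟨U, hU, hxU, -⟩ :=
    exists_isAffineOpen_mem_and_subset (x := F x) (U := ⊤) (Set.mem_univ _)
  obtain ⟨V, hV, hxV, hVU'⟩ := exists_isAffineOpen_mem_and_subset (x := x) (U := F ⁻¹ᵁ U) hxU
  have hVU : V ≤ F ⁻¹ᵁ U := hVU'
  refine ⟨⟨U, hU⟩, ⟨V, hV⟩, hxV, hVU, finiteType_of_nilpotent_fg _ (i.app V).hom
    (i.app_surjective V hV) ?_ ?_ ?_⟩
  · rw [← Scheme.Hom.ker_apply i ⟨V, hV⟩]; exact hinil ⟨V, hV⟩
  · rw [← Scheme.Hom.ker_apply i ⟨V, hV⟩]; exact hfg ⟨V, hV⟩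
  · show (F.appLE U V hVU ≫ i.app V).hom.FiniteType
    rw [Scheme.Hom.app_eq_appLE, Scheme.Hom.appLE_comp_appLE]
    have : LocallyOfFiniteType (i ≫ F) := w ▸ inferInstance
    exact (i ≫ F).finiteType_appLE hU (hV.preimage i) _

theorem isFinite_iff_of_isPullback (F : Y ⟶ X) (F₀ : Y₀ ⟶ X₀) (i : Y₀ ⟶ Y) (j : X₀ ⟶ X)
    (hi : MoreMor.IsThickening i) (hj : MoreMor.IsThickening j)
    (hjnil : ∀ U : X.affineOpens, IsNilpotent (j.ker.ideal U)) (hc : IsPullback F₀ i j F) :
    IsFinite F ↔ IsFinite F₀ := by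
  refine ⟨fun h => MorphismProperty.of_isPullback hc.flip h, fun h => ?_⟩
  have := hi.1
  have := hj.1
  haveI : IsAffineHom F := (FlatMorThick.thickening_isAffineHom_iff i j F₀ F hi hj hc.w.symm).1 inferInstance
  rw [isFinite_iff]
  refine ⟨inferInstance, fun U hU => ?_⟩
  have hV : IsAffineOpen (F ⁻¹ᵁ U) := hU.preimage F
  refine finite_of_nilpotent _ (i.app (F ⁻¹ᵁ U)).hom (i.app_surjective _ hV) (hjnil ⟨U, hU⟩) ?_ ?_
  · have h1 := FSchLib.ideal_comap_eq_map F j.ker ⟨_, hV⟩ ⟨U, hU⟩ le_rfl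
    rw [← FlatMorThick.ker_eq_comap_of_isPullback hc.flip, Scheme.Hom.ker_apply,
      ← Scheme.Hom.app_eq_appLE] at h1
    exact h1.le
  · show (F.app U ≫ i.app (F ⁻¹ᵁ U)).hom.Finite
    rw [← Scheme.Hom.comp_app]
    have : IsFinite (i ≫ F) := by rw [← hc.w]; infer_instance
    exact (i ≫ F).finite_app U hU

end Groth.Agent.FlatMor12
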