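import Groth.Agent.NonAb.SchTorsor

/-!
# Glueing morphisms over an fpqc family; translations between points of a torsor
-/

set_option autoImplicit false

universe w u

open CategoryTheory Limits MonoidalCategory CartesianMonoidalCategory MonObj GrpObj AlgebraicGeometry
open NonAbLib

namespace Groth.Agent.FlatMor12.TorsorPush

variable {S : Scheme.{u}}

section glue

variable {I : Type w} {V : I → Scheme.{u}} {f : ∀ i, V i ⟶ S}
  (hf : Presieve.ofArrows V f ∈ Scheme.fpqcPrecoverage S) {Y Z : Over S}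

include hf in
/-- Morphisms over `S` agreeing on the points which factor through the family are equal. -/
theorem ext_local {r r' : Y ⟶ Z}
    (h : ∀ (T : Over S) (i : I) (_ : T ⟶ Over.mk (f i)) (y : T ⟶ Y), y ≫ r = y ≫ r') : r = r' := by
  apply Over.OverMorphism.ext
  have hS : Sieve.generate (Presieve.ofArrows V f) ∈ Scheme.fpqcTopology S :=
    Precoverage.generate_mem_toGrothendieck hf
  refine (GrothendieckTopology.Subcanonical.isSheaf_of_isRepresentable (J := Scheme.fpqcTopology)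
    (yoneda.obj Z.left) _ (Scheme.fpqcTopology.pullback_stable Y.hom hS)).isSeparatedFor.ext
      (fun W g hg => ?_)
  obtain ⟨Y', k, _, ⟨i⟩, hk⟩ := hg
  exact congrArg (fun t => t.left) (h (Over.mk (g ≫ _)) i (Over.homMk k hk) (Over.homMk g rfl))

include hf in
/-- Compatible data on the points which factor through the family define a morphism over `S`. -/
theorem exists_glue (Φ : ∀ {T : Over S} (i : I), (T ⟶ Over.mk (f i)) → (T ⟶ Y) → (T ⟶ Z))
    (nat : ∀ {T T' : Over S} (k : T' ⟶ T) (i : I) (x : T ⟶ Over.mk (f i)) (y : T ⟶ Y),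
      k ≫ Φ i x y = Φ i (k ≫ x) (k ≫ y))
    (indep : ∀ {T : Over S} (i j : I) (x : T ⟶ Over.mk (f i)) (x' : T ⟶ Over.mk (f j)) (y : T ⟶ Y),
      Φ i x y = Φ j x' y) :
    ∃ r : Y ⟶ Z, ∀ (T : Over S) (i : I) (x : T ⟶ Over.mk (f i)) (y : T ⟶ Y), y ≫ r = Φ i x y := by
  have hS : Sieve.generate (Presieve.ofArrows V f) ∈ Scheme.fpqcTopology S :=
    Precoverage.generate_mem_toGrothendieck hf
  let 𝒮 : Sieve Y.left := (Sieve.generate (Presieve.ofArrows V f)).pullback Y.hom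
  have h𝒮 : 𝒮 ∈ Scheme.fpqcTopology Y.left := Scheme.fpqcTopology.pullback_stable Y.hom hS
  have hmem : ∀ ⦃W : Scheme.{u}⦄ (g : W ⟶ Y.left), 𝒮 g → ∃ i, ∃ k : W ⟶ V i, k ≫ f i = g ≫ Y.hom := by
    rintro W g ⟨_, k, _, ⟨i⟩, hk⟩
    exact ⟨i, k, hk⟩
  choose i₀ k₀ hk₀ using hmem
  let xf : Presieve.FamilyOfElements (yoneda.obj Z.left) 𝒮.arrows := fun W g hg =>
    (Φ (i₀ g hg) (Over.homMk (k₀ g hg) (hk₀ g hg) : Over.mk (g ≫ Y.hom) ⟶ Over.mk (f (i₀ g hg)))
      (Over.homMk g rfl : Over.mk (g ≫ Y.hom) ⟶ Y)).left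
  have hxf : xf.SieveCompatible := by
    intro W W' g k hg
    let K : Over.mk ((k ≫ g) ≫ Y.hom) ⟶ Over.mk (g ≫ Y.hom) := Over.homMk k (Category.assoc _ _ _).symm
    have hk : 𝒮 (k ≫ g) := 𝒮.downward_closed hg k
    let yg : Over.mk (g ≫ Y.hom) ⟶ Y := Over.homMk g rfl
    let xg : Over.mk (g ≫ Y.hom) ⟶ Over.mk (f (i₀ g hg)) := Over.homMk (k₀ g hg) (hk₀ g hg)
    have e := nat K (i₀ g hg) xg yg
    have e' : (Over.homMk (k ≫ g) rfl : Over.mk ((k ≫ g) ≫ Y.hom) ⟶ Y) = K ≫ yg := by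
      ext; rfl
    show (Φ (i₀ (k ≫ g) hk) (Over.homMk (k₀ (k ≫ g) hk) (hk₀ (k ≫ g) hk) :
        Over.mk ((k ≫ g) ≫ Y.hom) ⟶ Over.mk (f (i₀ (k ≫ g) hk)))
      (Over.homMk (k ≫ g) rfl : Over.mk ((k ≫ g) ≫ Y.hom) ⟶ Y)).left = k ≫ (Φ (i₀ g hg) xg yg).left
    rw [e', indep (i₀ (k ≫ g) hk) (i₀ g hg) _ (K ≫ xg), ← e]
    rfl
  obtain ⟨l, hl, -⟩ := (GrothendieckTopology.Subcanonical.isSheaf_of_isRepresentable
    (J := Scheme.fpqcTopology) (yoneda.obj Z.left)) 𝒮 h𝒮 xf ((Presieve.compatible_iff_sieveCompatible xf).2 hxf)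
  have hl : ∀ ⦃W : Scheme.{u}⦄ (g : W ⟶ Y.left) (hg : 𝒮 g), g ≫ l = xf g hg := hl
  have hlw : l ≫ Z.hom = Y.hom := by
    refine (GrothendieckTopology.Subcanonical.isSheaf_of_isRepresentable (J := Scheme.fpqcTopology)
      (yoneda.obj S) _ h𝒮).isSeparatedFor.ext fun W g hg => ?_
    show g ≫ l ≫ Z.hom = g ≫ Y.hom
    rw [← Category.assoc, hl g hg]
    exact Over.w _
  refine ⟨Over.homMk l hlw, fun T i x y => ?_⟩
  have hy : 𝒮 y.left := ⟨V i, x.left, f i, ⟨i⟩, (Over.w x).trans (Over.w y).symm⟩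
  let K : T ⟶ Over.mk (y.left ≫ Y.hom) := Over.homMk (𝟙 _) ((Category.id_comp _).trans (Over.w y))
  have ey : y = K ≫ (Over.homMk y.left rfl : Over.mk (y.left ≫ Y.hom) ⟶ Y) := by ext; exact (Category.id_comp _).symm
  apply Over.OverMorphism.ext
  show y.left ≫ l = _
  rw [hl y.left hy, indep i (i₀ y.left hy) x (K ≫ (Over.homMk (k₀ y.left hy) (hk₀ y.left hy) :
    Over.mk (y.left ≫ Y.hom) ⟶ Over.mk (f (i₀ y.left hy))))]
  refine Eq.trans ?_ (congrArg (fun t => t.left) ((nat K (i₀ y.left hy) _ _).trans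
    (congrArg (Φ (i₀ y.left hy) _) ey.symm)))
  exact (Category.id_comp _).symm

end glue

section div

variable {G X : Over S} [GrpObj G] {a : AlgGrp.Action G X} (ha : NonAbH1.IsPseudoTorsorSch a)

/-- The translation carrying `x` to `y`. -/
noncomputable def dv {T : Over S} (x y : T ⟶ X) : T ⟶ G := (existsUnique_actPt ha x y).choose

theorem actPt_dv {T : Over S} (x y : T ⟶ X) : actPt a (dv ha x y) x = y :=
  (existsUnique_actPt ha x y).choose_spec.1

theorem dv_unique {T : Over S} {x y : T ⟶ X} {g : T ⟶ G} (h : actPt a g x = y) : dv ha x y = g :=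
  (existsUnique_actPt ha x y).unique (actPt_dv ha x y) h

theorem comp_dv {T T' : Over S} (k : T' ⟶ T) (x y : T ⟶ X) :
    k ≫ dv ha x y = dv ha (k ≫ x) (k ≫ y) :=
  (dv_unique ha (by rw [← comp_actPt, actPt_dv])).symm

theorem dv_trans {T : Over S} (x y z : T ⟶ X) : dv ha x z = dv ha y z * dv ha x y :=
  dv_unique ha (by rw [actPt_mul, actPt_dv, actPt_dv])

theorem dv_self {T : Over S} (x : T ⟶ X) : dv ha x x = 1 :=
  dv_unique ha (actPt_one a x)

theorem dv_actPt {T : Over S} (g : T ⟶ G) (x y : T ⟶ X) : dv ha x (actPt a g y) = g * dv ha x y :=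
  dv_unique ha (by rw [actPt_mul, actPt_dv])

end div

theorem actPt_equivariant {G G' X X' : Over S} [GrpObj G] [GrpObj G'] (u : G ⟶ G')
    {a : AlgGrp.Action G X} {a' : AlgGrp.Action G' X'} (q : X ⟶ X')
    (hq : a.act ≫ q = lift (fst G X ≫ u) (snd G X ≫ q) ≫ a'.act) {T : Over S} (g : T ⟶ G) (x : T ⟶ X) :
    actPt a g x ≫ q = actPt a' (g ≫ u) (x ≫ q) := by
  rw [actPt, actPt, Category.assoc, hq, ← Category.assoc, comp_lift, lift_fst_assoc, lift_snd_assoc]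

end Groth.Agent.FlatMor12.TorsorPush
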