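import Groth.Agent.FlatMor12.TorsorPush
import Groth.Agent.Desc19b.EffAffine

/-!
# Pushforward of an fpqc torsor along a homomorphism into an affine group scheme
-/

set_option autoImplicit false
set_option backward.isDefEq.respectTransparency false
set_option backward.isDefEq.respectTransparency.types false

universe u

open CategoryTheory Limits MonoidalCategory CartesianMonoidalCategory MonObj GrpObj AlgebraicGeometry
open NonAbLib Groth.Agent.FlatMor12.TorsorPush

namespace Groth.Agent.FlatMor12.TorsorTwist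

variable {S : Scheme.{u}} {J J' P : Over S} [GrpObj J] [GrpObj J'] (u : J ⟶ J') [IsMonHom u]
  {a : AlgGrp.Action J P} (hps : NonAbH1.IsPseudoTorsorSch a)
  {I : Type u} {V : I → Scheme.{u}} (f : ∀ i, V i ⟶ S) (s : ∀ i, Over.mk (f i) ⟶ P)

/-- The transition element between two charts. -/
noncomputable def δ {T : Over S} {i j : I} (x : T ⟶ Over.mk (f i)) (y : T ⟶ Over.mk (f j)) : T ⟶ J' :=
  dv hps (y ≫ s j) (x ≫ s i) ≫ u

theorem δ_self {T : Over S} {i : I} (x : T ⟶ Over.mk (f i)) : δ u hps f s x x = 1 := by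
  rw [δ, dv_self, MonObj.one_comp]

theorem δ_trans {T : Over S} {i j k : I} (x : T ⟶ Over.mk (f i)) (y : T ⟶ Over.mk (f j))
    (z : T ⟶ Over.mk (f k)) : δ u hps f s x y * δ u hps f s y z = δ u hps f s x z := by
  rw [δ, δ, δ, ← MonObj.mul_comp, ← dv_trans]

theorem comp_δ {T T' : Over S} (k : T' ⟶ T) {i j : I} (x : T ⟶ Over.mk (f i)) (y : T ⟶ Over.mk (f j)) :
    k ≫ δ u hps f s x y = δ u hps f s (k ≫ x) (k ≫ y) := by
  rw [δ, δ, ← Category.assoc, comp_dv, Category.assoc, Category.assoc]

/-- The chart over `V i`. -/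
noncomputable abbrev chart (J' : Over S) (i : I) : Over (V i) := Over.mk (pullback.snd J'.hom (f i))

/-- A point of the chart as a point of `J'`. -/
noncomputable def toJ {T : Scheme.{u}} {i : I} {x : T ⟶ V i} (v : Desc.Lifts (chart f J' i) x) {t : T ⟶ S}
    (h : x ≫ f i = t) : Over.mk t ⟶ J' :=
  Over.homMk (v.1 ≫ pullback.fst J'.hom (f i)) (by
    have e : v.1 ≫ pullback.snd J'.hom (f i) = x := v.2
    rw [Category.assoc, pullback.condition, ← Category.assoc, e, h]
    rfl)

/-- A point of `J'` as a point of the chart. -/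
noncomputable def ofJ {T : Scheme.{u}} {i : I} (x : T ⟶ V i) {t : T ⟶ S} (g : Over.mk t ⟶ J')
    (h : x ≫ f i = t) : Desc.Lifts (chart f J' i) x :=
  ⟨pullback.lift g.left x ((Over.w g).trans h.symm), pullback.lift_snd _ _ _⟩

theorem toJ_ofJ {T : Scheme.{u}} {i : I} (x : T ⟶ V i) {t : T ⟶ S} (g : Over.mk t ⟶ J')
    (h : x ≫ f i = t) : toJ f (ofJ f x g h) h = g :=
  Over.OverMorphism.ext (pullback.lift_fst _ _ _)

theorem ofJ_toJ {T : Scheme.{u}} {i : I} {x : T ⟶ V i} (v : Desc.Lifts (chart f J' i) x) {t : T ⟶ S}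
    (h : x ≫ f i = t) : ofJ f x (toJ f v h) h = v :=
  Subtype.ext (pullback.hom_ext (pullback.lift_fst _ _ _) ((pullback.lift_snd _ _ _).trans v.2.symm))

/-- The glueing function. -/
noncomputable def glueFun {T : Scheme.{u}} {i j : I} (x₀ : T ⟶ V i) (x₁ : T ⟶ V j) {t : T ⟶ S}
    (h₀ : x₀ ≫ f i = t) (h₁ : x₁ ≫ f j = t) (v : Desc.Lifts (chart f J' i) x₀) : Desc.Lifts (chart f J' j) x₁ :=
  ofJ f x₁ (toJ f v h₀ * δ u hps f s (Over.homMk x₀ h₀ : Over.mk t ⟶ Over.mk (f i))
    (Over.homMk x₁ h₁ : Over.mk t ⟶ Over.mk (f j))) h₁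

/-- The descent datum of the twist. -/
noncomputable def twist : Desc.SchDDFam f where
  obj i := chart f J' i
  φ T i j x₀ x₁ h :=
    { toFun := glueFun u hps f s x₀ x₁ rfl h.symm
      invFun := glueFun u hps f s x₁ x₀ h.symm rfl
      left_inv := fun v => by
        simp only [glueFun, toJ_ofJ, _root_.mul_assoc, δ_trans, δ_self, _root_.mul_one, ofJ_toJ]
      right_inv := fun v => by
        simp only [glueFun, toJ_ofJ, _root_.mul_assoc, δ_trans, δ_self, _root_.mul_one, ofJ_toJ] }
  φ_natural T T' g i j x₀ x₁ h y₀ y₁ hy₀ hy₁ h' v v' hv' := by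
    subst hy₀ hy₁
    dsimp only [Equiv.coe_fn_mk, glueFun, ofJ]
    let K : Over.mk ((g ≫ x₀) ≫ f i) ⟶ Over.mk (x₀ ≫ f i) := Over.homMk g (Category.assoc _ _ _).symm
    have e1 : toJ f v' rfl = K ≫ toJ f v rfl := Over.OverMorphism.ext (by
      show v'.1 ≫ _ = g ≫ v.1 ≫ _
      rw [hv', Category.assoc])
    apply pullback.hom_ext
    · refine (pullback.lift_fst _ _ _).trans (Eq.trans ?_
        ((Category.assoc _ _ _).trans (congrArg (g ≫ ·) (pullback.lift_fst _ _ _))).symm)
      show _ = (K ≫ _).left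
      rw [MonObj.comp_mul, comp_δ, ← e1]
      rfl
    · exact (pullback.lift_snd _ _ _).trans
        ((Category.assoc _ _ _).trans (congrArg (g ≫ ·) (pullback.lift_snd _ _ _))).symm
  φ_self T i x v := by
    show glueFun u hps f s x x rfl rfl v = v
    rw [glueFun, δ_self, _root_.mul_one, ofJ_toJ]
  φ_comp T i j k x₀ x₁ x₂ h₀₁ h₁₂ v := by
    have aux : ∀ {t : T ⟶ S} (e₁ : x₁ ≫ f j = t) (e₂ : x₂ ≫ f k = t) (w : Desc.Lifts (chart f J' j) x₁),
        glueFun u hps f s x₁ x₂ rfl h₁₂.symm w = glueFun u hps f s x₁ x₂ e₁ e₂ w := by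
      intro t e₁ e₂ w
      subst e₁
      rfl
    show glueFun u hps f s x₁ x₂ rfl h₁₂.symm (glueFun u hps f s x₀ x₁ rfl h₀₁.symm v) =
      glueFun u hps f s x₀ x₂ rfl (h₀₁.trans h₁₂).symm v
    rw [aux h₀₁.symm (h₀₁.trans h₁₂).symm]
    simp only [glueFun, toJ_ofJ, _root_.mul_assoc, δ_trans]

include hps in
/-- Chart coordinates on a scheme realising the twist. -/
theorem exists_coord (hf : Presieve.ofArrows V f ∈ Scheme.fpqcPrecoverage S) [IsAffineHom J'.hom] :
    ∃ (U : Over S) (E : ∀ {T : Over S} (i : I), (T ⟶ Over.mk (f i)) → (T ⟶ U) → (T ⟶ J'))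
      (F : ∀ {T : Over S} (i : I), (T ⟶ Over.mk (f i)) → (T ⟶ J') → (T ⟶ U)),
      (∀ {T : Over S} (i : I) (x : T ⟶ Over.mk (f i)) (y : T ⟶ U), F i x (E i x y) = y) ∧
      (∀ {T : Over S} (i : I) (x : T ⟶ Over.mk (f i)) (g : T ⟶ J'), E i x (F i x g) = g) ∧
      (∀ {T T' : Over S} (k : T' ⟶ T) (i : I) (x : T ⟶ Over.mk (f i)) (y : T ⟶ U),
        k ≫ E i x y = E i (k ≫ x) (k ≫ y)) ∧
      (∀ {T : Over S} (i j : I) (x : T ⟶ Over.mk (f i)) (x' : T ⟶ Over.mk (f j)) (y : T ⟶ U),
        E j x' y = E i x y * δ u hps f s x x') := by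
  obtain ⟨U, ⟨e⟩⟩ := Groth.Agent.Desc19b.isEffective_of_isAffineHom hf (twist u hps f s) fun i =>
    MorphismProperty.pullback_snd (P := @IsAffineHom) J'.hom (f i) ‹IsAffineHom J'.hom›
  let A : ∀ i, pullback (f i) U.hom ⟶ pullback J'.hom (f i) := fun i => (e.hom.hom i).left
  let B : ∀ i, pullback J'.hom (f i) ⟶ pullback (f i) U.hom := fun i => (e.inv.hom i).left
  have hA : ∀ i, A i ≫ pullback.snd J'.hom (f i) = pullback.fst (f i) U.hom := fun i => Over.w (e.hom.hom i)
  have hB : ∀ i, B i ≫ pullback.fst (f i) U.hom = pullback.snd J'.hom (f i) := fun i => Over.w (e.inv.hom i)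
  let E₀ : ∀ {T : Over S} (i : I), (T ⟶ Over.mk (f i)) → (T ⟶ U) → (T ⟶ J') := fun {T} i x y =>
    Over.homMk (pullback.lift x.left y.left (show x.left ≫ f i = y.left ≫ U.hom from (Over.w x).trans (Over.w y).symm) ≫ A i ≫
      pullback.fst J'.hom (f i)) (by
      rw [Category.assoc, Category.assoc, pullback.condition, reassoc_of% (hA i), pullback.lift_fst_assoc]
      exact Over.w x)
  let F₀ : ∀ {T : Over S} (i : I), (T ⟶ Over.mk (f i)) → (T ⟶ J') → (T ⟶ U) := fun {T} i x g =>
    Over.homMk (pullback.lift g.left x.left (show g.left ≫ J'.hom = x.left ≫ f i from (Over.w g).trans (Over.w x).symm) ≫ B i ≫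
      pullback.snd (f i) U.hom) (by
      rw [Category.assoc, Category.assoc, ← pullback.condition, reassoc_of% (hB i), pullback.lift_snd_assoc]
      exact Over.w x)
  have hinv1 : ∀ i, A i ≫ B i = 𝟙 _ := fun i =>
    congrArg (fun t => (t.hom i).left) e.hom_inv_id
  have hinv2 : ∀ i, B i ≫ A i = 𝟙 _ := fun i =>
    congrArg (fun t => (t.hom i).left) e.inv_hom_id
  refine ⟨U, E₀, F₀, fun {T} i x y => Over.OverMorphism.ext ?_, fun {T} i x g => Over.OverMorphism.ext ?_,
    fun {T T'} k i x y => Over.OverMorphism.ext ?_, fun {T} i j x x' y => ?_⟩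
  · simp only [E₀, F₀, Over.homMk_left]
    have : pullback.lift (pullback.lift x.left y.left (show x.left ≫ f i = y.left ≫ U.hom from (Over.w x).trans (Over.w y).symm) ≫ A i ≫
        pullback.fst J'.hom (f i)) x.left (by
          rw [Category.assoc, Category.assoc, pullback.condition]
          rw [reassoc_of% (hA i), pullback.lift_fst_assoc]) =
        pullback.lift x.left y.left (show x.left ≫ f i = y.left ≫ U.hom from (Over.w x).trans (Over.w y).symm) ≫ A i := by
      apply pullback.hom_ext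
      · rw [pullback.lift_fst, Category.assoc]
      · have h1 : A i ≫ pullback.snd J'.hom (f i) = pullback.fst (f i) U.hom := Over.w (e.hom.hom i)
        rw [pullback.lift_snd, Category.assoc, hA i, pullback.lift_fst]
    rw [this, Category.assoc, reassoc_of% (hinv1 i)]
    exact pullback.lift_snd _ _ _
  · simp only [E₀, F₀, Over.homMk_left]
    have : pullback.lift x.left (pullback.lift g.left x.left (show g.left ≫ J'.hom = x.left ≫ f i from (Over.w g).trans (Over.w x).symm) ≫
        B i ≫ pullback.snd (f i) U.hom) (by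
          rw [Category.assoc, Category.assoc, ← pullback.condition]
          rw [reassoc_of% (hB i), pullback.lift_snd_assoc]) =
        pullback.lift g.left x.left (show g.left ≫ J'.hom = x.left ≫ f i from (Over.w g).trans (Over.w x).symm) ≫ B i := by
      apply pullback.hom_ext
      · have h1 : B i ≫ pullback.fst (f i) U.hom = pullback.snd J'.hom (f i) := Over.w (e.inv.hom i)
        rw [pullback.lift_fst, Category.assoc, hB i, pullback.lift_snd]
      · rw [pullback.lift_snd, Category.assoc]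
    rw [this, Category.assoc, reassoc_of% (hinv2 i)]
    exact pullback.lift_fst _ _ _
  · simp only [E₀, Over.homMk_left, Over.comp_left, ← Category.assoc]
    congr 2
    exact pullback.hom_ext (by simp) (by simp)
  · obtain ⟨T₀, ⟨⟩, t⟩ := T
    let v₀ : Desc.Lifts (((Desc.toDDFam f).obj U).obj i) x.left :=
      ⟨pullback.lift x.left y.left (show x.left ≫ f i = y.left ≫ U.hom from (Over.w x).trans (Over.w y).symm), pullback.lift_fst _ _ _⟩
    have hh : x.left ≫ f i = x'.left ≫ f j := (Over.w x).trans (Over.w x').symm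
    have hc := e.hom.comm x.left x'.left hh v₀ (Desc.SchDDFam.Hom.push e.hom v₀) rfl
    have hφ : (((Desc.toDDFam f).obj U).φ x.left x'.left hh v₀).1 =
        pullback.lift x'.left y.left (show x'.left ≫ f j = y.left ≫ U.hom from (Over.w x').trans (Over.w y).symm) := by
      apply pullback.hom_ext <;> simp [v₀, Desc.toDDFam, Desc.canonicalDDFam]
    rw [hφ] at hc
    have aux : ∀ {t' : T₀ ⟶ S} (e₀ : x.left ≫ f i = t') (e₁ : x'.left ≫ f j = t')
        (w : Desc.Lifts (chart f J' i) x.left),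
        glueFun u hps f s x.left x'.left rfl hh.symm w = glueFun u hps f s x.left x'.left e₀ e₁ w := by
      intro t' e₀ e₁ w
      subst e₀
      rfl
    let w₀ : Desc.Lifts (chart f J' i) x.left := Desc.SchDDFam.Hom.push e.hom v₀
    have hc' : (glueFun u hps f s x.left x'.left (Over.w x) (Over.w x') w₀).1 =
        pullback.lift x'.left y.left (show x'.left ≫ f j = y.left ≫ U.hom from (Over.w x').trans (Over.w y).symm) ≫ A j := by
      rw [← aux (Over.w x) (Over.w x')]
      exact hc
    apply Over.OverMorphism.ext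
    simp only [E₀, Over.homMk_left]
    rw [← Category.assoc, ← hc', glueFun, ofJ]
    refine (pullback.lift_fst _ _ _).trans ?_
    have ex : (Over.homMk x.left (Over.w x) : Over.mk t ⟶ Over.mk (f i)) = x := by ext; rfl
    have ex' : (Over.homMk x'.left (Over.w x') : Over.mk t ⟶ Over.mk (f j)) = x' := by ext; rfl
    have ew : toJ f w₀ (Over.w x) = E₀ i x y := by
      apply Over.OverMorphism.ext
      exact Category.assoc _ _ _
    erw [ex, ex', ew]

end Groth.Agent.FlatMor12.TorsorTwist
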