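import Groth.Agent.TwistLib.TwistInv
import Groth.Agent.AmpleLib.RestrictTensor
import Groth.Agent.FlatMor12.AmpleRestrict
import Groth.Agent.H8Constr.TwistFrac

/-!
# Ampleness of a twist on quasi-compact opens of a projective spectrum
-/

set_option autoImplicit false
set_option backward.isDefEq.respectTransparency.types false

universe u

open CategoryTheory CategoryTheory.Limits AlgebraicGeometry Opposite TopologicalSpace
open Groth.Agent.Coherent Groth.Agent.PicLib Groth.Agent.AmpleLib Groth.Agent.TwistLib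
open HomogeneousLocalization (Away)
open scoped AlgebraicGeometry

namespace Groth.Agent.FlatMor12.TwistAmpleOpen

theorem glocus_restrict {X : Scheme.{u}} {L : X.Modules} (O : X.Opens) (a : Γ(L, ⊤)) :
    glocus (L.restrict O.ι) ((L.restrictAppIso O.ι ⊤).inv (resM L le_top a)) = O.ι ⁻¹ᵁ glocus L a := by
  have hres : ∀ (W : O.toScheme.Opens),
      resM (L.restrict O.ι) (le_top : W ≤ ⊤) ((L.restrictAppIso O.ι ⊤).inv (resM L le_top a)) =
        (L.restrictAppIso O.ι W).inv (resM L le_top a) := fun W => by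
    rw [← resM_resM L (le_top : O.ι ''ᵁ ⊤ ≤ ⊤) (O.ι.image_mono (le_top : W ≤ ⊤)) a]
    rfl
  refine eq_of_forall_le_iff fun W => ?_
  rw [le_glocus_iff, hres]
  refine ⟨fun h => ?_, fun h => ?_⟩
  · have h1 := isGen_image_of_restrict' h
    intro x hx
    exact (le_glocus_iff a _).2 h1 ⟨x, hx, rfl⟩
  · have h1 := (le_glocus_iff a (O.ι ''ᵁ W)).1 (fun y ⟨x, hx, e⟩ => e ▸ h hx)
    have h2 := AmpleFamily.isGen_restrict_opens O h1
    rw [resM_resM] at h2
    have h3 := h2.restrict (V := W) (fun x hx => ⟨x, hx, rfl⟩)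
    rw [← hres] at h3
    rw [← hres]
    convert h3 using 1
    rw [← hres]
    exact (resM_resM _ _ _ _).symm
where
  isGen_image_of_restrict' {X : Scheme.{u}} {L : X.Modules} {O : X.Opens} {W : O.toScheme.Opens} {a : Γ(L, ⊤)}
      (h : IsGen (L.restrict O.ι) W ((L.restrictAppIso O.ι W).inv (resM L le_top a))) :
      IsGen L (O.ι ''ᵁ W) (resM L le_top a) := by
    have := AmpleFamily.isGen_image_of_restrict h
    rwa [← ConcreteCategory.comp_apply, Iso.inv_hom_id] at this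

theorem isIso_restrictTensorHom_of_gens {X Z : Scheme.{u}} (j : Z ⟶ X) [IsOpenImmersion j] (F M : X.Modules)
    (hgen : ∀ z : Z, ∃ (V : X.Opens) (_ : j z ∈ V) (g : Γ(M, V)), IsGen M V g) :
    IsIso (restrictTensorHom j F M) := by
  have hloc : ∀ z : Z, ∃ (W : Z.Opens) (g : Γ(M.restrict j, W)), z ∈ W ∧ IsGen _ W g ∧
      IsGen M (j ''ᵁ W) ((M.restrictAppIso j W).hom g) := fun z => by
    obtain ⟨V, hzV, g, hg⟩ := hgen z
    let W := j ⁻¹ᵁ V
    have hle : j ''ᵁ W ≤ V := Set.image_preimage_subset _ _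
    have hgW := hg.restrict hle
    refine ⟨W, (M.restrictAppIso j W).inv (resM M hle g), hzV, fun T hT => ?_, ?_⟩
    · have hb := (ConcreteCategory.bijective_of_isIso (M.restrictAppIso j T).inv).comp
        ((hgW (j ''ᵁ T) (j.image_mono hT)).comp (ConcreteCategory.bijective_of_isIso (j.appIso T).inv))
      convert hb using 1
      funext r
      apply (ConcreteCategory.bijective_of_isIso (M.restrictAppIso j T).hom).1
      rw [Scheme.Modules.smul_restrictAppIso_hom_apply]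
      rfl
    · rw [← ConcreteCategory.comp_apply _ (M.restrictAppIso j W).hom, Iso.inv_hom_id]
      exact hgW
  have hmono : Mono (restrictTensorHom j F M) := by
    have hinj : ∀ (U : Z.Opens) (a : Γ(CohB1.tensorMod (F.restrict j) (M.restrict j), U)),
        (restrictTensorHom j F M).app U a = 0 → a = 0 := fun U a ha => by
      refine sec_ext _ _ _ fun z hz => ?_
      obtain ⟨W, g, hzW, hg, hg'⟩ := hloc z
      refine ⟨U ⊓ W, inf_le_left, ⟨hz, hzW⟩, ?_⟩
      obtain ⟨x, hx⟩ := (bijective_tmul_gen (M := F.restrict j) hg (U ⊓ W) inf_le_right).2 (resM _ inf_le_left a)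
      rw [map_zero]
      refine hx.symm.trans ?_
      have h0 := congrArg (resM _ (inf_le_left : U ⊓ W ≤ U)) ha
      rw [← app_resM, ← hx, restrictTensorHom_tmul, map_zero] at h0
      replace h0 := congrArg ((CohB1.tensorMod F M).restrictAppIso j (U ⊓ W)).hom h0
      rw [← ConcreteCategory.comp_apply _ ((CohB1.tensorMod F M).restrictAppIso j (U ⊓ W)).hom,
        Iso.inv_hom_id, map_zero] at h0
      replace h0 : tmul ((F.restrictAppIso j _).hom x)
          (resM M (j.image_mono (inf_le_right : U ⊓ W ≤ W)) ((M.restrictAppIso j W).hom g)) = 0 := h0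
      have hx0 : (F.restrictAppIso j (U ⊓ W)).hom x = 0 :=
        (bijective_tmul_gen (M := F) hg' _ (j.image_mono inf_le_right)).1 (h0.trans (tmul_zero_left _).symm)
      show tmul x _ = 0
      rw [(ConcreteCategory.bijective_of_isIso (F.restrictAppIso j (U ⊓ W)).hom).1 (hx0.trans (map_zero _).symm),
        tmul_zero_left]
    refine ⟨fun a b hab => Scheme.Modules.hom_ext _ _ fun U => ?_⟩
    ext t
    rw [← sub_eq_zero]
    refine hinj U _ ?_
    rw [map_sub, sub_eq_zero]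
    exact ConcreteCategory.congr_hom (congrArg (fun φ => Scheme.Modules.Hom.app φ U) hab) t
  have hepi : Epi (restrictTensorHom j F M) := by
    refine epi_of_locally_surjective _ fun U a z hz => ?_
    obtain ⟨W, g, hzW, hg, hg'⟩ := hloc z
    let T := U ⊓ W
    obtain ⟨x, hx⟩ := (bijective_tmul_gen (M := F) hg' (j ''ᵁ T) (j.image_mono inf_le_right)).2
      (((CohB1.tensorMod F M).restrictAppIso j T).hom (resM _ inf_le_left a))
    refine ⟨T, inf_le_left, ⟨hz, hzW⟩, tmul ((F.restrictAppIso j T).inv x) (resM _ inf_le_right g), ?_⟩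
    rw [restrictTensorHom_tmul, ← ConcreteCategory.comp_apply _ (F.restrictAppIso j T).hom, Iso.inv_hom_id]
    apply (ConcreteCategory.bijective_of_isIso ((CohB1.tensorMod F M).restrictAppIso j T).hom).1
    rw [← ConcreteCategory.comp_apply _ ((CohB1.tensorMod F M).restrictAppIso j T).hom, Iso.inv_hom_id]
    exact hx
  exact isIso_of_mono_of_epi _

variable {R A : Type u} [CommRing R] [CommRing A] [Algebra R A] {𝒜 : ℕ → Submodule R A} [GradedAlgebra 𝒜]
  (d : ℕ)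

/-- The open covered by the charts of degree `d`. -/
abbrev chartOpen : (Proj 𝒜).Opens := ⨆ f : 𝒜 d, Proj.basicOpen 𝒜 (f : A)

/-- `O(m)` on the open of degree `d` charts. -/
noncomputable abbrev twistOn (m : ℤ) : (chartOpen (𝒜 := 𝒜) d).toScheme.Modules :=
  (Twist.twist 𝒜 m).restrict (chartOpen (𝒜 := 𝒜) d).ι

theorem isInvertible_twistOn : PicF.IsInvertible (twistOn (𝒜 := 𝒜) d (d : ℤ)) := by
  have := isInvertible_twist_restrict (𝒜 := 𝒜) d 1 (chartOpen d) le_rfl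
  rwa [one_mul] at this

theorem nonempty_step (k : ℕ) :
    Nonempty (CohB1.tensorMod (twistOn (𝒜 := 𝒜) d ((k * d : ℕ) : ℤ)) (twistOn (𝒜 := 𝒜) d (d : ℤ)) ≅
      twistOn (𝒜 := 𝒜) d (((k + 1) * d : ℕ) : ℤ)) := by
  let U := chartOpen (𝒜 := 𝒜) d
  have h : ((k * d : ℕ) : ℤ) + (d : ℤ) = (((k + 1) * d : ℕ) : ℤ) := by push_cast; ring
  let φ := (mulBilin (𝒜 := 𝒜) 𝒜 h).desc
  have hφ : IsIso ((Scheme.Modules.restrictFunctor U.ι).map φ) := by
    refine isIso_of_bijective_on _ (fun f : 𝒜 d => U.ι ⁻¹ᵁ Proj.basicOpen 𝒜 (f : A))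
      (fun x => ?_) fun f V hV => ?_
    · obtain ⟨f, hf⟩ := Opens.mem_iSup.1 x.2
      exact ⟨f, hf⟩
    · exact desc_mulBilin_bijective f.2 𝒜 h (m := 1) (one_mul _).symm
        (fun y ⟨z, hz, e⟩ => e ▸ hV hz)
  have : IsIso (restrictTensorHom U.ι (GrTilde.tilde 𝒜 𝒜 ((k * d : ℕ) : ℤ)) (Twist.twist 𝒜 (d : ℤ))) := by
    refine isIso_restrictTensorHom_of_gens _ _ _ fun z => ?_
    obtain ⟨f, hf⟩ := Opens.mem_iSup.1 z.2
    have key : ∀ N : ℤ, (1 : ℤ) * d = N → ∃ (V : (Proj 𝒜).Opens) (_ : U.ι z ∈ V) (g : Γ(Twist.twist 𝒜 N, V)),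
        IsGen (Twist.twist 𝒜 N) V g := by
      rintro N rfl
      exact ⟨_, hf, _, isGen_tau f.2 1⟩
    exact key _ (one_mul _)
  exact ⟨tensorIso ((Scheme.Modules.restrictFunctor U.ι).mapIso (twistIsoTilde 𝒜 _)) (Iso.refl _) ≪≫
    asIso (restrictTensorHom U.ι (GrTilde.tilde 𝒜 𝒜 ((k * d : ℕ) : ℤ)) (Twist.twist 𝒜 (d : ℤ))) ≪≫
    asIso ((Scheme.Modules.restrictFunctor U.ι).map φ) ≪≫
    ((Scheme.Modules.restrictFunctor U.ι).mapIso (twistIsoTilde 𝒜 _)).symm⟩

theorem nonempty_pow : ∀ k : ℕ,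
    Nonempty (twistOn (𝒜 := 𝒜) d ((k * d : ℕ) : ℤ) ≅ CohB1.tensorPow (twistOn (𝒜 := 𝒜) d (d : ℤ)) k)
  | 0 => by
    obtain ⟨e⟩ := nonempty_twist_zero_iso (𝒜 := 𝒜)
    obtain ⟨e'⟩ := exists_pullStructureIso (chartOpen (𝒜 := 𝒜) d).ι
    rw [zero_mul, Nat.cast_zero]
    exact ⟨(Scheme.Modules.restrictFunctor _).mapIso e ≪≫
      (Scheme.Modules.restrictFunctorIsoPullback _).app _ ≪≫ e'⟩
  | k + 1 => by
    obtain ⟨e⟩ := nonempty_pow k
    obtain ⟨e'⟩ := nonempty_step (𝒜 := 𝒜) d k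
    exact ⟨e'.symm ≪≫ tensorIso e (Iso.refl _)⟩

variable {d}

/-- On the degree `d` charts the locus of an element of degree `n d` is its standard open. -/
theorem glocus_globalOf_inf {n : ℕ} {g : A} (hg : g ∈ 𝒜 (n * d)) :
    glocus (Twist.twist 𝒜 ((n * d : ℕ) : ℤ))
      (show Γ(Twist.twist 𝒜 ((n * d : ℕ) : ℤ), ⊤) from Twist.globalOf 𝒜 ⟨g, hg⟩) ⊓ chartOpen d =
      Proj.basicOpen 𝒜 g ⊓ chartOpen d := by
  refine le_antisymm ?_ (inf_le_inf_right _ ?_)
  · rintro x ⟨hx, hxU⟩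
    obtain ⟨⟨f, hf⟩, hfx⟩ := Opens.mem_iSup.1 hxU
    refine ⟨?_, hxU⟩
    have hgen := isGen_tau hf (n : ℤ)
    have key : ∀ (N : ℤ) (b : Γ(Twist.twist 𝒜 N, ⊤)), N = (n : ℤ) * d →
        (∀ y : (⊤ : (Proj 𝒜).Opens), ((show Twist.sectN (𝒜 := 𝒜) N (op ⊤) from b).1 y).1 = Localization.mk g 1) →
        x ∈ glocus (Twist.twist 𝒜 N) b → x ∈ Proj.basicOpen 𝒜 g := by
      rintro N b rfl hb hxb
      have hmem := (glocus_inf b hgen).le ⟨hxb, hfx⟩
      have hP : g ∈ 𝒜 (n • d) := by simpa using hg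
      have hc : hgen.coef le_rfl (resM (Twist.twist 𝒜 ((n : ℤ) * d)) le_top b) =
          (Proj.awayToSection 𝒜 f).hom (Away.mk 𝒜 hf n g hP) := by
        refine hgen.coef_eq _ (sectN_ext fun y => ?_)
        refine (Twist.coe_smul_val _ y.1 _ _).trans ?_
        refine (congrArg (· * _) (val_awayToSection_mk hf n g hP y)).trans ?_
        refine Eq.trans ?_ (hb ⟨y.1, trivial⟩).symm
        refine (congrArg (Localization.mk g _ * ·) (tau_val hf (n : ℤ) _ le_rfl y)).trans ?_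
        exact (Localization.mk_mul _ _ _ _).trans (Localization.mk_eq_mk_iff.2 (Localization.r_iff_exists.2
          ⟨1, by simp only [Submonoid.coe_mul, Submonoid.coe_one, Int.toNat_natCast, Int.toNat_neg_natCast]; ring⟩))
      rw [hc, basicOpen_away hf n g hP, Proj.basicOpen_mul] at hmem
      exact hmem.2
    exact key _ _ (by push_cast; ring) (fun y => rfl) hx
  · rw [le_glocus_iff]
    intro V hV
    refine Function.Bijective.of_comp_iff' (f := id) Function.bijective_id _ |>.1 ?_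
    show Function.Bijective fun c : Twist.O (𝒜 := 𝒜) (op V) => oSmul c
      (show Twist.sectN (𝒜 := 𝒜) ((n * d : ℕ) : ℤ) (op V) from Twist.resN _ (homOfLE le_top).op
        (Twist.globalOf 𝒜 ⟨g, hg⟩))
    have key : ∀ (N : ℤ) (b : Twist.sectN (𝒜 := 𝒜) N (op V)), N = (1 : ℤ) * (n * d : ℕ) →
        (∀ x : V, (b.1 x).1 = Localization.mk g 1) →
        Function.Bijective fun c : Twist.O (𝒜 := 𝒜) (op V) => oSmul c b := by
      rintro N b rfl hb
      convert smul_tau_bijective hg 1 V hV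
      refine sectN_ext fun x => (hb x).trans ?_
      rw [tau_val]
      refine congrArg₂ Localization.mk (by simp) (Subtype.ext (by simp))
    exact key _ _ (one_mul _).symm fun x => rfl

theorem exists_homogeneous_pos {W : (Proj 𝒜).Opens} {x : Proj 𝒜} (hx : x ∈ W) :
    ∃ (k : ℕ) (g : A), 0 < k ∧ g ∈ 𝒜 k ∧ x ∈ Proj.basicOpen 𝒜 g ∧ Proj.basicOpen 𝒜 g ≤ W := by
  obtain ⟨_, ⟨r, rfl⟩, hxr, hrW⟩ :=
    (ProjectiveSpectrum.isTopologicalBasis_basic_opens 𝒜).exists_subset_of_mem_open hx W.2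
  have hx' : x ∈ (⨆ i : ℕ, ProjectiveSpectrum.basicOpen 𝒜 (GradedRing.proj 𝒜 i r)) :=
    (ProjectiveSpectrum.basicOpen_eq_union_of_projection 𝒜 r) ▸ hxr
  obtain ⟨i, hi⟩ := Opens.mem_iSup.1 hx'
  obtain ⟨e, h, he, hh, hhx⟩ := H8Constr.exists_pos_deg_notMem (𝒜 := 𝒜) x
  refine ⟨i + e, GradedRing.proj 𝒜 i r * h, by omega, SetLike.mul_mem_graded (SetLike.coe_mem _) hh, ?_,
    fun y hy => hrW ?_⟩
  · rw [Proj.basicOpen_mul]
    exact ⟨hi, hhx⟩
  · rw [Proj.basicOpen_mul] at hy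
    show y ∈ ProjectiveSpectrum.basicOpen 𝒜 r
    exact (ProjectiveSpectrum.basicOpen_eq_union_of_projection 𝒜 r).ge (Opens.mem_iSup.2 ⟨i, hy.1⟩)

theorem exists_twist_isAmple (X : Scheme.{u}) [CompactSpace X] (j : X ⟶ Proj 𝒜) [IsOpenImmersion j] :
    ∃ d : ℕ, 0 < d ∧ CohB1.IsAmple ((Scheme.Modules.pullback j).obj (Twist.twist 𝒜 (d : ℤ))) := by
  classical
  obtain ⟨s, hs, hcov⟩ := H8Constr.exists_finset_cover (𝒜 := 𝒜) (Y := j.opensRange) (by
    rw [Scheme.Hom.coe_opensRange]; exact isCompact_range j.continuous)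
  choose deg hdeg0 hdeg using hs
  let d := ∏ f : s, deg f.1 f.2
  have hd : 0 < d := Finset.prod_pos fun f _ => hdeg0 f.1 f.2
  refine ⟨d, hd, ?_⟩
  let U := chartOpen (𝒜 := 𝒜) d
  have hjU : j.opensRange ≤ U := fun y hy => by
    obtain ⟨f, hfs, hfy⟩ := hcov y hy
    obtain ⟨c, hc⟩ : deg f hfs ∣ d := Finset.dvd_prod_of_mem (fun f : s => deg f.1 f.2) (Finset.mem_univ ⟨f, hfs⟩)
    have hfc : f ^ c ∈ 𝒜 d := by
      rw [hc, mul_comm]
      simpa using SetLike.pow_mem_graded c (hdeg f hfs)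
    exact Opens.mem_iSup.2 ⟨⟨f ^ c, hfc⟩, H8Constr.pow_basicOpen f c hfy⟩
  have hr : Set.range j ⊆ Set.range U.ι := by
    rw [Scheme.Opens.range_ι]
    exact hjU
  let j' := IsOpenImmersion.lift U.ι j hr
  have hj' : j' ≫ U.ι = j := IsOpenImmersion.lift_fac _ _ _
  have hL := isInvertible_twistOn (𝒜 := 𝒜) d
  refine isAmple_of_iso ((Scheme.Modules.pullback j').mapIso
      ((Scheme.Modules.restrictFunctorIsoPullback U.ι).app (Twist.twist 𝒜 (d : ℤ))) ≪≫
    (Scheme.Modules.pullbackComp j' U.ι).app _ ≪≫ (Scheme.Modules.pullbackCongr hj').app _) ?_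
  refine isAmple_iff_affGlocus.2 ⟨PicLoc.isInvertible_pullback j' hL, inferInstance, fun x => ?_⟩
  obtain ⟨k, g, hk, hg, hxg, hgle⟩ := exists_homogeneous_pos (𝒜 := 𝒜) (W := j.opensRange) ⟨x, rfl⟩
  have hgd : g ^ d ∈ 𝒜 (k * d) := by
    rw [mul_comm]; simpa using SetLike.pow_mem_graded d hg
  obtain ⟨e⟩ := nonempty_pow (𝒜 := 𝒜) d k
  obtain ⟨e', -⟩ := exists_pullPowIso j' hL k
  let a := ((Twist.twist 𝒜 ((k * d : ℕ) : ℤ)).restrictAppIso U.ι ⊤).inv (resM _ le_top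
      (show Γ(Twist.twist 𝒜 ((k * d : ℕ) : ℤ), ⊤) from Twist.globalOf 𝒜 ⟨g ^ d, hgd⟩))
  refine ⟨k, hk, e'.hom.app ⊤ (pullSec j' (e.hom.app ⊤ a)), ?_⟩
  have hloc : glocus _ (e'.hom.app ⊤ (pullSec j' (e.hom.app ⊤ a))) = j ⁻¹ᵁ Proj.basicOpen 𝒜 g := by
    erw [glocus_map_iso, glocus_pullSec j' (isInvertible_tensorPow hL k), glocus_map_iso, glocus_restrict]
    rw [← Scheme.Hom.comp_preimage, hj']
    refine Opens.ext (Set.ext fun y => ?_)
    have hyU : j y ∈ U := hjU ⟨y, rfl⟩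
    have h1 := glocus_globalOf_inf (d := d) (n := k) hgd
    have hpow : Proj.basicOpen 𝒜 (g ^ d) = Proj.basicOpen 𝒜 g := Proj.basicOpen_pow 𝒜 g d hd
    constructor
    · intro hy
      exact (hpow ▸ (h1.le ⟨hy, hyU⟩).1 :)
    · intro hy
      exact (h1.ge ⟨(hpow.symm ▸ hy :), hyU⟩).1
  rw [hloc]
  exact ⟨hxg, le_top, (Proj.isAffineOpen_basicOpen 𝒜 g hg hk).preimage_of_isOpenImmersion j hgle⟩

end Groth.Agent.FlatMor12.TwistAmpleOpen
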