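import Groth.Agent.EGA43.FibDepth.ConsAffine
import Groth.Agent.EGA43.Chevalley.Chart
import Groth.Agent.EGA43.Chevalley.Specialize
import Groth.Agent.EGA43.DimFormula.UnivDim
import Groth.Agent.EGA43.UnibranchOpen.Scheme
import Groth.Agent.EGA43.UnivOpen.AffineSpace
import Groth.Agent.FEtFF.NormalGeomUnibranch
import Groth.Agent.Desc19b.NormalSmooth
import Groth.Agent.H8ProCons.Image
import Groth.Agent.FlatMor12.ConnectedNhd

/-!
# Quasi-finite charts to affine space of universally open morphisms

If `A → R` is universally open and `A[T₁..T_e] → R` is quasi-finite, then the closed set of points whose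
fibre has dimension at least `e` is universally open over `A[T₁..T_e]`.
-/

set_option autoImplicit false
set_option maxHeartbeats 1000000
set_option backward.isDefEq.respectTransparency false

universe u

open CategoryTheory CategoryTheory.Limits AlgebraicGeometry TensorProduct IsLocalRing

namespace Groth.Agent.FlatMor12.UnivOpenChart

open Groth.Agent EGA43.FibDepth

/-- The primes at which the fibre has dimension at least `e`. -/
def dimGE (A : Type u) {R : Type u} [CommRing A] [CommRing R] [Algebra A R] (e : ℕ) : Set (PrimeSpectrum R) :=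
  {q | ∃ q' : PrimeSpectrum R, q'.asIdeal ≤ q.asIdeal ∧
    q'.asIdeal.comap (algebraMap A R) = q.asIdeal.comap (algebraMap A R) ∧ e ≤ trd A q'}

theorem exists_finset_zeroLocus_eq_dimGE (A R : Type u) [CommRing A] [CommRing R] [Algebra A R]
    [Algebra.FinitePresentation A R] (e : ℕ) :
    ∃ a : Finset R, PrimeSpectrum.zeroLocus (a : Set R) = dimGE A e := by
  classical
  rcases e with _ | m
  · refine ⟨∅, ?_⟩
    rw [Finset.coe_empty, PrimeSpectrum.zeroLocus_empty]
    exact (Set.eq_univ_of_forall (s := (dimGE A 0 : Set (PrimeSpectrum R)))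
      fun q => ⟨q, le_rfl, rfl, Nat.zero_le _⟩).symm
  have he : (dimGE A (m + 1) : Set (PrimeSpectrum R))ᶜ = trdLocus A Set.univ m := by
    ext q
    simp only [dimGE, trdLocus, Set.mem_compl_iff, Set.mem_ofPred_eq, not_exists, not_and, not_le,
      Set.mem_univ, true_imp_iff, Nat.lt_succ_iff]
  have ho : IsOpen (dimGE A (m + 1) : Set (PrimeSpectrum R))ᶜ := by
    rw [he]
    convert isOpen_trd_le (A := A) (R := R) m using 1
    ext q
    simp [trdLocus]
  have hc : IsCompact (dimGE A (m + 1) : Set (PrimeSpectrum R))ᶜ := by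
    rw [he]
    exact ConnectedNhd.isCompact_of_isConstructible (X := Spec (CommRingCat.of R))
      (isConstructible_trdLocus Topology.IsConstructible.univ m)
  obtain ⟨a, ha⟩ := PrimeSpectrum.isCompact_isOpen_iff.1 ⟨hc, ho⟩
  exact ⟨a, compl_injective ha⟩

/-- Lifting generalisations over valuation rings suffices for universal openness. -/
theorem universallyOpen_of_valuation {X Y : Scheme.{u}} (f : X ⟶ Y) [LocallyOfFinitePresentation f]
    (h : ∀ (V : Type u) [CommRing V] [IsDomain V] [ValuationRing V] (g : Spec (CommRingCat.of V) ⟶ Y)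
      (p : ↥(pullback f g)), pullback.snd f g p = closedPoint V →
        ∃ p' : ↥(pullback f g), p' ⤳ p ∧
          pullback.snd f g p' = (⟨⊥, Ideal.isPrime_bot⟩ : PrimeSpectrum V)) :
    UniversallyOpen f := by
  refine EGA43.Chevalley.universallyOpen_of_forall f fun x => ?_
  refine EGA43.UnivOpen.isUnivOpenAt_of_affineSpace f x fun n z _ => ?_
  let a := AffineSpace (ULift.{u} (Fin n)) Y ↘ Y
  refine H8ProCons.isOpenAt_of_generizations (pullback.snd f a) fun v hv => ?_
  obtain ⟨V, iR, iD, iV, g, hgη, hgm⟩ := SubtrLib.exists_valuation_map hv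
  let m : pullback f (g ≫ a) ⟶ pullback f a :=
    pullback.lift (pullback.fst _ _) (pullback.snd _ _ ≫ g) (by
      rw [Category.assoc]; exact pullback.condition)
  have hm : IsPullback m (pullback.snd f (g ≫ a)) (pullback.snd f a) g :=
    IsPullback.of_right (h₁₂ := pullback.fst f a)
      (by rw [pullback.lift_fst]; exact IsPullback.of_hasPullback f (g ≫ a))
      (pullback.lift_snd _ _ _) (IsPullback.of_hasPullback f a)
  obtain ⟨p, hp1, hp2⟩ := Scheme.exists_preimage_of_isPullback hm z (closedPoint V) hgm.symm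
  obtain ⟨p', hp', hp'η⟩ := h V (g ≫ a) p hp2
  refine ⟨m p', hp1 ▸ hp'.map m.continuous, ?_⟩
  rw [← Scheme.Hom.comp_apply, hm.w, Scheme.Hom.comp_apply, hp'η, hgη]

section Ring

variable {A R : Type u} [CommRing A] [CommRing R] [Algebra A R]

/-- The coordinate map of the base change of a chart. -/
noncomputable def chartV (V : Type u) [CommRing V] [Algebra A V] {e : ℕ} (t : Fin e → R) :
    MvPolynomial (Fin e) V →ₐ[V] V ⊗[A] R :=
  MvPolynomial.aeval fun i => (1 : V) ⊗ₜ[A] t i

/-- A ring generated by the images of `TV` and `R` is quasi-finite over `TV` when `R` is over `T`. -/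
theorem quasiFinite_of_generated {T TV R₀ S : Type u} [CommRing T] [CommRing TV] [CommRing R₀] [CommRing S]
    [Algebra T TV] [Algebra T R₀] [Algebra TV S] [Algebra.QuasiFinite T R₀] (ι : R₀ →+* S)
    (h : ι.comp (algebraMap T R₀) = (algebraMap TV S).comp (algebraMap T TV))
    (hgen : ∀ S' : Subring S, (∀ x, algebraMap TV S x ∈ S') → (∀ r, ι r ∈ S') → S' = ⊤) :
    Algebra.QuasiFinite TV S := by
  letI : Algebra T S := ((algebraMap TV S).comp (algebraMap T TV)).toAlgebra
  haveI : IsScalarTower T TV S := IsScalarTower.of_algebraMap_eq' rfl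
  let incl : R₀ →ₐ[T] S := { ι with commutes' := RingHom.congr_fun h }
  let φ : TV ⊗[T] R₀ →ₐ[TV] S :=
    Algebra.TensorProduct.lift (Algebra.ofId _ _) incl fun _ _ => Commute.all _ _
  refine Algebra.QuasiFinite.of_surjective_algHom φ ?_
  refine (RingHom.range_eq_top (f := φ.toRingHom)).1 ?_
  refine hgen _ (fun x => ⟨x ⊗ₜ 1, ?_⟩) fun r => ⟨1 ⊗ₜ r, ?_⟩
  · show algebraMap TV S x * incl 1 = _
    rw [map_one, mul_one]
  · show algebraMap TV S 1 * ι r = _
    rw [map_one, one_mul]

theorem quasiFinite_chartV (V : Type u) [CommRing V] [Algebra A V] {e : ℕ} (t : Fin e → R)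
    (hqf : (MvPolynomial.aeval t : MvPolynomial (Fin e) A →ₐ[A] R).toRingHom.QuasiFinite) :
    (chartV (A := A) V t).toRingHom.QuasiFinite := by
  let T := MvPolynomial (Fin e) A
  let TV := MvPolynomial (Fin e) V
  letI : Algebra T R := (MvPolynomial.aeval t : T →ₐ[A] R).toRingHom.toAlgebra
  haveI : Algebra.QuasiFinite T R := hqf
  letI : Algebra T TV := (MvPolynomial.map (algebraMap A V)).toAlgebra
  letI : Algebra TV (V ⊗[A] R) := (chartV (A := A) V t).toRingHom.toAlgebra
  refine quasiFinite_of_generated (T := T) (TV := TV) (R₀ := R)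
    (Algebra.TensorProduct.includeRight : R →ₐ[A] V ⊗[A] R).toRingHom ?_ fun S' h1 h2 => ?_
  · refine MvPolynomial.ringHom_ext (fun a => ?_) fun i => ?_
    · show (1 : V) ⊗ₜ[A] (MvPolynomial.aeval t (MvPolynomial.C a)) =
        chartV (A := A) V t (MvPolynomial.map (algebraMap A V) (MvPolynomial.C a))
      rw [MvPolynomial.map_C, chartV, MvPolynomial.aeval_C, MvPolynomial.aeval_C,
        Algebra.TensorProduct.algebraMap_apply, Algebra.algebraMap_self, RingHom.id_apply,
        Algebra.algebraMap_eq_smul_one, Algebra.algebraMap_eq_smul_one, TensorProduct.tmul_smul,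
        TensorProduct.smul_tmul']
    · show (1 : V) ⊗ₜ[A] (MvPolynomial.aeval t (MvPolynomial.X i)) =
        chartV (A := A) V t (MvPolynomial.map (algebraMap A V) (MvPolynomial.X i))
      rw [MvPolynomial.map_X, chartV, MvPolynomial.aeval_X, MvPolynomial.aeval_X]
  · refine eq_top_iff.2 fun x _ => ?_
    clear * - h1 h2
    induction x using TensorProduct.induction_on with
    | zero => exact zero_mem _
    | tmul v r =>
      have hv := h1 (MvPolynomial.C v)
      replace hv : chartV (A := A) V t (MvPolynomial.C v) ∈ S' := hv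
      rw [chartV, MvPolynomial.aeval_C, Algebra.TensorProduct.algebraMap_apply,
        Algebra.algebraMap_self, RingHom.id_apply] at hv
      have := mul_mem hv (h2 r)
      simpa using this
    | add x y hx hy => exact add_mem hx hy

/-- The core generisation lifting over a valuation ring. -/
theorem exists_lift_dimGE [Algebra.FinitePresentation A R]
    [UniversallyOpen (Spec.map (CommRingCat.ofHom (algebraMap A R)))]
    {e : ℕ} (t : Fin e → R)
    (hqf : (MvPolynomial.aeval t : MvPolynomial (Fin e) A →ₐ[A] R).toRingHom.QuasiFinite)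
    (V : Type u) [CommRing V] [IsDomain V] [ValuationRing V] [Algebra A V] (c : Fin e → V)
    (p : PrimeSpectrum (V ⊗[A] R)) (hp : p.asIdeal.comap (algebraMap V (V ⊗[A] R)) = maximalIdeal V)
    (hpE : PrimeSpectrum.comap (Algebra.TensorProduct.includeRight : R →ₐ[A] V ⊗[A] R).toRingHom p ∈
      dimGE A e)
    (hpc : ∀ i, (1 : V) ⊗ₜ[A] t i - c i ⊗ₜ[A] (1 : R) ∈ p.asIdeal) :
    ∃ r : PrimeSpectrum (V ⊗[A] R), r.asIdeal ≤ p.asIdeal ∧
      r.asIdeal.comap (algebraMap V (V ⊗[A] R)) = ⊥ ∧
      PrimeSpectrum.comap (Algebra.TensorProduct.includeRight : R →ₐ[A] V ⊗[A] R).toRingHom r ∈ dimGE A e ∧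
      ∀ i, (1 : V) ⊗ₜ[A] t i - c i ⊗ₜ[A] (1 : R) ∈ r.asIdeal := by
  let S := V ⊗[A] R
  let ι : R →+* S := (Algebra.TensorProduct.includeRight : R →ₐ[A] S).toRingHom
  have hιA : ι.comp (algebraMap A R) = (algebraMap V S).comp (algebraMap A V) := RingHom.ext fun a => by
    show (1 : V) ⊗ₜ[A] algebraMap A R a = algebraMap V S (algebraMap A V a)
    rw [Algebra.TensorProduct.algebraMap_apply, Algebra.algebraMap_self, RingHom.id_apply,
      Algebra.algebraMap_eq_smul_one, Algebra.algebraMap_eq_smul_one, TensorProduct.tmul_smul,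
      TensorProduct.smul_tmul']
  have hcomapA : ∀ q : PrimeSpectrum S, (q.asIdeal.comap ι).comap (algebraMap A R) =
      (q.asIdeal.comap (algebraMap V S)).comap (algebraMap A V) := fun q => by
    rw [Ideal.comap_comap, hιA, ← Ideal.comap_comap]
  -- a point of large dimension in the special fibre
  obtain ⟨q', hle, hcomap, hq'⟩ := hpE
  obtain ⟨m, hmp, hmV, -, hm⟩ := exists_lift_trd (A := A) (A' := V) p q' hle (PrimeSpectrum.ext hcomap)
  -- a generisation in the generic fibre
  let η : PrimeSpectrum V := ⟨⊥, Ideal.isPrime_bot⟩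
  let s := Spec.map (CommRingCat.ofHom (algebraMap V S))
  haveI : UniversallyOpen s := MorphismProperty.of_isPullback (P := @UniversallyOpen)
    (isPullback_SpecMap_of_isPushout _ _ _ _ (CommRingCat.isPushout_tensorProduct A V R)).flip ‹_›
  have hs : EGA43.IsOpenAt s.base m := fun W hW => s.isOpenMap.image_mem_nhds hW
  obtain ⟨n, hnm, hn⟩ := H8ProCons.exists_generization_of_isOpenAt s hs (y' := η)
    ((PrimeSpectrum.le_iff_specializes η (s m)).1 (bot_le : (⊥ : Ideal V) ≤ _))
  have hnm' : n.asIdeal ≤ m.asIdeal := (PrimeSpectrum.le_iff_specializes n m).2 hnm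
  have hnη : n.asIdeal.comap (algebraMap V S) = ⊥ := congrArg PrimeSpectrum.asIdeal hn
  have hne : e ≤ trd V n := (hq'.trans hm).trans
    (EGA43.DimFormula.trd_le_of_valuationRing n m hnm' hnη)
  -- it maps to the generic point of affine space
  let T := MvPolynomial (Fin e) V
  letI : Algebra T S := (chartV (A := A) V t).toRingHom.toAlgebra
  haveI : IsScalarTower V T S := IsScalarTower.of_algebraMap_eq fun v =>
    ((chartV (A := A) V t).commutes v).symm
  haveI : Algebra.QuasiFinite T S := quasiFinite_chartV V t hqf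
  haveI : Algebra.FiniteType V S := inferInstance
  haveI : Algebra.FiniteType T S := Algebra.FiniteType.of_restrictScalars_finiteType V _ S
  let N := PrimeSpectrum.comap (algebraMap T S) n
  have hNV : N.asIdeal.comap (algebraMap V T) = ⊥ := by
    show (n.asIdeal.comap (algebraMap T S)).comap (algebraMap V T) = ⊥
    rw [Ideal.comap_comap, ← IsScalarTower.algebraMap_eq, hnη]
  have hN : trd V N = e := le_antisymm (trd_mvPolynomial_le N) (trd_eq_of_quasiFinite (A := V) (B := T) n ▸ hne)
  let o : PrimeSpectrum T := ⟨⊥, Ideal.isPrime_bot⟩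
  have hN0 : o = N := EGA43.Chevalley.eq_of_trd_eq (Q' := o) (Q := N) bot_le (by
    rw [hNV]
    exact (Ideal.comap_bot_of_injective _ (MvPolynomial.C_injective (Fin e) V))) hN
  have hN0' : n.asIdeal.comap (algebraMap T S) = ⊥ := (congrArg PrimeSpectrum.asIdeal hN0).symm
  -- going down to the normal affine space
  let B := S ⧸ n.asIdeal
  have hker : RingHom.ker (algebraMap T B) = ⊥ := by
    rw [IsScalarTower.algebraMap_eq T S B, Ideal.Quotient.algebraMap_eq, ← RingHom.comap_ker,
      Ideal.mk_ker, hN0']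
  haveI : Algebra.QuasiFinite T B :=
    Algebra.QuasiFinite.of_surjective_algHom (Ideal.Quotient.mkₐ T n.asIdeal) Ideal.Quotient.mk_surjective
  haveI : Algebra.FiniteType T B :=
    Algebra.FiniteType.of_surjective (Ideal.Quotient.mkₐ T n.asIdeal) Ideal.Quotient.mk_surjective
  haveI : IsIntegrallyClosed T := Desc19b.isIntegrallyClosed_mvPolynomial_fin' V e
  have hop := EGA43.UnibranchOpen.isOpenMap_comap_of_quasiFinite (A := T) (B := B)
    (hker.trans (nilradical_eq_zero T).symm) fun q => by
      have hle : q.asIdeal.primeCompl ≤ nonZeroDivisors T := Ideal.primeCompl_le_nonZeroDivisors q.asIdeal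
      haveI : IsDomain (Localization.AtPrime q.asIdeal) := IsLocalization.isDomain_localization hle
      haveI : IsIntegrallyClosed (Localization.AtPrime q.asIdeal) :=
        isIntegrallyClosed_of_isLocalization _ q.asIdeal.primeCompl hle
      exact FEtFF.isGeomUnibranch_of_normal _
  let σ : T →ₐ[V] V := MvPolynomial.aeval c
  let P₀ : PrimeSpectrum T := ⟨RingHom.ker σ.toRingHom, RingHom.ker_isPrime _⟩
  obtain ⟨p₁, hp₁⟩ : p ∈ Set.range (PrimeSpectrum.comap (Ideal.Quotient.mk n.asIdeal)) := by
    rw [range_comap_of_surjective _ _ Ideal.Quotient.mk_surjective, Ideal.mk_ker]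
    exact hnm'.trans hmp
  have hP₀ : P₀.asIdeal ≤ (PrimeSpectrum.comap (algebraMap T B) p₁).asIdeal := by
    intro P hP
    show Ideal.Quotient.mk n.asIdeal (chartV (A := A) V t P) ∈ p₁.asIdeal
    rw [← Ideal.mem_comap, show p₁.asIdeal.comap (Ideal.Quotient.mk n.asIdeal) = p.asIdeal from
      congrArg PrimeSpectrum.asIdeal hp₁, ← Ideal.Quotient.eq_zero_iff_mem]
    have key : (Ideal.Quotient.mkₐ V p.asIdeal).comp (chartV (A := A) V t) =
        (Algebra.ofId V (S ⧸ p.asIdeal)).comp σ := by
      refine MvPolynomial.algHom_ext fun i => ?_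
      simp only [AlgHom.comp_apply, chartV, σ, MvPolynomial.aeval_X]
      refine (Ideal.Quotient.eq.2 (hpc i)).trans ?_
      show Ideal.Quotient.mk p.asIdeal (c i ⊗ₜ[A] (1 : R)) =
        algebraMap V (S ⧸ p.asIdeal) (MvPolynomial.aeval c (MvPolynomial.X i))
      rw [MvPolynomial.aeval_X, IsScalarTower.algebraMap_apply V S (S ⧸ p.asIdeal), Ideal.Quotient.algebraMap_eq,
        Algebra.TensorProduct.algebraMap_apply, Algebra.algebraMap_self, RingHom.id_apply]
    have := AlgHom.congr_fun key P
    simp only [AlgHom.comp_apply, Ideal.Quotient.mkₐ_eq_mk] at this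
    refine this.trans ?_
    show algebraMap V (S ⧸ p.asIdeal) (σ P) = 0
    rw [show σ P = 0 from hP, map_zero]
  obtain ⟨r₁, hr₁, hr₁P⟩ := H8ProCons.exists_generization_of_isOpenAt
    (Spec.map (CommRingCat.ofHom (algebraMap T B))) (x := p₁) (fun W hW => hop.image_mem_nhds hW)
    (y' := P₀) ((PrimeSpectrum.le_iff_specializes P₀ _).1 hP₀)
  let r := PrimeSpectrum.comap (Ideal.Quotient.mk n.asIdeal) r₁
  have hnr : n.asIdeal ≤ r.asIdeal := fun x hx => by
    show Ideal.Quotient.mk n.asIdeal x ∈ r₁.asIdeal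
    rw [Ideal.Quotient.eq_zero_iff_mem.2 hx]
    exact zero_mem _
  have hrT : r.asIdeal.comap (algebraMap T S) = RingHom.ker σ.toRingHom := by
    refine Eq.trans ?_ (congrArg PrimeSpectrum.asIdeal hr₁P)
    show (r₁.asIdeal.comap (Ideal.Quotient.mk n.asIdeal)).comap (algebraMap T S) = _
    rw [Ideal.comap_comap]
    rfl
  have hrV : r.asIdeal.comap (algebraMap V S) = ⊥ := by
    rw [IsScalarTower.algebraMap_eq V T S, ← Ideal.comap_comap, hrT, RingHom.comap_ker,
      show σ.toRingHom.comp (algebraMap V T) = RingHom.id V from RingHom.ext fun v => σ.commutes v]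
    exact (RingHom.injective_iff_ker_eq_bot _).1 Function.injective_id
  refine ⟨r, fun x hx => ?_, hrV, ⟨PrimeSpectrum.comap ι n, Ideal.comap_mono hnr, ?_, ?_⟩, fun i => ?_⟩
  · rw [← hp₁]
    exact (PrimeSpectrum.le_iff_specializes r₁ p₁).2 hr₁ hx
  · show (n.asIdeal.comap ι).comap (algebraMap A R) = (r.asIdeal.comap ι).comap (algebraMap A R)
    rw [hcomapA, hcomapA, hnη, hrV]
  · exact hne.trans (trd_tensor_le (A := A) (A' := V) n)
  · have h1 : MvPolynomial.X i - MvPolynomial.C (c i) ∈ r.asIdeal.comap (algebraMap T S) := by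
      rw [hrT, RingHom.mem_ker]
      show σ (MvPolynomial.X i - MvPolynomial.C (c i)) = 0
      rw [map_sub]
      show MvPolynomial.aeval c (MvPolynomial.X i) - MvPolynomial.aeval c (MvPolynomial.C (c i)) = 0
      rw [MvPolynomial.aeval_X, MvPolynomial.aeval_C, Algebra.algebraMap_self, RingHom.id_apply, sub_self]
    have h2 : chartV (A := A) V t (MvPolynomial.X i - MvPolynomial.C (c i)) ∈ r.asIdeal := h1
    simpa [chartV, Algebra.TensorProduct.algebraMap_apply] using h2

/-- The closed set of points of fibre dimension `≥ e` of a quasi-finite chart of a universally open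
morphism is universally open over affine space. -/
theorem universallyOpen_chart [Algebra.FinitePresentation A R]
    [UniversallyOpen (Spec.map (CommRingCat.ofHom (algebraMap A R)))]
    {e : ℕ} (t : Fin e → R)
    (hqf : (MvPolynomial.aeval t : MvPolynomial (Fin e) A →ₐ[A] R).toRingHom.QuasiFinite)
    (J : Ideal R) (hJ : J.FG) (ha : PrimeSpectrum.zeroLocus (J : Set R) = dimGE A e) :
    UniversallyOpen (Spec.map (CommRingCat.ofHom
      ((Ideal.Quotient.mk J).comp
        (MvPolynomial.aeval t : MvPolynomial (Fin e) A →ₐ[A] R).toRingHom))) := by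
  let T := MvPolynomial (Fin e) A
  let C := R ⧸ J
  let θ : T →+* C := (Ideal.Quotient.mk J).comp (MvPolynomial.aeval t : T →ₐ[A] R).toRingHom
  letI : Algebra T C := θ.toAlgebra
  haveI : IsScalarTower A T C := IsScalarTower.of_algebraMap_eq fun x => by
    show algebraMap A C x = Ideal.Quotient.mk J (MvPolynomial.aeval t (MvPolynomial.C x))
    rw [MvPolynomial.aeval_C]
    rfl
  haveI : Algebra.FinitePresentation A C := Algebra.FinitePresentation.quotient hJ
  haveI : Algebra.FinitePresentation T C := Algebra.FinitePresentation.of_restrict_scalars_finitePresentation A T C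
  haveI : LocallyOfFinitePresentation (Spec.map (CommRingCat.ofHom θ)) :=
    (HasRingHomProperty.Spec_iff (P := @LocallyOfFinitePresentation)).2
      (RingHom.finitePresentation_algebraMap.2 ‹Algebra.FinitePresentation T C›)
  refine universallyOpen_of_valuation _ fun V _ _ _ g p hp => ?_
  obtain ⟨χ, rfl⟩ := Spec.map_surjective g
  letI : Algebra T V := χ.hom.toAlgebra
  letI : Algebra A V := (χ.hom.comp (algebraMap A T)).toAlgebra
  haveI : IsScalarTower A T V := IsScalarTower.of_algebraMap_eq fun _ => rfl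
  have sq := (isPullback_SpecMap_of_isPushout _ _ _ _ (CommRingCat.isPushout_tensorProduct T V C)).flip
  let Φ := sq.isoIsPullback _ _ (IsPullback.of_hasPullback (Spec.map (CommRingCat.ofHom θ)) (Spec.map χ))
  let D := V ⊗[T] C
  obtain ⟨(q : PrimeSpectrum D), rfl⟩ := Φ.hom.surjective p
  have hsnd : ∀ w, pullback.snd (Spec.map (CommRingCat.ofHom θ)) (Spec.map χ) (Φ.hom w) =
      PrimeSpectrum.comap (algebraMap V D) w := fun w => by
    rw [← Scheme.Hom.comp_apply, sq.isoIsPullback_hom_snd]
    rfl
  have hqV : q.asIdeal.comap (algebraMap V D) = maximalIdeal V :=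
    congrArg PrimeSpectrum.asIdeal ((hsnd q).symm.trans hp)
  let γ : V ⊗[A] R →ₐ[V] D := Algebra.TensorProduct.lift (Algebra.ofId V D)
    (((Algebra.TensorProduct.includeRight : C →ₐ[T] D).restrictScalars A).comp (Ideal.Quotient.mkₐ A J))
    fun _ _ => Commute.all _ _
  have hγ : ∀ v r, γ (v ⊗ₜ r) = v ⊗ₜ[T] Ideal.Quotient.mk J r := fun v r => by
    show algebraMap V D v * ((1 : V) ⊗ₜ[T] Ideal.Quotient.mk J r) = _
    rw [Algebra.TensorProduct.algebraMap_apply, Algebra.algebraMap_self, RingHom.id_apply,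
      Algebra.TensorProduct.tmul_mul_tmul, mul_one, one_mul]
  have hγs : Function.Surjective γ := fun x => by
    induction x using TensorProduct.induction_on with
    | zero => exact ⟨0, map_zero _⟩
    | tmul v b =>
      obtain ⟨r, rfl⟩ := Ideal.Quotient.mk_surjective b
      exact ⟨v ⊗ₜ r, hγ v r⟩
    | add x y hx hy =>
      obtain ⟨a, rfl⟩ := hx
      obtain ⟨b, rfl⟩ := hy
      exact ⟨a + b, map_add _ _ _⟩
  let c : Fin e → V := fun i => χ.hom (MvPolynomial.X i)
  have hc : ∀ i, γ ((1 : V) ⊗ₜ[A] t i - c i ⊗ₜ[A] (1 : R)) = 0 := fun i => by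
    rw [map_sub, hγ, hγ, map_one, sub_eq_zero]
    have h1 : Ideal.Quotient.mk J (t i) = (MvPolynomial.X i : T) • (1 : C) := by
      rw [← Algebra.algebraMap_eq_smul_one]
      show _ = Ideal.Quotient.mk J (MvPolynomial.aeval t (MvPolynomial.X i))
      rw [MvPolynomial.aeval_X]
    have h2 : c i = (MvPolynomial.X i : T) • (1 : V) := by
      rw [← Algebra.algebraMap_eq_smul_one]; rfl
    rw [h1, h2, TensorProduct.tmul_smul, TensorProduct.smul_tmul']
  let p₀ := PrimeSpectrum.comap γ.toRingHom q
  obtain ⟨r, hrp, hrV, hrE, hrc⟩ := exists_lift_dimGE t hqf V c p₀ (by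
      show (q.asIdeal.comap γ.toRingHom).comap (algebraMap V (V ⊗[A] R)) = _
      rw [Ideal.comap_comap]; refine Eq.trans ?_ hqV; exact congrArg (fun f => q.asIdeal.comap f) γ.comp_algebraMap) (by
      rw [← ha, PrimeSpectrum.mem_zeroLocus]
      intro x hx
      show γ ((1 : V) ⊗ₜ[A] x) ∈ q.asIdeal
      rw [hγ, Ideal.Quotient.eq_zero_iff_mem.2 hx, TensorProduct.tmul_zero]
      exact zero_mem _) fun i => by
      show γ _ ∈ q.asIdeal
      rw [hc]
      exact zero_mem _
  -- the point factors through the closed subscheme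
  let κ := r.asIdeal.ResidueField
  let π : V ⊗[A] R →+* κ := algebraMap _ κ
  let π' : R →+* κ := π.comp (Algebra.TensorProduct.includeRight : R →ₐ[A] V ⊗[A] R).toRingHom
  have hπJ : ∀ x ∈ J, π' x = 0 := by
    intro x hx
    exact Ideal.algebraMap_residueField_eq_zero.2
      ((PrimeSpectrum.mem_zeroLocus _ _).1 (ha.ge hrE) hx)
  let πC : C →+* κ := Ideal.Quotient.lift J π' hπJ
  have hπθ : πC.comp θ = (π.comp (algebraMap V (V ⊗[A] R))).comp χ.hom := by
    refine MvPolynomial.ringHom_ext (fun z => ?_) fun i => ?_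
    · show π ((1 : V) ⊗ₜ[A] MvPolynomial.aeval t (MvPolynomial.C z)) =
        π (algebraMap V (V ⊗[A] R) (algebraMap A V z))
      congr 1
      rw [MvPolynomial.aeval_C, Algebra.TensorProduct.algebraMap_apply, Algebra.algebraMap_self,
        RingHom.id_apply, Algebra.algebraMap_eq_smul_one, Algebra.algebraMap_eq_smul_one,
        TensorProduct.tmul_smul, TensorProduct.smul_tmul']
    · show π ((1 : V) ⊗ₜ[A] MvPolynomial.aeval t (MvPolynomial.X i)) =
        π (algebraMap V (V ⊗[A] R) (c i))
      rw [MvPolynomial.aeval_X, Algebra.TensorProduct.algebraMap_apply, Algebra.algebraMap_self,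
        RingHom.id_apply, ← sub_eq_zero, ← map_sub]
      exact Ideal.algebraMap_residueField_eq_zero.2 (hrc i)
  let a₁ : V →ₐ[T] κ := IsScalarTower.toAlgHom T V κ
  let b₁ : C →ₐ[T] κ :=
    { πC with
      commutes' := fun x => (RingHom.congr_fun hπθ x).trans (IsScalarTower.algebraMap_apply T V κ x).symm }
  let τ : D →+* κ := (Algebra.TensorProduct.lift a₁ b₁ fun _ _ => Commute.all _ _).toRingHom
  let r' : PrimeSpectrum D := ⟨RingHom.ker τ, RingHom.ker_isPrime _⟩
  have hcomp : τ.comp γ.toRingHom = π := by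
    refine RingHom.ext fun x => ?_
    induction x using TensorProduct.induction_on with
    | zero => simp
    | tmul v x =>
      show τ (γ (v ⊗ₜ x)) = π (v ⊗ₜ x)
      rw [hγ]
      show a₁ v * b₁ (Ideal.Quotient.mk J x) = π (v ⊗ₜ x)
      show π (algebraMap V (V ⊗[A] R) v) * π ((1 : V) ⊗ₜ x) = π (v ⊗ₜ x)
      rw [← map_mul, Algebra.TensorProduct.algebraMap_apply, Algebra.algebraMap_self, RingHom.id_apply,
        Algebra.TensorProduct.tmul_mul_tmul, mul_one, one_mul]
    | add x y hx hy => rw [map_add, map_add, hx, hy]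
  have hr' : r'.asIdeal.comap γ.toRingHom = r.asIdeal := by
    rw [show r'.asIdeal.comap γ.toRingHom = RingHom.ker (τ.comp γ.toRingHom) from rfl, hcomp,
      Ideal.ker_algebraMap_residueField]
  refine ⟨Φ.hom r', ((PrimeSpectrum.le_iff_specializes r' q).1 ?_).map Φ.hom.continuous, ?_⟩
  · intro y hy
    obtain ⟨x, rfl⟩ := hγs y
    exact hrp (hr'.le hy)
  · rw [hsnd]
    refine PrimeSpectrum.ext ?_
    show r'.asIdeal.comap (algebraMap V D) = ⊥
    rw [← hrV, ← hr', Ideal.comap_comap]
    exact congrArg (fun f => r'.asIdeal.comap f) γ.comp_algebraMap.symm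

end Ring

end Groth.Agent.FlatMor12.UnivOpenChart
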