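import Groth.Agent.FlatMorFlatten.Main
import Groth.Agent.FlatMorFlatten.SubChart
import Groth.Agent.EGA43.FlatDescent.GenFreeGeneral
import Mathlib.RingTheory.Valuation.ValuationRing

/-! Flattening by an affine chart of a blow-up along a valuation ring: the algebra. -/

set_option autoImplicit false
set_option backward.isDefEq.respectTransparency false

universe u

open TensorProduct Function

namespace Groth.Agent.FlatMor12.ValFlatten

open Groth.Agent FlatMorFlatten

/-- A finite module over a polynomial ring over a domain is good at all multiples of some nonzero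
element. -/
theorem exists_good (R : Type u) [CommRing R] [IsDomain R] (n : ℕ) (N : Type u) [AddCommGroup N]
    [Module (MvPolynomial (Fin n) R) N] [Module R N] [IsScalarTower R (MvPolynomial (Fin n) R) N]
    [Module.Finite (MvPolynomial (Fin n) R) N] :
    ∃ f : R, f ≠ 0 ∧ ∀ z, f ∣ z → Good R (MvPolynomial (Fin n) R) N z := by
  obtain ⟨k, σ, hσ⟩ := Module.Finite.exists_fin' (MvPolynomial (Fin n) R) N
  obtain ⟨f, s, hf, hsW, hfree, hpow⟩ :=
    EGA43.FlatDescent.exists_free_and_pow_smul_mem n k (LinearMap.ker σ)
  refine ⟨f, hf, fun z hfz => ?_⟩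
  let B := MvPolynomial (Fin n) R
  let W' := Submodule.span B (s : Set (Fin k → B))
  have hle : W' ≤ LinearMap.ker σ := Submodule.span_le.2 hsW
  haveI : Module.FinitePresentation B ((Fin k → B) ⧸ W') :=
    Module.finitePresentation_of_surjective W'.mkQ W'.mkQ_surjective
      (by rw [Submodule.ker_mkQ]; exact ⟨s, rfl⟩)
  let q : ((Fin k → B) ⧸ W') →ₗ[B] N := W'.liftQ σ hle
  have hq : Surjective q := fun m => by
    obtain ⟨w, rfl⟩ := hσ m
    exact ⟨W'.mkQ w, rfl⟩
  have hk : ∀ v, q v = 0 → ∃ e : ℕ, z ^ e • v = 0 := fun v hv => by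
    obtain ⟨w, rfl⟩ := Submodule.mkQ_surjective W' v
    obtain ⟨m, hm⟩ := hpow w hv
    obtain ⟨c, rfl⟩ := hfz
    refine ⟨m, ?_⟩
    rw [Submodule.mkQ_apply, ← Submodule.Quotient.mk_smul, Submodule.Quotient.mk_eq_zero, mul_pow,
      mul_comm, mul_smul, ← algebraMap_smul B (c ^ m)]
    exact W'.smul_mem _ hm
  -- flatness where `f` is inverted
  haveI : Module.Free (Localization.Away f) (Localization.Away f ⊗[R] N) :=
    .of_equiv (AlgebraTensorModule.congr (LinearEquiv.refl (Localization.Away f) _)
      ((σ.quotKerEquivOfSurjective hσ).restrictScalars R))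
  haveI : Module.Flat R (Localization.Away f) := IsLocalization.flat _ (Submonoid.powers f)
  haveI : Module.Flat R (Localization.Away f ⊗[R] N) :=
    Module.Flat.trans R (Localization.Away f) _
  have hflR : Module.Flat R (LocalizedModule (Submonoid.powers f) N) :=
    Module.Flat.of_linearEquiv ((LocalizedModule.equivTensorProduct (Submonoid.powers f) N).restrictScalars R)
  have hflB := (FlatMorDevissage.flat_localized_algebraMap_iff (S' := R) (S := B) (R := R) (M := N)
    (Submonoid.powers f)).1 hflR
  rw [Submonoid.map_powers] at hflB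
  have hflz : Module.Flat R (LocalizedModule (Submonoid.powers (algebraMap R B z)) N) := by
    rw [FlatMorDevissage.flat_localized_iff_kerKilled] at hflB ⊢
    intro A C _ _ _ _ i hi x hx
    obtain ⟨_, ⟨e, rfl⟩, he⟩ := hflB i hi x hx
    obtain ⟨c, rfl⟩ := hfz
    refine ⟨_, ⟨e, rfl⟩, ?_⟩
    show algebraMap R B (f * c) ^ e • x = 0
    rw [map_mul, mul_pow, mul_comm, mul_smul, show algebraMap R B f ^ e • x = 0 from he, smul_zero]
  refine (good_iff_of_killed q hq hk).1 ⟨inferInstance, ?_⟩
  -- flatness transfers along the killed kernel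
  let T := Submonoid.powers (algebraMap R B z)
  let fq := LocalizedModule.map T q
  have hinj : Injective fq := (injective_iff_map_eq_zero _).2 fun w hw => by
    induction w using LocalizedModule.induction_on with
    | h v t =>
      rw [LocalizedModule.map_mk, ← LocalizedModule.zero_mk t, LocalizedModule.mk_eq] at hw
      obtain ⟨u, hu⟩ := hw
      rw [smul_zero, smul_zero, Submonoid.smul_def, Submonoid.smul_def, ← map_smul, ← map_smul] at hu
      obtain ⟨e, he⟩ := hk _ hu
      rw [← LocalizedModule.zero_mk t, LocalizedModule.mk_eq]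
      refine ⟨⟨_, e, rfl⟩ * u, ?_⟩
      rw [smul_zero, smul_zero, mul_smul, Submonoid.smul_def, Submonoid.smul_def, Submonoid.smul_def]
      show algebraMap R B z ^ e • _ = 0
      rw [← map_pow, algebraMap_smul]
      exact he
  have hsurj : Surjective fq := fun w => by
    induction w using LocalizedModule.induction_on with
    | h v t =>
      obtain ⟨v, rfl⟩ := hq v
      exact ⟨LocalizedModule.mk v t, LocalizedModule.map_mk _ _ _ _⟩
  haveI := hflz
  exact Module.Flat.of_linearEquiv ((LinearEquiv.ofBijective fq ⟨hinj, hsurj⟩).restrictScalars R)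

/-- A finite module over a polynomial ring can be flattened by a centre supported at `z`. -/
theorem flattenable_of_good {R : Type u} [CommRing R] {n : ℕ} {N : Type u} [AddCommGroup N]
    [Module (MvPolynomial (Fin n) R) N] [Module R N] [IsScalarTower R (MvPolynomial (Fin n) R) N]
    [Module.Finite (MvPolynomial (Fin n) R) N] (z : R) (h : Good R (MvPolynomial (Fin n) R) N z) :
    Flattenable (Ideal.span {z}) N := by
  classical
  obtain ⟨d, hd⟩ := exists_supportDim_lt (R := R) (B := MvPolynomial (Fin n) R) N
  simpa using flattenBelow d R (MvPolynomial (Fin n) R) N {z}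
    (fun w hw => by rw [Finset.mem_singleton.1 hw]; exact h) hd

/-- Among finitely many elements of a ring mapping to a valuation ring one divides all others. -/
theorem exists_dvd_all {R A : Type u} [CommRing R] [CommRing A] [IsDomain A] [ValuationRing A] (φ : R →+* A)
    (t : Finset R) (ht : t.Nonempty) : ∃ a ∈ t, ∀ x ∈ t, φ a ∣ φ x := by
  classical
  induction ht using Finset.Nonempty.cons_induction with
  | singleton a => exact ⟨a, Finset.mem_singleton_self a, fun x hx => by rw [Finset.mem_singleton.1 hx]⟩
  | cons b s hb hs ih =>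
    obtain ⟨a, ha, hall⟩ := ih
    rcases ValuationRing.dvd_total (φ a) (φ b) with h | h
    · refine ⟨a, Finset.mem_cons.2 (Or.inr ha), fun x hx => ?_⟩
      rcases Finset.mem_cons.1 hx with rfl | hx
      · exact h
      · exact hall x hx
    · refine ⟨b, Finset.mem_cons_self b s, fun x hx => ?_⟩
      rcases Finset.mem_cons.1 hx with rfl | hx
      · exact dvd_rfl
      · exact h.trans (hall x hx)

end Groth.Agent.FlatMor12.ValFlatten
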